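import Groth.Prelude.Def_Pi1
import Mathlib.AlgebraicGeometry.FunctionField
import Mathlib.AlgebraicGeometry.AffineScheme
import Mathlib.RingTheory.IntegralClosure.IntegrallyClosed

/-! # Sections and open subschemes of normal schemes -/

universe u

open CategoryTheory AlgebraicGeometry TopologicalSpace Opposite

namespace Groth.Agent.ResSurf

/-- An open subscheme of a normal scheme is normal. -/
theorem isNormalScheme_of_isOpenImmersion {W X : Scheme.{u}} (j : W ⟶ X) [IsOpenImmersion j]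
    (hX : Pi1.IsNormalScheme X) : Pi1.IsNormalScheme W := fun w => by
  let e := (asIso (j.stalkMap w)).commRingCatIsoToRingEquiv
  haveI := (hX (j w)).1
  haveI := (hX (j w)).2
  exact ⟨e.symm.toMulEquiv.isDomain _, IsIntegrallyClosed.of_equiv e⟩

variable {X : Scheme.{u}}

/-- The coordinate ring of a nonempty affine open of an integral normal scheme is integrally closed. -/
theorem isIntegrallyClosed_affine [IsIntegral X] (hX : Pi1.IsNormalScheme X) {V : X.Opens} (hV : IsAffineOpen V)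
    [Nonempty (V : Scheme.{u})] : IsIntegrallyClosed Γ(X, V) := by
  haveI : IsDomain Γ(X, V) := IsIntegral.component_integral V
  refine IsIntegrallyClosed.of_localization_maximal fun p _ hpm => ?_
  let q : PrimeSpectrum Γ(X, V) := ⟨p, hpm.isPrime⟩
  have hq : hV.fromSpec q ∈ V := hV.opensRange_fromSpec.le ⟨q, rfl⟩
  letI := TopCat.Presheaf.algebra_section_stalk X.presheaf (⟨hV.fromSpec q, hq⟩ : V)
  haveI : IsLocalization.AtPrime (X.presheaf.stalk (hV.fromSpec q)) p := hV.isLocalization_stalk' q hq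
  haveI := (hX (hV.fromSpec q)).2
  exact IsIntegrallyClosed.of_equiv (IsLocalization.algEquiv p.primeCompl
    (X.presheaf.stalk (hV.fromSpec q)) (Localization.AtPrime p)).toRingEquiv

/-- Global sections of an integral normal scheme form an integrally closed domain. -/
theorem isIntegrallyClosed_top [IsIntegral X] (hX : Pi1.IsNormalScheme X) :
    IsIntegrallyClosed Γ(X, ⊤) := by
  haveI : Nonempty ((⊤ : X.Opens) : Scheme.{u}) := ⟨⟨genericPoint X, trivial⟩⟩
  haveI : IsDomain Γ(X, ⊤) := IsIntegral.component_integral ⊤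
  let L := FractionRing Γ(X, ⊤)
  refine (isIntegrallyClosed_iff L).2 fun {x} hx => ?_
  let g := (X.germToFunctionField ⊤).hom
  have hg : Function.Injective g := Scheme.germToFunctionField_injective (X := X) ⊤
  let j : L →+* X.functionField := IsFractionRing.lift hg
  have hj : ∀ r, j (algebraMap Γ(X, ⊤) L r) = g r := fun r => IsFractionRing.lift_algebraMap hg r
  have hint : g.IsIntegralElem (j x) := by
    obtain ⟨P, hP, hPx⟩ := hx
    refine ⟨P, hP, ?_⟩
    have h1 := congrArg j hPx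
    rw [map_zero, Polynomial.hom_eval₂] at h1
    rwa [show j.comp (algebraMap Γ(X, ⊤) L) = g from RingHom.ext hj] at h1
  let ι := {V : X.affineOpens // Nonempty (V.1 : Scheme.{u})}
  have hloc : ∀ i : ι, ∃ y : Γ(X, i.1.1), X.presheaf.germ i.1.1 (genericPoint X)
      (((genericPoint_spec X).mem_open_set_iff i.1.1.isOpen).2 (by simpa using i.2)) y = j x := by
    rintro ⟨⟨V, hV⟩, hne⟩
    haveI := hne
    haveI := isIntegrallyClosed_affine hX hV
    haveI := functionField_isFractionRing_of_isAffineOpen X V hV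
    refine IsIntegrallyClosed.isIntegral_iff.1 ?_
    refine RingHom.IsIntegralElem.of_comp (f := (X.presheaf.map (homOfLE (le_top : V ≤ ⊤)).op).hom) ?_
    have hc : (algebraMap Γ(X, V) X.functionField).comp (X.presheaf.map (homOfLE (le_top : V ≤ ⊤)).op).hom = g := by
      rw [RingHom.algebraMap_toAlgebra]
      exact congrArg CommRingCat.Hom.hom (X.presheaf.germ_res _ _ _)
    exact hc ▸ hint
  choose y hy using hloc
  have hcov : (⊤ : X.Opens) ≤ ⨆ i : ι, i.1.1 := fun p _ => by
    obtain ⟨V, hV, hpV, -⟩ := exists_isAffineOpen_mem_and_subset (x := p) (U := ⊤) trivial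
    exact Opens.mem_iSup.2 ⟨⟨⟨V, hV⟩, ⟨⟨p, hpV⟩⟩⟩, hpV⟩
  have hgen : ∀ i : ι, genericPoint X ∈ i.1.1 := fun i =>
    ((genericPoint_spec X).mem_open_set_iff i.1.1.isOpen).2 (by simpa using i.2)
  obtain ⟨s, hs, -⟩ := X.sheaf.existsUnique_gluing' (fun i : ι => i.1.1) ⊤ (fun _ => homOfLE le_top) hcov y
    (fun i k => by
      haveI : Nonempty ((i.1.1 ⊓ k.1.1 : X.Opens) : Scheme.{u}) := ⟨⟨_, hgen i, hgen k⟩⟩
      refine Scheme.germToFunctionField_injective (X := X) (i.1.1 ⊓ k.1.1) ?_
      exact ((X.presheaf.germ_res_apply (homOfLE (inf_le_left : i.1.1 ⊓ k.1.1 ≤ i.1.1)) _ ⟨hgen i, hgen k⟩ (y i)).trans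
        ((hy i).trans (hy k).symm)).trans
        (X.presheaf.germ_res_apply (homOfLE (inf_le_right : i.1.1 ⊓ k.1.1 ≤ k.1.1)) _ ⟨hgen i, hgen k⟩ (y k)).symm)
  obtain ⟨V, hV, hηV, -⟩ := exists_isAffineOpen_mem_and_subset (x := genericPoint X) (U := ⊤) trivial
  refine ⟨s, j.injective ?_⟩
  rw [hj, ← hy ⟨⟨V, hV⟩, ⟨⟨_, hηV⟩⟩⟩, ← hs ⟨⟨V, hV⟩, ⟨⟨_, hηV⟩⟩⟩]
  exact (X.presheaf.germ_res_apply _ _ hηV s).symm

end Groth.Agent.ResSurf
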