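import Groth.Agent.CIntLib.BlowRegular
import Groth.Agent.CIntLib.RegularPair
import Groth.Agent.CIntLib.BlowExc
import Groth.Agent.FibDim.Comp
import Groth.Agent.S1681
import Groth.Agent.S8851
import Groth.Prelude.Def_Curv2
import Mathlib.AlgebraicGeometry.Stalk

/-! # Blowing up regular schemes in regular centres; blowing up integral schemes -/

universe u

open CategoryTheory CategoryTheory.Limits AlgebraicGeometry

namespace Groth.Agent.ResSurf

/-- The blowing up of a regular scheme in a regular closed subscheme is regular. -/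
theorem isRegular_blowUp {X Y T : Scheme.{u}} [IsLocallyNoetherian X]
    (hX : ∀ x : X, IsRegularLocalRing (X.presheaf.stalk x)) (i : Y ⟶ X) [IsClosedImmersion i]
    (hY : ∀ y : Y, IsRegularLocalRing (Y.presheaf.stalk y)) {b : T ⟶ X} {C : X.IdealSheafData} (hC : C = i.ker)
    (hb : BlowUp.IsBlowUp b C) : ∀ t : T, IsRegularLocalRing (T.presheaf.stalk t) := by
  subst hC
  haveI : IsLocallyNoetherian Y := LocallyOfFiniteType.isLocallyNoetherian i
  haveI : IsLocallyNoetherian T := CIntLib.isLocallyNoetherian_of_isBlowUp hb
  intro z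
  by_cases hz : b z ∈ i.ker.support
  · obtain ⟨e, rfl⟩ : z ∈ Set.range (BlowUp.exceptional b i.ker).subschemeι := by
      rw [Scheme.IdealSheafData.range_subschemeι, BlowUp.exceptional,
        Scheme.IdealSheafData.support_comap]
      exact hz
    let g : (BlowUp.exceptional b i.ker).subscheme ⟶ Y :=
      IsClosedImmersion.lift i ((BlowUp.exceptional b i.ker).subschemeι ≫ b)
        (Scheme.IdealSheafData.le_map_comap i.ker b)
    haveI : Smooth g := CIntLib.smooth_exceptional i
      (CIntLib.isRegularClosedImmersion_of_regular i hX hY) hb g (IsClosedImmersion.lift_fac _ _ _)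
    haveI := hY (g e)
    exact CIntLib.isRegularLocalRing_of_smooth_exceptional hb g e
  · haveI := CIntLib.isIso_stalkMap_of_notMem hb hz
    haveI := hX (b z)
    exact IsRegularLocalRing.of_ringEquiv (asIso (b.stalkMap z)).commRingCatIsoToRingEquiv

variable (A : Type u) [CommRing A]

/-- The spectrum of a regular local ring is a regular scheme. -/
theorem isRegular_Spec [IsRegularLocalRing A] (x : Spec (CommRingCat.of A)) :
    IsRegularLocalRing ((Spec (CommRingCat.of A)).presheaf.stalk x) := by
  haveI : IsRegularLocalRing ((Spec (CommRingCat.of A)).presheaf.stalk (IsLocalRing.closedPoint A)) :=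
    IsRegularLocalRing.of_ringEquiv
      (AlgebraicGeometry.stalkClosedPointIso (CommRingCat.of A)).symm.commRingCatIsoToRingEquiv
  exact CIntLib.isRegularLocalRing_of_specializes (IsLocalRing.specializes_closedPoint x)

/-- The blowing up of the spectrum of a regular local ring in the closed point is regular. -/
theorem isRegular_blowUp_closedPoint [IsRegularLocalRing A] {X : Scheme.{u}} {b : X ⟶ Spec (CommRingCat.of A)}
    (hb : BlowUp.IsBlowUp b (Curv2.idealSheaf A (IsLocalRing.maximalIdeal A))) :
    ∀ x : X, IsRegularLocalRing (X.presheaf.stalk x) := by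
  let i : Spec (CommRingCat.of (A ⧸ IsLocalRing.maximalIdeal A)) ⟶ Spec (CommRingCat.of A) :=
    Spec.map (CommRingCat.ofHom (Ideal.Quotient.mk (IsLocalRing.maximalIdeal A)))
  haveI : IsClosedImmersion i := IsClosedImmersion.spec_of_surjective _ Ideal.Quotient.mk_surjective
  letI : Field (A ⧸ IsLocalRing.maximalIdeal A) := Ideal.Quotient.field _
  haveI : IsRegularLocalRing (A ⧸ IsLocalRing.maximalIdeal A) := inferInstance
  exact isRegular_blowUp (isRegular_Spec A) i (isRegular_Spec (A ⧸ IsLocalRing.maximalIdeal A))
    (CIntLib.ker_specMap_mk (IsLocalRing.maximalIdeal A)).symm hb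

/-- The blowing up of an integral scheme in a nonzero ideal is irreducible. -/
theorem irreducibleSpace_blowUp {X T : Scheme.{u}} [IsIntegral X] {b : T ⟶ X} {C : X.IdealSheafData}
    (hb : BlowUp.IsBlowUp b C) (hC : genericPoint X ∉ C.support) : IrreducibleSpace T := by
  have hB := S1681.result C b hb
  have hgen : genericPoint X ∈ {x : X | (∀ y : X, y ⤳ x → y = x) ∧ x ∉ C.support} :=
    ⟨fun y hy => (hy.antisymm (genericPoint_specializes y)).eq, hC⟩
  obtain ⟨η, hη, -⟩ := hB.surjOn hgen
  have hall : ∀ t : T, η ⤳ t := fun t => by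
    obtain ⟨z, hz, hmax⟩ := FibDim.exists_maximal_generization t
    have hz' := hB.mapsTo (show z ∈ {x' : T | ∀ y : T, y ⤳ x' → y = x'} from fun y hy => hmax y hy)
    have h1 : b z = genericPoint X := (hz'.1 _ (genericPoint_specializes _)).symm
    have h2 : b η = genericPoint X := ((hB.mapsTo hη).1 _ (genericPoint_specializes _)).symm
    rw [hB.injOn hη (fun y hy => hmax y hy) (h2.trans h1.symm)]
    exact hz
  have : closure ({η} : Set T) = Set.univ := Set.eq_univ_of_forall fun t => (hall t).mem_closure
  rw [irreducibleSpace_def, Set.top_eq_univ, ← this]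
  exact isIrreducible_singleton.closure

theorem isIntegral_blowUp {X T : Scheme.{u}} [IsIntegral X] {b : T ⟶ X} {C : X.IdealSheafData}
    (hb : BlowUp.IsBlowUp b C) (hC : genericPoint X ∉ C.support) : IsIntegral T := by
  haveI := irreducibleSpace_blowUp hb hC
  haveI := S8851.result C b hb
  exact isIntegral_of_irreducibleSpace_of_isReduced T

/-- The generic point avoids the centre given by a nonzero ideal of a domain. -/
theorem genericPoint_notMem_idealSheaf [IsDomain A] (I : Ideal A) (hI : I ≠ ⊥) :
    genericPoint (Spec (CommRingCat.of A)) ∉ (Curv2.idealSheaf A I).support := by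
  intro h
  have h1 : PrimeSpectrum.zeroLocus (I : Set A) = Set.univ := by
    refine Set.eq_univ_of_forall fun p => ?_
    have h2 : p ∈ (Curv2.idealSheaf A I).support :=
      (genericPoint_specializes p).mem_closed (Curv2.idealSheaf A I).support.isClosed h
    have h3 : ((Curv2.idealSheaf A I).support : Set (Spec (CommRingCat.of A))) = PrimeSpectrum.zeroLocus (I : Set A) := by
      rw [Curv2.idealSheaf, Scheme.IdealSheafData.coe_support_ofIdealTop, AlgebraicGeometry.Spec_zeroLocus, ← Ideal.coe_comap,
        Ideal.comap_map_of_bijective (Scheme.ΓSpecIso (CommRingCat.of A)).inv.hom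
          (Scheme.ΓSpecIso (CommRingCat.of A)).symm.commRingCatIsoToRingEquiv.bijective]
    exact (Set.ext_iff.1 h3 p).1 h2
  exact hI (eq_bot_iff.2 fun x hx => by
    have := (Set.eq_univ_iff_forall.1 h1 ⟨⊥, Ideal.isPrime_bot⟩) hx
    simpa using this)

end Groth.Agent.ResSurf
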