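import Groth.Agent.BlowUpLib.Glue
import Groth.Agent.CIntLib.BlowExc
import Mathlib.AlgebraicGeometry.Morphisms.Separated

/-!
# The blowing up of an affine scheme in an ideal with two generators

Its two charts have affine intersection, and every function on the intersection is a sum of
functions on the two charts.
-/

universe u

open CategoryTheory CategoryTheory.Limits AlgebraicGeometry HomogeneousLocalization Polynomial
open TopologicalSpace
open scoped HomogeneousIdeal

set_option backward.isDefEq.respectTransparency false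

namespace Groth.Agent.ResSurf

open Groth.Agent BlowUpLib

variable {A : Type u} [CommRing A] {I : Ideal A}

theorem exists_split_deg (a b : I) (hab : I = Ideal.span {(a : A), (b : A)}) (d : ℕ)
    {s : reesAlgebra I} (hs : s ∈ deg I (d + 1)) :
    ∃ s₁ ∈ deg I d, ∃ s₂ ∈ deg I d, s = gen I a * s₁ + gen I b * s₂ := by
  have hc : (s : A[X]).coeff (d + 1) ∈
      Ideal.span {(a : A)} * I ^ d ⊔ Ideal.span {(b : A)} * I ^ d := by
    rw [← Ideal.sup_mul, ← Ideal.span_insert, ← hab, ← pow_succ']
    exact s.2 (d + 1)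
  obtain ⟨_, hp, _, hq, hpq⟩ := Submodule.mem_sup.1 hc
  obtain ⟨c₁, hc₁, rfl⟩ := Ideal.mem_span_singleton_mul.1 hp
  obtain ⟨c₂, hc₂, rfl⟩ := Ideal.mem_span_singleton_mul.1 hq
  have hm : ∀ (c : A) (hc : c ∈ I ^ d),
      (⟨monomial d c, reesAlgebra.monomial_mem.mpr hc⟩ : reesAlgebra I) ∈ deg I d :=
    fun c _ m hne => coeff_monomial_of_ne c hne
  refine ⟨_, hm c₁ hc₁, _, hm c₂ hc₂, Subtype.ext ?_⟩
  rw [eq_monomial I hs, ← hpq]
  show monomial (d + 1) (a * c₁ + b * c₂) =
    monomial 1 (a : A) * monomial d c₁ + monomial 1 (b : A) * monomial d c₂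
  rw [monomial_mul_monomial, monomial_mul_monomial, map_add, add_comm 1 d]

variable (I) in
/-- The degree two element `ab`. -/
noncomputable abbrev gen₂ (a b : I) : reesAlgebra I := gen I a * gen I b

theorem gen₂_mem (a b : I) : gen₂ I a b ∈ deg I (1 + 1) :=
  SetLike.mul_mem_graded (gen_mem I a) (gen_mem I b)

/-- Sums of fractions coming from the two charts. -/
def IsSplit (a b : I) (z : Away (deg I) (gen₂ I a b)) : Prop :=
  ∃ (p : Away (deg I) (gen I a)) (q : Away (deg I) (gen I b)),
    awayMap (deg I) (gen_mem I b) (rfl : gen₂ I a b = gen I a * gen I b) p +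
      awayMap (deg I) (gen_mem I a) (mul_comm _ _ : gen₂ I a b = gen I b * gen I a) q = z

theorem IsSplit.add {a b : I} {z w : Away (deg I) (gen₂ I a b)} (hz : IsSplit a b z)
    (hw : IsSplit a b w) : IsSplit a b (z + w) := by
  obtain ⟨p, q, rfl⟩ := hz
  obtain ⟨p', q', rfl⟩ := hw
  exact ⟨p + p', q + q', by rw [map_add, map_add]; abel⟩

theorem deg_pow_mul_pow (a b : I) {i j d : ℕ} {s : reesAlgebra I} (hs : s ∈ deg I d) :
    gen I a ^ i * gen I b ^ j * s ∈ deg I (i + j + d) :=
  SetLike.mul_mem_graded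
    (by
      simpa using SetLike.mul_mem_graded (SetLike.pow_mem_graded i (gen_mem I a))
        (SetLike.pow_mem_graded j (gen_mem I b))) hs

theorem isSplit_mk (a b : I) (hab : I = Ideal.span {(a : A), (b : A)}) (n : ℕ) :
    ∀ (d i j : ℕ) (h : i + j + d = n • (1 + 1)) (s : reesAlgebra I) (hs : s ∈ deg I d),
      IsSplit a b (Away.mk (deg I) (gen₂_mem a b) n (gen I a ^ i * gen I b ^ j * s)
        (h ▸ deg_pow_mul_pow a b hs)) := by
  intro d
  induction d with
  | zero =>
    intro i j h s hs
    rcases le_total j i with hji | hij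
    · obtain ⟨k, hk⟩ : ∃ k, n = j + k := ⟨n - j, by simp at h; omega⟩
      have hik : i = j + 2 * k := by simp at h; omega
      refine ⟨0, Away.mk (deg I) (gen_mem I b) k (gen I a ^ k * s)
        (SetLike.mul_mem_graded (SetLike.pow_mem_graded k (gen_mem I a)) hs), ?_⟩
      simp only [map_zero, zero_add]
      rw [awayMap_mk]
      apply HomogeneousLocalization.val_injective
      simp only [HomogeneousLocalization.val_add, HomogeneousLocalization.val_zero, zero_add,
        add_zero, Away.val_mk]
      rw [Localization.mk_eq_mk_iff, Localization.r_iff_exists]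
      refine ⟨1, ?_⟩
      simp only [OneMemClass.coe_one, one_mul, hk, hik]
      ring
    · obtain ⟨k, hk⟩ : ∃ k, n = i + k := ⟨n - i, by simp at h; omega⟩
      have hjk : j = i + 2 * k := by simp at h; omega
      refine ⟨Away.mk (deg I) (gen_mem I a) k (gen I b ^ k * s)
        (SetLike.mul_mem_graded (SetLike.pow_mem_graded k (gen_mem I b)) hs), 0, ?_⟩
      simp only [map_zero, add_zero]
      rw [awayMap_mk]
      apply HomogeneousLocalization.val_injective
      simp only [HomogeneousLocalization.val_add, HomogeneousLocalization.val_zero, zero_add,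
        add_zero, Away.val_mk]
      rw [Localization.mk_eq_mk_iff, Localization.r_iff_exists]
      refine ⟨1, ?_⟩
      simp only [OneMemClass.coe_one, one_mul, hk, hjk]
      ring
  | succ d ih =>
    intro i j h s hs
    obtain ⟨s₁, h₁, s₂, h₂, rfl⟩ := exists_split_deg a b hab d hs
    convert (ih (i + 1) j (by omega) s₁ h₁).add (ih i (j + 1) (by omega) s₂ h₂) using 1
    apply HomogeneousLocalization.val_injective
    simp only [HomogeneousLocalization.val_add, Away.val_mk, Localization.add_mk_self]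
    congr 1
    ring

theorem isSplit_all (a b : I) (hab : I = Ideal.span {(a : A), (b : A)})
    (z : Away (deg I) (gen₂ I a b)) : IsSplit a b z := by
  obtain ⟨n, s, hs, rfl⟩ := Away.mk_surjective (deg I) (gen₂_mem a b) z
  convert isSplit_mk a b hab n (n • (1 + 1)) 0 0 (by simp) s hs using 2
  rw [pow_zero, pow_zero, one_mul, one_mul]

theorem basicOpen_sup_eq_top (a b : I) (hab : I = Ideal.span {(a : A), (b : A)}) :
    Proj.basicOpen (deg I) (gen I a) ⊔ Proj.basicOpen (deg I) (gen I b) = ⊤ := by
  let f : Fin 2 → reesAlgebra I := ![gen I a, gen I b]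
  have h : ((deg I)₊).toIdeal ≤ Ideal.span (Set.range f) := by
    intro x hx
    have hle : ((deg I)₊).toIdeal ≤ Ideal.span (Set.range f) := by
      rw [HomogeneousIdeal.toIdeal_irrelevant_le]
      intro n hn y hy
      obtain ⟨m, rfl⟩ := Nat.exists_eq_add_of_le' (Nat.one_le_iff_ne_zero.mpr hn.ne')
      obtain ⟨s₁, -, s₂, -, rfl⟩ := exists_split_deg a b hab m hy
      exact add_mem (Ideal.mul_mem_right _ _ (Ideal.subset_span ⟨0, rfl⟩))
        (Ideal.mul_mem_right _ _ (Ideal.subset_span ⟨1, rfl⟩))
    exact hle hx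
  refine top_le_iff.1 ((Proj.iSup_basicOpen_eq_top (deg I) f h).ge.trans (iSup_le fun i => ?_))
  fin_cases i
  · exact le_sup_left
  · exact le_sup_right

/-- Two affine opens covering `T`, with affine intersection, on which functions split. -/
structure TwoCharts (T : Scheme.{u}) where
  U : T.Opens
  V : T.Opens
  isAffine_U : IsAffineOpen U
  isAffine_V : IsAffineOpen V
  isAffine_inf : IsAffineOpen (U ⊓ V)
  sup_eq_top : U ⊔ V = ⊤
  split : ∀ f : Γ(T, U ⊓ V), ∃ (p : Γ(T, U)) (q : Γ(T, V)),
    T.presheaf.map (homOfLE inf_le_left).op p + T.presheaf.map (homOfLE inf_le_right).op q = f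

theorem exists_twoCharts_local (a b : I) (hab : I = Ideal.span {(a : A), (b : A)}) :
    Nonempty (TwoCharts (localBlowUp I)) := by
  have haff : IsAffineOpen (Proj.basicOpen (deg I) (gen I a) ⊓ Proj.basicOpen (deg I) (gen I b)) := by
    rw [← Proj.basicOpen_mul]
    exact Proj.isAffineOpen_basicOpen _ _ (gen₂_mem a b) (by omega)
  refine ⟨⟨_, _, Proj.isAffineOpen_basicOpen _ _ (gen_mem I a) Nat.one_pos,
    Proj.isAffineOpen_basicOpen _ _ (gen_mem I b) Nat.one_pos, haff, basicOpen_sup_eq_top a b hab,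
    fun f => ?_⟩⟩
  have hle : Proj.basicOpen (deg I) (gen₂ I a b) ≤
      Proj.basicOpen (deg I) (gen I a) ⊓ Proj.basicOpen (deg I) (gen I b) :=
    (Proj.basicOpen_mul (deg I) _ _).le
  have hge : Proj.basicOpen (deg I) (gen I a) ⊓ Proj.basicOpen (deg I) (gen I b) ≤
      Proj.basicOpen (deg I) (gen₂ I a b) := (Proj.basicOpen_mul (deg I) _ _).ge
  let e := Proj.basicOpenIsoAway (deg I) (gen₂ I a b) (gen₂_mem a b) (by omega)
  obtain ⟨p, q, hpq⟩ := isSplit_all a b hab (e.inv ((localBlowUp I).presheaf.map (homOfLE hle).op f))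
  refine ⟨Proj.awayToSection (deg I) (gen I a) p, Proj.awayToSection (deg I) (gen I b) q, ?_⟩
  have hpq' := congrArg (fun z => (localBlowUp I).presheaf.map (homOfLE hge).op
    (Proj.awayToSection (deg I) (gen₂ I a b) z)) hpq
  simp only [map_add] at hpq'
  have ha := fun z => congr($(Proj.awayMap_awayToSection (deg I) (gen_mem I b)
    (rfl : gen₂ I a b = gen I a * gen I b)) z)
  have hb := fun z => congr($(Proj.awayMap_awayToSection (deg I) (gen_mem I a)
    (mul_comm _ _ : gen₂ I a b = gen I b * gen I a)) z)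
  simp only [CommRingCat.hom_comp, CommRingCat.hom_ofHom, RingHom.comp_apply] at ha hb
  erw [ha, hb] at hpq'
  simp only [← ConcreteCategory.comp_apply, ← Functor.map_comp] at hpq'
  refine hpq'.trans ?_
  show (localBlowUp I).presheaf.map (homOfLE hge).op
    (e.hom (e.inv ((localBlowUp I).presheaf.map (homOfLE hle).op f))) = f
  rw [Iso.inv_hom_id_apply]
  simp only [← ConcreteCategory.comp_apply, ← Functor.map_comp]
  have : (homOfLE hle).op ≫ (homOfLE hge).op = 𝟙 _ := Subsingleton.elim _ _
  rw [this, CategoryTheory.Functor.map_id]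
  rfl

/-- Two charts are carried along isomorphisms. -/
theorem TwoCharts.transport {S T : Scheme.{u}} (σ : T ⟶ S) [IsIso σ] (c : TwoCharts S) :
    Nonempty (TwoCharts T) := by
  refine ⟨⟨σ ⁻¹ᵁ c.U, σ ⁻¹ᵁ c.V, c.isAffine_U.preimage_of_isIso σ, c.isAffine_V.preimage_of_isIso σ,
    (c.isAffine_inf.preimage_of_isIso σ :), ?_, fun f => ?_⟩⟩
  · show σ ⁻¹ᵁ (c.U ⊔ c.V) = ⊤
    rw [c.sup_eq_top]
    rfl
  obtain ⟨g, rfl⟩ : ∃ g, σ.app (c.U ⊓ c.V) g = f :=
    (ConcreteCategory.bijective_of_isIso (σ.app (c.U ⊓ c.V))).2 f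
  obtain ⟨p, q, rfl⟩ := c.split g
  refine ⟨σ.app c.U p, σ.app c.V q, ?_⟩
  rw [map_add]
  refine congrArg₂ (· + ·) ?_ ?_
  · exact (congr($(σ.naturality (homOfLE (inf_le_left : c.U ⊓ c.V ≤ c.U)).op) p)).symm
  · exact (congr($(σ.naturality (homOfLE (inf_le_right : c.U ⊓ c.V ≤ c.V)).op) q)).symm

/-- A blowing up of an affine scheme in an ideal with two generators has two charts. -/
theorem exists_twoCharts {x y : A} (hxy : I = Ideal.span {x, y}) {T : Scheme.{u}}
    {b : T ⟶ Spec (CommRingCat.of A)} (hb : BlowUp.IsBlowUp b (centre I)) :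
    Nonempty (TwoCharts T) := by
  obtain ⟨σ, -⟩ := exists_iso hb (isBlowUp_local I)
  have hx : x ∈ I := hxy ▸ Ideal.subset_span (Set.mem_insert _ _)
  have hy : y ∈ I := hxy ▸ Ideal.subset_span (Set.mem_insert_of_mem _ rfl)
  obtain ⟨c⟩ := exists_twoCharts_local (I := I) ⟨x, hx⟩ ⟨y, hy⟩ hxy
  exact c.transport σ.hom

end Groth.Agent.ResSurf

namespace Groth.Agent.ResSurf

/-- The maximal ideal of a regular local ring of dimension two has two generators. -/
theorem exists_maximalIdeal_eq_span_pair (A : Type u) [CommRing A] [IsRegularLocalRing A]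
    (hA : ringKrullDim A = 2) : ∃ x y : A, IsLocalRing.maximalIdeal A = Ideal.span {x, y} := by
  have h : Submodule.FG (IsLocalRing.maximalIdeal A) := IsNoetherian.noetherian _
  have h2 : (IsLocalRing.maximalIdeal A).spanFinrank = 2 := by
    have := IsRegularLocalRing.spanFinrank_maximalIdeal (R := A)
    rw [hA] at this
    exact_mod_cast this
  obtain ⟨x, y, hne, hs⟩ := Set.ncard_eq_two.1 ((Submodule.FG.generators_ncard h).trans h2)
  exact ⟨x, y, by rw [← hs]; exact (Submodule.span_generators (IsLocalRing.maximalIdeal A)).symm⟩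

/-- The two charts of the blowing up of a regular local ring of dimension two in its closed point,
and separatedness of the blown up scheme. -/
theorem exists_twoCharts_point (A : Type u) [CommRing A] [IsRegularLocalRing A]
    (hA : ringKrullDim A = 2) {X : Scheme.{u}} {b : X ⟶ Spec (CommRingCat.of A)}
    (hb : BlowUp.IsBlowUp b (BlowUpLib.centre (IsLocalRing.maximalIdeal A))) :
    Nonempty (TwoCharts X) := by
  obtain ⟨x, y, h⟩ := exists_maximalIdeal_eq_span_pair A hA
  exact exists_twoCharts h hb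

end Groth.Agent.ResSurf
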