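import Groth.Agent.BlowUpLib.Glue
import Groth.Agent.Proj16.Map
import Groth.Agent.LinType.Basic
import Groth.Agent.ResSurf.BlowTwo
import Groth.Agent.RegLoc6.Seq
import Groth.Prelude.Def_CohB1

/-!
# The Rees algebra of a quasi-regular sequence between two polynomial rings

`A[T] → R_I(A) → (A/I)[T]`, and the kernel of the second map on the charts.
-/

universe u

open CategoryTheory AlgebraicGeometry HomogeneousLocalization MvPolynomial
open scoped HomogeneousIdeal

set_option backward.isDefEq.respectTransparency false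

namespace Groth.Agent.ResSurf

open Groth.Agent BlowUpLib

/-- A surjective graded map hits the irrelevant ideal. -/
theorem irrelevant_le_map_of_surjective {R S A B : Type u} [CommRing R] [CommRing S] [CommRing A]
    [CommRing B] [Algebra R A] [Algebra S B] {𝒜 : ℕ → Submodule R A} {ℬ : ℕ → Submodule S B}
    [GradedAlgebra 𝒜] [GradedAlgebra ℬ] (f : 𝒜 →+*ᵍ ℬ) (hf : Function.Surjective f) :
    ℬ₊ ≤ (𝒜₊).map f := by
  rw [← toIdeal_le_toIdeal_iff, HomogeneousIdeal.toIdeal_irrelevant_le]
  intro n hn b hb
  obtain ⟨a, ha, rfl⟩ := Proj16.exists_mem_of_surjective f hf hb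
  rw [HomogeneousIdeal.toIdeal_map]
  exact Ideal.mem_map_of_mem _ ((HomogeneousIdeal.toIdeal_irrelevant_le _).1 le_rfl n hn ha)

variable {A : Type u} [CommRing A] {n : ℕ} (x : Fin (n + 1) → A)

/-- The ideal generated by the sequence. -/
abbrev seqIdeal : Ideal A := Ideal.span (Set.range x)

/-- The generators as elements of the ideal. -/
def seqElem (i : Fin (n + 1)) : seqIdeal x := ⟨x i, Ideal.subset_span ⟨i, rfl⟩⟩

/-- `A[T] → R_I(A)`, `Tᵢ ↦ xᵢ`. -/
noncomputable def polyToRees :
    CohB1.polyGrading n A →+*ᵍ deg (seqIdeal x) where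
  toRingHom := (aeval fun i => gen (seqIdeal x) (seqElem x i) :
    MvPolynomial (Fin (n + 1)) A →ₐ[A] reesAlgebra (seqIdeal x)).toRingHom
  map_mem := by
    intro d P hP
    show aeval _ P ∈ _
    rw [P.as_sum, map_sum]
    refine sum_mem fun e he => ?_
    rw [aeval_monomial, ← Algebra.smul_def]
    refine Submodule.smul_mem _ _ ?_
    have hd : e.sum (fun _ a => a) = d := by
      have := hP (MvPolynomial.mem_support_iff.mp he)
      simpa [Finsupp.weight_apply] using this
    rw [← hd, Finsupp.prod, Finsupp.sum]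
    simpa using SetLike.prod_pow_mem_graded (deg (seqIdeal x)) (fun _ : Fin (n + 1) => 1)
      (fun i => gen (seqIdeal x) (seqElem x i)) (fun i => e i) (F := e.support)
      (fun i _ => gen_mem (seqIdeal x) (seqElem x i))

@[simp] theorem polyToRees_X (i : Fin (n + 1)) :
    polyToRees x (X i) = gen (seqIdeal x) (seqElem x i) :=
  aeval_X (fun i => gen (seqIdeal x) (seqElem x i)) i

theorem polyToRees_C (c : A) : polyToRees x (C c) = algebraMap A _ c :=
  aeval_C (fun i => gen (seqIdeal x) (seqElem x i)) c

theorem polyToRees_surjective : Function.Surjective (polyToRees x) := by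
  let f : MvPolynomial (Fin (n + 1)) A →ₐ[A] reesAlgebra (seqIdeal x) :=
    aeval fun i => gen (seqIdeal x) (seqElem x i)
  have h1 : reesAlgebra (seqIdeal x) ≤ f.range.map (reesAlgebra (seqIdeal x)).val := by
    conv_lhs => rw [← adjoin_monomial_eq_reesAlgebra]
    refine Algebra.adjoin_le ?_
    rintro _ ⟨c, hc, rfl⟩
    obtain ⟨l, rfl⟩ := Ideal.mem_span_range_iff_exists_fun.1 hc
    refine Subalgebra.mem_map.2 ⟨∑ i, l i • gen (seqIdeal x) (seqElem x i),
      sum_mem fun i _ => Subalgebra.smul_mem _ ((AlgHom.mem_range _).2 ⟨X i, aeval_X _ i⟩) _, ?_⟩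
    simp [map_sum, gen, seqElem, Polynomial.smul_monomial]
  rintro ⟨p, hp⟩
  obtain ⟨q, ⟨P, rfl⟩, hP⟩ := h1 hp
  exact ⟨P, Subtype.ext hP⟩

/-- Evaluating at one gives evaluation at the sequence. -/
theorem ev_polyToRees (P : MvPolynomial (Fin (n + 1)) A) :
    ev (seqIdeal x) (polyToRees x P) = MvPolynomial.eval x P := by
  have : (ev (seqIdeal x)).comp (polyToRees x).toRingHom = MvPolynomial.eval x :=
    MvPolynomial.ringHom_ext (fun c => by
      show ev _ (polyToRees x (C c)) = _
      rw [polyToRees_C, ev_algebraMap, eval_C])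
      fun i => by
        show ev _ (polyToRees x (X i)) = _
        rw [polyToRees_X, ev_gen, eval_X]
        rfl
  exact congrArg (fun f => f P) this

/-- Quasi-regularity of the sequence. -/
def IsQuasiReg : Prop :=
  ∀ (d : ℕ) (P : MvPolynomial (Fin (n + 1)) A), P.IsHomogeneous d →
    MvPolynomial.eval x P ∈ seqIdeal x ^ (d + 1) → ∀ e, P.coeff e ∈ seqIdeal x

variable {x} (hx : IsQuasiReg x)
include hx

theorem ker_polyToRees_le : RingHom.ker (polyToRees x).toRingHom ≤
    RingHom.ker (MvPolynomial.map (Ideal.Quotient.mk (seqIdeal x))) := by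
  intro P hP
  rw [RingHom.mem_ker] at hP ⊢
  refine MvPolynomial.ext _ _ fun e => ?_
  rw [coeff_map, coeff_zero, Ideal.Quotient.eq_zero_iff_mem]
  have h := hx e.degree _ (homogeneousComponent_isHomogeneous e.degree P) ?_ e
  · rwa [coeff_homogeneousComponent, if_pos rfl] at h
  · have h0 : polyToRees x (homogeneousComponent e.degree P) = 0 := by
      have hc := Proj16.proj_map_commutes (polyToRees x) e.degree P
      rw [show polyToRees x P = 0 from hP, map_zero] at hc
      rw [show homogeneousComponent e.degree P = GradedRing.proj (CohB1.polyGrading n A) e.degree P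
        from ?_, hc]
      rw [GradedRing.proj_apply]
      exact (MvPolynomial.decomposition.decompose'_apply P e.degree).symm
    rw [← ev_polyToRees, h0, map_zero]
    exact zero_mem _

/-- `R_I(A) → (A/I)[T]`. -/
noncomputable def reesToFibre : deg (seqIdeal x) →+*ᵍ CohB1.polyGrading n (A ⧸ seqIdeal x) where
  toRingHom := RingHom.liftOfSurjective (polyToRees x).toRingHom (polyToRees_surjective x)
    ⟨MvPolynomial.map (Ideal.Quotient.mk (seqIdeal x)), ker_polyToRees_le hx⟩
  map_mem := by
    intro d b hb
    obtain ⟨P, hP, rfl⟩ := Proj16.exists_mem_of_surjective (polyToRees x) (polyToRees_surjective x) hb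
    show RingHom.liftOfSurjective (polyToRees x).toRingHom (polyToRees_surjective x)
      ⟨_, ker_polyToRees_le hx⟩ ((polyToRees x).toRingHom P) ∈ _
    rw [RingHom.liftOfRightInverse_comp_apply]
    intro e he
    refine hP ?_
    intro h0
    exact he (by rw [coeff_map, h0, map_zero])

theorem reesToFibre_polyToRees (P : MvPolynomial (Fin (n + 1)) A) :
    reesToFibre hx (polyToRees x P) = MvPolynomial.map (Ideal.Quotient.mk (seqIdeal x)) P :=
  RingHom.liftOfRightInverse_comp_apply _ _ _ _ P

theorem reesToFibre_surjective : Function.Surjective (reesToFibre hx) := fun q => by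
  obtain ⟨P, rfl⟩ := MvPolynomial.map_surjective _ Ideal.Quotient.mk_surjective q
  exact ⟨_, reesToFibre_polyToRees hx P⟩

theorem reesToFibre_gen (i : Fin (n + 1)) :
    reesToFibre hx (gen (seqIdeal x) (seqElem x i)) = X i := by
  rw [← polyToRees_X, reesToFibre_polyToRees, map_X]

theorem reesToFibre_algebraMap (c : A) :
    reesToFibre hx (algebraMap A _ c) = C (Ideal.Quotient.mk _ c) := by
  rw [← polyToRees_C, reesToFibre_polyToRees, map_C]

omit hx in
theorem monomial_mem_span_algebraMap {d : ℕ} {s : reesAlgebra (seqIdeal x)} (hs : s ∈ deg (seqIdeal x) d)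
    (hc : ev (seqIdeal x) s ∈ seqIdeal x ^ (d + 1)) :
    ∃ t : Fin (n + 1) → reesAlgebra (seqIdeal x), (∀ i, t i ∈ deg (seqIdeal x) d) ∧
      s = ∑ i, algebraMap A _ (x i) * t i := by
  rw [pow_succ'] at hc
  have key : ∀ c ∈ seqIdeal x * seqIdeal x ^ d, ∃ l : Fin (n + 1) → A,
      (∀ i, l i ∈ seqIdeal x ^ d) ∧ ∑ i, x i * l i = c := by
    intro c hc
    refine Submodule.smul_induction_on hc (fun r hr m hm => ?_) fun c c' h h' => ?_
    · obtain ⟨a, rfl⟩ := Ideal.mem_span_range_iff_exists_fun.1 hr
      exact ⟨fun i => a i * m, fun i => Ideal.mul_mem_left _ _ hm, by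
        simp only [smul_eq_mul, Finset.sum_mul]
        exact Finset.sum_congr rfl fun i _ => by ring⟩
    · obtain ⟨l, hl, rfl⟩ := h
      obtain ⟨l', hl', rfl⟩ := h'
      exact ⟨l + l', fun i => add_mem (hl i) (hl' i), by simp [mul_add, Finset.sum_add_distrib]⟩
  obtain ⟨l, hl, hlc⟩ := key _ hc
  refine ⟨fun i => ⟨Polynomial.monomial d (l i), reesAlgebra.monomial_mem.mpr (hl i)⟩,
    fun i m hm => Polynomial.coeff_monomial_of_ne (l i) hm, Subtype.ext ?_⟩
  rw [eq_monomial _ hs, ← ev_eq_coeff _ hs, ← hlc]
  simp [map_sum, Polynomial.C_mul_monomial]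

/-- On a chart, the kernel of the map to the fibre is generated by the ideal. -/
theorem ker_awayMap_reesToFibre (i : Fin (n + 1)) :
    RingHom.ker (Away.map (reesToFibre hx) (gen (seqIdeal x) (seqElem x i))) =
      (seqIdeal x).map ((fromZeroRingHom (deg (seqIdeal x))
        (Submonoid.powers (gen (seqIdeal x) (seqElem x i)))).comp (toZero (seqIdeal x))) := by
  refine le_antisymm (fun z hz => ?_) ?_
  · obtain ⟨d, s, hs, rfl⟩ := Away.mk_surjective (deg (seqIdeal x))
      (gen_mem (seqIdeal x) (seqElem x i)) z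
    have hs' : s ∈ deg (seqIdeal x) d := by simpa using hs
    have h0 : reesToFibre hx s = 0 := by
      rw [RingHom.mem_ker, Away.map_mk] at hz
      have h := congrArg HomogeneousLocalization.val hz
      rw [Away.val_mk, HomogeneousLocalization.val_zero, Localization.mk_eq_mk',
        IsLocalization.mk'_eq_zero_iff] at h
      obtain ⟨⟨_, k, rfl⟩, hk⟩ := h
      simp only [reesToFibre_gen] at hk
      clear hs hs' hz
      induction k with
      | zero => simpa using hk
      | succ k ih =>
        rw [pow_succ', mul_assoc] at hk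
        refine ih ?_
        exact MvPolynomial.X_mul_cancel_left_iff.1 (hk.trans (mul_zero _).symm)
    obtain ⟨P, hP, rfl⟩ := Proj16.exists_mem_of_surjective (polyToRees x) (polyToRees_surjective x) hs'
    rw [reesToFibre_polyToRees] at h0
    have hc : ev (seqIdeal x) (polyToRees x P) ∈ seqIdeal x ^ (d + 1) := by
      rw [ev_polyToRees, P.as_sum, map_sum, pow_succ']
      refine sum_mem fun e he => ?_
      rw [eval_monomial]
      refine Ideal.mul_mem_mul ?_ ?_
      · rw [← Ideal.Quotient.eq_zero_iff_mem, ← coeff_map, h0, coeff_zero]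
      · have hd : e.sum (fun _ a => a) = d := by
          have := hP (MvPolynomial.mem_support_iff.mp he)
          simpa [Finsupp.weight_apply] using this
        rw [← hd, Finsupp.sum, Finsupp.prod, ← Finset.prod_pow_eq_pow_sum]
        exact Ideal.prod_mem_prod fun j _ =>
          Ideal.pow_mem_pow (show x j ∈ seqIdeal x from Ideal.subset_span ⟨j, rfl⟩) _
    obtain ⟨t, ht, hst⟩ := monomial_mem_span_algebraMap hs' hc
    have e : Away.mk (BlowUpLib.deg (seqIdeal x)) (gen_mem (seqIdeal x) (seqElem x i)) d (polyToRees x P) hs =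
        ∑ j, fromZeroRingHom (BlowUpLib.deg (seqIdeal x)) _ (toZero (seqIdeal x) (x j)) *
          Away.mk (BlowUpLib.deg (seqIdeal x)) (gen_mem (seqIdeal x) (seqElem x i)) d (t j)
            (by simpa using ht j) := by
      apply HomogeneousLocalization.val_injective
      rw [← HomogeneousLocalization.algebraMap_apply, ← HomogeneousLocalization.algebraMap_apply,
        map_sum]
      have hv : ∀ c : A, (fromZeroRingHom (BlowUpLib.deg (seqIdeal x))
          (Submonoid.powers (gen (seqIdeal x) (seqElem x i))) (toZero (seqIdeal x) c)).val =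
          algebraMap (reesAlgebra (seqIdeal x)) (Localization.Away (gen (seqIdeal x) (seqElem x i)))
            (algebraMap A _ c) := fun c => Localization.mk_one_eq_algebraMap _
      simp only [map_mul, HomogeneousLocalization.algebraMap_apply, Away.val_mk, hv]
      rw [hst]
      simp only [Localization.mk_eq_mk', IsLocalization.mul_mk'_eq_mk'_of_mul]
      rw [IsLocalization.mk'_eq_iff_eq_mul, Finset.sum_mul, map_sum]
      exact Finset.sum_congr rfl fun j _ => (IsLocalization.mk'_spec _ _ _).symm
    rw [e]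
    exact sum_mem fun j _ => Ideal.mul_mem_right _ _
      (Ideal.mem_map_of_mem _ (Ideal.subset_span ⟨j, rfl⟩))
  · rw [Ideal.map_le_iff_le_comap]
    intro c hc
    rw [Ideal.mem_comap, RingHom.mem_ker, RingHom.comp_apply]
    apply HomogeneousLocalization.val_injective
    simp only [fromZeroRingHom, RingHom.coe_mk, MonoidHom.coe_mk, OneHom.coe_mk, Away.map,
      HomogeneousLocalization.map_mk, HomogeneousLocalization.val_mk, HomogeneousLocalization.val_zero]
    rw [Localization.mk_eq_mk', IsLocalization.mk'_eq_zero_iff]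
    refine ⟨1, ?_⟩
    show _ * reesToFibre hx (algebraMap A _ c) = 0
    rw [reesToFibre_algebraMap, Ideal.Quotient.eq_zero_iff_mem.2 hc, map_zero, mul_zero]

omit hx

/-- A regular local ring of dimension two has a quasi-regular pair generating the maximal ideal. -/
theorem exists_isQuasiReg_pair (B : Type u) [CommRing B] [IsRegularLocalRing B] (hB : ringKrullDim B = 2) :
    ∃ x : Fin (1 + 1) → B, IsQuasiReg x ∧ seqIdeal x = IsLocalRing.maximalIdeal B := by
  obtain ⟨rs, hreg, hrs⟩ := RegLoc6.exists_regularSequence_maximalIdeal B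
  have hlen : rs.length = 1 + 1 := by
    have h := ringKrullDim_add_length_eq_ringKrullDim_of_isRegular rs hreg
    rw [hrs, hB] at h
    have h0 : ringKrullDim (B ⧸ IsLocalRing.maximalIdeal B) = 0 := by
      letI := Ideal.Quotient.field (IsLocalRing.maximalIdeal B)
      exact ringKrullDim_eq_zero_of_field _
    rw [h0, zero_add] at h
    exact_mod_cast h
  refine ⟨fun i => rs.get (i.cast hlen.symm), ?_, ?_⟩
  · have hofn : List.ofFn (fun i : Fin (1 + 1) => rs.get (i.cast hlen.symm)) = rs := by
      apply List.ext_get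
      · simp [hlen]
      · intro m h1 h2
        simp only [List.get_eq_getElem, List.getElem_ofFn, Fin.val_cast]
    intro d P hP h e
    exact LinType.quasiRegular _ (by rw [hofn]; exact hreg.toIsWeaklyRegular) hP h e
  · rw [seqIdeal, ← hrs, Ideal.ofList]
    congr 1
    ext w
    simp only [Set.mem_range, Set.mem_setOf_eq, List.mem_iff_get]
    exact ⟨fun ⟨i, hi⟩ => ⟨_, hi⟩, fun ⟨i, hi⟩ => ⟨i.cast hlen, by simpa using hi⟩⟩

end Groth.Agent.ResSurf
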