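import Groth.Agent.ResSurf.CentrePts
import Groth.Agent.Proj16.NormalExt
import Mathlib.AlgebraicGeometry.ZariskisMainTheorem

/-!
# Lifting divisorial points; a morphism from a normal model whose centres are not closed
-/

universe u

open CategoryTheory CategoryTheory.Limits AlgebraicGeometry IsLocalRing TopologicalSpace

set_option backward.isDefEq.respectTransparency false
set_option backward.isDefEq.respectTransparency.types false
set_option linter.style.haveILetI false

namespace Groth.Agent.ResSurf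

open Groth.Agent

variable {X : Scheme.{u}} [IsIntegral X] {Y : Scheme.{u}} [IsIntegral Y] {f : Y ⟶ X}
  {Z : Scheme.{u}} [IsIntegral Z] {c : Z ⟶ X}

theorem exists_functionField_iso (hf : IsBirat f) (hc : IsBirat c) :
    ∃ e : Z.functionField ≅ Y.functionField, Spec.map e.hom ≫ Z.fromSpecStalk (genericPoint Z) ≫ c =
      Y.fromSpecStalk (genericPoint Y) ≫ f := by
  obtain ⟨ι, hι⟩ := hc
  obtain ⟨κ, hκ⟩ := hf
  refine ⟨ι.symm ≪≫ κ, ?_⟩
  rw [← hι, ← Spec.map_comp_assoc, ← hκ]
  simp

/-- A lift of the local ring of a point of `Y` to a model sends the field of fractions correctly. -/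
theorem SpecMap_comp_lift [IsSeparated c] (hf : IsBirat f) (hc : IsBirat c) {ξ : Y}
    (e : Z.functionField ≅ Y.functionField)
    (he : Spec.map e.hom ≫ Z.fromSpecStalk (genericPoint Z) ≫ c = Y.fromSpecStalk (genericPoint Y) ≫ f)
    (ρ : Spec (Y.presheaf.stalk ξ) ⟶ Z) (hρ : ρ ≫ c = Y.fromSpecStalk ξ ≫ f) :
    Spec.map (CommRingCat.ofHom (algebraMap (Y.presheaf.stalk ξ) Y.functionField)) ≫ ρ =
      Spec.map e.hom ≫ Z.fromSpecStalk (genericPoint Z) := by
  set σ := Spec.map (CommRingCat.ofHom (algebraMap (Y.presheaf.stalk ξ) Y.functionField)) ≫ ρ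
  have hσ : σ ≫ c = Y.fromSpecStalk (genericPoint Y) ≫ f := by
    rw [Category.assoc, hρ, reassoc_of% SpecMap_algebraMap_fromSpecStalk ξ]
  have hpt : σ (closedPoint Y.functionField) = genericPoint Z := by
    refine hc.eq_genericPoint ?_
    show c (σ _) = _
    rw [← Scheme.Hom.comp_apply, hσ, Scheme.Hom.comp_apply]
    exact (congrArg f Y.fromSpecStalk_closedPoint).trans hf.apply_genericPoint
  obtain ⟨e', -, he'⟩ := exists_factor_fromSpecStalk σ hpt
  obtain ⟨ι, hι⟩ := hc
  have h1 : Spec.map (ι.hom ≫ e') ≫ X.fromSpecStalk _ = Spec.map (ι.hom ≫ e.hom) ≫ X.fromSpecStalk _ := by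
    rw [Spec.map_comp, Spec.map_comp, Category.assoc, Category.assoc, hι, reassoc_of% he', hσ, ← he]
  rw [← he', (cancel_epi ι.hom).1 (fromSpecStalk_hom_ext h1)]

theorem lift_unique [IsSeparated c] (hf : IsBirat f) (hc : IsBirat c) {ξ : Y} (ρ ρ' : Spec (Y.presheaf.stalk ξ) ⟶ Z)
    (hρ : ρ ≫ c = Y.fromSpecStalk ξ ≫ f) (hρ' : ρ' ≫ c = Y.fromSpecStalk ξ ≫ f) : ρ = ρ' := by
  obtain ⟨e, he⟩ := exists_functionField_iso hf hc
  haveI : IsDominant (Spec.map (CommRingCat.ofHom (algebraMap (Y.presheaf.stalk ξ) Y.functionField))) :=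
    ⟨(PrimeSpectrum.denseRange_comap_iff_ker_le_nilRadical _).2 (by
      rw [CommRingCat.hom_ofHom, (RingHom.injective_iff_ker_eq_bot _).1
        (IsFractionRing.injective (Y.presheaf.stalk ξ) Y.functionField)]
      exact bot_le)⟩
  exact ext_of_isDominant_of_isSeparated c (hρ.trans hρ'.symm) _
    ((SpecMap_comp_lift hf hc e he ρ hρ).trans (SpecMap_comp_lift hf hc e he ρ' hρ').symm)

theorem exists_lift [UniversallyClosed c] (hf : IsBirat f) (hc : IsBirat c) (ξ : Y) [ValuationRing (Y.presheaf.stalk ξ)] :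
    ∃ ρ : Spec (Y.presheaf.stalk ξ) ⟶ Z, ρ ≫ c = Y.fromSpecStalk ξ ≫ f := by
  obtain ⟨e, he⟩ := exists_functionField_iso hf hc
  have h : UniversallyClosed c := inferInstance
  rw [UniversallyClosed.eq_valuativeCriterion] at h
  have sq : CommSq (Spec.map e.hom ≫ Z.fromSpecStalk (genericPoint Z))
      (Spec.map (CommRingCat.ofHom (algebraMap (Y.presheaf.stalk ξ) Y.functionField))) c
      (Y.fromSpecStalk ξ ≫ f) :=
    ⟨by rw [Category.assoc, he, reassoc_of% SpecMap_algebraMap_fromSpecStalk ξ]⟩
  haveI := h.1 ⟨(Y.presheaf.stalk ξ : Type u), (Y.functionField : Type u), _, _, sq⟩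
  exact ⟨sq.lift, sq.fac_right⟩

section

theorem apply_closedPoint_eq_genericPoint {W : Scheme.{u}} [IsIntegral W]
    (δ : Spec X.functionField ⟶ W) [IsDominant δ] : δ (closedPoint X.functionField) = genericPoint W := by
  have h : IsGenericPoint (δ (closedPoint X.functionField)) ⊤ := by
    show closure _ = Set.univ
    rw [← δ.denseRange.closure_eq]
    congr 1
    refine Set.eq_of_subset_of_subset (Set.singleton_subset_iff.2 ⟨_, rfl⟩) ?_
    rintro _ ⟨p, rfl⟩
    haveI : Subsingleton (Spec X.functionField) := inferInstanceAs (Subsingleton (PrimeSpectrum X.functionField))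
    rw [Subsingleton.elim p (closedPoint X.functionField)]
    rfl
  exact h.eq (genericPoint_spec _)

/-- A closed set of a Noetherian sober space all of whose points are closed is finite. -/
theorem finite_of_forall_isClosed {α : Type u} [TopologicalSpace α] [NoetherianSpace α] [QuasiSober α]
    {F : Set α} (hF : IsClosed F) (h : ∀ x ∈ F, IsClosed ({x} : Set α)) : F.Finite := by
  obtain ⟨S, hS1, hS2⟩ := NoetherianSpace.exists_finset_irreducible (⟨F, hF⟩ : Closeds α)
  have hF' : F = ⋃ T ∈ S, (T : Set α) := by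
    have := congrArg (fun C : Closeds α => (C : Set α)) hS2
    simpa [Closeds.coe_finset_sup] using this
  rw [hF']
  refine S.finite_toSet.biUnion fun T hT => ?_
  obtain ⟨η, hη⟩ := QuasiSober.sober (hS1 ⟨T, hT⟩) T.isClosed
  refine (Set.finite_singleton η).subset fun x hx => ?_
  exact (hη.specializes hx).mem_closed (h η (hF' ▸ Set.mem_biUnion hT hη.mem)) rfl

omit [IsIntegral X] in
/-- Two points over the same pair of closed points of the factors, one specializing to the other, are equal. -/
theorem eq_of_specializes_pullback {A B : Scheme.{u}} {c : A ⟶ X} {f : B ⟶ X} [LocallyOfFiniteType c]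
    [LocallyOfFiniteType f] {w : A} {ξ : B} (hw : IsClosed ({w} : Set A)) (hξ : IsClosed ({ξ} : Set B))
    {γ y : ↥(pullback c f)} (h : γ ⤳ y) (h1 : pullback.fst c f γ = w) (h2 : pullback.fst c f y = w)
    (h3 : pullback.snd c f γ = ξ) (h4 : pullback.snd c f y = ξ) : γ = y := by
  haveI := isClosed_singleton_iff_isClosedImmersion.mp hw
  haveI := isClosed_singleton_iff_isClosedImmersion.mp hξ
  let i : pullback (A.fromSpecResidueField w ≫ c) (B.fromSpecResidueField ξ ≫ f) ⟶ pullback c f :=
    pullback.map _ _ _ _ (A.fromSpecResidueField w) (B.fromSpecResidueField ξ) (𝟙 X) (by simp) (by simp)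
  haveI : LocallyQuasiFinite (A.fromSpecResidueField w ≫ c) :=
    LocallyQuasiFinite.of_injective fun a b _ => Subsingleton.elim (α := PrimeSpectrum _) a b
  haveI : LocallyQuasiFinite (B.fromSpecResidueField ξ ≫ f) :=
    LocallyQuasiFinite.of_injective fun a b _ => Subsingleton.elim (α := PrimeSpectrum _) a b
  let π := pullback.fst (A.fromSpecResidueField w ≫ c) (B.fromSpecResidueField ξ ≫ f) ≫
    A.fromSpecResidueField w ≫ c
  haveI : LocallyQuasiFinite π := inferInstance
  have hrange : Set.range i = pullback.fst c f ⁻¹' {w} ∩ pullback.snd c f ⁻¹' {ξ} := by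
    rw [Scheme.Pullback.range_map, Scheme.range_fromSpecResidueField, Scheme.range_fromSpecResidueField]
  obtain ⟨t₁, rfl⟩ : γ ∈ Set.range i := hrange ▸ ⟨h1, h3⟩
  obtain ⟨t₂, rfl⟩ : y ∈ Set.range i := hrange ▸ ⟨h2, h4⟩
  haveI : IsClosedImmersion i :=
    MorphismProperty.pullbackMap (P := @IsClosedImmersion) inferInstance inferInstance rfl rfl
  have ht : t₁ ⤳ t₂ := i.isClosedEmbedding.isEmbedding.isInducing.specializes_iff.1 h
  have hπ : π t₂ = π t₁ := by
    have h5 : ∀ t, π t = (A.fromSpecResidueField w ≫ c)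
        (closedPoint (A.residueField w)) := fun t => by
      show (A.fromSpecResidueField w ≫ c) _ = _
      exact congrArg _ (Subsingleton.elim (α := PrimeSpectrum _) _ _)
    rw [h5, h5]
  haveI : DiscreteTopology ↥(π ⁻¹' {π t₁}) :=
    isDiscrete_iff_discreteTopology.1 (π.isDiscrete_preimage_singleton (π t₁))
  have h6 : (⟨t₁, rfl⟩ : ↥(π ⁻¹' {π t₁})) ⤳ ⟨t₂, hπ⟩ :=
    Topology.IsInducing.subtypeVal.specializes_iff.1 ht
  exact congrArg (fun t : ↥(π ⁻¹' {π t₁}) => i t.1) h6.eq

end

/-- A normal birational model on which the centres of the divisorial points of `Y` over closed points are not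
closed maps to `Y`. -/
theorem exists_hom_of_centres [IsNoetherian X] (hd : topologicalKrullDim X ≤ 2) [IsProper c] [IsProper f]
    (hc : IsBirat c) (hn : Pi1.IsNormalScheme Z) (hf : IsBirat f) (hYn : Pi1.IsNormalScheme Y)
    (hgood : ∀ ξ : Y, ¬ IsClosed ({ξ} : Set Y) → IsClosed ({f ξ} : Set X) →
      ∀ ρ : Spec (Y.presheaf.stalk ξ) ⟶ Z, ρ ≫ c = Y.fromSpecStalk ξ ≫ f →
        ¬ IsClosed ({ρ (closedPoint _)} : Set Z)) :
    ∃ h : Z ⟶ Y, h ≫ f = c := by
  haveI : IsLocallyNoetherian Y := LocallyOfFiniteType.isLocallyNoetherian f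
  haveI : IsLocallyNoetherian Z := LocallyOfFiniteType.isLocallyNoetherian c
  haveI : CompactSpace Z := QuasiCompact.compactSpace_of_compactSpace c
  haveI : IsNoetherian Z := ⟨⟩
  haveI : IsProper (pullback.fst c f) := MorphismProperty.pullback_fst c f inferInstance
  haveI : IsProper (pullback.fst c f ≫ c) := inferInstance
  haveI : IsLocallyNoetherian (pullback c f) :=
    LocallyOfFiniteType.isLocallyNoetherian (pullback.fst c f ≫ c)
  obtain ⟨ι, hι⟩ := id hc
  obtain ⟨κ, hκ⟩ := id hf
  have hδ : (Spec.map ι.inv ≫ Z.fromSpecStalk (genericPoint Z)) ≫ c =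
      (Spec.map κ.inv ≫ Y.fromSpecStalk (genericPoint Y)) ≫ f := by
    rw [Category.assoc, ← hι, ← Spec.map_comp_assoc, Iso.hom_inv_id, Category.assoc, ← hκ,
      ← Spec.map_comp_assoc, Iso.hom_inv_id]
  let δ : Spec X.functionField ⟶ pullback c f := pullback.lift _ _ hδ
  haveI : CompactSpace ↥(pullback c f) :=
    QuasiCompact.compactSpace_of_compactSpace (pullback.fst c f ≫ c)
  haveI : IsNoetherian (pullback c f) := ⟨⟩
  haveI : QuasiCompact δ := inferInstance
  haveI : IsIntegral (Spec X.functionField) := inferInstance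
  let Γ' := δ.image
  haveI : IsIntegral Γ' := isIntegral_image δ
  let p : Γ' ⟶ Z := δ.imageι ≫ pullback.fst c f
  let q : Γ' ⟶ Y := δ.imageι ≫ pullback.snd c f
  have hpq : q ≫ f = p ≫ c := by
    simp only [p, q, Category.assoc, pullback.condition]
  haveI : IsProper p := inferInstance
  have hpc : IsBirat (p ≫ c) := by
    refine isBirat_of_lift δ.toImage ?_ (apply_closedPoint_eq_genericPoint _)
    simp only [p, Category.assoc]
    rw [Scheme.Hom.toImage_imageι_assoc, pullback.lift_fst_assoc, Category.assoc, ← hι,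
      ← Spec.map_comp_assoc, Iso.hom_inv_id, Spec.map_id, Category.id_comp]
  have hp : IsBirat p := hpc.of_comp hc
  haveI : LocallyQuasiFinite p := by
    haveI : CompactSpace ↥Γ' := QuasiCompact.compactSpace_of_compactSpace p
    haveI : IsLocallyNoetherian Γ' := LocallyOfFiniteType.isLocallyNoetherian p
    haveI : IsNoetherian Γ' := ⟨⟩
    refine LocallyQuasiFinite.of_finite_preimage_singleton _ fun w => ?_
    by_cases hv : ValuationRing (Z.presheaf.stalk w)
    · refine Set.Subsingleton.finite fun a ha b hb => ?_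
      haveI : ValuationRing (Z.presheaf.stalk (p a)) := by rw [show p a = w from ha]; exact hv
      exact hp.eq_of_valuationRing ((ha : p a = w).trans (hb : p b = w).symm)
    have hw : IsClosed ({w} : Set Z) := by
      by_contra h
      exact hv (valuationRing_of_not_isClosed c hc hn hd h)
    refine finite_of_forall_isClosed (hw.preimage p.continuous) fun γ hγ => ?_
    replace hγ : p γ = w := hγ
    by_contra hcl
    obtain ⟨y, hy, hne⟩ := exists_specializes_of_not_isClosed hcl
    have hpy : p y = w := eq_of_specializes_closed hw (hγ ▸ hy.map p.continuous)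
    have hx : IsClosed ({f (q γ)} : Set X) := by
      rw [← Scheme.Hom.comp_apply, hpq, Scheme.Hom.comp_apply, hγ]
      have := c.isClosedMap _ hw
      rwa [Set.image_singleton] at this
    by_cases hξ : IsClosed ({q γ} : Set Y)
    · refine hne (δ.imageι.isClosedEmbedding.injective ?_)
      refine eq_of_specializes_pullback hw hξ (hy.map δ.imageι.continuous) hγ hpy rfl ?_
      exact eq_of_specializes_closed hξ (hy.map q.continuous)
    haveI : ValuationRing (Y.presheaf.stalk (q γ)) := valuationRing_of_not_isClosed f hf hYn hd hξ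
    have hq : IsBirat q := (hpq ▸ hpc).of_comp hf
    haveI : IsIso (q.stalkMap γ) := (ConcreteCategory.isIso_iff_bijective _).2 (hq.bijective_stalkMap γ)
    refine hgood (q γ) hξ hx (Spec.map (inv (q.stalkMap γ)) ≫ Γ'.fromSpecStalk γ ≫ p) ?_ ?_
    · rw [Category.assoc, Category.assoc, ← hpq, ← Scheme.SpecMap_stalkMap_fromSpecStalk_assoc,
        ← Spec.map_comp_assoc, IsIso.hom_inv_id, Spec.map_id, Category.id_comp]
    · rw [Scheme.Hom.comp_apply, Scheme.Hom.comp_apply, Spec_closedPoint, Γ'.fromSpecStalk_closedPoint, hγ]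
      exact hw
  haveI : IsFinite p := (IsFinite.iff_isProper_and_locallyQuasiFinite p).2 ⟨inferInstance, inferInstance⟩
  obtain ⟨θ, hθ⟩ := hp
  haveI : IsIso p := Proj16.isIso_of_isIntegralHom hn p
    (Spec.map θ.inv ≫ Γ'.fromSpecStalk (genericPoint Γ'))
    (by rw [Category.assoc, ← hθ, ← Spec.map_comp_assoc, Iso.hom_inv_id, Spec.map_id, Category.id_comp])
  exact ⟨inv p ≫ q, by rw [Category.assoc, hpq, IsIso.inv_hom_id_assoc]⟩

end Groth.Agent.ResSurf
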