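import Groth.Agent.ResSurf.RegularFactor
import Groth.Prelude.Def_ModelsG

/-!
# Factorization of proper birational morphisms of regular surfaces
-/

universe u

open CategoryTheory CategoryTheory.Limits AlgebraicGeometry IsLocalRing TopologicalSpace

set_option backward.isDefEq.respectTransparency false
set_option backward.isDefEq.respectTransparency.types false
set_option linter.style.haveILetI false
set_option maxHeartbeats 400000

namespace Groth.Agent.ResSurf.RegularFactor

open Groth.Agent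

/-- The points contracted by `f`. -/
def contracted {X Y : Scheme.{u}} (f : X ⟶ Y) : Set X :=
  {ξ | ¬ IsClosed ({ξ} : Set X) ∧ IsClosed ({f ξ} : Set Y)}

theorem isIso_of_finite_fibres {X Y : Scheme.{u}} [IsIntegral X] [IsIntegral Y] (f : X ⟶ Y) [IsProper f]
    (hf : IsBirat f) (hY : Pi1.IsNormalScheme Y) (h : ∀ y, (f ⁻¹' {y}).Finite) : IsIso f := by
  haveI : LocallyQuasiFinite f := LocallyQuasiFinite.of_finite_preimage_singleton _ h
  haveI : IsFinite f := (IsFinite.iff_isProper_and_locallyQuasiFinite f).2 ⟨inferInstance, inferInstance⟩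
  obtain ⟨θ, hθ⟩ := hf
  exact Proj16.isIso_of_isIntegralHom hY f (Spec.map θ.inv ≫ X.fromSpecStalk (genericPoint X))
    (by rw [Category.assoc, ← hθ, ← Spec.map_comp_assoc, Iso.hom_inv_id, Spec.map_id, Category.id_comp])

/-- A proper birational morphism of regular surfaces which is not an isomorphism has an infinite fibre over
a closed point of codimension two. -/
theorem exists_bad_point {X Y : Scheme.{u}} [IsIntegral X] [IsIntegral Y] [IsLocallyNoetherian Y]
    (f : X ⟶ Y) [IsProper f] (hf : IsBirat f) (hY : ∀ y : Y, IsRegularLocalRing (Y.presheaf.stalk y))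
    (hd : topologicalKrullDim Y ≤ 2) (h : ¬ IsIso f) :
    ∃ y : Y, IsClosed ({y} : Set Y) ∧ ringKrullDim (Y.presheaf.stalk y) = 2 ∧ ¬ (f ⁻¹' {y}).Finite := by
  have hYn := isNormalScheme_of_regular hY
  obtain ⟨y, hy⟩ : ∃ y, ¬ (f ⁻¹' {y}).Finite := by
    by_contra hcon
    push Not at hcon
    exact h (isIso_of_finite_fibres f hf hYn hcon)
  have hv : ¬ ValuationRing (Y.presheaf.stalk y) := fun hv => hy (Set.Subsingleton.finite fun a ha b hb => by
    haveI : ValuationRing (Y.presheaf.stalk (f a)) := by rw [show f a = y from ha]; exact hv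
    exact hf.eq_of_valuationRing ((ha : f a = y).trans (hb : f b = y).symm))
  refine ⟨y, ?_, ?_, hy⟩
  · by_contra hcl
    exact hv (valuationRing_of_not_isClosed (𝟙 Y) (isBirat_of_isIso (𝟙 Y)) hYn hd hcl)
  · have h2 := codim_le_of_dim_le (d := 2) (by exact_mod_cast hd) y
    have h1 : ¬ DimFormula.codim y ≤ 1 := fun hle => hv (by
      haveI := hY y
      haveI := RegLoc6.isDomain_of_isRegularLocalRing (Y.presheaf.stalk y)
      haveI := PointExtend.isPrincipalIdealRing_of_dim_le_one (Y.presheaf.stalk y) (by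
        rw [DimFormula.ringKrullDim_stalk]; exact_mod_cast hle)
      exact ValuationRing.iff_local_bezout_domain.2 ⟨inferInstance, inferInstance⟩)
    rw [DimFormula.ringKrullDim_stalk]
    exact_mod_cast (show DimFormula.codim y = 2 by omega)

/-- The blow-up step through which the morphism factors. -/
theorem exists_factor_step {X Y : Scheme.{u}} [IsIntegral X] [IsIntegral Y] [IsNoetherian Y]
    (f : X ⟶ Y) [IsProper f] (hf : IsBirat f) (hX : ∀ x : X, IsRegularLocalRing (X.presheaf.stalk x))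
    (hY : ∀ y : Y, IsRegularLocalRing (Y.presheaf.stalk y)) (hd : topologicalKrullDim Y ≤ 2)
    (hfin : (contracted f).Finite) (hni : ¬ IsIso f) :
    ∃ (Y' : Scheme.{u}) (_ : IsIntegral Y') (_ : IsNoetherian Y') (b : Y' ⟶ Y) (h : X ⟶ Y')
      (y : Y) (hy : IsClosed ({y} : Set Y)),
      h ≫ b = f ∧ IsProper h ∧ IsBirat h ∧ (∀ y' : Y', IsRegularLocalRing (Y'.presheaf.stalk y')) ∧
      topologicalKrullDim Y' ≤ 2 ∧ IsRegularLocalRing (Y.presheaf.stalk y) ∧
      ringKrullDim (Y.presheaf.stalk y) = 2 ∧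
      BlowUp.IsBlowUp b (Scheme.IdealSheafData.vanishingIdeal ⟨{y}, hy⟩) ∧
      (contracted h).Finite ∧ (contracted h).ncard < (contracted f).ncard := by
  obtain ⟨y, hy, hdim, hinf⟩ := exists_bad_point f hf hY hd hni
  obtain ⟨U₀, hU₀, hyU, -⟩ := exists_isAffineOpen_mem_and_subset (x := y) (U := ⊤) trivial
  obtain ⟨F, -, -⟩ := exists_pointFrame hy (hY y) hdim hU₀ hyU
  set C : Y.IdealSheafData := Scheme.IdealSheafData.vanishingIdeal ⟨{y}, hy⟩
  have hsupp : (C.support : Set Y) = {y} := Scheme.IdealSheafData.coe_support_vanishingIdeal _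
  have hC : C.ideal ⟨F.V, F.isAffine⟩ = Ideal.span (Set.range F.r) := by
    haveI := F.isMaximal
    let q₀ : PrimeSpectrum Γ(Y, F.V) := ⟨Ideal.span (Set.range F.r), inferInstance⟩
    rw [Scheme.IdealSheafData.vanishingIdeal_ideal, show
      F.isAffine.fromSpec ⁻¹' ((⟨{y}, hy⟩ : Closeds Y) : Set Y) = {q₀} from
      Set.ext fun q => (F.point q).trans ⟨fun h => PrimeSpectrum.ext h, fun h => congrArg _ h⟩,
      PrimeSpectrum.vanishingIdeal_singleton]
  obtain ⟨Y', b, hb⟩ := BlowUpLib.exists_blowUp (C := C)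
  haveI : IsProper b := BlowUpLib.isProper_of_isBlowUp C hb fun U => by
    have := IsLocallyNoetherian.component_noetherian U
    exact IsNoetherian.noetherian _
  have hgen : genericPoint Y ∉ C.support := fun h => by
    have h1 : genericPoint Y = y := hsupp.le h
    rw [← h1] at hdim
    have h0 : ringKrullDim Y.functionField = 0 := ringKrullDim_eq_zero_of_field _
    rw [h0] at hdim
    exact absurd hdim (by norm_num)
  haveI : IsIntegral Y' := BlowInt.isIntegral hb hgen
  haveI : IsLocallyNoetherian Y' := LocallyOfFiniteType.isLocallyNoetherian b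
  haveI : CompactSpace Y' := QuasiCompact.compactSpace_of_compactSpace b
  haveI : IsNoetherian Y' := ⟨⟩
  let O : Y.Opens := ⟨({y} : Set Y)ᶜ, hy.isOpen_compl⟩
  haveI : IsIso (b ∣_ O) := BlowUpLib.isIso_restrict hb O (fun w hw hws => hw (hsupp.le hws))
  have hbb : IsBirat b := isBirat_of_isIso_restrict b O ⟨genericPoint Y, fun h => hgen (hsupp.ge h)⟩
  haveI : Nonempty (F.V : Scheme.{u}) := ⟨⟨_, F.mem⟩⟩
  haveI : IsDomain Γ(Y, F.V) := IsIntegral.component_integral _
  haveI : IsNoetherianRing Γ(Y, F.V) := IsLocallyNoetherian.component_noetherian ⟨F.V, F.isAffine⟩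
  haveI := F.isMaximal
  -- `Y'` is regular
  have hY' : ∀ y' : Y', IsRegularLocalRing (Y'.presheaf.stalk y') := by
    intro y'
    by_cases hy' : b y' = y
    swap
    · have hmem : b y' ∈ O := hy'
      haveI : IsIso (b.stalkMap y') := (MorphismProperty.arrow_mk_iso_iff (MorphismProperty.isomorphisms _)
        (morphismRestrictStalkMap b O ⟨y', hmem⟩)).mp (show IsIso ((b ∣_ O).stalkMap ⟨y', hmem⟩) by infer_instance)
      haveI := hY (b y')
      exact IsRegularLocalRing.of_ringEquiv (asIso (b.stalkMap y')).commRingCatIsoToRingEquiv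
    obtain ⟨U, hU, hUb, x, x', t, hyU', hch, -⟩ := exists_chart F hb hC y' (hy' ▸ F.mem)
    letI := (b.appLE F.V U hUb).hom.toAlgebra
    obtain ⟨hgen', hxt, hx0, hm, hmx, hq⟩ := hch
    haveI := isNoetherianRing_chart (R := Γ(Y, F.V)) (S := Γ(Y', U)) hgen'
    let q := hU.primeIdealOf ⟨y', hyU'⟩
    have hqm : q.asIdeal.comap (b.appLE F.V U hUb).hom = Ideal.span (Set.range F.r) := by
      refine (F.point (PrimeSpectrum.comap (b.appLE F.V U hUb).hom q)).1 ?_
      have h1 := congrArg (fun k : Spec Γ(Y', U) ⟶ Y => k q) (IsAffineOpen.SpecMap_appLE_fromSpec b F.isAffine hU hUb)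
      simp only [Scheme.Hom.comp_apply] at h1
      rw [hU.fromSpec_primeIdealOf] at h1
      exact h1.trans hy'
    obtain ⟨n, hn, hqn⟩ := q.asIdeal.exists_le_maximal q.isPrime.ne_top
    haveI := hn
    have hxn : algebraMap Γ(Y, F.V) Γ(Y', U) x ∈ n := hqn (by
      have : x ∈ Ideal.span (Set.range F.r) := hm ▸ Ideal.subset_span (Set.mem_insert _ _)
      rw [← hqm] at this
      exact this)
    obtain ⟨hnreg, -⟩ := isRegular_chart (S := Γ(Y', U)) (m := Ideal.span (Set.range F.r)) hgen' hmx hq hx0 n hxn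
    haveI := q.isPrime
    haveI := RegLoc6.regular_of_le hqn hnreg
    letI := Y'.presheaf.algebra_section_stalk (⟨y', hyU'⟩ : U)
    haveI := hU.isLocalization_stalk ⟨y', hyU'⟩
    exact IsRegularLocalRing.of_ringEquiv (IsLocalization.algEquiv q.asIdeal.primeCompl
      (Y'.presheaf.stalk y') (Localization.AtPrime q.asIdeal)).toRingEquiv.symm
  have hY'n := isNormalScheme_of_regular hY'
  have hd' : topologicalKrullDim Y' ≤ 2 := topologicalKrullDim_le_of_birat b hbb hd
  -- the divisorial point over `y`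
  obtain ⟨ξ₀, hξ₀y, hξ₀⟩ : ∃ ξ₀ : Y', b ξ₀ = y ∧ ¬ IsClosed ({ξ₀} : Set Y') := by
    obtain ⟨-, hrange⟩ := isExcCurve_exceptional F hb hC hsupp
    obtain ⟨e, he⟩ : y ∈ Set.range ((BlowUp.exceptional b C).subschemeι ≫ b).base := hrange.ge rfl
    obtain ⟨U, hU, hUb, x, x', t, heU, hch, -⟩ := exists_chart F hb hC ((BlowUp.exceptional b C).subschemeι e)
      ((congrArg (· ∈ F.V) ((Scheme.Hom.comp_apply _ _ _).symm.trans he)).mpr F.mem)
    letI := (b.appLE F.V U hUb).hom.toAlgebra
    obtain ⟨hgen', hxt, hx0, hm, hmx, hq⟩ := hch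
    obtain ⟨eq⟩ := exists_equiv_exceptional (R := Γ(Y, F.V)) (S := Γ(Y', U)) hgen' hmx hq
    letI : Field (Γ(Y, F.V) ⧸ Ideal.span (Set.range F.r)) := Ideal.Quotient.field _
    set J : Ideal Γ(Y', U) := Ideal.span {algebraMap Γ(Y, F.V) Γ(Y', U) x}
    haveI : IsDomain (Γ(Y', U) ⧸ J) := eq.symm.toMulEquiv.isDomain
    have hJp : J.IsPrime := (Ideal.Quotient.isDomain_iff_prime J).1 inferInstance
    have hJm : ¬ J.IsMaximal := fun hmax => by
      have hF := (Ideal.Quotient.maximal_ideal_iff_isField_quotient J).1 hmax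
      exact Polynomial.not_isField _ (eq.toMulEquiv.isField hF)
    refine ⟨hU.fromSpec ⟨J, hJp⟩, ?_, fun hcl => ?_⟩
    · have h1 := congrArg (fun k : Spec Γ(Y', U) ⟶ Y => k ⟨J, hJp⟩) (IsAffineOpen.SpecMap_appLE_fromSpec b F.isAffine hU hUb)
      simp only [Scheme.Hom.comp_apply] at h1
      rw [← h1]
      refine (F.point _).2 (F.isMaximal.eq_of_le ?_ fun r hr => hmx r hr).symm
      exact (PrimeSpectrum.comap (b.appLE F.V U hUb).hom ⟨J, hJp⟩).isPrime.ne_top
    · obtain ⟨n, hn, hJn⟩ := J.exists_le_maximal hJp.ne_top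
      have hsp : hU.fromSpec ⟨J, hJp⟩ ⤳ hU.fromSpec ⟨n, hn.isPrime⟩ :=
        ((PrimeSpectrum.le_iff_specializes _ _).1 (show (⟨J, hJp⟩ : PrimeSpectrum _) ≤ ⟨n, hn.isPrime⟩ from hJn)).map
          hU.fromSpec.continuous
      have h3 := congrArg PrimeSpectrum.asIdeal (hU.fromSpec.isOpenEmbedding.injective (eq_of_specializes_closed hcl hsp))
      have h4 : n = J := h3
      subst h4
      exact hJm hn
  -- `f` factors
  obtain ⟨h, hh⟩ := exists_hom_of_centres (c := f) (f := b) hd hf (isNormalScheme_of_regular hX) hbb hY'n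
    fun ξ hξ hξcl ρ hρ hw => by
      by_cases hξy : b ξ = y
      · exact hinf ((Set.finite_singleton (ρ (closedPoint _))).subset
          (fibre_subsingleton hd f hf hX (hY y) hdim F hb hC hbb hξy hξ ρ hρ hw))
      · obtain ⟨η, hη, hne⟩ := exists_specializes_of_not_isClosed hξ
        have hbη : b η = b ξ := eq_of_specializes_closed hξcl (hη.map b.continuous)
        have hm1 : ξ ∈ b ⁻¹ᵁ O := hξy
        have hm2 : η ∈ b ⁻¹ᵁ O := show b η ∈ O from hbη ▸ hξy
        exact hne (congrArg Subtype.val ((b ∣_ O).isOpenEmbedding.injective (a₁ := ⟨ξ, hm1⟩) (a₂ := ⟨η, hm2⟩)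
          (Subtype.ext (by rw [morphismRestrict_base_coe, morphismRestrict_base_coe]; exact hbη.symm))))
  haveI : IsProper (h ≫ b) := by rw [hh]; infer_instance
  haveI hhp : IsProper h := IsProper.of_comp h b
  have hhb : IsBirat h := (hh ▸ hf : IsBirat (h ≫ b)).of_comp hbb
  have hsub : contracted h ⊆ contracted f := fun ξ hξ => ⟨hξ.1, by
    rw [← hh, Scheme.Hom.comp_apply]
    have := b.isClosedMap _ hξ.2
    rwa [Set.image_singleton] at this⟩
  refine ⟨Y', inferInstance, inferInstance, b, h, y, hy, hh, hhp, hhb, hY', hd', hY y, hdim, hb,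
    hfin.subset hsub, Set.ncard_lt_ncard ⟨hsub, fun hsup => ?_⟩ hfin⟩
  obtain ⟨ξ, hξ⟩ : ∃ ξ, h ξ = ξ₀ := by
    have hcl : IsClosed (Set.range h) := h.isClosedMap.isClosed_range
    have : Set.range h = Set.univ := Set.eq_univ_of_forall fun w =>
      (genericPoint_specializes w).mem_closed hcl ⟨_, hhb.apply_genericPoint⟩
    exact this.ge trivial
  have hξc : ξ ∈ contracted f := ⟨fun hcl => hξ₀ (by
    have := h.isClosedMap _ hcl
    rwa [Set.image_singleton, hξ] at this), by
    rw [← hh, Scheme.Hom.comp_apply, hξ, hξ₀y]; exact hy⟩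
  exact hξ₀ (hξ ▸ (hsup hξc).2)

theorem isContractionSeq_comp_of_not_isIso : ∀ (n : ℕ) {X Y Y₀ : Scheme.{u}} [IsIntegral X] [IsNoetherian X]
    [IsIntegral Y] [IsNoetherian Y] (f : X ⟶ Y) [IsProper f], IsBirat f →
    (∀ x : X, IsRegularLocalRing (X.presheaf.stalk x)) → (∀ y : Y, IsRegularLocalRing (Y.presheaf.stalk y)) →
    topologicalKrullDim Y ≤ 2 → (contracted f).Finite → (contracted f).ncard < n → ¬ IsIso f →
    ∀ (r : Y ⟶ Y₀), Models.IsContractionSeq r → Models.IsContractionSeq (f ≫ r) := by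
  intro n
  induction n with
  | zero => intro X Y Y₀ _ _ _ _ f _ _ _ _ _ _ hlt; exact absurd hlt (Nat.not_lt_zero _)
  | succ n ih =>
    intro X Y Y₀ _ _ _ _ f _ hf hX hY hd hfin hlt hni r hr
    obtain ⟨Y', _, _, b, h, y, hy, hh, hhp, hhb, hY', hd', hreg, hdim, hb, hfin', hlt'⟩ :=
      exists_factor_step f hf hX hY hd hfin hni
    obtain ⟨U₀, hU₀, hyU, -⟩ := exists_isAffineOpen_mem_and_subset (x := y) (U := ⊤) trivial
    obtain ⟨F, -, -⟩ := exists_pointFrame hy hreg hdim hU₀ hyU
    set C : Y.IdealSheafData := Scheme.IdealSheafData.vanishingIdeal ⟨{y}, hy⟩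
    have hsupp : (C.support : Set Y) = {y} := Scheme.IdealSheafData.coe_support_vanishingIdeal _
    have hC : C.ideal ⟨F.V, F.isAffine⟩ = Ideal.span (Set.range F.r) := by
      haveI := F.isMaximal
      let q₀ : PrimeSpectrum Γ(Y, F.V) := ⟨Ideal.span (Set.range F.r), inferInstance⟩
      rw [Scheme.IdealSheafData.vanishingIdeal_ideal, show
        F.isAffine.fromSpec ⁻¹' ((⟨{y}, hy⟩ : Closeds Y) : Set Y) = {q₀} from
        Set.ext fun q => (F.point q).trans ⟨fun h => PrimeSpectrum.ext h, fun h => congrArg _ h⟩,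
        PrimeSpectrum.vanishingIdeal_singleton]
    haveI := hhp
    by_cases hiso : IsIso h
    · have hbl : BlowUp.IsBlowUp f C := hh ▸ BlowUpLib.isBlowUp_iso_comp h hb
      haveI : IsProper f := inferInstance
      obtain ⟨hexc, hrange⟩ := isExcCurve_exceptional F hbl hC hsupp
      exact Models.IsContractionSeq.step (BlowUp.exceptional f C).subschemeι f r inferInstance hexc
        ⟨inferInstance, inferInstance, y, hy, hrange, hreg, hdim, hbl⟩ hr
    · haveI : IsProper b := BlowUpLib.isProper_of_isBlowUp C hb fun U => by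
        have := IsLocallyNoetherian.component_noetherian U
        exact IsNoetherian.noetherian _
      obtain ⟨hexc, hrange⟩ := isExcCurve_exceptional F hb hC hsupp
      rw [← hh, Category.assoc]
      exact ih h hhb hX hY' hd' hfin' (by omega) hiso (b ≫ r)
        (Models.IsContractionSeq.step (BlowUp.exceptional b C).subschemeι b r inferInstance hexc
          ⟨inferInstance, inferInstance, y, hy, hrange, hreg, hdim, hb⟩ hr)

/-- A proper birational morphism of regular surfaces is a sequence of point blow-ups. -/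
theorem isContractionSeq {X Y : Scheme.{u}} [IsIntegral X] [IsNoetherian X] [IsIntegral Y] [IsNoetherian Y]
    (f : X ⟶ Y) [IsProper f] (hX : ∀ x : X, IsRegularLocalRing (X.presheaf.stalk x))
    (hY : ∀ y : Y, IsRegularLocalRing (Y.presheaf.stalk y)) (hd : topologicalKrullDim Y ≤ 2)
    (U : Y.Opens) (hU : (U : Set Y).Nonempty) [IsIso (f ∣_ U)] : Models.IsContractionSeq f := by
  by_cases hni : IsIso f
  · exact Models.IsContractionSeq.iso (asIso f)
  have hf : IsBirat f := isBirat_of_isIso_restrict f U hU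
  have h := isContractionSeq_comp_of_not_isIso _ f hf hX hY hd (finite_nonclosed f hf hd U hU)
    (Nat.lt_succ_self _) hni (𝟙 Y) (Models.IsContractionSeq.iso (Iso.refl Y))
  rwa [Category.comp_id] at h

end Groth.Agent.ResSurf.RegularFactor
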