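import Groth.Agent.BlowUpLib.Glue
import Groth.Agent.BlowUpX.Basic
import Groth.Agent.FComplLib.IdealComap
import Groth.Agent.CIntLib.BlowExc
import Mathlib.AlgebraicGeometry.ValuativeCriterion
import Mathlib.AlgebraicGeometry.SpreadingOut
import Mathlib.RingTheory.Localization.NumDen

/-!
# Dominating a birational proper morphism

For `f : X ⟶ Spec A` proper with a section over the fraction field there are finitely many ideals
generated by two coprime elements such that a dominant morphism from an integral scheme on which they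
all become invertible factors through `f`.
-/

universe u

open CategoryTheory CategoryTheory.Limits AlgebraicGeometry TopologicalSpace

set_option backward.isDefEq.respectTransparency false

namespace Groth.Agent.ResSurf

open Groth.Agent BlowUpLib

variable {A : Type u} [CommRing A]

theorem centre_injective {I J : Ideal A} (h : centre I = centre J) : I = J := by
  have h1 := congrArg (fun C : (Spec (CommRingCat.of A)).IdealSheafData => C.ideal ⟨⊤, isAffineOpen_top _⟩) h
  simp only [centre_top] at h1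
  have hb := (Scheme.ΓSpecIso (CommRingCat.of A)).commRingCatIsoToRingEquiv.symm.bijective
  rw [← Ideal.comap_map_of_bijective (I := I) _ hb, ← Ideal.comap_map_of_bijective (I := J) _ hb]
  exact congrArg (Ideal.comap _) h1

theorem centre_mul (I J : Ideal A) : centre (I * J) = centre I * centre J := by
  refine Scheme.IdealSheafData.ext_of_isAffine ?_
  rw [Scheme.IdealSheafData.ideal_mul, Pi.mul_apply, centre_top, centre_top, centre_top, Ideal.map_mul]

/-- The inverse image of a centre on an affine open. -/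
theorem comap_centre_ideal {Z : Scheme.{u}} (p : Z ⟶ Spec (CommRingCat.of A)) (I : Ideal A)
    (U : Z.affineOpens) :
    ((centre I).comap p).ideal U = I.map (Spec.preimage (U.2.fromSpec ≫ p)).hom := by
  refine centre_injective ?_
  rw [← BlowUpLib.comap_fromSpec, ← CIntLib.centre_comap_specMap, ← Scheme.IdealSheafData.comap_comp]
  exact congrArg (centre I).comap (Spec.map_preimage _).symm

/-- The pullback of a principalised pair generates a principal ideal in each stalk. -/
theorem exists_generator_stalk {Z : Scheme.{u}} [IsIntegral Z] (p : Z ⟶ Spec (CommRingCat.of A))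
    (a b : A) (h : BlowUp.IsEffCartierIdeal ((centre (Ideal.span {a, b})).comap p)) (z : Z) :
    ∃ t : Z.presheaf.stalk z, t ≠ 0 ∧
      Ideal.span {(Spec.preimage (Z.fromSpecStalk z ≫ p)).hom a,
        (Spec.preimage (Z.fromSpecStalk z ≫ p)).hom b} = Ideal.span {t} := by
  obtain ⟨U, hz, t, ht, hU⟩ := h z
  rw [comap_centre_ideal] at hU
  haveI : Nonempty (U.1 : Scheme.{u}) := ⟨⟨z, hz⟩⟩
  haveI : IsDomain Γ(Z, U.1) := IsIntegral.component_integral U.1
  let g := Z.presheaf.germ U.1 z hz
  have hc : Spec.preimage (Z.fromSpecStalk z ≫ p) = Spec.preimage (U.2.fromSpec ≫ p) ≫ g := by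
    apply Spec.map_injective
    rw [Spec.map_preimage, Spec.map_comp, Spec.map_preimage, ← IsAffineOpen.fromSpecStalk_eq_fromSpecStalk U.2 hz,
      IsAffineOpen.fromSpecStalk, Category.assoc]
  refine ⟨g t, fun h0 => nonZeroDivisors.ne_zero ht ?_, ?_⟩
  · exact germ_injective_of_isIntegral (X := Z) z hz (h0.trans (map_zero g.hom).symm)
  · have h1 := congrArg (Ideal.map g.hom) hU
    rw [Ideal.map_span, Set.image_pair, Ideal.map_span, Set.image_pair, Ideal.map_span,
      Set.image_singleton] at h1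
    rw [hc]
    exact h1

/-- An element of a field whose product with `b` is `a`, lying in a valuation ring dominating the
local ring `R`, lies in `R` when `(a,b)` is principal. -/
theorem exists_preimage_of_principal {R L : Type u} [CommRing R] [IsDomain R] [IsLocalRing R] [Field L]
    (i : R →+* L) (hi : Function.Injective i) (V : ValuationSubring L) (hV : ∀ r, i r ∈ V)
    [hl : IsLocalHom (i.codRestrict V.toSubring hV)] {a b : R} {x : L} (hx : x ∈ V)
    (he : x * i b = i a) (hp : ∃ t, t ≠ 0 ∧ Ideal.span {a, b} = Ideal.span {t}) :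
    ∃ r, i r = x := by
  obtain ⟨t, ht0, ht⟩ := hp
  obtain ⟨α, hα⟩ := Ideal.mem_span_singleton'.1 (ht ▸ (Ideal.subset_span (Set.mem_insert a {b}) : a ∈ Ideal.span {a, b}))
  obtain ⟨β, hβ⟩ := Ideal.mem_span_singleton'.1
    (ht ▸ (Ideal.subset_span (Set.mem_insert_of_mem a rfl) : b ∈ Ideal.span {a, b}))
  obtain ⟨u, v, huv⟩ := Ideal.mem_span_pair.1 (ht.symm ▸ Ideal.mem_span_singleton_self t)
  have h1 : u * α + v * β = 1 := mul_right_cancel₀ ht0 (by rw [one_mul]; linear_combination huv + u * hα + v * hβ)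
  have he' : x * i β = i α := by
    refine mul_right_cancel₀ ((map_ne_zero_iff i hi).2 ht0) ?_
    rw [mul_assoc, ← map_mul, ← map_mul, hα, hβ, he]
  by_cases hβu : IsUnit β
  · obtain ⟨w, rfl⟩ := hβu
    refine ⟨α * ↑w⁻¹, ?_⟩
    rw [map_mul, ← he', mul_assoc, ← map_mul, Units.mul_inv, map_one, mul_one]
  · exfalso
    have hα' : IsUnit α := by
      rcases IsLocalRing.isUnit_or_isUnit_of_add_one h1 with h | h
      · exact isUnit_of_mul_isUnit_right h
      · exact absurd (isUnit_of_mul_isUnit_right h) hβu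
    refine hβu (hl.map_nonunit β (isUnit_of_mul_isUnit_right (x := (⟨x, hx⟩ : V)) ?_))
    have h2 : (⟨x, hx⟩ : V) * i.codRestrict V.toSubring hV β = i.codRestrict V.toSubring hV α :=
      Subtype.ext he'
    exact h2 ▸ hα'.map _

variable [IsDomain A] [UniqueFactorizationMonoid A]

omit [UniqueFactorizationMonoid A] in
/-- The generators of an affine piece, written over the fraction field. -/
theorem exists_affine_hom {X : Scheme.{u}} (f : X ⟶ Spec (CommRingCat.of A))
    (e : Spec (CommRingCat.of (FractionRing A)) ⟶ X)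
    (he : e ≫ f = Spec.map (CommRingCat.ofHom (algebraMap A (FractionRing A))))
    {W : X.Opens} (hW : IsAffineOpen W) (hr : Set.range e ⊆ W) :
    ∃ ι : Γ(X, W) →+* FractionRing A,
      Spec.map (CommRingCat.ofHom ι) ≫ hW.fromSpec = e ∧
      ι.comp (Spec.preimage (hW.fromSpec ≫ f)).hom = algebraMap A (FractionRing A) := by
  let e' : Spec (CommRingCat.of (FractionRing A)) ⟶ Spec Γ(X, W) :=
    IsOpenImmersion.lift hW.fromSpec e (hW.range_fromSpec.symm ▸ hr)
  refine ⟨(Spec.preimage e').hom, ?_, ?_⟩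
  · rw [CommRingCat.ofHom_hom, Spec.map_preimage, IsOpenImmersion.lift_fac]
  · refine congrArg CommRingCat.Hom.hom (?_ : Spec.preimage (hW.fromSpec ≫ f) ≫ Spec.preimage e' = CommRingCat.ofHom _)
    apply Spec.map_injective
    rw [Spec.map_comp, Spec.map_preimage, Spec.map_preimage, IsOpenImmersion.lift_fac_assoc, he]
    rfl

omit [UniqueFactorizationMonoid A] in
/-- Finitely many pairs describe the generators of the affine pieces. -/
theorem exists_pairs (Q : A × A → Prop)
    (hQ : ∀ z : FractionRing A, ∃ a b : A, b ≠ 0 ∧ Q (a, b) ∧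
      z * algebraMap A (FractionRing A) b = algebraMap A (FractionRing A) a) {X : Scheme.{u}} (f : X ⟶ Spec (CommRingCat.of A)) [QuasiCompact f]
    [LocallyOfFiniteType f] (e : Spec (CommRingCat.of (FractionRing A)) ⟶ X)
    (he : e ≫ f = Spec.map (CommRingCat.ofHom (algebraMap A (FractionRing A)))) :
    ∃ P : Finset (A × A), (∀ q ∈ P, q.2 ≠ 0 ∧ Q q) ∧
      ∀ x : X, ∃ (W : X.Opens) (hW : IsAffineOpen W), x ∈ W ∧ (Set.range e ⊆ W →
        ∃ ι : Γ(X, W) →+* FractionRing A,
          Spec.map (CommRingCat.ofHom ι) ≫ hW.fromSpec = e ∧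
          ι.comp (Spec.preimage (hW.fromSpec ≫ f)).hom = algebraMap A (FractionRing A) ∧
          ∃ s : Set Γ(X, W),
            Subring.closure (Set.range (Spec.preimage (hW.fromSpec ≫ f)).hom ∪ s) = ⊤ ∧
            ∀ g ∈ s, ∃ q ∈ P, ι g * algebraMap A _ q.2 = algebraMap A _ q.1) := by
  classical
  haveI : CompactSpace X := QuasiCompact.compactSpace_of_compactSpace f
  choose W hW hxW _ using fun x : X => exists_isAffineOpen_mem_and_subset (x := x) (U := ⊤) trivial
  obtain ⟨T, hT⟩ := isCompact_univ.elim_finite_subcover (fun x : X => (W x : Set X))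
    (fun x => (W x).isOpen) (fun x _ => Set.mem_iUnion.2 ⟨x, hxW x⟩)
  have key : ∀ x : X, ∃ P : Finset (A × A), (∀ q ∈ P, q.2 ≠ 0 ∧ Q q) ∧
      (Set.range e ⊆ W x → ∃ ι : Γ(X, W x) →+* FractionRing A,
          Spec.map (CommRingCat.ofHom ι) ≫ (hW x).fromSpec = e ∧
          ι.comp (Spec.preimage ((hW x).fromSpec ≫ f)).hom = algebraMap A (FractionRing A) ∧
          ∃ s : Set Γ(X, W x),
            Subring.closure (Set.range (Spec.preimage ((hW x).fromSpec ≫ f)).hom ∪ s) = ⊤ ∧
            ∀ g ∈ s, ∃ q ∈ P, ι g * algebraMap A _ q.2 = algebraMap A _ q.1) := by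
    intro x
    by_cases hr : Set.range e ⊆ W x
    swap
    · exact ⟨∅, by simp, fun h => absurd h hr⟩
    obtain ⟨ι, hι, hιa⟩ := exists_affine_hom f e he (hW x) hr
    let φ := (Spec.preimage ((hW x).fromSpec ≫ f)).hom
    have hft : φ.FiniteType :=
      (HasRingHomProperty.Spec_iff (P := @LocallyOfFiniteType)).1
        (by rw [Spec.map_preimage]; infer_instance)
    letI := φ.toAlgebra
    obtain ⟨s, hs⟩ := hft
    choose a b hb0 hab hmk using fun g : Γ(X, W x) => hQ (ι g)
    refine ⟨s.image fun g => (a g, b g), ?_, fun _ => ⟨ι, hι, hιa, s, ?_, fun g hg => ?_⟩⟩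
    · intro q hq
      obtain ⟨g, -, rfl⟩ := Finset.mem_image.1 hq
      exact ⟨hb0 g, hab g⟩
    · show Subring.closure (Set.range (algebraMap A Γ(X, W x)) ∪ (s : Set Γ(X, W x))) = ⊤
      rw [← Algebra.adjoin_eq_ring_closure (R := A) (s : Set Γ(X, W x)), hs]
      rfl
    · exact ⟨_, Finset.mem_image.2 ⟨g, hg, rfl⟩, hmk g⟩
  choose P hP hkey using key
  refine ⟨T.biUnion P, fun q hq => ?_, fun x => ?_⟩
  · obtain ⟨y, -, hy⟩ := Finset.mem_biUnion.1 hq
    exact hP y q hy
  · obtain ⟨y, hy, hxy⟩ := Set.mem_iUnion₂.1 (hT (Set.mem_univ x))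
    refine ⟨W y, hW y, hxy, fun hr => ?_⟩
    obtain ⟨ι, h1, h2, s, h3, h4⟩ := hkey y hr
    exact ⟨ι, h1, h2, s, h3, fun g hg => by
      obtain ⟨q, hq, hq'⟩ := h4 g hg
      exact ⟨q, Finset.mem_biUnion.2 ⟨y, hy, hq⟩, hq'⟩⟩

omit [UniqueFactorizationMonoid A] in
/-- A morphism `f : X ⟶ Spec A`, proper with a rational section, is dominated by every integral scheme
on which finitely many ideals generated by two elements become invertible. -/
theorem exists_pairs_dominating_of (Q : A × A → Prop)
    (hQ : ∀ z : FractionRing A, ∃ a b : A, b ≠ 0 ∧ Q (a, b) ∧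
      z * algebraMap A (FractionRing A) b = algebraMap A (FractionRing A) a) {X : Scheme.{u}} (f : X ⟶ Spec (CommRingCat.of A)) [IsProper f]
    (e : Spec (CommRingCat.of (FractionRing A)) ⟶ X)
    (he : e ≫ f = Spec.map (CommRingCat.ofHom (algebraMap A (FractionRing A)))) :
    ∃ P : Finset (A × A), (∀ q ∈ P, q.2 ≠ 0 ∧ Q q) ∧
      ∀ (Z : Scheme.{u}) (p : Z ⟶ Spec (CommRingCat.of A)), IsIntegral Z → IsDominant p →
        (∀ q ∈ P, BlowUp.IsEffCartierIdeal ((centre (Ideal.span {q.1, q.2})).comap p)) →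
        ∃ h : Z ⟶ X, h ≫ f = p := by
  obtain ⟨P, hP, hcov⟩ := exists_pairs Q hQ f e he
  refine ⟨P, hP, fun Z p _ _ hZ => ?_⟩
  let η := genericPoint Z
  let L := Z.functionField
  let φL : A →+* L := (Spec.preimage (Z.fromSpecStalk η ≫ p)).hom
  have hφL : Function.Injective φL := by
    haveI : IsDominant (Z.fromSpecStalk η) := by
      refine ⟨?_⟩
      have h : η ∈ Set.range (Z.fromSpecStalk η) := ⟨IsLocalRing.closedPoint _, Scheme.fromSpecStalk_closedPoint⟩
      exact Dense.mono (Set.singleton_subset_iff.2 h) (dense_iff_closure_eq.2 (genericPoint_spec Z))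
    haveI hd : IsDominant (Spec.map (Spec.preimage (Z.fromSpecStalk η ≫ p))) := by
      rw [Spec.map_preimage]; infer_instance
    have hd' : DenseRange (PrimeSpectrum.comap φL) := hd.denseRange
    rw [PrimeSpectrum.denseRange_comap_iff_ker_le_nilRadical, nilradical_eq_zero] at hd'
    exact (RingHom.injective_iff_ker_eq_bot _).2 (le_bot_iff.1 hd')
  let j : FractionRing A →+* L := IsFractionRing.lift hφL
  have hj : j.comp (algebraMap A (FractionRing A)) = φL := RingHom.ext (IsFractionRing.lift_algebraMap hφL)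
  let eL : Spec (CommRingCat.of L) ⟶ X := Spec.map (CommRingCat.ofHom j) ≫ e
  have heL : eL ≫ f = Z.fromSpecStalk η ≫ p := by
    simp only [eL, Category.assoc, he, ← Spec.map_comp]
    rw [← CommRingCat.ofHom_comp, hj]
    exact Spec.map_preimage _
  have hloc : ∀ z : Z, ∃ (U : Z.Opens) (_ : z ∈ U) (k : (U : Scheme.{u}) ⟶ X) (hη : η ∈ U),
      k ≫ f = U.ι ≫ p ∧ U.fromSpecStalkOfMem η hη ≫ k = eL := by
    intro z
    let i : Z.presheaf.stalk z →+* L := algebraMap (Z.presheaf.stalk z) Z.functionField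
    have hi : Function.Injective i := IsFractionRing.injective (Z.presheaf.stalk z) Z.functionField
    have hiη : Spec.map (CommRingCat.ofHom i) ≫ Z.fromSpecStalk z = Z.fromSpecStalk η :=
      Scheme.SpecMap_stalkSpecializes_fromSpecStalk (genericPoint_specializes z)
    let φz : A →+* Z.presheaf.stalk z := (Spec.preimage (Z.fromSpecStalk z ≫ p)).hom
    have hφz : i.comp φz = φL := by
      refine congrArg CommRingCat.Hom.hom (?_ : Spec.preimage (Z.fromSpecStalk z ≫ p) ≫ CommRingCat.ofHom i =
        Spec.preimage (Z.fromSpecStalk η ≫ p))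
      apply Spec.map_injective
      rw [Spec.map_comp, Spec.map_preimage, Spec.map_preimage, reassoc_of% hiη]
    obtain ⟨V, hV, hVl⟩ := IsLocalRing.exists_factor_valuationRing i
    let iV : Z.presheaf.stalk z →+* V := i.codRestrict V.toSubring hV
    have hsq : CommSq eL (Spec.map (CommRingCat.ofHom (algebraMap V L))) f
        (Spec.map (CommRingCat.ofHom iV) ≫ Z.fromSpecStalk z ≫ p) := ⟨by
      rw [heL, ← hiη, ← Spec.map_comp_assoc, Category.assoc]
      rfl⟩
    have hex : ValuativeCriterion.Existence f := by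
      have h : (ValuativeCriterion ⊓ @QuasiCompact ⊓ @QuasiSeparated ⊓ @LocallyOfFiniteType) f := by
        rw [← IsProper.eq_valuativeCriterion]; infer_instance
      exact (ValuativeCriterion.eq ▸ h.1.1.1).1
    obtain ⟨⟨l, hl1', hl2⟩⟩ := (hex ⟨V, L, eL, _, hsq⟩).exists_lift
    have hl1 : Spec.map (CommRingCat.ofHom (algebraMap V L)) ≫ l = eL := hl1'
    obtain ⟨W, hW, hxW, hgen⟩ := hcov (l (IsLocalRing.closedPoint V))
    have hlW : Set.range l ⊆ W := by
      rintro _ ⟨v, rfl⟩
      exact ((IsLocalRing.specializes_closedPoint v).map l.continuous).mem_open W.isOpen hxW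
    have hre : Set.range e ⊆ W := by
      rintro _ ⟨v, rfl⟩
      obtain ⟨v', hv'⟩ : ∃ v', eL v' = e v := ⟨Classical.arbitrary _, by
        simp only [eL, Scheme.Hom.comp_apply]
        exact congrArg e (Subsingleton.elim (α := PrimeSpectrum (FractionRing A)) _ _)⟩
      rw [← hv', ← hl1, Scheme.Hom.comp_apply]
      exact hlW ⟨_, rfl⟩
    obtain ⟨ι, hι, hιa, s, hs, hgs⟩ := hgen hre
    let ρ := (Spec.preimage (IsOpenImmersion.lift hW.fromSpec l (hW.range_fromSpec.symm ▸ hlW))).hom
    have hρ : ∀ g, j (ι g) = (ρ g : L) := by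
      have h : CommRingCat.ofHom (j.comp ι) = CommRingCat.ofHom ρ ≫ CommRingCat.ofHom (algebraMap V L) := by
        apply Spec.map_injective
        rw [← cancel_mono hW.fromSpec, CommRingCat.ofHom_comp, Spec.map_comp, Spec.map_comp, Category.assoc,
          Category.assoc, hι, CommRingCat.ofHom_hom, Spec.map_preimage, IsOpenImmersion.lift_fac, hl1]
      exact fun g => congr($h g)
    have hmem : ∀ g, j (ι g) ∈ i.range := by
      suffices (⊤ : Subring Γ(X, W)) ≤ i.range.comap (j.comp ι) from fun g => this (Subring.mem_top g)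
      rw [← hs, Subring.closure_le]
      rintro g (⟨a, rfl⟩ | hg)
      · refine ⟨φz a, ?_⟩
        rw [RingHom.comp_apply, ← RingHom.comp_apply ι, hιa, ← RingHom.comp_apply, hφz]
        exact (congr($hj a)).symm
      · obtain ⟨q, hq, hq'⟩ := hgs g hg
        haveI := hVl
        refine exists_preimage_of_principal i hi V hV (x := j (ι g)) (hρ g ▸ (ρ g).2)
          (a := φz q.1) (b := φz q.2) ?_ (exists_generator_stalk p q.1 q.2 (hZ q hq) z)
        have h := congrArg j hq'
        rw [map_mul, show j (algebraMap A _ q.1) = φL q.1 from congr($hj q.1),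
          show j (algebraMap A _ q.2) = φL q.2 from congr($hj q.2)] at h
        rw [← RingHom.comp_apply i, ← RingHom.comp_apply i, hφz]
        exact h
    choose θ₀ hθ₀ using hmem
    let θ : Γ(X, W) →+* Z.presheaf.stalk z :=
      { toFun := θ₀
        map_one' := hi (by rw [hθ₀, map_one, map_one, map_one])
        map_mul' := fun a b => hi (by rw [hθ₀, map_mul, map_mul, map_mul, hθ₀, hθ₀])
        map_zero' := hi (by rw [hθ₀, map_zero, map_zero, map_zero])
        map_add' := fun a b => hi (by rw [hθ₀, map_add, map_add, map_add, hθ₀, hθ₀]) }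
    have hθ : i.comp θ = j.comp ι := RingHom.ext hθ₀
    let hz : Spec (Z.presheaf.stalk z) ⟶ X := Spec.map (CommRingCat.ofHom θ) ≫ hW.fromSpec
    have hzf : hz ≫ f = Z.fromSpecStalk z ≫ p := by
      rw [show Z.fromSpecStalk z ≫ p = Spec.map (CommRingCat.ofHom φz) from (Spec.map_preimage _).symm]
      simp only [hz, Category.assoc]
      rw [← Spec.map_preimage (hW.fromSpec ≫ f), ← Spec.map_comp]
      refine congrArg _ (CommRingCat.hom_ext (RingHom.ext fun a => hi ?_))
      show (i.comp θ) ((Spec.preimage (hW.fromSpec ≫ f)).hom a) = (i.comp φz) a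
      rw [hθ, hφz, RingHom.comp_apply, ← RingHom.comp_apply ι, hιa, ← RingHom.comp_apply, hj]
    have hzη : Spec.map (CommRingCat.ofHom i) ≫ hz = eL := by
      simp only [hz, eL]
      rw [← Spec.map_comp_assoc, ← CommRingCat.ofHom_comp, hθ, CommRingCat.ofHom_comp, Spec.map_comp,
        Category.assoc, hι]
    obtain ⟨U, hzU, k, hk, hkf⟩ := spread_out_of_isGermInjective' p f hz hzf
    have hη : η ∈ U := (genericPoint_specializes z).mem_open U.isOpen hzU
    refine ⟨U, hzU, k, hη, hkf, ?_⟩
    have h : Spec.map (CommRingCat.ofHom i) ≫ U.fromSpecStalkOfMem z hzU = U.fromSpecStalkOfMem η hη := by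
      rw [← cancel_mono U.ι, Category.assoc, Scheme.Opens.fromSpecStalkOfMem_ι, Scheme.Opens.fromSpecStalkOfMem_ι, hiη]
    rw [← h, Category.assoc, ← hk, hzη]
  choose U hzU k hη hk hkη using hloc
  let 𝒰 : Z.OpenCover := Z.openCoverOfIsOpenCover U
    (IsOpenCover.mk (eq_top_iff.2 fun z _ => Opens.mem_iSup.2 ⟨z, hzU z⟩))
  refine ⟨𝒰.glueMorphisms k fun x y => ?_, 𝒰.hom_ext _ _ fun x => ?_⟩
  · show pullback.fst (U x).ι (U y).ι ≫ k x = pullback.snd (U x).ι (U y).ι ≫ k y
    let P₂ := pullback (U x).ι (U y).ι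
    haveI : IsReduced P₂ := isReduced_of_isOpenImmersion (pullback.fst (U x).ι (U y).ι ≫ (U x).ι)
    let q : Spec (Z.presheaf.stalk η) ⟶ P₂ :=
      pullback.lift ((U x).fromSpecStalkOfMem η (hη x)) ((U y).fromSpecStalkOfMem η (hη y))
        (by rw [Scheme.Opens.fromSpecStalkOfMem_ι, Scheme.Opens.fromSpecStalkOfMem_ι])
    have hq : q ≫ pullback.fst _ _ ≫ (U x).ι = Z.fromSpecStalk η := by
      simp only [q, pullback.lift_fst_assoc, Scheme.Opens.fromSpecStalkOfMem_ι]
    let o := pullback.fst (U x).ι (U y).ι ≫ (U x).ι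
    haveI : IsDominant q := by
      refine ⟨?_⟩
      have h1 : Dense (o ⁻¹' {η}) := by
        refine (Dense.preimage (?_ : Dense ({η} : Set Z)) o.isOpenEmbedding.isOpenMap)
        exact fun w => (genericPoint_specializes w).mem_closure
      refine h1.mono fun w hw => ⟨IsLocalRing.closedPoint _, o.isOpenEmbedding.injective ?_⟩
      rw [← Scheme.Hom.comp_apply, show q ≫ o = Z.fromSpecStalk η from hq, Scheme.fromSpecStalk_closedPoint]
      exact hw.symm
    refine ext_of_isDominant_of_isSeparated f ?_ q ?_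
    · rw [Category.assoc, Category.assoc]
      show pullback.fst (U x).ι (U y).ι ≫ k x ≫ f = pullback.snd (U x).ι (U y).ι ≫ k y ≫ f
      rw [hk, hk, pullback.condition_assoc]
    · show q ≫ pullback.fst (U x).ι (U y).ι ≫ k x = q ≫ pullback.snd (U x).ι (U y).ι ≫ k y
      simp only [q, pullback.lift_fst_assoc, pullback.lift_snd_assoc, hkη]
  · rw [Scheme.Cover.ι_glueMorphisms_assoc]
    exact hk x

/-- A morphism `f : X ⟶ Spec A`, proper with a rational section, is dominated by every integral scheme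
on which finitely many ideals generated by coprime pairs become invertible. -/
theorem exists_pairs_dominating {X : Scheme.{u}} (f : X ⟶ Spec (CommRingCat.of A)) [IsProper f]
    (e : Spec (CommRingCat.of (FractionRing A)) ⟶ X)
    (he : e ≫ f = Spec.map (CommRingCat.ofHom (algebraMap A (FractionRing A)))) :
    ∃ P : Finset (A × A), (∀ q ∈ P, q.2 ≠ 0 ∧ IsRelPrime q.1 q.2) ∧
      ∀ (Z : Scheme.{u}) (p : Z ⟶ Spec (CommRingCat.of A)), IsIntegral Z → IsDominant p →
        (∀ q ∈ P, BlowUp.IsEffCartierIdeal ((centre (Ideal.span {q.1, q.2})).comap p)) →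
        ∃ h : Z ⟶ X, h ≫ f = p :=
  exists_pairs_dominating_of (fun q => IsRelPrime q.1 q.2) (fun z => by
    obtain ⟨a, b, hab, hmk⟩ := IsFractionRing.exists_reduced_fraction A z
    exact ⟨a, b, nonZeroDivisors.coe_ne_zero _, hab, by rw [← hmk]; exact IsLocalization.mk'_spec _ _ _⟩) f e he

end Groth.Agent.ResSurf
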