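import Mathlib.RingTheory.Length
import Mathlib.RingTheory.Adjoin.Polynomial.Basic
import Mathlib.RingTheory.Polynomial.Basic
import Mathlib.RingTheory.RegularLocalRing.Defs
import Mathlib.RingTheory.KrullDimension.Regular
import Mathlib.RingTheory.Ideal.KrullsHeightTheorem
import Mathlib.RingTheory.Artinian.Ring

/-!
# The coordinate ring of a chart of the blowing up of a maximal ideal with two generators

`S = R[t]` with `x t = y`, `x` regular and `S/xS = (R/m)[T]`: its local rings at maximal ideals over
`m` are regular of dimension two.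
-/

universe u v

set_option maxHeartbeats 400000

namespace Groth.Agent.ResSurf

open Polynomial

/-- Quotients of finite length have finitely many primes, all maximal. -/
theorem primes_of_finiteLength {S : Type u} [CommRing S] {J : Ideal S}
    (h : Module.length S (S ⧸ J) ≠ ⊤) :
    {P : Ideal S | P.IsPrime ∧ J ≤ P}.Finite ∧ ∀ P : Ideal S, P.IsPrime → J ≤ P → P.IsMaximal := by
  have hf := isFiniteLength_iff_isNoetherian_isArtinian.1 (Module.length_ne_top_iff.1 h)
  haveI : IsArtinianRing (S ⧸ J) := isArtinian_of_tower S hf.2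
  have hmax : ∀ P : Ideal S, P.IsPrime → J ≤ P → P.IsMaximal := fun P hP hJP => by
    haveI := Ideal.map_isPrime_of_surjective (I := P) (H := hP) (f := Ideal.Quotient.mk J) Ideal.Quotient.mk_surjective
      (by rw [Ideal.mk_ker]; exact hJP)
    haveI : (P.map (Ideal.Quotient.mk J)).IsMaximal := IsArtinianRing.isMaximal_of_isPrime _
    have h1 := Ideal.comap_isMaximal_of_surjective (Ideal.Quotient.mk J) Ideal.Quotient.mk_surjective
      (K := P.map (Ideal.Quotient.mk J))
    rwa [Ideal.comap_map_of_surjective _ Ideal.Quotient.mk_surjective, ← RingHom.ker_eq_comap_bot,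
      Ideal.mk_ker, sup_eq_left.2 hJP] at h1
  refine ⟨?_, hmax⟩
  have hfin : (Set.range fun Q : PrimeSpectrum (S ⧸ J) => Q.asIdeal.comap (Ideal.Quotient.mk J)).Finite :=
    Set.finite_range _
  refine hfin.subset ?_
  rintro P ⟨hP, hJP⟩
  haveI := Ideal.map_isPrime_of_surjective (I := P) (H := hP) (f := Ideal.Quotient.mk J) Ideal.Quotient.mk_surjective
    (by rw [Ideal.mk_ker]; exact hJP)
  refine ⟨⟨P.map (Ideal.Quotient.mk J), inferInstance⟩, ?_⟩
  show Ideal.comap _ (P.map (Ideal.Quotient.mk J)) = P
  rw [Ideal.comap_map_of_surjective _ Ideal.Quotient.mk_surjective, ← RingHom.ker_eq_comap_bot,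
    Ideal.mk_ker, sup_eq_left.2 hJP]

variable {R : Type u} [CommRing R] {S : Type v} [CommRing S] [Algebra R S] {x : R} {t : S}
  {m : Ideal R}

theorem isNoetherianRing_chart [IsNoetherianRing R] (hgen : Algebra.adjoin R {t} = ⊤) :
    IsNoetherianRing S := by
  refine isNoetherianRing_of_surjective R[X] S (Polynomial.aeval t).toRingHom fun s => ?_
  have hs : s ∈ Algebra.adjoin R {t} := hgen ▸ Algebra.mem_top
  rw [Algebra.adjoin_singleton_eq_range_aeval] at hs
  exact hs

/-- The exceptional ring of a chart is a polynomial ring over `R/m`. -/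
theorem exists_equiv_exceptional (hgen : Algebra.adjoin R {t} = ⊤)
    (hm : ∀ r ∈ m, algebraMap R S r ∈ Ideal.span {algebraMap R S x})
    (hq : ∀ P : R[X], aeval t P ∈ Ideal.span {algebraMap R S x} → ∀ k, P.coeff k ∈ m) :
    Nonempty ((R ⧸ m)[X] ≃+* S ⧸ Ideal.span {algebraMap R S x}) := by
  let J : Ideal S := Ideal.span {algebraMap R S x}
  let ι : R ⧸ m →+* S ⧸ J :=
    Ideal.quotientMap J (algebraMap R S) fun r hr => Ideal.mem_comap.2 (hm r hr)
  let ψ : (R ⧸ m)[X] →+* S ⧸ J := eval₂RingHom ι (Ideal.Quotient.mk J t)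
  have hψ : ∀ P : R[X], ψ (P.map (Ideal.Quotient.mk m)) = Ideal.Quotient.mk J (aeval t P) := fun P => by
    show eval₂ ι _ _ = _
    rw [eval₂_map, aeval_def, hom_eval₂]
    congr 1
  refine ⟨RingEquiv.ofBijective ψ ⟨?_, ?_⟩⟩
  · rw [injective_iff_map_eq_zero]
    intro p hp
    obtain ⟨P, rfl⟩ := Polynomial.map_surjective _ Ideal.Quotient.mk_surjective p
    rw [hψ, Ideal.Quotient.eq_zero_iff_mem] at hp
    ext k
    rw [coeff_map, coeff_zero, Ideal.Quotient.eq_zero_iff_mem]
    exact hq P hp k
  · intro s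
    obtain ⟨s, rfl⟩ := Ideal.Quotient.mk_surjective s
    have hs : s ∈ Algebra.adjoin R {t} := hgen ▸ Algebra.mem_top
    rw [Algebra.adjoin_singleton_eq_range_aeval] at hs
    obtain ⟨P, rfl⟩ := hs
    exact ⟨_, hψ P⟩

/-- The local rings of a chart at maximal ideals over `m` are regular of dimension two. -/
theorem isRegular_chart [IsNoetherianRing R] [m.IsMaximal] (hgen : Algebra.adjoin R {t} = ⊤)
    (hm : ∀ r ∈ m, algebraMap R S r ∈ Ideal.span {algebraMap R S x})
    (hq : ∀ P : R[X], aeval t P ∈ Ideal.span {algebraMap R S x} → ∀ k, P.coeff k ∈ m)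
    (hx : algebraMap R S x ∈ nonZeroDivisors S) (n : Ideal S) [n.IsMaximal]
    (hn : algebraMap R S x ∈ n) :
    IsRegularLocalRing (Localization.AtPrime n) ∧ ringKrullDim (Localization.AtPrime n) = 2 := by
  haveI := isNoetherianRing_chart hgen
  set J : Ideal S := Ideal.span {algebraMap R S x}
  obtain ⟨e⟩ := exists_equiv_exceptional hgen hm hq
  letI : Field (R ⧸ m) := Ideal.Quotient.field m
  haveI : IsDomain (S ⧸ J) := e.symm.toMulEquiv.isDomain _
  haveI : IsPrincipalIdealRing (S ⧸ J) := IsPrincipalIdealRing.of_surjective e.toRingHom e.surjective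
  have hJn : J ≤ n := (Ideal.span_singleton_le_iff_mem _).2 hn
  have hJp : J.IsPrime := (Ideal.Quotient.isDomain_iff_prime J).1 inferInstance
  have hlt : J < n := lt_of_le_of_ne hJn fun h => by
    haveI : J.IsMaximal := h ▸ inferInstance
    exact Polynomial.not_isField (R := R ⧸ m)
      (MulEquiv.isField (Ideal.Quotient.field J).toIsField e.toMulEquiv)
  haveI := IsLocalization.AtPrime.isLocalRing (Localization.AtPrime n) n
  have hdim : (2 : WithBot ℕ∞) ≤ ringKrullDim (Localization.AtPrime n) := by
    rw [IsLocalization.AtPrime.ringKrullDim_eq_height n]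
    have h1 : 1 ≤ J.height := Ideal.one_le_height_span_singleton_of_mem_nonZeroDivisors hx
    have h2 : J.height < n.height := Ideal.height_strict_mono_of_isPrime_of_isPrime hlt
    have h3 : (2 : ℕ∞) ≤ n.height := by
      rw [show (2 : ℕ∞) = 1 + 1 from one_add_one_eq_two.symm]
      exact (add_le_add_left h1 1).trans (Order.add_one_le_of_lt h2)
    exact WithBot.coe_le_coe.2 h3
  have hspan : (IsLocalRing.maximalIdeal (Localization.AtPrime n)).spanFinrank ≤ 2 := by
    obtain ⟨g, hg⟩ := IsPrincipalIdealRing.principal (n.map (Ideal.Quotient.mk J))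
    obtain ⟨g, rfl⟩ := Ideal.Quotient.mk_surjective g
    have hn' : n = Ideal.span {algebraMap R S x, g} := by
      have h := congrArg (Ideal.comap (Ideal.Quotient.mk J)) hg
      rw [Ideal.submodule_span_eq, ← Set.image_singleton, ← Ideal.map_span,
        Ideal.comap_map_of_surjective _ Ideal.Quotient.mk_surjective,
        Ideal.comap_map_of_surjective _ Ideal.Quotient.mk_surjective, ← RingHom.ker_eq_comap_bot,
        Ideal.mk_ker, sup_eq_left.2 hJn] at h
      rw [h, Ideal.span_insert, sup_comm]
    rw [← Localization.AtPrime.map_eq_maximalIdeal, congrArg (Ideal.map (algebraMap S (Localization.AtPrime n))) hn',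
      Ideal.map_span, Set.image_pair]
    refine (Submodule.spanFinrank_span_le_ncard_of_finite (Set.toFinite _)).trans ?_
    exact (Set.ncard_insert_le _ _).trans (by simp)
  have hle : ((IsLocalRing.maximalIdeal (Localization.AtPrime n)).spanFinrank : WithBot ℕ∞) ≤ 2 := by
    exact_mod_cast hspan
  exact ⟨IsRegularLocalRing.of_spanFinrank_maximalIdeal_le _ (hle.trans hdim),
    le_antisymm ((ringKrullDim_le_spanFinrank_maximalIdeal _).trans hle) hdim⟩

end Groth.Agent.ResSurf
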