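import Groth.Agent.QCoh.Ab.Rpush
import Groth.Agent.QCoh.Ab.MV
import Groth.Agent.QCoh.CechStd
import Groth.Prelude.Def_ClSub2

/-!
# First cohomology and direct images

`H¹` of a direct image injects into `H¹` upstairs, with equality when `H¹` vanishes over the
preimages of small opens.
-/

universe u

open CategoryTheory CategoryTheory.Limits TopologicalSpace Opposite AlgebraicGeometry

namespace Groth.Agent.ResSurf

open QCoh

variable {X Y : TopCat.{u}} (f : X ⟶ Y)

theorem subsingleton_HU_top_of_H (F : CohTop.Ab X) (n : ℕ) (h : Subsingleton (CohTop.H F n)) :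
    Subsingleton (CohTop.HU F n (⊤ : Opens X)) :=
  (SiteBase.huTerminalEquiv isTerminalTop F n).toEquiv.subsingleton

theorem subsingleton_H_of_iso {F G : CohTop.Ab X} (e : G ≅ F) (n : ℕ)
    (h : Subsingleton (CohTop.H F n)) : Subsingleton (CohTop.H G n) :=
  have : Subsingleton ((Sheaf.functorH (Opens.grothendieckTopology X) n).obj F) := h
  ((Sheaf.functorH (Opens.grothendieckTopology X) n).mapIso e).addCommGroupIsoToAddEquiv.toEquiv.subsingleton

/-- If `H¹(F) = 0` then `H¹(f_* F) = 0`. -/
theorem subsingleton_H_one_of_push {F : CohTop.Ab X} {G : CohTop.Ab Y}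
    (e : G ≅ (CohTop.push f).obj F) (h : Subsingleton (CohTop.H F 1)) :
    Subsingleton (CohTop.H G 1) := by
  refine subsingleton_H_of_iso e 1 ?_
  let T := SiteBase.injectiveSES (J := Opens.grothendieckTopology X) F
  have hT : T.ShortExact := SiteBase.injectiveSES_shortExact F
  have := Ab.push_isRightAdjoint f
  have := hT.mono_f
  have hi2 : Injective ((CohTop.push f).obj T.X₂) := SiteBase.injective_push f T.X₂
  let R : ShortComplex (CohTop.Ab Y) := T.map (CohTop.push f)
  have : Mono R.f := inferInstanceAs (Mono ((CohTop.push f).map T.f))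
  have hR : R.Exact := ShortComplex.exact_of_f_is_kernel _
    (KernelFork.mapIsLimit _ hT.fIsKernel (CohTop.push f))
  let S : ShortComplex (CohTop.Ab Y) :=
    ShortComplex.mk R.f (cokernel.π R.f) (cokernel.condition R.f)
  have hS : S.ShortExact :=
    { exact := ShortComplex.exact_of_g_is_cokernel _ (cokernelIsCokernel R.f)
      mono_f := inferInstanceAs (Mono R.f)
      epi_g := inferInstanceAs (Epi (cokernel.π R.f)) }
  refine Ab.subsingleton_H_of_HU_top _ 1 (SiteBase.subsingleton_HU_one_X₁ hS (⊤ : Opens Y)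
    (show Subsingleton (CohSite.HU R.X₂ 1 (⊤ : Opens Y)) from
      @SiteBase.subsingleton_HU_of_injective _ _ _ _ hi2 _ 0) fun c => ?_)
  let φ : cokernel R.f ⟶ R.X₃ := cokernel.desc R.f R.g R.zero
  have : Mono φ := hR.mono_cokernelDesc
  have hinj : Function.Injective (φ.hom.app (op (⊤ : Opens Y))) := by
    have : Mono φ.hom := inferInstanceAs (Mono ((sheafToPresheaf _ _).map φ))
    exact (AddCommGrpCat.mono_iff_injective _).1 ((NatTrans.mono_iff_mono_app _).1 this _)
  obtain ⟨i, hi⟩ := SiteBase.surjective_sections_of_HU_one hT ((Opens.map f).obj (⊤ : Opens Y))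
    (subsingleton_HU_top_of_H F 1 h) (φ.hom.app (op (⊤ : Opens Y)) c)
  refine ⟨i, hinj ?_⟩
  refine Eq.trans ?_ hi
  exact congr($(congrArg (fun ψ : R.X₂ ⟶ R.X₃ => ψ.hom.app (op (⊤ : Opens Y)))
    (cokernel.π_desc R.f R.g R.zero)) i)

/-- If `H¹(f_* F) = 0` and `H¹(F)` vanishes over preimages of small opens, then `H¹(F) = 0`. -/
theorem subsingleton_H_one_of_push_of_local {F : CohTop.Ab X} {G : CohTop.Ab Y}
    (e : G ≅ (CohTop.push f).obj F) (B : Opens Y → Prop)
    (hB : ∀ (U : Opens Y) (y : Y), y ∈ U → ∃ W, W ≤ U ∧ y ∈ W ∧ B W)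
    (hloc : ∀ W, B W → Subsingleton (CohTop.HU F 1 ((Opens.map f).obj W)))
    (h : Subsingleton (CohTop.H G 1)) : Subsingleton (CohTop.H F 1) := by
  let T := SiteBase.injectiveSES (J := Opens.grothendieckTopology X) F
  have hT : T.ShortExact := SiteBase.injectiveSES_shortExact F
  have := Ab.push_isRightAdjoint f
  have := hT.mono_f
  have : Mono (T.map (CohTop.push f)).f := inferInstanceAs (Mono ((CohTop.push f).map T.f))
  have : Epi (T.map (CohTop.push f)).g := by
    refine (TopCat.Sheaf.isLocallySurjective_iff_epi _).1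
      ((TopCat.Presheaf.isLocallySurjective_iff _).2 fun U t y hy => ?_)
    obtain ⟨W, hWU, hyW, hW⟩ := hB U y hy
    exact ⟨W, hWU, SiteBase.surjective_sections_of_HU_one hT _ (hloc W hW) _, hyW⟩
  have hT' : (T.map (CohTop.push f)).ShortExact :=
    { exact := ShortComplex.exact_of_f_is_kernel _
        (KernelFork.mapIsLimit _ hT.fIsKernel (CohTop.push f)) }
  have hH : Subsingleton (CohTop.H ((CohTop.push f).obj F) 1) :=
    subsingleton_H_of_iso e.symm 1 h
  refine Ab.subsingleton_H_of_HU_top F 1 (SiteBase.subsingleton_HU_one_X₁ hT (⊤ : Opens X)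
    inferInstance ?_)
  exact SiteBase.surjective_sections_of_HU_one hT' (⊤ : Opens Y)
    (subsingleton_HU_top_of_H _ 1 hH)

/-- The structure sheaf is the direct image of the structure sheaf when `g` is bijective on
functions. -/
theorem exists_iso_push_structure {X Y : Scheme.{u}} (g : X ⟶ Y)
    (hg : ∀ W : Y.Opens, Function.Bijective (g.app W)) :
    Nonempty (QCoh.abSheaf (Coh.structureModule Y) ≅
      (CohTop.push g.base).obj (QCoh.abSheaf (Coh.structureModule X))) := by
  let α : (QCoh.abSheaf (Coh.structureModule Y)).obj ⟶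
      ((CohTop.push g.base).obj (QCoh.abSheaf (Coh.structureModule X))).obj :=
    { app := fun U => AddCommGrpCat.ofHom (g.app U.unop).hom.toAddMonoidHom
      naturality := fun U V i => by
        ext s
        exact congr($(g.naturality i) s) }
  have : IsIso α := by
    rw [NatTrans.isIso_iff_isIso_app]
    intro U
    exact (ConcreteCategory.isIso_iff_bijective _).2 (hg U.unop)
  exact ⟨(fullyFaithfulSheafToPresheaf _ _).preimageIso (asIso α)⟩

end Groth.Agent.ResSurf
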