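import Groth.Agent.QCoh.Bound

/-!
# First cohomology of a scheme covered by two affines
-/

universe u

open CategoryTheory CategoryTheory.Limits AlgebraicGeometry TopologicalSpace Opposite

namespace Groth.Agent.ResSurf

open QCoh

theorem exists_glue_two {X : TopCat.{u}} (F : TopCat.Sheaf AddCommGrpCat.{u} X) (U V : Opens X)
    (a : F.obj.obj (op U)) (b : F.obj.obj (op V))
    (h : F.obj.map (homOfLE (inf_le_left : U ⊓ V ≤ U)).op a =
      F.obj.map (homOfLE (inf_le_right : U ⊓ V ≤ V)).op b) :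
    ∃ s : F.obj.obj (op (U ⊔ V)), F.obj.map (homOfLE (le_sup_left : U ≤ U ⊔ V)).op s = a ∧
      F.obj.map (homOfLE (le_sup_right : V ≤ U ⊔ V)).op s = b := by
  let W : ULift.{u} Bool → Opens X := fun i => cond i.down U V
  have hle : ∀ i, W i ≤ U ⊔ V := by rintro ⟨_ | _⟩ <;> simp [W]
  let sf : ∀ i, ToType (F.1.obj (op (W i))) := fun i => match i with
    | ⟨true⟩ => a
    | ⟨false⟩ => b
  obtain ⟨s, hs, -⟩ := F.existsUnique_gluing' W (U ⊔ V) (fun i => homOfLE (hle i))
    (sup_le (le_iSup W ⟨true⟩) (le_iSup W ⟨false⟩)) sf (by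
      rintro ⟨_ | _⟩ ⟨_ | _⟩
      · rfl
      · change F.1.map (homOfLE (inf_le_left : V ⊓ U ≤ V)).op b =
          F.1.map (homOfLE (inf_le_right : V ⊓ U ≤ U)).op a
        have e := congrArg (F.1.map (homOfLE (le_inf inf_le_right inf_le_left : V ⊓ U ≤ U ⊓ V)).op) h.symm
        simp only [← ConcreteCategory.comp_apply, ← Functor.map_comp] at e
        exact e
      · exact h
      · rfl)
  exact ⟨s, hs ⟨true⟩, hs ⟨false⟩⟩

/-- `H¹` of an abelian sheaf on a union of two acyclic opens vanishes as soon as every section on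
the intersection is a sum of sections on the two pieces. -/
theorem subsingleton_HU_one_sup {X : Scheme.{u}} {M : X.Modules} (hM : Coh.IsQCoh M) (U V : X.Opens)
    (hU : IsAffineOpen U) (hV : IsAffineOpen V)
    (hd : ∀ c : (QCoh.abSheaf M).obj.obj (op (U ⊓ V)), ∃ a b,
      (QCoh.abSheaf M).obj.map (homOfLE (inf_le_left : U ⊓ V ≤ U)).op a +
        (QCoh.abSheaf M).obj.map (homOfLE (inf_le_right : U ⊓ V ≤ V)).op b = c) :
    Subsingleton (CohTop.HU (X := X.toPresheafedSpace.carrier) (QCoh.abSheaf M) 1 (U ⊔ V)) := by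
  let T : ShortComplex (TopCat.Sheaf AddCommGrpCat.{u} X.toPresheafedSpace.carrier) :=
    SiteBase.injectiveSES (J := Opens.grothendieckTopology X.toPresheafedSpace.carrier)
    (QCoh.abSheaf M)
  have hT : T.ShortExact := SiteBase.injectiveSES_shortExact _
  refine SiteBase.subsingleton_HU_one_X₁ hT (U ⊔ V) inferInstance fun q => ?_
  obtain ⟨iU, hiU⟩ := Ab.sections_surjective (stdCovers X) hT (stdCovers_acyclic hM) hU
    (T.X₃.obj.map (homOfLE le_sup_left).op q)
  obtain ⟨iV, hiV⟩ := Ab.sections_surjective (stdCovers X) hT (stdCovers_acyclic hM) hV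
    (T.X₃.obj.map (homOfLE le_sup_right).op q)
  have hgU : T.g.hom.app (op (U ⊓ V)) (T.X₂.obj.map (homOfLE inf_le_left).op iU) =
      T.X₃.obj.map (homOfLE (inf_le_left.trans le_sup_left : U ⊓ V ≤ U ⊔ V)).op q :=
    (congr($(T.g.hom.naturality (homOfLE (inf_le_left : U ⊓ V ≤ U)).op) iU)).trans
      ((congrArg _ hiU).trans congr($((T.X₃.obj.map_comp _ _).symm) q))
  have hgV : T.g.hom.app (op (U ⊓ V)) (T.X₂.obj.map (homOfLE inf_le_right).op iV) =
      T.X₃.obj.map (homOfLE (inf_le_left.trans le_sup_left : U ⊓ V ≤ U ⊔ V)).op q :=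
    (congr($(T.g.hom.naturality (homOfLE (inf_le_right : U ⊓ V ≤ V)).op) iV)).trans
      ((congrArg _ hiV).trans congr($((T.X₃.obj.map_comp _ _).symm) q))
  obtain ⟨c, hc⟩ := TopCat.Sheaf.sections_exact_of_left_exact (U := U ⊓ V) hT.exact hT.mono_f
    (T.X₂.obj.map (homOfLE inf_le_left).op iU - T.X₂.obj.map (homOfLE inf_le_right).op iV)
    (by rw [map_sub, hgU, hgV, sub_self])
  obtain ⟨a, b, hab⟩ := hd c
  have ha : T.X₂.obj.map (homOfLE (inf_le_left : U ⊓ V ≤ U)).op (T.f.hom.app (op U) a) =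
      T.f.hom.app (op (U ⊓ V)) ((QCoh.abSheaf M).obj.map (homOfLE inf_le_left).op a) :=
    (congr($(T.f.hom.naturality (homOfLE (inf_le_left : U ⊓ V ≤ U)).op) a)).symm
  have hb : T.X₂.obj.map (homOfLE (inf_le_right : U ⊓ V ≤ V)).op (T.f.hom.app (op V) b) =
      T.f.hom.app (op (U ⊓ V)) ((QCoh.abSheaf M).obj.map (homOfLE inf_le_right).op b) :=
    (congr($(T.f.hom.naturality (homOfLE (inf_le_right : U ⊓ V ≤ V)).op) b)).symm
  obtain ⟨s, hsU, hsV⟩ := exists_glue_two T.X₂ U V (iU - T.f.hom.app (op U) a)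
    (iV + T.f.hom.app (op V) b) (by
      subst hab
      have hc' := (map_add _ _ _).symm.trans hc
      refine (map_sub _ _ _).trans (Eq.trans ?_ (map_add _ _ _).symm)
      refine (congrArg₂ (· - ·) rfl ha).trans (Eq.trans ?_ (congrArg₂ (· + ·) rfl hb).symm)
      have key : ∀ {G : Type u} [AddCommGroup G] (p q x y : G), x + y = p - q → p - x = q + y :=
        fun p q x y h => by rw [← sub_eq_zero] at h ⊢; rw [← neg_eq_zero, ← h]; abel
      exact key _ _ _ _ hc')
  refine ⟨s, TopCat.Sheaf.eq_of_locally_eq₂ T.X₃ (homOfLE le_sup_left) (homOfLE le_sup_right) le_rfl _ _ ?_ ?_⟩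
  · refine (congr($(T.g.hom.naturality (homOfLE (le_sup_left : U ≤ U ⊔ V)).op) s)).symm.trans ?_
    change T.g.hom.app (op U) (T.X₂.obj.map (homOfLE le_sup_left).op s) = _
    rw [hsU, map_sub, Ab.g_f_zero, sub_zero]
    exact hiU
  · refine (congr($(T.g.hom.naturality (homOfLE (le_sup_right : V ≤ U ⊔ V)).op) s)).symm.trans ?_
    change T.g.hom.app (op V) (T.X₂.obj.map (homOfLE le_sup_right).op s) = _
    rw [hsV, map_add, Ab.g_f_zero, add_zero]
    exact hiV

/-- `H¹` of a quasi-coherent module on a scheme covered by two affine opens. -/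
theorem subsingleton_HH_one_of_two {X : Scheme.{u}} {M : X.Modules} (hM : Coh.IsQCoh M)
    (U V : X.Opens) (hU : IsAffineOpen U) (hV : IsAffineOpen V) (hcov : U ⊔ V = ⊤)
    (hd : ∀ c : (QCoh.abSheaf M).obj.obj (op (U ⊓ V)), ∃ a b,
      (QCoh.abSheaf M).obj.map (homOfLE (inf_le_left : U ⊓ V ≤ U)).op a +
        (QCoh.abSheaf M).obj.map (homOfLE (inf_le_right : U ⊓ V ≤ V)).op b = c) :
    Subsingleton (Coh.HH X M 1) := by
  have h := subsingleton_HU_one_sup hM U V hU hV hd
  rw [hcov] at h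
  exact Ab.subsingleton_H_of_HU_top (X := X.toPresheafedSpace.carrier) (QCoh.abSheaf M) 1 h

end Groth.Agent.ResSurf
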