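import Groth.Agent.ResSurf.PointChart
import Groth.Agent.ResSurf.ChartRing
import Groth.Agent.ResSurf.H1Push
import Groth.Agent.ResSurf.BlowTwo
import Groth.Agent.ResSurf.TwoCover
import Groth.Agent.QCoh.VanIdeal
import Groth.Agent.FlatMisc.SteinUC
import Groth.Agent.RegLoc6.Normal
import Groth.Agent.BlowUpX.Basic
import Groth.Prelude.Def_ModelsG
import Groth.Prelude.Def_Pi1
import Mathlib.AlgebraicGeometry.FunctionField
import Mathlib.AlgebraicGeometry.Morphisms.Proper

/-!
# Functions and `H¹` of the structure sheaf under point blow-ups of a normal surface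
-/

universe u

open CategoryTheory CategoryTheory.Limits AlgebraicGeometry TopologicalSpace Opposite

set_option maxHeartbeats 400000
set_option backward.isDefEq.respectTransparency false
set_option backward.isDefEq.respectTransparency.types false

namespace Groth.Agent.ResSurf

open Groth.Agent

theorem isIntegrallyClosed_affine' {X : Scheme.{u}} [IsIntegral X] (hX : Pi1.IsNormalScheme X) {V : X.Opens}
    (hV : IsAffineOpen V) [Nonempty (V : Scheme.{u})] : IsIntegrallyClosed Γ(X, V) := by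
  haveI : IsDomain Γ(X, V) := IsIntegral.component_integral V
  refine IsIntegrallyClosed.of_localization_maximal fun p _ hpm => ?_
  let q : PrimeSpectrum Γ(X, V) := ⟨p, hpm.isPrime⟩
  have hq : hV.fromSpec q ∈ V := hV.opensRange_fromSpec.le ⟨q, rfl⟩
  letI := TopCat.Presheaf.algebra_section_stalk X.presheaf (⟨hV.fromSpec q, hq⟩ : V)
  haveI : IsLocalization.AtPrime (X.presheaf.stalk (hV.fromSpec q)) p := hV.isLocalization_stalk' q hq
  haveI := (hX (hV.fromSpec q)).2
  exact IsIntegrallyClosed.of_equiv (IsLocalization.algEquiv p.primeCompl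
    (X.presheaf.stalk (hV.fromSpec q)) (Localization.AtPrime p)).toRingEquiv

/-- Functions upstairs of a proper birational morphism onto a normal scheme come from below. -/
theorem bijective_app_of_birational {Y Z : Scheme.{u}} (g : Y ⟶ Z) [IsIntegral Y] [IsIntegral Z]
    [IsProper g] (hZ : Pi1.IsNormalScheme Z) (e : g (genericPoint Y) = genericPoint Z)
    (hbir : Function.Bijective
      (Z.presheaf.stalkSpecializes (specializes_of_eq e) ≫ g.stalkMap (genericPoint Y)).hom)
    (W : Z.Opens) : Function.Bijective (g.app W) := by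
  refine FlatMisc.bijective_app_of_isBasis g Z.isBasis_affineOpens (fun U hU => ?_) W
  by_cases hne : Nonempty U
  swap
  · have hbot : U = ⊥ := by
      ext x; simp only [Opens.coe_bot, Set.mem_empty_iff_false, iff_false]
      exact fun hx => hne ⟨⟨x, hx⟩⟩
    subst hbot
    haveI : Subsingleton Γ(Z, ⊥) := CommRingCat.subsingleton_of_isTerminal Z.sheaf.isTerminalOfEmpty
    haveI : Subsingleton Γ(Y, g ⁻¹ᵁ ⊥) := by
      rw [show g ⁻¹ᵁ (⊥ : Z.Opens) = ⊥ from rfl]
      exact CommRingCat.subsingleton_of_isTerminal Y.sheaf.isTerminalOfEmpty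
    exact ⟨fun a b _ => Subsingleton.elim a b, fun b => ⟨0, Subsingleton.elim _ _⟩⟩
  haveI := hne
  have hηU : genericPoint Z ∈ U :=
    (genericPoint_spec Z).mem_open_set_iff U.isOpen |>.mpr ⟨_, trivial, hne.some.2⟩
  have hηV : genericPoint Y ∈ g ⁻¹ᵁ U := show g (genericPoint Y) ∈ U from e ▸ hηU
  haveI : IsFractionRing Γ(Z, U) Z.functionField := functionField_isFractionRing_of_isAffineOpen Z U hU
  haveI := isIntegrallyClosed_affine' hZ hU
  set ψ := (Z.presheaf.stalkSpecializes (specializes_of_eq e) ≫ g.stalkMap (genericPoint Y)).hom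
  let ε : Z.functionField ≃+* Y.functionField := RingEquiv.ofBijective ψ hbir
  have hsq : ∀ a : Γ(Z, U), ε (algebraMap Γ(Z, U) Z.functionField a) =
      Y.presheaf.germ (g ⁻¹ᵁ U) (genericPoint Y) hηV (g.app U a) := fun a => by
    show ψ (Z.presheaf.germ U (genericPoint Z) _ a) = _
    simp only [ψ, CommRingCat.hom_comp, RingHom.comp_apply]
    rw [TopCat.Presheaf.germ_stalkSpecializes_apply]
    exact g.germ_stalkMap_apply U (genericPoint Y) hηV a
  have hgY := germ_injective_of_isIntegral (X := Y) (genericPoint Y) hηV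
  refine ⟨fun a b hab => ?_, fun b => ?_⟩
  · apply IsFractionRing.injective Γ(Z, U) Z.functionField
    apply ε.injective
    rw [hsq, hsq, hab]
  · haveI : IsAffine (U : Scheme.{u}) := hU
    haveI : UniversallyClosed (g ∣_ U) :=
      MorphismProperty.of_isPullback (isPullback_morphismRestrict g U).flip inferInstance
    have hint : (g.app U).hom.IsIntegral := by
      have h1 := isIntegral_appTop_of_universallyClosed (g ∣_ U)
      rwa [← Scheme.Hom.resLE_eq_morphismRestrict,
        RingHom.isIntegral_respectsIso.arrow_mk_iso_iff (arrowResLEAppIso g _ _ le_rfl),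
        Scheme.Hom.appLE_eq_app] at h1
    set z := ε.symm (Y.presheaf.germ (g ⁻¹ᵁ U) (genericPoint Y) hηV b) with hz
    have hzint : IsIntegral Γ(Z, U) z := by
      obtain ⟨P, hP, hP0⟩ := hint b
      refine ⟨P, hP, ε.injective ?_⟩
      show ε.toRingHom (P.eval₂ _ _) = ε 0
      rw [map_zero, Polynomial.hom_eval₂]
      have h2 : ε.toRingHom.comp (algebraMap Γ(Z, U) Z.functionField) =
          (Y.presheaf.germ (g ⁻¹ᵁ U) (genericPoint Y) hηV).hom.comp (g.app U).hom := RingHom.ext hsq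
      rw [h2, show ε.toRingHom z = Y.presheaf.germ (g ⁻¹ᵁ U) (genericPoint Y) hηV b from
        ε.apply_symm_apply _, ← Polynomial.hom_eval₂, hP0, map_zero]
    obtain ⟨a, ha⟩ := IsIntegrallyClosed.isIntegral_iff.1 hzint
    refine ⟨a, hgY ?_⟩
    rw [← hsq, ha, hz, RingEquiv.apply_symm_apply]

/-- The vanishing ideal of the centre of a frame. -/
theorem PointFrame.ideal_vanishingIdeal {X : Scheme.{u}} {p : X} (F : PointFrame X p)
    (hcl : IsClosed ({p} : Set X)) :
    (Scheme.IdealSheafData.vanishingIdeal ⟨{p}, hcl⟩).ideal ⟨F.V, F.isAffine⟩ =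
      Ideal.span (Set.range F.r) := by
  haveI := F.isMaximal
  let q₀ : PrimeSpectrum Γ(X, F.V) := ⟨Ideal.span (Set.range F.r), inferInstance⟩
  rw [Scheme.IdealSheafData.vanishingIdeal_ideal, show
    F.isAffine.fromSpec ⁻¹' ((⟨{p}, hcl⟩ : Closeds X) : Set X) = {q₀} from
    Set.ext fun q => (F.point q).trans ⟨fun h => PrimeSpectrum.ext h, fun h => congrArg _ h⟩,
    PrimeSpectrum.vanishingIdeal_singleton]

/-- The sheaf of functions is acyclic on affine opens and on two-chart opens. -/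
theorem subsingleton_HU_one_structure {Y : Scheme.{u}} (U V : Y.Opens) (hU : IsAffineOpen U)
    (hV : IsAffineOpen V)
    (hd : ∀ c : Γ(Y, U ⊓ V), ∃ a b, Y.presheaf.map (homOfLE (inf_le_left : U ⊓ V ≤ U)).op a +
      Y.presheaf.map (homOfLE (inf_le_right : U ⊓ V ≤ V)).op b = c) :
    Subsingleton (CohTop.HU (X := Y.toPresheafedSpace.carrier)
      (QCoh.abSheaf (Coh.structureModule Y)) 1 (U ⊔ V)) :=
  subsingleton_HU_one_sup QCoh.isQCoh_structureModule U V hU hV hd

variable {Y Z : Scheme.{u}} {b : Y ⟶ Z} {p : Z}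

/-- Over an open piece where the centre has two generators the functions have no `H¹`. -/
theorem subsingleton_HU_one_over_frame (F : PointFrame Z p) {C : Z.IdealSheafData}
    (hb : BlowUp.IsBlowUp b C) (hC : C.ideal ⟨F.V, F.isAffine⟩ = Ideal.span (Set.range F.r)) :
    Subsingleton (CohTop.HU (X := Y.toPresheafedSpace.carrier)
      (QCoh.abSheaf (Coh.structureModule Y)) 1 (b ⁻¹ᵁ F.V)) := by
  let O : Y.Opens := b ⁻¹ᵁ F.V
  have h0 := BlowUpLib.isBlowUp_of_isPullback (isPullback_morphismRestrict b F.V) hb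
  have h1 : C.comap F.V.ι =
      (BlowUpLib.centre (Ideal.span (Set.range F.r))).comap F.isAffine.isoSpec.hom := by
    rw [← hC, ← BlowUpLib.comap_fromSpec C ⟨F.V, F.isAffine⟩, ← Scheme.IdealSheafData.comap_comp,
      IsAffineOpen.isoSpec_hom_fromSpec]
  rw [h1] at h0
  have hr : Ideal.span (Set.range F.r) = Ideal.span {F.r 0, F.r 1} := by
    congr 1
    ext w
    refine ⟨fun ⟨k, hk⟩ => ?_, ?_⟩
    · fin_cases k
      · exact Or.inl hk.symm
      · exact Or.inr hk.symm
    · rintro (rfl | rfl)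
      exacts [⟨0, rfl⟩, ⟨1, rfl⟩]
  obtain ⟨c⟩ := exists_twoCharts (A := Γ(Z, F.V)) hr
    (BlowUpLib.isBlowUp_comp_iso (C := BlowUpLib.centre (Ideal.span (Set.range F.r)))
      F.isAffine.isoSpec.hom h0)
  let U1 : Y.Opens := O.ι ''ᵁ c.U
  let V1 : Y.Opens := O.ι ''ᵁ c.V
  have hsup : U1 ⊔ V1 = O := by
    refine Opens.ext ?_
    simp only [U1, V1, Opens.coe_sup, Scheme.Hom.coe_image, ← Set.image_union]
    rw [← Opens.coe_sup, c.sup_eq_top, Opens.coe_top, Set.image_univ, Scheme.Opens.range_ι]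
  have hinf : U1 ⊓ V1 = O.ι ''ᵁ (c.U ⊓ c.V) := by
    refine Opens.ext ?_
    simp only [U1, V1, Opens.coe_inf, Scheme.Hom.coe_image]
    exact (Set.image_inter O.ι.isOpenEmbedding.injective).symm
  rw [show b ⁻¹ᵁ F.V = U1 ⊔ V1 from hsup.symm]
  refine subsingleton_HU_one_structure U1 V1 (c.isAffine_U.image_of_isOpenImmersion O.ι)
    (c.isAffine_V.image_of_isOpenImmersion O.ι) fun f => ?_
  obtain ⟨a, a', ha⟩ := c.split (Y.presheaf.map (homOfLE hinf.ge).op f)
  refine ⟨a, a', ?_⟩
  have h := congrArg (Y.presheaf.map (homOfLE hinf.le).op) ha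
  rw [map_add] at h
  simp only [← ConcreteCategory.comp_apply, ← Functor.map_comp] at h
  have hid : (homOfLE hinf.ge).op ≫ (homOfLE hinf.le).op = 𝟙 _ := Subsingleton.elim _ _
  rw [hid, Y.presheaf.map_id] at h
  refine Eq.trans (congrArg₂ (· + ·) ?_ ?_) h
  · exact congr($(Y.presheaf.map_comp
      (homOfLE (O.ι.image_mono (inf_le_left : c.U ⊓ c.V ≤ c.U))).op (homOfLE hinf.le).op) a)
  · exact congr($(Y.presheaf.map_comp
      (homOfLE (O.ι.image_mono (inf_le_right : c.U ⊓ c.V ≤ c.V))).op (homOfLE hinf.le).op) a')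

/-- Blowing up a regular closed point of a normal integral surface. -/
theorem pointBlowUp_facts [IsIntegral Z] [IsLocallyNoetherian Z] (hZ : Pi1.IsNormalScheme Z)
    (hp : IsClosed ({p} : Set Z)) (hreg : IsRegularLocalRing (Z.presheaf.stalk p))
    (hdim : ringKrullDim (Z.presheaf.stalk p) = 2) [IsProper b]
    (hb : BlowUp.IsBlowUp b (Scheme.IdealSheafData.vanishingIdeal ⟨{p}, hp⟩)) :
    IsIntegral Y ∧ Pi1.IsNormalScheme Y ∧ IsDominant b ∧
      (Subsingleton (Coh.HH Z (Coh.structureModule Z) 1) →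
        Subsingleton (Coh.HH Y (Coh.structureModule Y) 1)) := by
  set C := Scheme.IdealSheafData.vanishingIdeal ⟨{p}, hp⟩ with hCdef
  have hsupp : (C.support : Set Z) = {p} := Scheme.IdealSheafData.coe_support_vanishingIdeal _
  let O : Z.Opens := ⟨{p}ᶜ, hp.isOpen_compl⟩
  haveI hiso : IsIso (b ∣_ O) := by
    have h : C.support.compl = O := Opens.ext (congrArg compl hsupp)
    exact h ▸ BlowUpX.isIso_restrict hb
  obtain ⟨U₀, hU₀, hpU₀, -⟩ := exists_isAffineOpen_mem_and_subset (x := p) (U := ⊤) trivial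
  obtain ⟨F, -, -⟩ := exists_pointFrame hp hreg hdim hU₀ hpU₀
  have hC := F.ideal_vanishingIdeal hp
  haveI : Nonempty (F.V : Scheme.{u}) := ⟨⟨p, F.mem⟩⟩
  haveI : IsDomain Γ(Z, F.V) := IsIntegral.component_integral F.V
  haveI : IsNoetherianRing Γ(Z, F.V) := IsLocallyNoetherian.component_noetherian ⟨F.V, F.isAffine⟩
  haveI := F.isMaximal
  have hη : genericPoint Z ∈ O := by
    intro h
    have h' : genericPoint Z = p := h
    have hf : IsField (Z.presheaf.stalk p) := h' ▸ (inferInstance : Field Z.functionField).toIsField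
    rw [ringKrullDim_eq_zero_of_isField hf] at hdim
    exact two_ne_zero hdim.symm
  haveI : Nonempty (O : Scheme.{u}) := ⟨⟨_, hη⟩⟩
  haveI : Nonempty (b ⁻¹ᵁ O : Scheme.{u}) := ⟨inv (b ∣_ O) ⟨_, hη⟩⟩
  haveI : IsIntegral (O : Scheme.{u}) := isIntegral_of_isOpenImmersion O.ι
  haveI hOint : IsIntegral (b ⁻¹ᵁ O : Scheme.{u}) := isIntegral_of_isOpenImmersion (b ∣_ O)
  -- stalks off the centre
  have hoff : ∀ y : Y, b y ≠ p → IsDomain (Y.presheaf.stalk y) ∧ IsIntegrallyClosed (Y.presheaf.stalk y) := by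
    intro y hy
    haveI : IsIso (b.stalkMap y) :=
      (MorphismProperty.arrow_mk_iso_iff (MorphismProperty.isomorphisms _)
        (morphismRestrictStalkMap b O ⟨y, hy⟩)).mp (show IsIso ((b ∣_ O).stalkMap ⟨y, hy⟩) by infer_instance)
    let e := (asIso (b.stalkMap y)).commRingCatIsoToRingEquiv
    haveI := (hZ (b y)).1
    haveI := (hZ (b y)).2
    exact ⟨e.symm.toMulEquiv.isDomain _, IsIntegrallyClosed.of_equiv e⟩
  -- charts
  have hchart : ∀ y : Y, b y ∈ F.V → ∃ (U : Y.affineOpens) (_ : y ∈ U.1),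
      IsDomain Γ(Y, U.1) ∧ IsIntegrallyClosed Γ(Y, U.1) ∧ ∀ q : PrimeSpectrum Γ(Y, U.1),
        q.asIdeal = ⊥ → b (U.2.fromSpec q) ≠ p := by
    intro y hy
    obtain ⟨U, hU, hUV, x, x', t, hyU, hch, hdom⟩ := exists_chart F hb hC y hy
    let φ := (b.appLE F.V U hUV).hom
    letI : Algebra Γ(Z, F.V) Γ(Y, U) := φ.toAlgebra
    obtain ⟨hgen, ht, hx, hxy, hmem, hq⟩ := hch
    haveI hd := hdom inferInstance
    have hE : (C.comap b).ideal ⟨U, hU⟩ ≤ Ideal.span {φ x} := by
      rw [ModPairLib.ideal_comap C b ⟨F.V, F.isAffine⟩ ⟨U, hU⟩ hUV, hC, Ideal.map_le_iff_le_comap]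
      exact fun a ha => hmem a ha
    have hover : ∀ q : PrimeSpectrum Γ(Y, U), φ x ∉ q.asIdeal → b (hU.fromSpec q) ≠ p := by
      intro q hq' hbp
      have h1 : hU.fromSpec q ∈ (C.comap b).support := by
        rw [Scheme.IdealSheafData.support_comap]
        exact hsupp.ge hbp
      have h2 : q ∈ hU.fromSpec ⁻¹' (Y.zeroLocus (U := U) ((C.comap b).ideal ⟨U, hU⟩)) :=
        (Scheme.IdealSheafData.mem_support_iff_of_mem (U := ⟨U, hU⟩)
          (hU.range_fromSpec.le ⟨q, rfl⟩)).1 h1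
      rw [hU.fromSpec_preimage_zeroLocus, PrimeSpectrum.mem_zeroLocus] at h2
      refine hq' (h2 ?_)
      rw [SetLike.mem_coe, ModPairLib.ideal_comap C b ⟨F.V, F.isAffine⟩ ⟨U, hU⟩ hUV, hC]
      exact Ideal.mem_map_of_mem φ (hxy.symm ▸ Ideal.subset_span (Set.mem_insert x {x'}))
    refine ⟨⟨U, hU⟩, hyU, hd, ?_, fun q hq0 => hover q ?_⟩
    · refine IsIntegrallyClosed.of_localization_maximal fun P _ hPm => ?_
      let q : PrimeSpectrum Γ(Y, U) := ⟨P, hPm.isPrime⟩
      by_cases hxP : φ x ∈ P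
      · haveI := (isRegular_chart hgen hmem hq hx P hxP).1
        exact RegLoc6.isIntegrallyClosed_of_isRegularLocalRing _
      · have hqU : hU.fromSpec q ∈ U := hU.range_fromSpec.le ⟨q, rfl⟩
        letI := TopCat.Presheaf.algebra_section_stalk Y.presheaf (⟨hU.fromSpec q, hqU⟩ : U)
        haveI : IsLocalization.AtPrime (Y.presheaf.stalk (hU.fromSpec q)) P := hU.isLocalization_stalk' q hqU
        haveI := (hoff _ (hover q hxP)).2
        exact IsIntegrallyClosed.of_equiv (IsLocalization.algEquiv P.primeCompl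
          (Y.presheaf.stalk (hU.fromSpec q)) (Localization.AtPrime P)).toRingEquiv
    · rw [hq0]
      exact nonZeroDivisors.ne_zero hx
  have hnormal : Pi1.IsNormalScheme Y := by
    intro y
    by_cases hy : b y = p
    · obtain ⟨⟨U, hU⟩, hyU, hd, hic, -⟩ := hchart y (hy ▸ F.mem)
      letI := TopCat.Presheaf.algebra_section_stalk Y.presheaf (⟨y, hyU⟩ : U)
      haveI : IsLocalization.AtPrime (Y.presheaf.stalk y) (hU.primeIdealOf ⟨y, hyU⟩).asIdeal :=
        hU.isLocalization_stalk ⟨y, hyU⟩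
      have hle := (hU.primeIdealOf ⟨y, hyU⟩).asIdeal.primeCompl_le_nonZeroDivisors
      exact ⟨IsLocalization.isDomain_of_le_nonZeroDivisors _ hle,
        isIntegrallyClosed_of_isLocalization (Y.presheaf.stalk y) _ hle⟩
    · exact hoff y hy
  haveI : IsReduced Y := by
    haveI : ∀ y : Y, _root_.IsReduced (Y.presheaf.stalk y) := fun y => by
      haveI := (hnormal y).1
      infer_instance
    exact isReduced_of_isReduced_stalk Y
  have hdense : Dense ((b ⁻¹ᵁ O : Y.Opens) : Set Y) := by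
    rw [dense_iff_inter_open]
    intro W hW hne
    obtain ⟨y, hy⟩ := hne
    by_cases hyp : b y = p
    swap
    · exact ⟨y, hy, hyp⟩
    obtain ⟨⟨U, hU⟩, hyU, hd, -, hgenpt⟩ := hchart y (hyp ▸ F.mem)
    let q : PrimeSpectrum Γ(Y, U) := ⟨⊥, Ideal.isPrime_bot⟩
    refine ⟨hU.fromSpec q, ?_, hgenpt q rfl⟩
    have h : q ⤳ hU.primeIdealOf ⟨y, hyU⟩ :=
      (PrimeSpectrum.le_iff_specializes _ _).1 bot_le
    have h2 := h.map hU.fromSpec.continuous
    rw [hU.fromSpec_primeIdealOf] at h2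
    exact h2.mem_open hW hy
  haveI : IrreducibleSpace Y := by
    have hirr : IsIrreducible ((b ⁻¹ᵁ O : Y.Opens) : Set Y) := by
      have h := (IrreducibleSpace.isIrreducible_univ (b ⁻¹ᵁ O : Scheme.{u})).image (b ⁻¹ᵁ O).ι
        (b ⁻¹ᵁ O).ι.continuous.continuousOn
      rwa [Set.image_univ, Scheme.Opens.range_ι] at h
    rw [irreducibleSpace_def, Set.top_eq_univ, ← hdense.closure_eq]
    exact hirr.closure
  haveI hYint : IsIntegral Y := isIntegral_of_irreducibleSpace_of_isReduced Y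
  have hηY : genericPoint Y ∈ b ⁻¹ᵁ O :=
    ((genericPoint_spec Y).mem_open_set_iff (b ⁻¹ᵁ O).isOpen).2
      (by simpa using (Set.nonempty_coe_sort.1 (inferInstance : Nonempty (b ⁻¹ᵁ O : Scheme.{u}))))
  have hdom : IsDominant b := by
    refine ⟨Dense.mono ?_ (dense_iff_closure_eq.2 (genericPoint_spec Z))⟩
    rintro _ rfl
    refine ⟨(b ⁻¹ᵁ O).ι (inv (b ∣_ O) ⟨_, hη⟩), ?_⟩
    have h : (inv (b ∣_ O) ≫ (b ⁻¹ᵁ O).ι ≫ b) = O.ι := by
      rw [← morphismRestrict_ι, IsIso.inv_hom_id_assoc]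
    exact congr(($h) (⟨_, hη⟩ : (O : Scheme.{u})))
  refine ⟨hYint, hnormal, hdom, fun hH => ?_⟩
  haveI := hdom
  have e : b (genericPoint Y) = genericPoint Z :=
    ((genericPoint_spec Y).image b.continuous).eq (by
      rw [Set.image_univ, hdom.denseRange.closure_eq]; exact genericPoint_spec Z)
  have hbir : Function.Bijective
      (Z.presheaf.stalkSpecializes (specializes_of_eq e) ≫ b.stalkMap (genericPoint Y)).hom := by
    haveI : IsIso (b.stalkMap (genericPoint Y)) :=
      (MorphismProperty.arrow_mk_iso_iff (MorphismProperty.isomorphisms _)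
        (morphismRestrictStalkMap b O ⟨_, hηY⟩)).mp
        (show IsIso ((b ∣_ O).stalkMap ⟨_, hηY⟩) by infer_instance)
    haveI : IsIso (Z.presheaf.stalkSpecializes (specializes_of_eq e)) := by
      obtain ⟨h⟩ : Nonempty (Z.presheaf.stalk (genericPoint Z) ≅ Z.presheaf.stalk (b (genericPoint Y))) :=
        ⟨Z.presheaf.stalkCongr (Inseparable.of_eq e.symm)⟩
      exact (TopCat.Presheaf.stalkCongr Z.presheaf (Inseparable.of_eq e.symm)).isIso_hom
    exact ConcreteCategory.bijective_of_isIso _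
  obtain ⟨eiso⟩ := exists_iso_push_structure b (bijective_app_of_birational b hZ e hbir)
  refine subsingleton_H_one_of_push_of_local b.base eiso
    (fun W => Subsingleton (CohTop.HU (X := Y.toPresheafedSpace.carrier)
      (QCoh.abSheaf (Coh.structureModule Y)) 1 (b ⁻¹ᵁ W)))
    (fun U z hzU => ?_) (fun W h => h) hH
  by_cases hz : z = p
  · subst hz
    obtain ⟨U', hU', hzU', hU'U⟩ := exists_isAffineOpen_mem_and_subset (x := z) (U := U) hzU
    obtain ⟨F', g, hg⟩ := exists_pointFrame hp hreg hdim hU' hzU'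
    exact ⟨F'.V, (hg ▸ Z.basicOpen_le g).trans hU'U, F'.mem,
      subsingleton_HU_one_over_frame F' hb (F'.ideal_vanishingIdeal hp)⟩
  · obtain ⟨W, hW, hzW, hWU⟩ := exists_isAffineOpen_mem_and_subset (x := z) (U := U ⊓ O) ⟨hzU, hz⟩
    refine ⟨W, hWU.trans inf_le_left, hzW, ?_⟩
    haveI : IsIso (b ∣_ W) := by
      have hV : O.ι ''ᵁ (O.ι ⁻¹ᵁ W) = W := by
        rw [Scheme.Hom.image_preimage_eq_opensRange_inf, Scheme.Opens.opensRange_ι,
          inf_eq_right.2 (show W ≤ O from fun w hw => (hWU hw).2)]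
      have h1 : IsIso (b ∣_ O ∣_ (O.ι ⁻¹ᵁ W)) := inferInstance
      exact ((MorphismProperty.isomorphisms Scheme.{u}).arrow_mk_iso_iff
        (morphismRestrictRestrict b O (O.ι ⁻¹ᵁ W) ≪≫ eqToIso (by rw [hV]))).1 h1
    have haff : IsAffineOpen (b ⁻¹ᵁ W) :=
      haveI : IsAffine (W : Scheme.{u}) := hW
      IsAffine.of_isIso (b ∣_ W)
    show Subsingleton (CohTop.HU (X := Y.toPresheafedSpace.carrier)
      (QCoh.abSheaf (Coh.structureModule Y)) 1 (b ⁻¹ᵁ W))
    rw [← sup_idem (b ⁻¹ᵁ W)]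
    refine subsingleton_HU_one_structure _ _ haff haff fun c => ?_
    refine ⟨Y.presheaf.map (homOfLE (inf_idem (b ⁻¹ᵁ W)).ge).op c, 0, ?_⟩
    rw [map_zero, add_zero, ← ConcreteCategory.comp_apply, ← Functor.map_comp,
      show (homOfLE (inf_idem (b ⁻¹ᵁ W)).ge).op ≫ (homOfLE inf_le_left).op = 𝟙 _ from Subsingleton.elim _ _,
      Y.presheaf.map_id]
    rfl

/-- Composites of contractions over a normal integral scheme with no `H¹`. -/
theorem contractionSeq_facts {Y X : Scheme.{u}} {r : Y ⟶ X} (h : Models.IsContractionSeq r)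
    (hXi : IsIntegral X) (hX : Pi1.IsNormalScheme X)
    (hH : Subsingleton (Coh.HH X (Coh.structureModule X) 1)) :
    IsIntegral Y ∧ Pi1.IsNormalScheme Y ∧ IsDominant r ∧
      Subsingleton (Coh.HH Y (Coh.structureModule Y) 1) := by
  induction h with
  | @iso Y X e =>
    haveI := hXi
    haveI : Nonempty Y := ⟨e.inv (genericPoint X)⟩
    haveI : IsIntegral Y := isIntegral_of_isOpenImmersion e.hom
    refine ⟨inferInstance, fun y => ?_, inferInstance, ?_⟩
    · let σ := (asIso (e.hom.stalkMap y)).commRingCatIsoToRingEquiv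
      haveI := (hX (e.hom y)).1
      haveI := (hX (e.hom y)).2
      exact ⟨σ.symm.toMulEquiv.isDomain _, IsIntegrallyClosed.of_equiv σ⟩
    · obtain ⟨i⟩ := exists_iso_push_structure e.inv (fun W => ConcreteCategory.bijective_of_isIso _)
      exact subsingleton_H_one_of_push e.inv.base i hH
  | step ι b r hι hE hb hr ih =>
    obtain ⟨hint, hnor, hrd, hH'⟩ := ih hXi hX hH
    obtain ⟨hN, hprop, y, hy, -, hreg, hdim, hbl⟩ := hb
    haveI := hint
    obtain ⟨h1, h2, h3, h4⟩ := pointBlowUp_facts hnor hy hreg hdim hbl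
    haveI := h3
    haveI := hrd
    exact ⟨h1, h2, inferInstance, h4 hH'⟩

end Groth.Agent.ResSurf
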