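import Groth.Agent.ResSurf.Principal
import Groth.Agent.ResSurf.PointCoh
import Groth.Agent.ResSurf.Dominate
import Groth.Agent.RegDimTwo.Basic
import Groth.Prelude.Def_Curv2

/-!
# Two-dimensional regular local rings have rational singularities
-/

universe u

open CategoryTheory CategoryTheory.Limits AlgebraicGeometry TopologicalSpace Opposite

set_option maxHeartbeats 400000
set_option backward.isDefEq.respectTransparency false

namespace Groth.Agent.ResSurf

open Groth.Agent

theorem isProper_of_contractionSeq {Y X : Scheme.{u}} {r : Y ⟶ X} (h : Models.IsContractionSeq r) :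
    IsProper r := by
  induction h with
  | iso e => infer_instance
  | step ι b r hι hE hb hr ih =>
    haveI := hb.2.1
    haveI := ih
    infer_instance

theorem isEffCartier_of_prod {Z : Scheme.{u}} {A : Type u} [CommRing A]
    (p : Z ⟶ Spec (CommRingCat.of A)) {ι : Type*} [DecidableEq ι] (s : Finset ι) (J : ι → Ideal A)
    (h : BlowUp.IsEffCartierIdeal ((BlowUpLib.centre (∏ i ∈ s, J i)).comap p)) :
    ∀ i ∈ s, BlowUp.IsEffCartierIdeal ((BlowUpLib.centre (J i)).comap p) := by
  intro i hi
  rw [← Finset.mul_prod_erase s J hi, centre_mul, ModPairLib.ideal_comap_mul] at h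
  exact BlowUpX.isEffCartier_left_of_mul h

/-- Coprime elements of a two-dimensional regular local ring are contained in no prime but the maximal one. -/
theorem isMaximal_of_coprime {A : Type u} [CommRing A] [IsRegularLocalRing A] (hA : ringKrullDim A = 2)
    {a b : A} (hb : b ≠ 0) (hab : IsRelPrime a b) (P : Ideal A) [P.IsPrime] (ha : a ∈ P) (hbP : b ∈ P) :
    P.IsMaximal := by
  obtain ⟨_, _⟩ := RegDimTwo.ufd A hA
  obtain ⟨π, hπP, hπ⟩ := Ideal.IsPrime.exists_mem_prime_of_ne_bot (I := P) inferInstance
    (fun h => hb (by simpa [h] using hbP))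
  haveI : (Ideal.span {π}).IsPrime := (Ideal.span_singleton_prime hπ.ne_zero).2 hπ
  rcases ((Ideal.span_singleton_le_iff_mem P).2 hπP).lt_or_eq with h | h
  · have h1 : 1 ≤ (Ideal.span {π}).height :=
      Ideal.one_le_height_span_singleton_of_mem_nonZeroDivisors (mem_nonZeroDivisors_of_ne_zero hπ.ne_zero)
    have h2 : (2 : ℕ∞) ≤ P.height := by
      rw [show (2 : ℕ∞) = 1 + 1 from one_add_one_eq_two.symm]
      exact (add_le_add_left h1 1).trans
        (Order.add_one_le_of_lt (Ideal.height_strict_mono_of_isPrime_of_isPrime h))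
    refine Ideal.isMaximal_of_height_eq_ringKrullDim (le_antisymm Ideal.height_le_ringKrullDim_of_isPrime ?_)
    rw [hA]
    exact WithBot.coe_le_coe.2 h2
  · exact absurd (hab (Ideal.mem_span_singleton.1 (h ▸ ha)) (Ideal.mem_span_singleton.1 (h ▸ hbP)))
      hπ.not_unit

theorem isNormalScheme_Spec (A : Type u) [CommRing A] [IsDomain A] [IsIntegrallyClosed A] :
    Pi1.IsNormalScheme (Spec (CommRingCat.of A)) := by
  intro x
  let e := (Spec.stalkIso (CommRingCat.of A) x).commRingCatIsoToRingEquiv
  have hle := x.asIdeal.primeCompl_le_nonZeroDivisors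
  haveI : IsDomain (Localization.AtPrime x.asIdeal) :=
    IsLocalization.isDomain_of_le_nonZeroDivisors _ hle
  haveI : IsIntegrallyClosed (Localization.AtPrime x.asIdeal) :=
    isIntegrallyClosed_of_isLocalization (Localization.AtPrime x.asIdeal) _ hle
  exact ⟨e.toMulEquiv.isDomain _, IsIntegrallyClosed.of_equiv e.symm⟩

theorem subsingleton_HH_one_affine {X : Scheme.{u}} [IsAffine X] :
    Subsingleton (Coh.HH X (Coh.structureModule X) 1) := by
  have h := subsingleton_HU_one_structure (⊤ : X.Opens) ⊤ (isAffineOpen_top X) (isAffineOpen_top X)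
    fun c => ⟨X.presheaf.map (homOfLE (le_inf le_rfl le_rfl : (⊤ : X.Opens) ≤ ⊤ ⊓ ⊤)).op c, 0, by
      rw [map_zero, add_zero, ← ConcreteCategory.comp_apply, ← Functor.map_comp,
        show (homOfLE (le_inf le_rfl le_rfl : (⊤ : X.Opens) ≤ ⊤ ⊓ ⊤)).op ≫ (homOfLE inf_le_left).op = 𝟙 _
          from Subsingleton.elim _ _, X.presheaf.map_id]
      rfl⟩
  rw [sup_idem] at h
  exact QCoh.Ab.subsingleton_H_of_HU_top (X := X.toPresheafedSpace.carrier)
    (QCoh.abSheaf (Coh.structureModule X)) 1 h

theorem isIso_stalkMap_of_restrict {Y Z : Scheme.{u}} (g : Y ⟶ Z) (O : Z.Opens) [IsIso (g ∣_ O)] {y : Y}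
    (hy : g y ∈ O) : IsIso (g.stalkMap y) :=
  (MorphismProperty.arrow_mk_iso_iff (MorphismProperty.isomorphisms _)
    (morphismRestrictStalkMap g O ⟨y, hy⟩)).mp (show IsIso ((g ∣_ O).stalkMap ⟨y, hy⟩) by infer_instance)

/-- Normal modifications of a two-dimensional regular local scheme have no `H¹`. -/
theorem isRationalSing_of_regular (A : Type u) [CommRing A] [IsRegularLocalRing A]
    (hA : ringKrullDim A = 2) : Curv2.IsRationalSing A := by
  classical
  obtain ⟨_, _⟩ := RegDimTwo.ufd A hA
  haveI := RegLoc6.isIntegrallyClosed_of_isRegularLocalRing A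
  intro X f hf hX hXn ⟨U, hU, hfU⟩
  haveI := hf
  haveI := hX
  haveI := hfU
  let Y : Scheme.{u} := Spec (CommRingCat.of A)
  haveI : IsIntegral Y := inferInstance
  -- the rational section
  let K := FractionRing A
  let eK : Spec (CommRingCat.of K) ⟶ Y := Spec.map (CommRingCat.ofHom (algebraMap A K))
  have heK : ∀ v, eK v = genericPoint Y := fun v => by
    rw [genericPoint_eq_bot_of_affine]
    refine PrimeSpectrum.ext ?_
    show Ideal.comap (algebraMap A K) (PrimeSpectrum.asIdeal (R := K) v) = ⊥
    rw [(Ideal.eq_bot_or_top _).resolve_right (PrimeSpectrum.isPrime v).ne_top]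
    exact Ideal.comap_bot_of_injective _ (IsFractionRing.injective A K)
  have hr : Set.range eK ⊆ Set.range U.ι := by
    rintro _ ⟨v, rfl⟩
    rw [heK, Scheme.Opens.range_ι]
    exact ((genericPoint_spec Y).mem_open_set_iff U.isOpen).2 (by simpa using hU)
  let e : Spec (CommRingCat.of K) ⟶ X :=
    IsOpenImmersion.lift U.ι eK hr ≫ inv (f ∣_ U) ≫ (f ⁻¹ᵁ U).ι
  have he : e ≫ f = eK := by
    simp only [e, Category.assoc]
    rw [← morphismRestrict_ι, IsIso.inv_hom_id_assoc, IsOpenImmersion.lift_fac]
  obtain ⟨P, hP, hdomn⟩ := exists_pairs_dominating f e he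
  let J : Ideal A := ∏ q ∈ P, Ideal.span {q.1, q.2}
  let I : Y.IdealSheafData := BlowUpLib.centre J
  have hsupp : ∀ y ∈ (I.support : Set Y), y = IsLocalRing.closedPoint A := by
    intro y hy
    have hy' : J ≤ (y : PrimeSpectrum A).asIdeal := by
      rw [show I = Curv2.idealSheaf A J from rfl, Curv2.idealSheaf,
        Scheme.IdealSheafData.coe_support_ofIdealTop, AlgebraicGeometry.Spec_zeroLocus, ← Ideal.coe_comap,
        Ideal.comap_map_of_bijective (Scheme.ΓSpecIso (CommRingCat.of A)).inv.hom
          (Scheme.ΓSpecIso (CommRingCat.of A)).symm.commRingCatIsoToRingEquiv.bijective] at hy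
      exact hy
    haveI := (y : PrimeSpectrum A).2
    obtain ⟨q, hq, hqy⟩ := (Ideal.IsPrime.prod_le inferInstance).1 hy'
    refine PrimeSpectrum.ext (IsLocalRing.eq_maximalIdeal ?_)
    exact isMaximal_of_coprime hA (hP q hq).1 (hP q hq).2 _
      (hqy (Ideal.subset_span (Set.mem_insert _ _))) (hqy (Ideal.subset_span (Set.mem_insert_of_mem _ rfl)))
  have hps : IsPointSupported I := by
    refine ⟨(Set.finite_singleton _).subset fun y hy => hsupp y hy, fun y hy => ?_⟩
    rw [hsupp y hy]
    have σ := (AlgebraicGeometry.stalkClosedPointIso (CommRingCat.of A)).symm.commRingCatIsoToRingEquiv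
    exact ⟨IsLocalRing.isClosed_singleton_closedPoint A, IsRegularLocalRing.of_ringEquiv σ,
      (ringKrullDim_eq_of_ringEquiv σ).symm.trans hA⟩
  obtain ⟨Z, g, hg, -, hiso, hcart⟩ := isPrincipalizable hps Y (Iso.refl Y).hom (.iso _)
  rw [Iso.refl_hom, Category.comp_id] at hg
  obtain ⟨hZ, -, hgdom, hH⟩ :=
    contractionSeq_facts hg inferInstance (isNormalScheme_Spec A) subsingleton_HH_one_affine
  haveI := hZ
  haveI := hgdom
  obtain ⟨h, hh⟩ := hdomn Z g hZ hgdom fun q hq => isEffCartier_of_prod g P _ hcart q hq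
  haveI : IsProper g := isProper_of_contractionSeq hg
  haveI : IsProper (h ≫ f) := hh.symm ▸ inferInstance
  haveI : IsProper h := IsProper.of_comp h f
  let O : Y.Opens := ⟨{IsLocalRing.closedPoint A}ᶜ, (IsLocalRing.isClosed_singleton_closedPoint A).isOpen_compl⟩
  haveI : IsIso (g ∣_ O) := hiso O fun y hy hys => hy (hsupp y hys)
  have hgη : g (genericPoint Z) = genericPoint Y :=
    ((genericPoint_spec Z).image g.continuous).eq (by
      rw [Set.image_univ, hgdom.denseRange.closure_eq]; exact genericPoint_spec Y)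
  have hne : genericPoint Y ≠ IsLocalRing.closedPoint A := by
    intro h0
    rw [genericPoint_eq_bot_of_affine] at h0
    have h1 : (⊥ : Ideal A) = IsLocalRing.maximalIdeal A := congrArg PrimeSpectrum.asIdeal h0
    rw [ringKrullDim_eq_zero_of_isField (IsLocalRing.isField_iff_maximalIdeal_eq.2 h1.symm)] at hA
    exact two_ne_zero hA.symm
  have hη : h (genericPoint Z) = genericPoint X := by
    have hfh : f (h (genericPoint Z)) = genericPoint Y := by
      rw [← Scheme.Hom.comp_apply, hh, hgη]
    have hηY : genericPoint Y ∈ U :=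
      ((genericPoint_spec Y).mem_open_set_iff U.isOpen).2 (by simpa using hU)
    have hfX : f (genericPoint X) = genericPoint Y := by
      have h1 : genericPoint X ⤳ h (genericPoint Z) := genericPoint_specializes _
      exact ((h1.map f.continuous).trans (specializes_of_eq hfh)).antisymm (genericPoint_specializes _) |>.eq
    have hinj : Function.Injective (f ∣_ U) := (f ∣_ U).homeomorph.injective
    have := @hinj ⟨h (genericPoint Z), show f _ ∈ U from hfh ▸ hηY⟩
      ⟨genericPoint X, show f _ ∈ U from hfX ▸ hηY⟩ (Subtype.ext (by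
        rw [morphismRestrict_base_coe, morphismRestrict_base_coe]; exact hfh.trans hfX.symm))
    exact congrArg Subtype.val this
  have hbir : Function.Bijective
      (X.presheaf.stalkSpecializes (specializes_of_eq hη) ≫ h.stalkMap (genericPoint Z)).hom := by
    haveI : IsIso ((h ≫ f).stalkMap (genericPoint Z)) := by
      rw [hh]
      exact isIso_stalkMap_of_restrict g O (show g (genericPoint Z) ∈ O from hgη ▸ hne)
    haveI : IsIso (f.stalkMap (h (genericPoint Z))) := by
      refine isIso_stalkMap_of_restrict f U ?_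
      rw [← Scheme.Hom.comp_apply, hh, hgη]
      exact ((genericPoint_spec Y).mem_open_set_iff U.isOpen).2 (by simpa using hU)
    haveI : IsIso (h.stalkMap (genericPoint Z)) := by
      have h1 : IsIso (f.stalkMap (h (genericPoint Z)) ≫ h.stalkMap (genericPoint Z)) := by
        rw [← Scheme.Hom.stalkMap_comp]; infer_instance
      exact IsIso.of_isIso_comp_left (f.stalkMap (h (genericPoint Z))) _
    haveI : IsIso (X.presheaf.stalkSpecializes (specializes_of_eq hη)) :=
      (TopCat.Presheaf.stalkCongr X.presheaf (Inseparable.of_eq hη.symm)).isIso_hom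
    exact ConcreteCategory.bijective_of_isIso _
  obtain ⟨i⟩ := exists_iso_push_structure h (bijective_app_of_birational h hXn hη hbir)
  exact subsingleton_H_one_of_push h.base i hH

end Groth.Agent.ResSurf
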