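import Groth.Agent.InvX.GenLocus
import Groth.Agent.KFlatLib.Scheme.Sky
import Groth.Agent.QCoh.Stalk
import Groth.Prelude.Def_Curv2

/-!
# Sections of a globally generated module over an affine open are spanned by global sections
-/

universe u

open CategoryTheory CategoryTheory.Limits AlgebraicGeometry TopologicalSpace Opposite

set_option backward.isDefEq.respectTransparency false
set_option backward.isDefEq.respectTransparency.types false
set_option linter.style.haveILetI false

namespace Groth.Agent.ResSurf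

open Groth.Agent

variable {X : Scheme.{u}} {F : X.Modules}

/-- Germs of global sections span the stalks of a globally generated module. -/
theorem span_germ_eq_top (hgg : Curv2.IsGloballyGenerated F) (x : X) :
    Submodule.span (X.presheaf.stalk x)
      (Set.range fun t : Γ(F, ⊤) => F.presheaf.germ ⊤ x trivial t) = ⊤ := by
  obtain ⟨ι, p, hp⟩ := hgg
  let R := X.presheaf.stalk x
  let P : Submodule R (F.presheaf.stalk x) :=
    Submodule.span R (Set.range fun t : Γ(F, ⊤) => F.presheaf.germ ⊤ x trivial t)
  let N : ModuleCat.{u} R := ModuleCat.of R (F.presheaf.stalk x ⧸ P)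
  let g : F ⟶ KFlatLib.skyObjM x N :=
    ⟨{ app := fun V => ModuleCat.ofHom (Y := KFlatLib.skyObj x N V)
        { toFun := fun a h => (P.mkQ ((F.presheaf.germ V.unop x h.down).hom a) : N)
          map_add' := fun a b => funext fun h => by
            show P.mkQ ((F.presheaf.germ V.unop x h.down).hom (a + b)) = _
            exact ((congrArg P.mkQ (map_add (F.presheaf.germ V.unop x h.down).hom a b)).trans
              (map_add P.mkQ _ _))
          map_smul' := fun r a => funext fun h => by
            show P.mkQ ((F.presheaf.germ V.unop x h.down).hom (r • a)) =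
              (X.presheaf.germ V.unop x h.down r) • (P.mkQ ((F.presheaf.germ V.unop x h.down).hom a) : N)
            exact ((congrArg P.mkQ (QCoh.germ_smul' F h.down r a)).trans
              (map_smul P.mkQ _ _)) }
       naturality := fun {V W} i => by
         ext a
         funext h
         exact congrArg P.mkQ (F.presheaf.germ_res_apply i.unop x h.down a) }⟩
  have hg0 : g = 0 := by
    rw [← cancel_epi p, Limits.comp_zero]
    refine Sigma.hom_ext _ _ fun i => ?_
    rw [Limits.comp_zero, ← Category.assoc]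
    apply Scheme.Modules.hom_ext
    intro V
    ext a
    funext h
    show P.mkQ ((F.presheaf.germ V x h.down).hom
      ((Sigma.ι (fun _ : ι => Coh.structureModule X) i ≫ p).app V a)) = 0
    rw [Submodule.mkQ_apply, Submodule.Quotient.mk_eq_zero]
    rw [show (Sigma.ι (fun _ : ι => Coh.structureModule X) i ≫ p).app V a =
      (show Γ(X, V) from a) • AModX.res F (le_top : V ≤ ⊤)
        (InvX.one (Sigma.ι (fun _ : ι => Coh.structureModule X) i ≫ p)) from InvX.app_eq_smul _ _]
    rw [QCoh.germ_smul' F h.down]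
    refine Submodule.smul_mem _ _ ?_
    rw [show (F.presheaf.germ V x h.down).hom (AModX.res F (le_top : V ≤ ⊤)
        (InvX.one (Sigma.ι (fun _ : ι => Coh.structureModule X) i ≫ p))) =
      (F.presheaf.germ ⊤ x trivial).hom (InvX.one (Sigma.ι (fun _ : ι => Coh.structureModule X) i ≫ p))
      from F.presheaf.germ_res_apply (homOfLE le_top) x h.down _]
    exact Submodule.subset_span ⟨_, rfl⟩
  refine eq_top_iff.2 fun z _ => ?_
  obtain ⟨W, hxW, m, rfl⟩ := TopCat.Presheaf.exists_germ_eq F.presheaf z
  show _ ∈ P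
  rw [← Submodule.Quotient.mk_eq_zero]
  have := congrArg (fun φ => (φ : F ⟶ KFlatLib.skyObjM x N).app W m) hg0
  exact congrFun this ⟨hxW⟩

/-- On an affine open, restrictions of global sections of a globally generated quasi-coherent
module span. -/
theorem span_res_eq_top (hF : Coh.IsQCoh F) (hgg : Curv2.IsGloballyGenerated F) {W : X.Opens}
    (hW : IsAffineOpen W) :
    Submodule.span Γ(X, W)
      (Set.range fun t : Γ(F, ⊤) => F.presheaf.map (homOfLE (le_top : W ≤ ⊤)).op t) = ⊤ := by
  set N := Submodule.span Γ(X, W)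
    (Set.range fun t : Γ(F, ⊤) => F.presheaf.map (homOfLE (le_top : W ≤ ⊤)).op t)
  refine eq_top_iff.2 fun c _ => ?_
  by_contra hc
  let I : Ideal Γ(X, W) := N.comap (LinearMap.toSpanSingleton Γ(X, W) Γ(F, W) c)
  have hI : I ≠ ⊤ := fun h => hc (by
    have h1 : (1 : Γ(X, W)) ∈ I := h ▸ trivial
    rw [Submodule.mem_comap, LinearMap.toSpanSingleton_apply, one_smul] at h1
    exact h1)
  obtain ⟨q, hq, hIq⟩ := Ideal.exists_le_maximal I hI
  obtain ⟨x, hx, hxq⟩ := QCoh.exists_point hW ⟨q, hq.isPrime⟩
  letI := QCoh.stalkAlg (X := X) hx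
  letI := QCoh.stalkModule F hx
  haveI := QCoh.isScalarTower_stalk F hx
  haveI := QCoh.isLocalization_stalk' hW hx
  haveI := QCoh.isLocalizedModule_germLin hF hW hx
  have h1 : QCoh.germLin F hx c ∈ N.localized' (X.presheaf.stalk x)
      (hW.primeIdealOf ⟨x, hx⟩).asIdeal.primeCompl (QCoh.germLin F hx) := by
    have h2 : N.localized' (X.presheaf.stalk x) (hW.primeIdealOf ⟨x, hx⟩).asIdeal.primeCompl
        (QCoh.germLin F hx) = ⊤ := by
      rw [Submodule.localized'_span, ← Set.range_comp, eq_top_iff, ← span_germ_eq_top hgg x]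
      refine Submodule.span_le.2 ?_
      rintro _ ⟨t, rfl⟩
      exact Submodule.subset_span ⟨t, F.presheaf.germ_res_apply (homOfLE (le_top : W ≤ ⊤)) x hx t⟩
    exact h2 ▸ trivial
  obtain ⟨m, hm, s, hs⟩ := (Submodule.mem_localized' _ _ _ _ _).1 h1
  rw [IsLocalizedModule.mk'_eq_iff, Submonoid.smul_def, ← map_smul] at hs
  obtain ⟨s', hs'⟩ := (IsLocalizedModule.eq_iff_exists (hW.primeIdealOf ⟨x, hx⟩).asIdeal.primeCompl
    (QCoh.germLin F hx)).1 hs
  have hmem : (s' : Γ(X, W)) * s ∈ I := by
    show ((s' : Γ(X, W)) * s) • c ∈ N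
    rw [mul_smul, ← Submonoid.smul_def, ← hs']
    exact N.smul_mem _ hm
  have h3 := hIq hmem
  have hq' : q = (hW.primeIdealOf ⟨x, hx⟩).asIdeal := by rw [hxq]
  exact (mul_mem s'.2 s.2 : (s' : Γ(X, W)) * s ∈ (hW.primeIdealOf ⟨x, hx⟩).asIdeal.primeCompl) (hq' ▸ h3)

end Groth.Agent.ResSurf
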