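import Groth.Agent.ResSurf.Birat
import Mathlib.AlgebraicGeometry.Morphisms.Proper

/-!
# The closure of the graph of a rational map
-/

universe u

open CategoryTheory CategoryTheory.Limits AlgebraicGeometry TopologicalSpace

set_option backward.isDefEq.respectTransparency false
set_option linter.style.haveILetI false

namespace Groth.Agent.ResSurf

open Groth.Agent

/-- A morphism into a proper scheme, defined on an open, extends to a modification which is an isomorphism
over that open. -/
theorem exists_graph_closure {S X Y : Scheme.{u}} [IsIntegral X] [IsLocallyNoetherian X] (p : X ⟶ S)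
    (q : Y ⟶ S) [IsProper q] (U : X.Opens) (hU : (U : Set X).Nonempty) (f : (U : Scheme.{u}) ⟶ Y)
    (hf : f ≫ q = U.ι ≫ p) :
    ∃ (G : Scheme.{u}) (π : G ⟶ X) (χ : G ⟶ Y), IsIntegral G ∧ IsProper π ∧ IsIso (π ∣_ U) ∧
      χ ≫ q = π ≫ p ∧ (π ⁻¹ᵁ U).ι ≫ χ = (π ∣_ U) ≫ f := by
  haveI : Nonempty (U : Scheme.{u}) := hU.to_subtype
  haveI : IsProper (pullback.fst p q) := MorphismProperty.pullback_fst p q inferInstance
  haveI : IsLocallyNoetherian (pullback p q) := LocallyOfFiniteType.isLocallyNoetherian (pullback.fst p q)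
  let s : (U : Scheme.{u}) ⟶ pullback p q := pullback.lift U.ι f hf.symm
  haveI : QuasiCompact (s ≫ pullback.fst p q) := by rw [pullback.lift_fst]; infer_instance
  haveI : QuasiCompact s := QuasiCompact.of_comp s (pullback.fst p q)
  haveI : IsIntegral s.image := isIntegral_image s
  let π : s.image ⟶ X := s.imageι ≫ pullback.fst p q
  have ht : s.toImage ≫ π = U.ι := by
    rw [Scheme.Hom.toImage_imageι_assoc, pullback.lift_fst]
  have hr : Set.range s.toImage ⊆ Set.range (π ⁻¹ᵁ U).ι := by
    rw [Scheme.Opens.range_ι]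
    rintro _ ⟨w, rfl⟩
    show π (s.toImage w) ∈ U
    rw [← Scheme.Hom.comp_apply, ht]
    exact w.2
  let t := IsOpenImmersion.lift (π ⁻¹ᵁ U).ι s.toImage hr
  have htι : t ≫ (π ⁻¹ᵁ U).ι = s.toImage := IsOpenImmersion.lift_fac _ _ _
  have htπ : t ≫ (π ∣_ U) = 𝟙 _ := by
    rw [← cancel_mono U.ι, Category.assoc, morphismRestrict_ι, ← Category.assoc, htι, ht, Category.id_comp]
  haveI : IsClosedImmersion (t ≫ (π ∣_ U)) := by rw [htπ]; infer_instance
  haveI : IsClosedImmersion t := IsClosedImmersion.of_comp t (π ∣_ U)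
  haveI : Surjective t := by
    refine ⟨fun w => ?_⟩
    have hw : w ∈ closure (Set.range t) := by
      rw [(π ⁻¹ᵁ U).ι.isOpenEmbedding.isEmbedding.isInducing.closure_eq_preimage_closure_image,
        ← Set.range_comp, Set.mem_preimage]
      have : Set.range ((π ⁻¹ᵁ U).ι ∘ t) = Set.range s.toImage := by
        have e := congrArg (fun k : (U : Scheme.{u}) ⟶ s.image => Set.range k) htι
        simpa using e
      rw [this, s.toImage.denseRange.closure_eq]
      trivial
    rwa [t.isClosedEmbedding.isClosed_range.closure_eq] at hw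
  haveI : IsIso t := isIso_of_isClosedImmersion_of_surjective t
  haveI hiso : IsIso (π ∣_ U) := by
    have : π ∣_ U = inv t := IsIso.eq_inv_of_hom_inv_id htπ
    rw [this]; infer_instance
  refine ⟨s.image, π, s.imageι ≫ pullback.snd p q, inferInstance, inferInstance, hiso, ?_, ?_⟩
  · simp only [π, Category.assoc, pullback.condition]
  · rw [← cancel_epi t, reassoc_of% htι, ← Category.assoc t, htπ, Category.id_comp,
      Scheme.Hom.toImage_imageι_assoc, pullback.lift_snd]

end Groth.Agent.ResSurf
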