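import Groth.Agent.ResSurf.Birat
import Groth.Agent.DimFormula.Scheme
import Groth.Agent.FibDim.AffineSpaceFibre
import Mathlib.AlgebraicGeometry.Morphisms.Finite
import Mathlib.RingTheory.DedekindDomain.PID

/-!
# Points of birational models of a two-dimensional scheme: residue fields, local dimension
-/

universe u

open CategoryTheory CategoryTheory.Limits AlgebraicGeometry IsLocalRing Polynomial TopologicalSpace

set_option backward.isDefEq.respectTransparency false
set_option backward.isDefEq.respectTransparency.types false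
set_option linter.style.haveILetI false

namespace Groth.Agent.ResSurf

open Groth.Agent

variable {Z X : Scheme.{u}}

/-- At a closed point, everything is integral over the image modulo the maximal ideal. -/
theorem exists_monic_eval_mem (c : Z ⟶ X) [LocallyOfFiniteType c] {z : Z} (hz : IsClosed ({z} : Set Z))
    (e : Z.presheaf.stalk z) :
    ∃ P : (X.presheaf.stalk (c z))[X], P.Monic ∧ P.eval₂ (c.stalkMap z).hom e ∈ maximalIdeal _ := by
  haveI := isClosed_singleton_iff_isClosedImmersion.mp hz
  have h1 : LocallyOfFiniteType (Spec.map (c.residueFieldMap z) ≫ X.fromSpecResidueField (c z)) := by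
    rw [Scheme.Hom.SpecMap_residueFieldMap_fromSpecResidueField]; infer_instance
  haveI := locallyOfFiniteType_of_comp (Spec.map (c.residueFieldMap z)) (X.fromSpecResidueField (c z))
  have h2 : (c.residueFieldMap z).hom.FiniteType :=
    (HasRingHomProperty.Spec_iff (P := @LocallyOfFiniteType)).1 inferInstance
  let k := X.residueField (c z)
  let K := Z.residueField z
  letI : Algebra k K := (c.residueFieldMap z).hom.toAlgebra
  haveI : Algebra.FiniteType k K := h2
  haveI : Module.Finite k K := finite_of_finite_type_of_isJacobsonRing _ _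
  obtain ⟨p, hp, hpe⟩ := (Algebra.IsIntegral.of_finite k K).isIntegral (Z.residue z e)
  obtain ⟨P, hP, -, hPm⟩ := Polynomial.lifts_and_degree_eq_and_monic
    (Polynomial.map_surjective (X.residue (c z)).hom (X.residue_surjective (c z)) p) hp
  refine ⟨P, hPm, (IsLocalRing.residue_eq_zero_iff _).1 ?_⟩
  show Z.residue z (P.eval₂ (c.stalkMap z).hom e) = 0
  rw [Polynomial.hom_eval₂]
  have h3 : (Z.residue z).hom.comp (c.stalkMap z).hom =
      (c.residueFieldMap z).hom.comp (X.residue (c z)).hom := by
    have := Scheme.residue_residueFieldMap c z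
    exact (congrArg CommRingCat.Hom.hom this).symm
  rw [h3, ← Polynomial.eval₂_map, hP]
  exact hpe

/-- At a non-closed point of a fibre, some unit is transcendental modulo the maximal ideal. -/
theorem exists_transcendental (f : Z ⟶ X) {ξ y : Z} (h : ξ ⤳ y) (hne : ξ ≠ y) (hf : f ξ = f y) :
    ∃ u : Z.presheaf.stalk ξ, IsUnit u ∧ ∀ P : (X.presheaf.stalk (f ξ))[X], P.Monic →
      P.eval₂ (f.stalkMap ξ).hom u ∉ maximalIdeal _ := by
  let sp := Z.presheaf.stalkSpecializes h
  have hnl : ¬ IsLocalHom sp.hom := fun hl => hne (by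
    have h1 := congrArg (fun k : Spec (Z.presheaf.stalk ξ) ⟶ Z => k (closedPoint _))
      (Scheme.SpecMap_stalkSpecializes_fromSpecStalk (X := Z) h)
    simp only [Scheme.Hom.comp_apply] at h1
    rw [Spec_closedPoint, Z.fromSpecStalk_closedPoint, Z.fromSpecStalk_closedPoint] at h1
    exact h1.symm)
  obtain ⟨b, hbu, hb⟩ : ∃ b, IsUnit (sp.hom b) ∧ ¬ IsUnit b := by
    by_contra hcon
    exact hnl ⟨fun b hb => by_contra fun hbu => hcon ⟨b, hb, hbu⟩⟩
  let ec := X.presheaf.stalkSpecializes (h.map f.continuous)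
  have hcomm : ec ≫ f.stalkMap ξ = f.stalkMap y ≫ sp := Scheme.Hom.stalkSpecializes_stalkMap f ξ y h
  have hiso : ∀ {a b : X} (hab : a = b) (s : a ⤳ b), IsIso (X.presheaf.stalkSpecializes s) := by
    intro a b hab s; subst hab
    rw [TopCat.Presheaf.stalkSpecializes_refl]; infer_instance
  haveI : IsIso ec := hiso hf _
  haveI : IsLocalHom ec.hom := isLocalHom_of_isIso ec
  have main : ∀ n, ∀ Q : (X.presheaf.stalk (f y))[X], Q.natDegree = n → Q.Monic →
      IsUnit (sp.hom (Q.eval₂ (f.stalkMap y).hom b)) := by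
    intro n
    induction n with
    | zero =>
      intro Q hn hQ
      rw [(hQ.natDegree_eq_zero).1 hn]
      simp
    | succ n ih =>
      intro Q hn hQ
      have hQ' : Q.divX.natDegree = n := by rw [natDegree_divX_eq_natDegree_tsub_one, hn]; omega
      have hQm : Q.divX.Monic := by
        show Q.divX.coeff Q.divX.natDegree = 1
        rw [hQ', coeff_divX, ← hn]
        exact hQ
      rw [← Q.X_mul_divX_add, eval₂_add, eval₂_mul, eval₂_X, eval₂_C]
      by_cases ha : IsUnit (Q.coeff 0)
      · refine IsUnit.map sp.hom ?_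
        by_contra hu
        exact (mem_maximalIdeal _).1 (by
          have := Ideal.sub_mem _ ((mem_maximalIdeal _).2 hu)
            ((maximalIdeal (Z.presheaf.stalk y)).mul_mem_right (Q.divX.eval₂ (f.stalkMap y).hom b)
              ((mem_maximalIdeal _).2 hb))
          simpa using this) (IsUnit.map (f.stalkMap y).hom ha)
      · rw [map_add, map_mul]
        have hm : sp.hom ((f.stalkMap y).hom (Q.coeff 0)) ∈ maximalIdeal _ := by
          rw [show sp.hom ((f.stalkMap y).hom (Q.coeff 0)) = (f.stalkMap ξ).hom (ec.hom (Q.coeff 0)) from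
            (RingHom.congr_fun (congrArg CommRingCat.Hom.hom hcomm) (Q.coeff 0)).symm]
          exact (mem_maximalIdeal _).2 fun hu => ha
            (isUnit_of_map_unit ec.hom _ (isUnit_of_map_unit (f.stalkMap ξ).hom _ hu))
        by_contra hu
        have := Ideal.sub_mem _ ((mem_maximalIdeal _).2 hu) hm
        rw [add_sub_cancel_right] at this
        exact (mem_maximalIdeal _).1 this (hbu.mul (ih _ hQ' hQm))
  refine ⟨sp.hom b, hbu, fun P hP hmem => ?_⟩
  obtain ⟨Q, hQ, -, hQm⟩ := Polynomial.lifts_and_degree_eq_and_monic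
    (Polynomial.map_surjective ec.hom ((ConcreteCategory.bijective_of_isIso ec).2) P) hP
  have h2 := main _ Q rfl hQm
  rw [Polynomial.hom_eval₂] at h2
  have h3 : sp.hom.comp (f.stalkMap y).hom = (f.stalkMap ξ).hom.comp ec.hom :=
    (congrArg CommRingCat.Hom.hom hcomm).symm
  rw [h3, ← Polynomial.eval₂_map, hQ] at h2
  exact (mem_maximalIdeal _).1 hmem h2

theorem exists_specializes_of_not_isClosed {z : Z} (hz : ¬ IsClosed ({z} : Set Z)) :
    ∃ y, z ⤳ y ∧ z ≠ y := by
  by_contra hcon
  refine hz (closure_subset_iff_isClosed.1 fun y hy => ?_)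
  by_contra hne
  exact hcon ⟨y, specializes_iff_mem_closure.2 hy, fun h => hne h.symm⟩

theorem eq_of_specializes_closed {x y : X} (hx : IsClosed ({x} : Set X)) (h : x ⤳ y) : y = x :=
  h.mem_closed hx rfl

theorem codim_le_of_dim_le [IsLocallyNoetherian X] {d : ℕ} (hd : topologicalKrullDim X ≤ d) (x : X) :
    DimFormula.codim x ≤ d := by
  have h1 : topologicalKrullDim X = Order.krullDim X :=
    Order.krullDim_eq_of_orderIso irreducibleSetEquivPoints
  have h2 := Order.coheight_le_krullDim x
  rw [← DimFormula.coe_codim, ← h1] at h2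
  exact_mod_cast h2.trans hd

/-- The dimension inequality for a birational morphism. -/
theorem codim_add_rd_le [IsIntegral Z] [IsIntegral X] [IsLocallyNoetherian X] (c : Z ⟶ X) [LocallyOfFiniteType c]
    [IsSeparated c] (hc : IsBirat c) (z : Z) :
    haveI := LocallyOfFiniteType.isLocallyNoetherian c
    DimFormula.codim z + FibDim.rd c z ≤ DimFormula.codim (c z) := by
  haveI := LocallyOfFiniteType.isLocallyNoetherian c
  have hgen : FibDim.rd c (genericPoint Z) = 0 := by
    have hset : closure {genericPoint Z} ∩ c ⁻¹' {c (genericPoint Z)} = {genericPoint Z} :=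
      Set.eq_singleton_iff_unique_mem.2 ⟨⟨subset_closure rfl, rfl⟩,
        fun w hw => hc.eq_genericPoint (hw.2.trans hc.apply_genericPoint)⟩
    have h := FibDim.dim_closure_inter c (genericPoint Z)
    rw [hset] at h
    have h1 : topologicalKrullDim ↥({genericPoint Z} : Set Z) ≤ 0 :=
      topologicalKrullDim_zero_of_discreteTopology _
    rw [h] at h1
    have h2 : ((FibDim.rd c (genericPoint Z) : ℕ∞)) ≤ 0 := WithBot.coe_le_coe.1 h1
    exact_mod_cast nonpos_iff_eq_zero.1 h2
  have hf := (DimFormula.cd_formula c (genericPoint_specializes z)).1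
  rw [hgen, hc.apply_genericPoint, add_zero, DimFormula.cd_eq_codim_of_irreducible,
    DimFormula.cd_eq_codim_of_irreducible] at hf
  exact hf

/-- On a birational model of a scheme of dimension at most two, a non-closed point has codimension at most one. -/
theorem codim_le_one [IsIntegral Z] [IsIntegral X] [IsLocallyNoetherian X] (c : Z ⟶ X) [LocallyOfFiniteType c]
    [IsSeparated c] (hc : IsBirat c) (hd : topologicalKrullDim X ≤ 2) {z : Z} (hz : ¬ IsClosed ({z} : Set Z)) :
    haveI := LocallyOfFiniteType.isLocallyNoetherian c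
    DimFormula.codim z ≤ 1 := by
  haveI := LocallyOfFiniteType.isLocallyNoetherian c
  have hf := codim_add_rd_le c hc z
  obtain ⟨y, hy, hne⟩ := exists_specializes_of_not_isClosed hz
  by_cases he : c z = c y
  · have := FibDim.rd_lt c hy hne he
    have := codim_le_of_dim_le (d := 2) (by exact_mod_cast hd) (c z)
    omega
  · have h1 : 1 ≤ DimFormula.cd (c z) (c y) :=
      Nat.one_le_iff_ne_zero.2 fun h0 => he ((DimFormula.cd_eq_zero_iff (hy.map c.continuous)).1 h0)
    have h2 := DimFormula.cd_add_cd_le (hy.map c.continuous) (genericPoint_specializes (c z))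
    rw [DimFormula.cd_eq_codim_of_irreducible, DimFormula.cd_eq_codim_of_irreducible] at h2
    have := codim_le_of_dim_le (d := 2) (by exact_mod_cast hd) (c y)
    omega

/-- A non-closed point of a normal birational model has a valuation ring as local ring. -/
theorem valuationRing_of_not_isClosed [IsIntegral Z] [IsIntegral X] [IsLocallyNoetherian X] (c : Z ⟶ X)
    [LocallyOfFiniteType c] [IsSeparated c] (hc : IsBirat c) (hn : Pi1.IsNormalScheme Z)
    (hd : topologicalKrullDim X ≤ 2) {z : Z} (hz : ¬ IsClosed ({z} : Set Z)) :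
    ValuationRing (Z.presheaf.stalk z) := by
  haveI := LocallyOfFiniteType.isLocallyNoetherian c
  haveI : IsIntegrallyClosed (Z.presheaf.stalk z) := (hn z).2
  have h : ringKrullDim (Z.presheaf.stalk z) ≤ 1 := by
    rw [DimFormula.ringKrullDim_stalk]
    exact_mod_cast codim_le_one c hc hd hz
  haveI : Ring.DimensionLEOne (Z.presheaf.stalk z) :=
    ⟨fun {p} hp hpp => Ring.krullDimLE_one_iff_of_noZeroDivisors.1
      ((Ring.krullDimLE_iff).2 (by exact_mod_cast h)) p hp hpp⟩
  haveI : IsDedekindDomain (Z.presheaf.stalk z) := { }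
  haveI : IsPrincipalIdealRing (Z.presheaf.stalk z) := by
    refine IsPrincipalIdealRing.of_finite_primes ?_
    exact Set.Finite.subset ((Set.finite_singleton (maximalIdeal _)).insert ⊥) fun P hP => by
      by_cases h0 : P = ⊥
      · exact Or.inl h0
      · exact Or.inr (eq_maximalIdeal (Ring.DimensionLEOne.maximalOfPrime h0 hP))
  exact ValuationRing.iff_local_bezout_domain.2 ⟨inferInstance, inferInstance⟩

/-- The non-closed points over closed points, away from the isomorphism locus, are finite in number. -/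
theorem finite_nonclosed [IsIntegral Z] [IsIntegral X] [IsLocallyNoetherian X] (c : Z ⟶ X) [LocallyOfFiniteType c]
    [IsSeparated c] [NoetherianSpace Z] (hc : IsBirat c) (hd : topologicalKrullDim X ≤ 2) (U : X.Opens)
    (hU : (U : Set X).Nonempty) [IsIso (c ∣_ U)] :
    {ξ : Z | ¬ IsClosed ({ξ} : Set Z) ∧ IsClosed ({c ξ} : Set X)}.Finite := by
  haveI := LocallyOfFiniteType.isLocallyNoetherian c
  have hη : genericPoint Z ∈ c ⁻¹ᵁ U := by
    show c (genericPoint Z) ∈ U
    rw [hc.apply_genericPoint]
    exact ((genericPoint_spec X).mem_open_set_iff U.2).2 (by simpa using hU)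
  let W : Closeds Z := (c ⁻¹ᵁ U).compl
  obtain ⟨S, hS⟩ := NoetherianSpace.exists_finset_irreducible W
  refine Set.Finite.subset (S.finite_toSet.biUnion fun T _ => ?_ :
    (⋃ T ∈ (S : Set (Closeds Z)), {ξ : Z | closure {ξ} = (T : Set Z)}).Finite) ?_
  · exact Set.Subsingleton.finite fun a ha b hb =>
      ((specializes_iff_closure_subset.2 (hb.trans ha.symm).le).antisymm
        (specializes_iff_closure_subset.2 (ha.trans hb.symm).le)).eq
  rintro ξ ⟨hξ, hx⟩
  obtain ⟨y, hy, hne⟩ := exists_specializes_of_not_isClosed hξ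
  have hcy : c y = c ξ := eq_of_specializes_closed hx (hy.map c.continuous)
  have hξW : ξ ∈ (W : Set Z) := fun hmem => hne (by
    have hyU : y ∈ c ⁻¹ᵁ U := show c y ∈ U from hcy ▸ hmem
    have e : (c ∣_ U) ⟨ξ, hmem⟩ = (c ∣_ U) ⟨y, hyU⟩ := Subtype.ext (by
      rw [morphismRestrict_base_coe, morphismRestrict_base_coe]; exact hcy.symm)
    exact congrArg Subtype.val ((c ∣_ U).isOpenEmbedding.injective e))
  obtain ⟨hS1, hS2⟩ := hS
  obtain ⟨T, hT, hξT⟩ : ∃ T ∈ S, ξ ∈ (T : Set Z) := by
    have := hS2 ▸ hξW
    simpa [Closeds.coe_finset_sup] using this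
  refine Set.mem_biUnion hT ?_
  obtain ⟨η, hη'⟩ := QuasiSober.sober (hS1 ⟨T, hT⟩) T.isClosed
  have hs : η ⤳ ξ := hη'.specializes hξT
  by_cases he : η = ξ
  · exact he ▸ hη'.def
  exfalso
  have hηW : η ∈ (W : Set Z) := by
    rw [hS2]
    simpa [Closeds.coe_finset_sup] using ⟨T, hT, hη'.mem⟩
  have hne' : genericPoint Z ≠ η := fun h => hηW (h ▸ hη)
  have h1 : 1 ≤ DimFormula.cd (genericPoint Z) η := Nat.one_le_iff_ne_zero.2 fun h0 =>
    hne' ((DimFormula.cd_eq_zero_iff (genericPoint_specializes η)).1 h0)
  have h2 : 1 ≤ DimFormula.cd η ξ := Nat.one_le_iff_ne_zero.2 fun h0 =>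
    he ((DimFormula.cd_eq_zero_iff hs).1 h0)
  have h3 := DimFormula.cd_add_cd_le hs (genericPoint_specializes η)
  rw [DimFormula.cd_eq_codim_of_irreducible, DimFormula.cd_eq_codim_of_irreducible] at h3
  rw [DimFormula.cd_eq_codim_of_irreducible] at h1
  have := codim_le_one c hc hd hξ
  omega

end Groth.Agent.ResSurf
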