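import Groth.Agent.ResSurf.PointExtend
import Groth.Agent.ResSurf.CentrePts
import Groth.Agent.ResSurf.Dominate

/-!
# Point blow-ups of regular surfaces principalize ideals and dominate modifications
-/

universe u

open CategoryTheory CategoryTheory.Limits AlgebraicGeometry TopologicalSpace IsLocalRing

set_option backward.isDefEq.respectTransparency false
set_option backward.isDefEq.respectTransparency.types false
set_option linter.style.haveILetI false
set_option maxHeartbeats 400000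

namespace Groth.Agent.ResSurf.PointDominate

open Groth.Agent PointExtend

variable {X : Scheme.{u}}

/-- Preimages of integral opens under contraction sequences are integral. -/
theorem exists_isIntegral_preimage {X' X : Scheme.{u}} {g : X' ⟶ X} (hg : Models.IsContractionSeq g) :
    ∀ (O : X.Opens) [IsIntegral (O : Scheme.{u})], ∃ _ : IsIntegral (g ⁻¹ᵁ O : Scheme.{u}),
      (g ∣_ O) (genericPoint (g ⁻¹ᵁ O : Scheme.{u})) = genericPoint (O : Scheme.{u}) := by
  induction hg with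
  | iso e =>
    intro O _
    have hη := (inv (e.hom ∣_ O)) (genericPoint (O : Scheme.{u}))
    haveI : Nonempty (e.hom ⁻¹ᵁ O : Scheme.{u}) := ⟨hη⟩
    haveI : IsIntegral (e.hom ⁻¹ᵁ O : Scheme.{u}) := isIntegral_of_isOpenImmersion (e.hom ∣_ O)
    exact ⟨inferInstance, genericPoint_eq_of_isOpenImmersion _⟩
  | @step Y Z X E ι b r hι hE hb hr ih =>
    intro O _
    obtain ⟨_, hgr⟩ := ih O
    obtain ⟨-, hbp, y, hy, -, hreg, hdim, hbl⟩ := hb
    let U : Z.Opens := r ⁻¹ᵁ O
    have hb' := BlowUpLib.isBlowUp_of_isPullback (isPullback_morphismRestrict b U) hbl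
    set C := (Scheme.IdealSheafData.vanishingIdeal ⟨{y}, hy⟩).comap U.ι
    have hC : (C.support : Set (U : Scheme.{u})) = U.ι ⁻¹' {y} := by
      rw [Scheme.IdealSheafData.support_comap]
      rw [Closeds.coe_preimage, Scheme.IdealSheafData.coe_support_vanishingIdeal]
      rfl
    have hgen : genericPoint (U : Scheme.{u}) ∉ C.support := fun h => by
      have h1 : U.ι (genericPoint (U : Scheme.{u})) = y := hC.le h
      subst h1
      have e := (U.stalkIso (genericPoint (U : Scheme.{u}))).commRingCatIsoToRingEquiv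
      haveI : Ring.KrullDimLE 0 (U : Scheme.{u}).functionField := inferInstance
      have h0 : ringKrullDim (U : Scheme.{u}).functionField = 0 := ringKrullDim_eq_zero_of_field _
      have h2 := ringKrullDim_eq_of_ringEquiv e
      have h2' : ringKrullDim (U : Scheme.{u}).functionField = 2 := h2.trans hdim
      rw [h0] at h2'
      exact absurd h2' (by norm_num)
    haveI : IsIntegral (b ⁻¹ᵁ U : Scheme.{u}) := BlowInt.isIntegral hb' hgen
    let O' : (U : Scheme.{u}).Opens := C.support.compl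
    haveI : IsIso ((b ∣_ U) ∣_ O') := BlowUpLib.isIso_restrict hb' O' (fun w hw => hw)
    have hbir : IsBirat (b ∣_ U) := isBirat_of_isIso_restrict (b ∣_ U) O' ⟨_, hgen⟩
    refine ⟨inferInstanceAs (IsIntegral (b ⁻¹ᵁ U : Scheme.{u})), ?_⟩
    rw [morphismRestrict_comp, Scheme.Hom.comp_apply]
    exact (congrArg (r ∣_ O) hbir.apply_genericPoint).trans hgr

/-- Near a regular point of dimension two every ideal becomes principal on schemes principalizing a
suitable ideal sheaf supported at the point. -/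
theorem exists_local_principalization [IsLocallyNoetherian X] {x : X} (hx : IsClosed ({x} : Set X))
    [IsRegularLocalRing (X.presheaf.stalk x)] (hdim : ringKrullDim (X.presheaf.stalk x) = 2)
    (V : X.affineOpens) (hxV : x ∈ V.1) [IsDomain Γ(X, V.1)] (J : Ideal Γ(X, V.1)) (hJ : J ≠ ⊥) :
    ∃ (𝓙 : X.IdealSheafData) (g : Γ(X, V.1)), (𝓙.support : Set X) ⊆ {x} ∧ x ∈ X.basicOpen g ∧
      ∀ (Z : Scheme.{u}) (c : Z ⟶ X), BlowUp.IsEffCartierIdeal (𝓙.comap c) → ∀ z : Z, c z ∈ X.basicOpen g →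
        ∃ (W : Z.affineOpens) (_ : z ∈ W.1) (e : W.1 ≤ c ⁻¹ᵁ V.1) (t : Γ(Z, W.1)),
          J.map (c.appLE V.1 W.1 e).hom = Ideal.span {t} := by
  obtain ⟨𝓙, g, d, hsupp, hxg, -, hJd⟩ := exists_decomposition hx hdim V hxV J hJ
  refine ⟨𝓙, g, hsupp, hxg, fun Z c hc z hz => ?_⟩
  obtain ⟨U, hzU, f, -, hf⟩ := hc z
  obtain ⟨r, hr, hzr⟩ := U.2.exists_basicOpen_le (V := c ⁻¹ᵁ X.basicOpen g) ⟨z, hz⟩ hzU
  let W : Z.affineOpens := Z.affineBasicOpen r
  have e : W.1 ≤ c ⁻¹ᵁ V.1 := hr.trans (c.preimage_mono (X.basicOpen_le g))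
  let res := (X.presheaf.map (homOfLE (X.basicOpen_le g)).op).hom
  let ψ := (c.appLE (X.basicOpen g) W.1 hr).hom
  have hfac : (c.appLE V.1 W.1 e).hom = ψ.comp res := by
    rw [← CommRingCat.hom_comp]
    exact congrArg CommRingCat.Hom.hom (c.map_appLE hr (homOfLE (X.basicOpen_le g)).op).symm
  let f' : Γ(Z, W.1) := Z.presheaf.map (homOfLE (Z.basicOpen_le r)).op f
  refine ⟨W, hzr, e, ψ (res d) * f', ?_⟩
  rw [hfac, ← Ideal.map_map, hJd, Ideal.map_mul, Ideal.map_span, Set.image_singleton,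
    ← Ideal.span_singleton_mul_span_singleton]
  refine congrArg (Ideal.span {ψ (res d)} * ·) ?_
  refine Eq.trans ?_ (?_ : (𝓙.comap c).ideal W = _)
  · rw [ModPairLib.ideal_comap 𝓙 c (X.affineBasicOpen g) W hr]
    exact congrArg (Ideal.map ψ) (𝓙.map_ideal_basicOpen V g)
  · rw [← (𝓙.comap c).map_ideal_basicOpen U r, hf, Ideal.map_span, Set.image_singleton]
    rfl

/-- A product of point-supported ideals. -/
theorem exists_product {T : Set X} (hT : T.Finite) (_hTcl : IsClosed T) (𝓙 : T → X.IdealSheafData)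
    (h : ∀ x, ((𝓙 x).support : Set X) ⊆ T) :
    ∃ P : X.IdealSheafData, (P.support : Set X) ⊆ T ∧
      ∀ (Z : Scheme.{u}) (c : Z ⟶ X), BlowUp.IsEffCartierIdeal (P.comap c) →
        ∀ x, BlowUp.IsEffCartierIdeal ((𝓙 x).comap c) := by
  classical
  haveI := hT.fintype
  refine ⟨∏ x : T, 𝓙 x, ?_, fun Z c hc x => ?_⟩
  · suffices ∀ s : Finset T, ((∏ x ∈ s, 𝓙 x).support : Set X) ⊆ T from this _
    intro s
    induction s using Finset.induction_on with
    | empty =>
      rw [Finset.prod_empty, show (1 : X.IdealSheafData) = ⊤ from rfl, Scheme.IdealSheafData.support_top]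
      exact Set.empty_subset _
    | insert a s ha ih =>
      rw [Finset.prod_insert ha, Scheme.IdealSheafData.support_mul, Closeds.coe_sup]
      exact Set.union_subset (h a) ih
  · rw [← Finset.mul_prod_erase _ _ (Finset.mem_univ x), ModPairLib.ideal_comap_mul] at hc
    exact BlowUpX.isEffCartier_left_of_mul hc

/-- Point blow-ups dominate proper morphisms which are isomorphisms away from finitely many regular points. -/
theorem exists_contractionSeq_dominating [IsNoetherian X] (T : Set X) (hTf : T.Finite) (hTc : IsClosed T)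
    (hT : ∀ x ∈ T, IsClosed ({x} : Set X) ∧ IsRegularLocalRing (X.presheaf.stalk x) ∧
      ringKrullDim (X.presheaf.stalk x) = 2)
    {Y : Scheme.{u}} (f : Y ⟶ X) [IsProper f] (hf : IsIso (f ∣_ (⟨Tᶜ, hTc.isOpen_compl⟩ : X.Opens))) :
    ∃ (X' : Scheme.{u}) (g : X' ⟶ X), Models.IsContractionSeq g ∧
      IsIso (g ∣_ (⟨Tᶜ, hTc.isOpen_compl⟩ : X.Opens)) ∧ ∃ h : X' ⟶ Y, h ≫ f = g := by
  classical
  set O : X.Opens := ⟨Tᶜ, hTc.isOpen_compl⟩
  haveI := hf
  have hV : ∀ x : T, ∃ V : X.affineOpens, x.1 ∈ V.1 ∧ (∀ y ∈ V.1, y ∈ T → y = x.1) ∧ IsDomain Γ(X, V.1) := by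
    intro x
    haveI := (hT x.1 x.2).2.1
    haveI := (RegDimTwo.ufd _ (hT x.1 x.2).2.2).1
    obtain ⟨V, hxV, hle, hdom⟩ := exists_integral_nhd (x := x.1)
      (W := ⟨(T \ {x.1})ᶜ, (by
        rw [← Set.biUnion_of_singleton (T \ {x.1})]
        exact (hTf.subset Set.sdiff_subset).isClosed_biUnion fun y hy => (hT y hy.1).1
        : IsClosed (T \ {x.1})).isOpen_compl⟩) (show x.1 ∈ (T \ {x.1})ᶜ from fun h => h.2 rfl)
    exact ⟨V, hxV, fun y hy hyT => by_contra fun hne => hle hy ⟨hyT, hne⟩, hdom⟩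
  choose V hxV hVT hVdom using hV
  haveI := hVdom
  have hVi : ∀ x : T, IsIntegral ((V x).1 : Scheme.{u}) := fun x =>
    haveI : IsIntegral (Spec Γ(X, (V x).1)) := inferInstance
    haveI : Nonempty ((V x).1 : Scheme.{u}) := ⟨⟨_, hxV x⟩⟩
    isIntegral_of_isOpenImmersion (V x).2.isoSpec.hom
  -- the restriction of `f`
  let φ : ∀ x : T, (f ⁻¹ᵁ (V x).1 : Scheme.{u}) ⟶ Spec Γ(X, (V x).1) := fun x => (f ∣_ (V x).1) ≫ (V x).2.isoSpec.hom
  have hsec : ∀ x : T, ∃ e : Spec (CommRingCat.of (FractionRing Γ(X, (V x).1))) ⟶ f ⁻¹ᵁ (V x).1,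
      e ≫ φ x = Spec.map (CommRingCat.ofHom (algebraMap Γ(X, (V x).1) (FractionRing Γ(X, (V x).1)))) := by
    intro x
    haveI := hVi x
    let σ : Spec (CommRingCat.of (FractionRing Γ(X, (V x).1))) ⟶ (V x).1 :=
      Spec.map (CommRingCat.ofHom (algebraMap _ _)) ≫ (V x).2.isoSpec.inv
    have hne : ∀ t, (σ ≫ (V x).1.ι) t ∈ O := by
      intro t htT
      have h1 : (σ ≫ (V x).1.ι) t = x.1 := hVT x _ (σ t).2 htT
      have h2 : σ t = genericPoint ((V x).1 : Scheme.{u}) := by
        have h3 : (Spec.map (CommRingCat.ofHom (algebraMap Γ(X, (V x).1) (FractionRing Γ(X, (V x).1))))) t =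
            genericPoint (Spec Γ(X, (V x).1)) := by
          rw [genericPoint_eq_bot_of_affine]
          refine PrimeSpectrum.ext ?_
          show t.asIdeal.comap (algebraMap Γ(X, (V x).1) (FractionRing Γ(X, (V x).1))) = ⊥
          rw [(Ideal.eq_bot_or_top t.asIdeal).resolve_right t.isPrime.ne_top,
            ← RingHom.ker_eq_comap_bot]
          exact (RingHom.injective_iff_ker_eq_bot _).1 (IsFractionRing.injective _ _)
        exact (congrArg (V x).2.isoSpec.inv h3).trans (genericPoint_eq_of_isOpenImmersion _)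
      have e := ((V x).1.stalkIso (σ t)).commRingCatIsoToRingEquiv
      have h4 := ringKrullDim_eq_of_ringEquiv e
      rw [Scheme.Hom.comp_apply] at h1
      have h5 : ringKrullDim ((V x).1.toScheme.presheaf.stalk (σ t)) = 0 := by
        rw [h2]; exact ringKrullDim_eq_zero_of_field ((V x).1 : Scheme.{u}).functionField
      rw [h5] at h4
      have h6 : ringKrullDim (X.presheaf.stalk ((V x).1.ι (σ t))) = 2 := h1 ▸ (hT x.1 x.2).2.2
      rw [show ringKrullDim (X.presheaf.stalk ((V x).1.ι (σ t))) = 0 from h4.symm] at h6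
      exact absurd h6 (by norm_num)
    let τ := IsOpenImmersion.lift O.ι (σ ≫ (V x).1.ι) (by
      rw [Scheme.Opens.range_ι]; rintro _ ⟨t, rfl⟩; exact hne t)
    let e₀ := τ ≫ inv (f ∣_ O) ≫ (f ⁻¹ᵁ O).ι
    have he₀ : e₀ ≫ f = σ ≫ (V x).1.ι := by
      simp only [e₀, Category.assoc, ← morphismRestrict_ι, IsIso.inv_hom_id_assoc, τ, IsOpenImmersion.lift_fac]
    refine ⟨IsOpenImmersion.lift (f ⁻¹ᵁ (V x).1).ι e₀ ?_, ?_⟩
    · rw [Scheme.Opens.range_ι]
      rintro _ ⟨t, rfl⟩
      show f (e₀ t) ∈ (V x).1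
      rw [← Scheme.Hom.comp_apply, he₀]
      exact (σ t).2
    · rw [← cancel_mono (V x).2.isoSpec.inv, ← cancel_mono (V x).1.ι]
      simp only [φ, Category.assoc, Iso.hom_inv_id_assoc, morphismRestrict_ι, IsOpenImmersion.lift_fac_assoc, he₀]
      rfl
  choose e he using hsec
  haveI : ∀ x, IsProper (φ x) := fun x => by
    haveI : IsProper (f ∣_ (V x).1) := IsZariskiLocalAtTarget.restrict (P := @IsProper) inferInstance _
    infer_instance
  choose P hP hdom using fun x : T => exists_pairs_dominating_of (A := Γ(X, (V x).1)) (fun _ => True)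
    (fun z => by
      obtain ⟨a, b, hb, rfl⟩ := IsFractionRing.div_surjective (A := Γ(X, (V x).1)) z
      exact ⟨a, b, nonZeroDivisors.ne_zero hb, trivial,
        div_mul_cancel₀ _ (IsFractionRing.to_map_ne_zero_of_mem_nonZeroDivisors hb)⟩) (φ x) (e x) (he x)
  let J : ∀ x : T, Ideal Γ(X, (V x).1) := fun x => ∏ q ∈ P x, Ideal.span {q.1, q.2}
  have hJ : ∀ x, J x ≠ ⊥ := fun x => Finset.prod_ne_zero_iff.2 fun q hq h0 =>
    (hP x q hq).1 (by
      have h1 : q.2 ∈ Ideal.span {q.1, q.2} := Ideal.subset_span (Set.mem_insert_of_mem _ rfl)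
      rw [h0] at h1
      exact h1)
  choose 𝓙 g hsupp hxg hprinc using fun x : T =>
    @exists_local_principalization X inferInstance x.1 (hT x.1 x.2).1 (hT x.1 x.2).2.1 (hT x.1 x.2).2.2
      (V x) (hxV x) (hVdom x) (J x) (hJ x)
  obtain ⟨PP, hPP, hPPc⟩ := exists_product hTf hTc 𝓙 fun x => (hsupp x).trans (Set.singleton_subset_iff.2 x.2)
  have hpt : IsPointSupported PP := ⟨hTf.subset hPP, fun y hy => hT y (hPP hy)⟩
  obtain ⟨X', G, hG, -, hGiso, hGc⟩ :=
    isPrincipalizable hpt X (𝟙 X) (Models.IsContractionSeq.iso (Iso.refl X))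
  rw [Category.comp_id] at hG
  haveI hGO : IsIso (G ∣_ O) := hGiso O fun y hy hs => hy (hPP hs)
  refine ⟨X', G, hG, inferInstance, ?_⟩
  have hloc : ∀ x : T, ∃ h : (G ⁻¹ᵁ X.basicOpen (g x) : Scheme.{u}) ⟶ Y,
      h ≫ f = (G ⁻¹ᵁ X.basicOpen (g x)).ι ≫ G := by
    intro x
    haveI := hVi x
    let V' := X.basicOpen (g x)
    have hle : V' ≤ (V x).1 := X.basicOpen_le _
    haveI : Nonempty (V' : Scheme.{u}) := ⟨⟨_, hxg x⟩⟩
    haveI : IsIntegral (V' : Scheme.{u}) := isIntegral_of_isOpenImmersion (X.homOfLE hle)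
    obtain ⟨hZi, hgen⟩ := exists_isIntegral_preimage hG V'
    haveI := hZi
    let Z : Scheme.{u} := G ⁻¹ᵁ V'
    let cZ : Z ⟶ X := (G ⁻¹ᵁ V').ι ≫ G
    let p : Z ⟶ Spec Γ(X, (V x).1) := (G ∣_ V') ≫ X.homOfLE hle ≫ (V x).2.isoSpec.hom
    have hp : p ≫ (V x).2.fromSpec = cZ := by
      simp only [p, cZ, Category.assoc, ← morphismRestrict_ι]
      rw [(V x).2.isoSpec_hom_fromSpec, X.homOfLE_ι]
    have hpgen : p (genericPoint Z) = genericPoint (Spec Γ(X, (V x).1)) := by
      simp only [p, Scheme.Hom.comp_apply]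
      rw [show (G ∣_ V') (genericPoint Z) = genericPoint (V' : Scheme.{u}) from hgen,
        genericPoint_eq_of_isOpenImmersion, genericPoint_eq_of_isOpenImmersion]
    haveI : IsDominant p := ⟨Dense.mono (Set.singleton_subset_iff.2 ⟨_, hpgen⟩)
      (dense_iff_closure_eq.2 (genericPoint_spec (Spec Γ(X, (V x).1))))⟩
    have hcart : BlowUp.IsEffCartierIdeal ((BlowUpLib.centre (J x)).comap p) := by
      intro z
      have hc : BlowUp.IsEffCartierIdeal ((𝓙 x).comap cZ) := by
        rw [Scheme.IdealSheafData.comap_comp]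
        exact BlowUpLib.isEffCartier_comap_flat _ (hPPc X' G hGc x)
      obtain ⟨W, hzW, hW, t, ht⟩ := hprinc x Z cZ hc z (show G z.1 ∈ V' from z.2)
      have hpre : Spec.preimage (W.2.fromSpec ≫ p) = cZ.appLE (V x).1 W.1 hW := by
        refine Spec.map_injective ?_
        rw [Spec.map_preimage, ← cancel_mono (V x).2.fromSpec, Category.assoc, hp,
          IsAffineOpen.SpecMap_appLE_fromSpec cZ (V x).2 W.2 hW]
      have hU : ((BlowUpLib.centre (J x)).comap p).ideal W = Ideal.span {t} := by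
        rw [comap_centre_ideal, hpre, ht]
      haveI : Nonempty (W.1 : Scheme.{u}) := ⟨⟨z, hzW⟩⟩
      haveI : IsDomain Γ(Z, W.1) := IsIntegral.component_integral W.1
      refine ⟨W, hzW, t, mem_nonZeroDivisors_of_ne_zero ?_, hU⟩
      · intro ht0
        subst ht0
        obtain ⟨a, haJ, ha⟩ := Submodule.exists_mem_ne_zero_of_ne_bot (hJ x)
        have h0 : (cZ.appLE (V x).1 W.1 hW).hom a = 0 := by
          have := Ideal.mem_map_of_mem (cZ.appLE (V x).1 W.1 hW).hom haJ
          rw [ht, Ideal.mem_span_singleton'] at this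
          obtain ⟨s, hs⟩ := this
          rw [← hs, mul_zero]
        have hgW : W.2.fromSpec (genericPoint (Spec Γ(Z, W.1))) = genericPoint Z :=
          genericPoint_eq_of_isOpenImmersion _
        have h1 : (Spec.map (cZ.appLE (V x).1 W.1 hW)) (genericPoint (Spec Γ(Z, W.1))) =
            genericPoint (Spec Γ(X, (V x).1)) := by
          rw [← hpre, Spec.map_preimage, Scheme.Hom.comp_apply, hgW, hpgen]
        rw [genericPoint_eq_bot_of_affine, genericPoint_eq_bot_of_affine] at h1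
        have h2 := congrArg PrimeSpectrum.asIdeal h1
        have h3 : a ∈ (⊥ : Ideal Γ(X, (V x).1)) :=
          (SetLike.ext_iff.1 h2 a).1 (show (cZ.appLE (V x).1 W.1 hW).hom a ∈ (⊥ : Ideal Γ(Z, W.1)) from h0)
        exact ha h3
    obtain ⟨h, hh⟩ := hdom x Z p inferInstance inferInstance fun q hq => by
      have h1 : J x = Ideal.span {q.1, q.2} * ∏ q' ∈ (P x).erase q, Ideal.span {q'.1, q'.2} :=
        (Finset.mul_prod_erase _ _ hq).symm
      rw [h1, centre_mul, ModPairLib.ideal_comap_mul] at hcart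
      exact BlowUpX.isEffCartier_left_of_mul hcart
    refine ⟨h ≫ (f ⁻¹ᵁ (V x).1).ι, ?_⟩
    have h2 := congrArg (· ≫ (V x).2.fromSpec) hh
    simp only [φ, Category.assoc, (V x).2.isoSpec_hom_fromSpec, morphismRestrict_ι, hp] at h2
    rw [Category.assoc]
    exact h2
  choose k hk using hloc
  let W : Option T → X'.Opens := fun o => o.elim (G ⁻¹ᵁ O) fun x => G ⁻¹ᵁ X.basicOpen (g x)
  let kk : ∀ o, (W o : Scheme.{u}) ⟶ Y := fun o => match o with
    | none => (G ∣_ O) ≫ inv (f ∣_ O) ≫ (f ⁻¹ᵁ O).ι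
    | some x => k x
  have hkk : ∀ o, kk o ≫ f = (W o).ι ≫ G := fun o => match o with
    | none => by
      show ((G ∣_ O) ≫ inv (f ∣_ O) ≫ (f ⁻¹ᵁ O).ι) ≫ f = (G ⁻¹ᵁ O).ι ≫ G
      simp only [Category.assoc, ← morphismRestrict_ι, IsIso.inv_hom_id_assoc]
    | some x => hk x
  have huniq : ∀ {S : Scheme.{u}} (a b : S ⟶ Y), a ≫ f = b ≫ f → (∀ s, (a ≫ f) s ∈ O) → a = b := by
    intro S a b hab hO
    let a' := IsOpenImmersion.lift (f ⁻¹ᵁ O).ι a (by
      rw [Scheme.Opens.range_ι]; rintro _ ⟨s, rfl⟩; exact hO s)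
    let b' := IsOpenImmersion.lift (f ⁻¹ᵁ O).ι b (by
      rw [Scheme.Opens.range_ι]; rintro _ ⟨s, rfl⟩
      show f (b s) ∈ O
      rw [← Scheme.Hom.comp_apply, ← hab]
      exact hO s)
    have hab' : a' = b' := by
      rw [← cancel_mono (f ∣_ O), ← cancel_mono O.ι]
      simp only [a', b', Category.assoc, morphismRestrict_ι, IsOpenImmersion.lift_fac_assoc, hab]
    have := congrArg (· ≫ (f ⁻¹ᵁ O).ι) hab'
    simpa [a', b'] using this
  let 𝒰 : X'.OpenCover := X'.openCoverOfIsOpenCover W (IsOpenCover.mk (eq_top_iff.2 fun z _ => by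
    by_cases hz : G z ∈ O
    · exact Opens.mem_iSup.2 ⟨none, hz⟩
    · exact Opens.mem_iSup.2 ⟨some ⟨G z, not_not.1 hz⟩, hxg ⟨G z, not_not.1 hz⟩⟩))
  refine ⟨𝒰.glueMorphisms kk fun o o' => ?_, 𝒰.hom_ext _ _ fun o => ?_⟩
  · show pullback.fst (W o).ι (W o').ι ≫ kk o = pullback.snd (W o).ι (W o').ι ≫ kk o'
    by_cases heq : o = o'
    · subst heq
      rw [show pullback.fst (W o).ι (W o).ι = pullback.snd (W o).ι (W o).ι from
        (cancel_mono (W o).ι).1 pullback.condition]
    refine huniq _ _ (by rw [Category.assoc, Category.assoc, hkk, hkk, pullback.condition_assoc]) fun s => ?_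
    rw [Category.assoc, hkk, ← Category.assoc, Scheme.Hom.comp_apply]
    have h1 : (pullback.fst (W o).ι (W o').ι ≫ (W o).ι) s ∈ W o := (pullback.fst (W o).ι (W o').ι s).2
    have h2 : (pullback.fst (W o).ι (W o').ι ≫ (W o).ι) s ∈ W o' := by
      rw [pullback.condition]; exact (pullback.snd (W o).ι (W o').ι s).2
    generalize (pullback.fst (W o).ι (W o').ι ≫ (W o).ι) s = w at h1 h2 ⊢
    intro hwT
    cases o with
    | none => exact h1 hwT
    | some x =>
      cases o' with
      | none => exact h2 hwT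
      | some x' =>
        refine heq (congrArg some (Subtype.ext ?_))
        rw [← hVT x _ (X.basicOpen_le _ h1) hwT, hVT x' _ (X.basicOpen_le _ h2) hwT]
  · rw [Scheme.Cover.ι_glueMorphisms_assoc]
    exact hkk o

/-- Point blow-ups of a regular surface make the inverse image of a closed subscheme effective Cartier. -/
theorem exists_principalization [IsIntegral X] [IsNoetherian X]
    (hreg : ∀ x : X, IsRegularLocalRing (X.presheaf.stalk x)) (hdim : topologicalKrullDim X = 2)
    (I : X.IdealSheafData) (hI : I ≠ ⊥) :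
    ∃ (X' : Scheme.{u}) (g : X' ⟶ X), Models.IsContractionSeq g ∧ BlowUp.IsEffCartierIdeal (I.comap g) := by
  classical
  have hne : ∀ V : X.affineOpens, (V.1 : Set X).Nonempty → I.ideal V ≠ ⊥ := by
    intro V hV h0
    refine hI ?_
    have hsub : (V.1 : Set X) ⊆ I.support := fun w hw => by
      refine (Scheme.IdealSheafData.mem_support_iff_of_mem (U := V) hw).2 ?_
      rw [Scheme.mem_zeroLocus_iff]
      intro f hf
      have : f = 0 := by rw [h0] at hf; exact hf
      subst this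
      rw [Scheme.basicOpen_zero]
      exact fun h => h
    have htop : I.support = ⊤ := by
      refine top_le_iff.1 fun w _ => ?_
      have : closure (V.1 : Set X) ⊆ I.support := closure_minimal hsub I.support.isClosed
      rw [(V.1.isOpen.dense hV).closure_eq] at this
      exact this trivial
    exact Scheme.IdealSheafData.support_eq_top_iff.1 htop
  let G₀ : Set X := {x | ∃ U : X.affineOpens, x ∈ U.1 ∧ ∃ t, I.ideal U = Ideal.span {t}}
  have hG₀ : IsOpen G₀ := isOpen_iff_forall_mem_open.2 fun x ⟨U, hxU, t, ht⟩ =>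
    ⟨(U.1 : Set X), fun y hy => ⟨U, hy, t, ht⟩, U.1.isOpen, hxU⟩
  let T : Set X := G₀ᶜ
  have hTc : IsClosed T := hG₀.isClosed_compl
  have hPID : ∀ x, ringKrullDim (X.presheaf.stalk x) ≤ 1 → x ∈ G₀ := by
    intro x hx
    haveI := hreg x
    haveI := isPrincipalIdealRing_of_dim_le_one _ hx
    obtain ⟨U₀, hU, hxU, -⟩ := exists_isAffineOpen_mem_and_subset (x := x) (U := ⊤) trivial
    let U : X.affineOpens := ⟨U₀, hU⟩
    obtain ⟨t, ht⟩ := (IsPrincipalIdealRing.principal ((I.ideal U).map (X.presheaf.germ U.1 x hxU).hom)).principal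
    rw [Ideal.submodule_span_eq] at ht
    letI := X.presheaf.algebra_section_stalk (⟨x, hxU⟩ : U₀)
    haveI := hU.isLocalization_stalk ⟨x, hxU⟩
    let p := (hU.primeIdealOf ⟨x, hxU⟩).asIdeal
    obtain ⟨⟨t₀, s⟩, hts⟩ := IsLocalization.surj p.primeCompl t
    have hspan : Ideal.span {(X.presheaf.germ U.1 x hxU).hom t₀} = Ideal.span {t} := by
      refine Ideal.span_singleton_eq_span_singleton.2 ?_
      exact (associated_mul_unit_left t _ (IsLocalization.map_units (X.presheaf.stalk x) s)).symm.trans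
        (Associated.of_eq hts) |>.symm
    haveI : IsNoetherianRing Γ(X, U.1) := IsLocallyNoetherian.component_noetherian U
    obtain ⟨g, hxg, hg⟩ := exists_basicOpen_eq hU hxU (IsNoetherian.noetherian (I.ideal U))
      (IsNoetherian.noetherian (Ideal.span {t₀})) (by rw [Ideal.map_span, Set.image_singleton, hspan, ht])
    refine ⟨X.affineBasicOpen (U := U) g, hxg, X.presheaf.map (homOfLE (X.basicOpen_le g)).op t₀, ?_⟩
    rw [← I.map_ideal_basicOpen U g]
    exact hg.trans (by rw [Ideal.map_span, Set.image_singleton]; rfl)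
  have hcodim : ∀ x : X, DimFormula.codim x ≤ 2 :=
    fun x => codim_le_of_dim_le (d := 2) (by rw [hdim]; rfl) x
  have hclosed : ∀ x ∈ T, IsClosed ({x} : Set X) := by
    intro x hx
    by_contra hcl
    obtain ⟨y, hy, hxy⟩ := exists_specializes_of_not_isClosed hcl
    refine hx (hPID x ?_)
    have h1 : 1 ≤ DimFormula.cd x y :=
      Nat.one_le_iff_ne_zero.2 fun h0 => hxy ((DimFormula.cd_eq_zero_iff hy).1 h0)
    have h2 := DimFormula.cd_add_cd_le hy (genericPoint_specializes x)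
    rw [DimFormula.cd_eq_codim_of_irreducible, DimFormula.cd_eq_codim_of_irreducible] at h2
    have := hcodim y
    rw [DimFormula.ringKrullDim_stalk]
    exact_mod_cast (show DimFormula.codim x ≤ 1 by omega)
  have hT2 : ∀ x ∈ T, ringKrullDim (X.presheaf.stalk x) = 2 := by
    intro x hx
    have := hcodim x
    have h1 : ¬ DimFormula.codim x ≤ 1 := fun h => hx (hPID x (by
      rw [DimFormula.ringKrullDim_stalk]; exact_mod_cast h))
    rw [DimFormula.ringKrullDim_stalk]
    exact_mod_cast (show DimFormula.codim x = 2 by omega)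
  have hTf : T.Finite := by
    obtain ⟨S, hS1, hS2⟩ := NoetherianSpace.exists_finset_irreducible (⟨T, hTc⟩ : Closeds X)
    have hF' : T = ⋃ C ∈ S, (C : Set X) := by
      have := congrArg (fun C : Closeds X => (C : Set X)) hS2
      simpa [Closeds.coe_finset_sup] using this
    rw [hF']
    refine S.finite_toSet.biUnion fun C hC => ?_
    obtain ⟨η, hη⟩ := QuasiSober.sober (hS1 ⟨C, hC⟩) C.isClosed
    refine (Set.finite_singleton η).subset fun w hw => ?_
    exact (hη.specializes hw).mem_closed (hclosed η (hF' ▸ Set.mem_biUnion hC hη.mem)) rfl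
  have hV : ∀ x : T, ∃ V : X.affineOpens, x.1 ∈ V.1 := fun x => by
    obtain ⟨U, hU, hxU, -⟩ := exists_isAffineOpen_mem_and_subset (x := x.1) (U := ⊤) trivial
    exact ⟨⟨U, hU⟩, hxU⟩
  choose V hxV using hV
  haveI hVdom : ∀ x : T, IsDomain Γ(X, (V x).1) := fun x =>
    haveI : Nonempty ((V x).1 : Scheme.{u}) := ⟨⟨_, hxV x⟩⟩
    IsIntegral.component_integral _
  choose 𝓙 g hsupp hxg hprinc using fun x : T =>
    @exists_local_principalization X inferInstance x.1 (hclosed x.1 x.2) (hreg x.1) (hT2 x.1 x.2)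
      (V x) (hxV x) (hVdom x) (I.ideal (V x)) (hne (V x) ⟨_, hxV x⟩)
  obtain ⟨PP, hPP, hPPc⟩ := exists_product hTf hTc 𝓙 fun x => (hsupp x).trans (Set.singleton_subset_iff.2 x.2)
  have hpt : IsPointSupported PP :=
    ⟨hTf.subset hPP, fun y hy => ⟨hclosed y (hPP hy), hreg y, hT2 y (hPP hy)⟩⟩
  obtain ⟨X', G, hG, -, -, hGc⟩ :=
    isPrincipalizable hpt X (𝟙 X) (Models.IsContractionSeq.iso (Iso.refl X))
  rw [Category.comp_id] at hG
  refine ⟨X', G, hG, ?_⟩
  haveI : Nonempty ((⊤ : X.Opens) : Scheme.{u}) := ⟨⟨genericPoint X, trivial⟩⟩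
  haveI : IsIntegral ((⊤ : X.Opens) : Scheme.{u}) := isIntegral_of_isOpenImmersion X.topIso.hom
  obtain ⟨hi, hgen⟩ := exists_isIntegral_preimage hG ⊤
  haveI := hi
  haveI : Nonempty X' := ⟨(G ⁻¹ᵁ ⊤).ι (genericPoint (G ⁻¹ᵁ ⊤ : Scheme.{u}))⟩
  haveI : IsIntegral X' := by
    haveI : IsIso (G ⁻¹ᵁ (⊤ : X.Opens)).ι := inferInstanceAs (IsIso X'.topIso.hom)
    exact isIntegral_of_isOpenImmersion (inv (G ⁻¹ᵁ (⊤ : X.Opens)).ι)
  refine BlowUpX.isEffCartier_of_reduced (fun z => ?_) fun z hz hzs => ?_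
  · by_cases hzT : G z ∈ T
    · obtain ⟨W, hzW, e, t, ht⟩ := hprinc ⟨G z, hzT⟩ X' G (hPPc X' G hGc _) z (hxg ⟨G z, hzT⟩)
      exact ⟨W, hzW, t, by rw [ModPairLib.ideal_comap I G (V ⟨G z, hzT⟩) W e]; exact ht⟩
    · obtain ⟨U, hU, t, ht⟩ := not_not.1 hzT
      obtain ⟨W, hW, hzW, hWU⟩ := exists_isAffineOpen_mem_and_subset (x := z) (U := G ⁻¹ᵁ U.1) hU
      refine ⟨⟨W, hW⟩, hzW, (G.appLE U.1 W hWU).hom t, ?_⟩
      rw [ModPairLib.ideal_comap I G U ⟨W, hW⟩ hWU, ht, Ideal.map_span, Set.image_singleton]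
  · obtain rfl := hz _ (genericPoint_specializes z)
    rw [Scheme.IdealSheafData.support_comap] at hzs
    have h1 : G (genericPoint X') = genericPoint X := by
      rw [← genericPoint_eq_of_isOpenImmersion (G ⁻¹ᵁ (⊤ : X.Opens)).ι, ← Scheme.Hom.comp_apply,
        ← morphismRestrict_ι, Scheme.Hom.comp_apply, hgen, genericPoint_eq_of_isOpenImmersion]
    obtain ⟨U₀, hU, hηU, -⟩ := exists_isAffineOpen_mem_and_subset (x := genericPoint X) (U := ⊤) trivial
    refine hne ⟨U₀, hU⟩ ⟨_, hηU⟩ (eq_bot_iff.2 fun a ha => ?_)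
    have h4 : G (genericPoint X') ∈ I.support := hzs
    rw [h1] at h4
    have h2 := (Scheme.IdealSheafData.mem_support_iff_of_mem (U := ⟨U₀, hU⟩) hηU).1 h4
    rw [Scheme.mem_zeroLocus_iff] at h2
    have h3 : X.basicOpen a = ⊥ := by
      by_contra hb
      refine h2 a ha (((genericPoint_spec X).mem_open_set_iff (X.basicOpen a).isOpen).2 ?_)
      rw [Set.univ_inter]
      exact Set.nonempty_iff_ne_empty.2 fun h => hb (Opens.ext h)
    exact (AlgebraicGeometry.basicOpen_eq_bot_iff a).1 h3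

end Groth.Agent.ResSurf.PointDominate
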