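import Groth.Agent.ResSurf.IdealFrame
import Groth.Agent.SurfInt.FrameIso
import Groth.Agent.InvX.Pullback
import Groth.Agent.ModPairLib.Quot

/-! # The pullback of an effective Cartier ideal is the ideal of the inverse image (light imports) -/

set_option autoImplicit false
set_option linter.style.haveILetI false
set_option linter.unusedSectionVars false
set_option backward.isDefEq.respectTransparency false
set_option backward.isDefEq.respectTransparency.types false

universe u

open CategoryTheory CategoryTheory.Limits AlgebraicGeometry TopologicalSpace Opposite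

noncomputable section

namespace Groth.Agent.ResSurf.PullIdeal

open Groth.Agent Groth.Agent.InvX Groth.Agent.AModX

variable {X Y : Scheme.{u}} (f : Y ⟶ X) (D : X.IdealSheafData)

theorem subschemeι_app_eq_zero (U : X.Opens) (k : Γ(ClSub.idealMod D, U)) :
    (D.comap f).subschemeι.app (f ⁻¹ᵁ U) (f.app U (OmegaSh.idealSect D U k)) = 0 := by
  have h : D ≤ ((D.comap f).subschemeι ≫ f).ker := by
    rw [← Scheme.IdealSheafData.map_ker, Scheme.IdealSheafData.ker_subschemeι]
    exact Scheme.IdealSheafData.le_map_comap D f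
  have hg : D.subschemeι.ker ≤ ((D.comap f).subschemeι ≫ f).ker := by
    rwa [Scheme.IdealSheafData.ker_subschemeι]
  let g := IsClosedImmersion.lift D.subschemeι ((D.comap f).subschemeι ≫ f) hg
  have hfac : g ≫ D.subschemeι = (D.comap f).subschemeι ≫ f := IsClosedImmersion.lift_fac _ _ hg
  show (f.app U ≫ (D.comap f).subschemeι.app (f ⁻¹ᵁ U)) (OmegaSh.idealSect D U k) = 0
  rw [← Scheme.Hom.comp_app, Scheme.Hom.congr_app hfac.symm U, ConcreteCategory.comp_apply,
    Scheme.Hom.comp_app, ConcreteCategory.comp_apply, OmegaLib.subschemeι_app_idealSect,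
    map_zero, map_zero]

/-- Pulling back a section of an ideal. -/
def pullSectIdeal (U : X.Opens) (k : Γ(ClSub.idealMod D, U)) :
    Γ(ClSub.idealMod (D.comap f), f ⁻¹ᵁ U) :=
  (OmegaLib.exists_idealSect_eq (D.comap f) (f ⁻¹ᵁ U) _ (subschemeι_app_eq_zero f D U k)).choose

theorem idealSect_pullSectIdeal (U : X.Opens) (k : Γ(ClSub.idealMod D, U)) :
    OmegaSh.idealSect (D.comap f) (f ⁻¹ᵁ U) (pullSectIdeal f D U k) =
      f.app U (OmegaSh.idealSect D U k) :=
  (OmegaLib.exists_idealSect_eq (D.comap f) (f ⁻¹ᵁ U) _ (subschemeι_app_eq_zero f D U k)).choose_spec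

/-- `I ⟶ f_* (f⁻¹ I · O)`. -/
def toPushIdeal : ClSub.idealMod D ⟶ (Scheme.Modules.pushforward f).obj (ClSub.idealMod (D.comap f)) :=
  ⟨PresheafOfModules.homMk
    { app := fun U => AddCommGrpCat.ofHom (AddMonoidHom.mk' (fun k : Γ(ClSub.idealMod D, unop U) =>
          (show Γ((Scheme.Modules.pushforward f).obj (ClSub.idealMod (D.comap f)), unop U) from
            pullSectIdeal f D (unop U) k))
        (fun a b => OmegaLib.idealSect_injective (D.comap f) _ (by
          refine ((idealSect_pullSectIdeal f D _ _).trans ?_).trans (map_add _ _ _).symm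
          rw [map_add, map_add]
          exact congrArg₂ (· + ·) (idealSect_pullSectIdeal f D _ _).symm
            (idealSect_pullSectIdeal f D _ _).symm)))
      naturality := fun U V i => by
        ext k
        refine OmegaLib.idealSect_injective (D.comap f) _ ?_
        refine (idealSect_pullSectIdeal f D _ _).trans ?_
        refine Eq.trans ?_ (OmegaLib.idealSect_map (D.comap f) (f.preimage_mono i.unop.le) _).symm
        refine (congrArg (f.app _) (OmegaLib.idealSect_map D i.unop.le k)).trans ?_
        refine (congr($(f.naturality (homOfLE i.unop.le).op) _)).trans ?_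
        exact congrArg _ (idealSect_pullSectIdeal f D _ _).symm }
    (fun U r k => OmegaLib.idealSect_injective (D.comap f) _ (by
      refine (idealSect_pullSectIdeal f D _ _).trans ?_
      refine ((congrArg (f.app _) (OmegaLib.idealSect_smul D (unop U) r k)).trans (map_mul _ _ _)).trans ?_
      refine Eq.trans ?_ (OmegaLib.idealSect_smul (D.comap f) (f ⁻¹ᵁ unop U) (f.app (unop U) r) _).symm
      exact congrArg _ (idealSect_pullSectIdeal f D _ _).symm))⟩

/-- `f^* I ⟶ f⁻¹ I · O`. -/
def pullIdealMap : (Scheme.Modules.pullback f).obj (ClSub.idealMod D) ⟶ ClSub.idealMod (D.comap f) :=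
  ((Scheme.Modules.pullbackPushforwardAdjunction f).homEquiv _ _).symm (toPushIdeal f D)

theorem idealSect_pullIdealMap (U : X.Opens) (k : Γ(ClSub.idealMod D, U)) :
    OmegaSh.idealSect (D.comap f) (f ⁻¹ᵁ U) ((pullIdealMap f D).app (f ⁻¹ᵁ U) (pullElt f k)) =
      f.app U (OmegaSh.idealSect D U k) := by
  have h : ((Scheme.Modules.pullbackPushforwardAdjunction f).homEquiv _ _) (pullIdealMap f D) =
      toPushIdeal f D := Equiv.apply_symm_apply _ _
  rw [Adjunction.homEquiv_unit] at h
  have h2 := congrArg (fun φ => Scheme.Modules.Hom.app φ U k) h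
  refine (congrArg _ h2).trans ?_
  exact idealSect_pullSectIdeal f D U k

/-- For an effective Cartier divisor whose inverse image is again one, `f^* I ≅ f⁻¹ I · O`. -/
theorem nonempty_pullback_idealMod (hD : BlowUp.IsEffCartierIdeal D)
    (hDf : BlowUp.IsEffCartierIdeal (D.comap f)) :
    Nonempty ((Scheme.Modules.pullback f).obj (ClSub.idealMod D) ≅ ClSub.idealMod (D.comap f)) := by
  choose U hU a ha haI using fun y : Y => hD (f y)
  choose V hV hyV hVU using fun y : Y =>
    exists_isAffineOpen_mem_and_subset (X := Y) (x := y) (U := f ⁻¹ᵁ (U y).1) (hU y)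
  choose k hk using fun y => OmegaLib.exists_of_mem D (U y) (a y)
    (haI y ▸ Ideal.mem_span_singleton_self _)
  let e : ∀ y, Γ((Scheme.Modules.pullback f).obj (ClSub.idealMod D), V y) :=
    fun y => AModX.res _ (hVU y) (pullElt f (k y))
  haveI : IsIso (pullIdealMap f D) := by
    refine SurfInt.isIso_of_frames (pullIdealMap f D) V hyV e (fun y =>
      ((isFrame_pullElt f (ResSurf.isFrame_of_generator hD (haI y) (hk y))).res (hVU y))) fun y => ?_
    refine ResSurf.isFrame_of_generator hDf (U := ⟨V y, hV y⟩) (g := f.appLE (U y).1 (V y) (hVU y) (a y)) ?_ ?_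
    · rw [ModPairLib.ideal_comap D f (U y) ⟨V y, hV y⟩ (hVU y), haI y, Ideal.map_span, Set.image_singleton]
    · show OmegaSh.idealSect _ _ ((pullIdealMap f D).app _ (AModX.res _ (hVU y) (pullElt f (k y)))) = _
      rw [AModX.app_res]
      refine (OmegaLib.idealSect_map (D.comap f) (hVU y) _).trans ?_
      rw [idealSect_pullIdealMap, hk]
      rfl
  exact ⟨asIso (pullIdealMap f D)⟩

end Groth.Agent.ResSurf.PullIdeal
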