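import Mathlib.RingTheory.Length
import Mathlib.RingTheory.Ideal.Maximal
import Mathlib.RingTheory.Ideal.Operations
import Mathlib.RingTheory.Adjoin.Polynomial.Basic
import Mathlib.RingTheory.Ideal.Colon
import Mathlib.RingTheory.Nakayama
import Mathlib.RingTheory.Polynomial.Basic

/-!
# The colength of the weak transform of an ideal drops

Let `m = (x, y)` be maximal in `R` and `S` be generated over `R` by an element `t` with `x t = y`,
`x` regular in `S`. If `I ≤ m^d` but not `≤ m^(d+1)` and `I' = (IS : x^d)` then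
`length (S/I') < length (R/I)` for `d > 0`, when the latter is finite.
-/

universe u v

namespace Groth.Agent.ResSurf

set_option maxHeartbeats 400000

/-- Lengths of quotients do not grow under localisation. -/
theorem length_quotient_le_of_fractions {S : Type u} {S' : Type v} [CommRing S] [CommRing S']
    (φ : S →+* S') (hφ : ∀ s' : S', ∃ s u : S, IsUnit (φ u) ∧ s' * φ u = φ s) {J : Ideal S}
    {J' : Ideal S'} (hJ : J.map φ ≤ J') :
    Module.length S' (S' ⧸ J') ≤ Module.length S (S ⧸ J) := by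
  let G : Submodule S' (S' ⧸ J') → Submodule S (S ⧸ J) := fun N =>
    { carrier := {w | Ideal.quotientMap J' φ (Ideal.map_le_iff_le_comap.1 hJ) w ∈ N}
      add_mem' := fun ha hb => by
        simpa only [Set.mem_ofPred_eq, map_add] using N.add_mem ha hb
      zero_mem' := by simp
      smul_mem' := fun c w hw => by
        have h : Ideal.quotientMap J' φ (Ideal.map_le_iff_le_comap.1 hJ) (c • w) =
            φ c • Ideal.quotientMap J' φ (Ideal.map_le_iff_le_comap.1 hJ) w := by
          obtain ⟨w, rfl⟩ := Ideal.Quotient.mk_surjective w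
          show Ideal.quotientMap J' φ _ (Ideal.Quotient.mk J (c * w)) = _
          rw [Ideal.quotientMap_mk, Ideal.quotientMap_mk, map_mul]
          rfl
        simpa only [Set.mem_ofPred_eq, h] using N.smul_mem (φ c) hw }
  have hG : StrictMono G := fun N₁ N₂ hlt => by
    refine lt_of_le_of_ne (fun w hw => hlt.le hw) fun he => ?_
    obtain ⟨w, hw₂, hw₁⟩ := SetLike.exists_of_lt hlt
    obtain ⟨s', rfl⟩ := Ideal.Quotient.mk_surjective w
    obtain ⟨s, a, ha, hsa⟩ := hφ s'
    have h1 : Ideal.Quotient.mk J s ∈ G N₂ := by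
      show Ideal.quotientMap J' φ _ (Ideal.Quotient.mk J s) ∈ N₂
      rw [Ideal.quotientMap_mk, ← hsa, mul_comm]
      exact N₂.smul_mem (φ a) hw₂
    rw [← he] at h1
    change Ideal.quotientMap J' φ _ (Ideal.Quotient.mk J s) ∈ N₁ at h1
    rw [Ideal.quotientMap_mk, ← hsa, mul_comm] at h1
    exact hw₁ ((N₁.smul_mem_iff_of_isUnit ha).1 h1)
  have h := Order.krullDim_le_of_strictMono G hG
  rw [← Module.coe_length, ← Module.coe_length] at h
  exact_mod_cast h

/-- Lengths do not grow when the scalars grow. -/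
theorem length_le_restrictScalars (R : Type u) {S : Type v} [CommRing R] [CommRing S] [Algebra R S]
    (M : Type*) [AddCommGroup M] [Module S M] [Module R M] [IsScalarTower R S M] :
    Module.length S M ≤ Module.length R M := by
  have h := Order.krullDim_le_of_strictMono (fun N : Submodule S M => N.restrictScalars R)
    fun N₁ N₂ h => lt_of_le_of_ne h.le fun e => h.ne (Submodule.restrictScalars_injective R S M e)
  rw [← Module.coe_length, ← Module.coe_length] at h
  exact_mod_cast h

variable {R : Type u} [CommRing R]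

theorem exists_binary_form (x y : R) :
    ∀ (d : ℕ) {f : R}, f ∈ Ideal.span {x, y} ^ d →
      ∃ c : ℕ → R, f = ∑ k ∈ Finset.range (d + 1), c k * (x ^ (d - k) * y ^ k) := by
  intro d
  induction d with
  | zero => exact fun {f} _ => ⟨fun _ => f, by simp⟩
  | succ d ih =>
    intro f hf
    rw [pow_succ', Ideal.span_insert, Ideal.sup_mul] at hf
    obtain ⟨a, ha, b, hb, rfl⟩ := Submodule.mem_sup.1 hf
    obtain ⟨a, ha', rfl⟩ := Ideal.mem_span_singleton_mul.1 ha
    obtain ⟨b, hb', rfl⟩ := Ideal.mem_span_singleton_mul.1 hb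
    obtain ⟨p, rfl⟩ := ih (by simpa [Ideal.span_insert] using ha')
    obtain ⟨q, rfl⟩ := ih (by simpa [Ideal.span_insert] using hb')
    refine ⟨fun k => (if k ≤ d then p k else 0) + (if k = 0 then 0 else q (k - 1)), ?_⟩
    simp only [add_mul, Finset.sum_add_distrib]
    congr 1
    · rw [Finset.sum_range_succ _ (d + 1), if_neg (by omega), zero_mul, add_zero, Finset.mul_sum]
      refine Finset.sum_congr rfl fun k hk => ?_
      have hk' : k ≤ d := by have := Finset.mem_range.1 hk; omega
      rw [if_pos hk', show d + 1 - k = d - k + 1 by omega, pow_succ]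
      ring
    · rw [Finset.sum_range_succ' _ (d + 1), if_pos rfl, zero_mul, add_zero, Finset.mul_sum]
      refine Finset.sum_congr rfl fun k hk => ?_
      rw [if_neg (Nat.succ_ne_zero k), show d + 1 - (k + 1) = d - k by omega, pow_succ, Nat.add_sub_cancel]
      ring

variable {S : Type v} [CommRing S] [Algebra R S] {x y : R} {t : S}

theorem map_span_pair_eq (ht : algebraMap R S x * t = algebraMap R S y) :
    (Ideal.span {x, y}).map (algebraMap R S) = Ideal.span {algebraMap R S x} := by
  rw [Ideal.map_span, Set.image_pair, Ideal.span_insert, sup_eq_left, Ideal.span_singleton_le_iff_mem]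
  exact ht ▸ Ideal.mul_mem_right _ _ (Ideal.mem_span_singleton_self _)

theorem map_eq_span_pow_mul_colon (ht : algebraMap R S x * t = algebraMap R S y) {I : Ideal R} {d : ℕ}
    (hId : I ≤ Ideal.span {x, y} ^ d) :
    I.map (algebraMap R S) = Ideal.span {algebraMap R S x ^ d} *
      Submodule.colon (I.map (algebraMap R S)) {algebraMap R S x ^ d} := by
  refine le_antisymm (fun s hs => ?_) ?_
  · have h : s ∈ Ideal.span {algebraMap R S x ^ d} := by
      rw [← Ideal.span_singleton_pow, ← map_span_pair_eq ht, ← Ideal.map_pow]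
      exact Ideal.map_mono hId hs
    obtain ⟨c, rfl⟩ := Ideal.mem_span_singleton'.1 h
    rw [mul_comm c]
    exact Ideal.mem_span_singleton_mul.2 ⟨c, Submodule.mem_colon_singleton.2 hs, rfl⟩
  · intro s hs
    obtain ⟨c, hc, rfl⟩ := Ideal.mem_span_singleton_mul.1 hs
    have := Submodule.mem_colon_singleton.1 hc
    rwa [smul_eq_mul, mul_comm] at this

/-- A quotient killed by a power of `m` in which `t` satisfies an equation that is non-zero modulo
`m` of degree `≤ d` is generated by `1, …, t^(d-1)`. -/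
theorem span_pow_eq_top {m : Ideal R} [hm : m.IsMaximal] (hgen : Algebra.adjoin R {t} = ⊤)
    (J : Ideal S) {N d : ℕ} (hN : ∀ r ∈ m ^ N, algebraMap R S r ∈ J) (c : ℕ → R)
    (hc : ∃ k ∈ Finset.range (d + 1), c k ∉ m)
    (hF : ∑ k ∈ Finset.range (d + 1), algebraMap R S (c k) * t ^ k ∈ J) :
    Submodule.span R ((fun k => Submodule.Quotient.mk (t ^ k)) '' Set.Iio d) =
      (⊤ : Submodule R (S ⧸ J)) := by
  classical
  obtain ⟨k₀, hk₀, hck₀⟩ := hc
  let E := (Finset.range (d + 1)).filter fun k => c k ∉ m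
  have hE : E.Nonempty := ⟨k₀, Finset.mem_filter.2 ⟨hk₀, hck₀⟩⟩
  obtain ⟨e, he, hemax⟩ := E.exists_max_image id hE
  obtain ⟨hed', hce⟩ := Finset.mem_filter.1 he
  have hed : e ≤ d := by have := Finset.mem_range.1 hed'; omega
  let q : S →ₗ[R] S ⧸ J := (Submodule.mkQ J).restrictScalars R
  let N₀ : Submodule R (S ⧸ J) := Submodule.span R ((fun k => q (t ^ k)) '' Set.Iio d)
  have hTk : ∀ k, q (t ^ k) ∈ N₀ ⊔ m • (⊤ : Submodule R (S ⧸ J)) := by
    intro k
    induction k using Nat.strong_induction_on with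
    | _ k ih =>
    by_cases hk : k < e
    · exact Submodule.mem_sup_left (Submodule.subset_span ⟨k, hk.trans_le hed, rfl⟩)
    obtain ⟨u, i, hi, hu⟩ := hm.exists_inv hce
    have h0 : ∑ j ∈ Finset.range (d + 1), c j • q (t ^ (j + (k - e))) = 0 := by
      have h : q (∑ j ∈ Finset.range (d + 1), c j • t ^ (j + (k - e))) = 0 := by
        refine (Submodule.Quotient.mk_eq_zero J).2 ?_
        simp only [Algebra.smul_def, pow_add, ← mul_assoc, ← Finset.sum_mul]
        exact J.mul_mem_right _ hF
      rw [map_sum] at h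
      exact (Finset.sum_congr rfl fun j _ => (q.map_smul _ _).symm).trans h
    rw [← Finset.add_sum_erase _ _ hed', Nat.add_sub_cancel' (not_lt.1 hk)] at h0
    have h1 : c e • q (t ^ k) ∈ N₀ ⊔ m • (⊤ : Submodule R (S ⧸ J)) := by
      rw [eq_neg_of_add_eq_zero_left h0]
      refine neg_mem (Submodule.sum_mem _ fun j hj => ?_)
      obtain ⟨hje, hj'⟩ := Finset.mem_erase.1 hj
      by_cases hjm : c j ∈ m
      · exact Submodule.mem_sup_right (Submodule.smul_mem_smul hjm trivial)
      · have : j ≤ e := hemax j (Finset.mem_filter.2 ⟨hj', hjm⟩)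
        exact Submodule.smul_mem _ _ (ih _ (by omega))
    have h2 : q (t ^ k) = u • c e • q (t ^ k) + i • q (t ^ k) := by
      rw [← mul_smul, ← add_smul, hu, one_smul]
    rw [h2]
    exact add_mem (Submodule.smul_mem _ _ h1)
      (Submodule.mem_sup_right (Submodule.smul_mem_smul hi trivial))
  have htop : (⊤ : Submodule R (S ⧸ J)) ≤ N₀ ⊔ m • ⊤ := by
    rintro w -
    obtain ⟨s, rfl⟩ := Submodule.Quotient.mk_surjective J w
    have hs : s ∈ Algebra.adjoin R {t} := hgen ▸ Algebra.mem_top
    rw [Algebra.adjoin_singleton_eq_range_aeval] at hs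
    obtain ⟨P, rfl⟩ := hs
    show q (Polynomial.aeval t P) ∈ _
    rw [Polynomial.aeval_eq_sum_range, map_sum]
    exact Submodule.sum_mem _ fun k _ => by rw [map_smul]; exact Submodule.smul_mem _ _ (hTk k)
  have hiter : ∀ j : ℕ, (⊤ : Submodule R (S ⧸ J)) ≤ N₀ ⊔ m ^ j • ⊤ := by
    intro j
    induction j with
    | zero => rw [pow_zero, Ideal.one_eq_top, Submodule.top_smul]; exact le_sup_right
    | succ j ih =>
      refine ih.trans (sup_le le_sup_left ?_)
      refine (Submodule.smul_mono le_rfl htop).trans ?_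
      rw [Submodule.smul_sup, ← Submodule.mul_smul, ← pow_succ]
      exact sup_le_sup_right Submodule.smul_le_right _
  have hkill : m ^ N • (⊤ : Submodule R (S ⧸ J)) ≤ ⊥ := by
    refine Submodule.smul_le.2 fun r hr w _ => ?_
    obtain ⟨s, rfl⟩ := Submodule.Quotient.mk_surjective J w
    rw [Submodule.mem_bot, ← Submodule.Quotient.mk_smul, Submodule.Quotient.mk_eq_zero, Algebra.smul_def]
    exact J.mul_mem_right _ (hN r hr)
  exact eq_top_iff.2 ((hiter N).trans (sup_le le_rfl (hkill.trans bot_le)))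

/-- A surjection from an ideal killing its intersection with `I` bounds the length. -/
theorem length_lt_of_surjective {M : Type*} [AddCommGroup M] [Module R M] {P I : Ideal R}
    (hIP : I ≤ P) (hP : P ≠ ⊤) (hfin : Module.length R (R ⧸ I) ≠ ⊤) (Λ : P →ₗ[R] M)
    (hΛ : Function.Surjective Λ) (hker : ∀ a : P, (a : R) ∈ I → Λ a = 0) :
    Module.length R M < Module.length R (R ⧸ I) := by
  let I₀ : Submodule R P := Submodule.comap (Submodule.subtype P) I
  have h1 : Module.length R M ≤ Module.length R (P ⧸ I₀) :=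
    Module.length_le_of_surjective (Submodule.liftQ I₀ Λ fun a ha => LinearMap.mem_ker.2 (hker a ha))
      fun w => (hΛ w).elim fun a ha => ⟨Submodule.Quotient.mk a, ha⟩
  let α : (P ⧸ I₀) →ₗ[R] (R ⧸ I) := Submodule.mapQ I₀ I (Submodule.subtype P) le_rfl
  let β : (R ⧸ I) →ₗ[R] (R ⧸ P) := Submodule.mapQ I P LinearMap.id hIP
  have hsum : Module.length R (R ⧸ I) = Module.length R (P ⧸ I₀) + Module.length R (R ⧸ P) := by
    refine Module.length_eq_add_of_exact α β ?_ ?_ ?_
    · rw [← LinearMap.ker_eq_bot, eq_bot_iff]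
      intro a ha
      obtain ⟨a, rfl⟩ := Submodule.Quotient.mk_surjective _ a
      rw [LinearMap.mem_ker, Submodule.mapQ_apply, Submodule.Quotient.mk_eq_zero] at ha
      exact (Submodule.Quotient.mk_eq_zero _).2 ha
    · intro a
      obtain ⟨a, rfl⟩ := Submodule.Quotient.mk_surjective _ a
      exact ⟨Submodule.Quotient.mk a, rfl⟩
    · intro a
      constructor
      · intro ha
        obtain ⟨a, rfl⟩ := Submodule.Quotient.mk_surjective _ a
        rw [Submodule.mapQ_apply, Submodule.Quotient.mk_eq_zero] at ha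
        exact ⟨Submodule.Quotient.mk ⟨a, ha⟩, rfl⟩
      · rintro ⟨b, rfl⟩
        obtain ⟨b, rfl⟩ := Submodule.Quotient.mk_surjective _ b
        rw [Submodule.mapQ_apply, Submodule.mapQ_apply, Submodule.Quotient.mk_eq_zero]
        exact b.2
  refine h1.trans_lt ?_
  have hpos : 0 < Module.length R (R ⧸ P) := by
    have : Nontrivial (R ⧸ P) := Ideal.Quotient.nontrivial_iff.2 hP
    exact Module.length_pos
  rw [hsum] at hfin ⊢
  exact by simpa using (ENat.add_lt_add_iff_left (fun h => hfin (by rw [h, top_add]))).2 hpos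

theorem pow_mul_pow_mem_pow {x y : R} {d k : ℕ} (hk : k ≤ d) :
    x ^ (d - k) * y ^ k ∈ Ideal.span {x, y} ^ d := by
  have h : Ideal.span {x, y} ^ d = Ideal.span {x, y} ^ (d - k) * Ideal.span {x, y} ^ k := by
    rw [← pow_add, Nat.sub_add_cancel hk]
  rw [h]
  have hx : x ∈ Ideal.span {x, y} := Ideal.subset_span (Set.mem_insert x {y})
  have hy : y ∈ Ideal.span {x, y} :=
    Ideal.subset_span (Set.mem_insert_of_mem x (Set.mem_singleton y))
  have hx' : x ^ (d - k) ∈ Ideal.span {x, y} ^ (d - k) := Ideal.pow_mem_pow hx (d - k)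
  have hy' : y ^ k ∈ Ideal.span {x, y} ^ k := Ideal.pow_mem_pow hy k
  exact Ideal.mul_mem_mul hx' hy'

/-- Division by `x^d` of the image of `(x,y)^d`. -/
theorem exists_division (ht : algebraMap R S x * t = algebraMap R S y)
    (hx : algebraMap R S x ∈ nonZeroDivisors S) (d : ℕ) :
    ∃ g : ↥(Ideal.span {x, y} ^ d) →ₗ[R] S,
      ∀ a, algebraMap R S x ^ d * g a = algebraMap R S a := by
  have hdiv : ∀ a : ↥(Ideal.span {x, y} ^ d), ∃ s, algebraMap R S x ^ d * s = algebraMap R S a := by
    rintro ⟨a, ha⟩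
    have h := Ideal.mem_map_of_mem (algebraMap R S) ha
    rw [Ideal.map_pow, map_span_pair_eq ht, Ideal.span_singleton_pow] at h
    obtain ⟨s, hs⟩ := Ideal.mem_span_singleton'.1 h
    exact ⟨s, by rw [mul_comm]; exact hs⟩
  choose g hg using hdiv
  have hcancel : ∀ {a b : S}, algebraMap R S x ^ d * a = algebraMap R S x ^ d * b → a = b := fun h =>
    (mul_cancel_left_mem_nonZeroDivisors (pow_mem hx d)).1 h
  exact ⟨{ toFun := g
           map_add' := fun a b => hcancel (by rw [hg, mul_add, hg, hg]; simp)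
           map_smul' := fun r a => hcancel (by
             rw [RingHom.id_apply, hg, Algebra.smul_def, mul_left_comm, hg]
             simp) }, hg⟩

/-- The weak transform has smaller colength. -/
theorem length_weakTransform_lt [hm : (Ideal.span {x, y}).IsMaximal]
    (hgen : Algebra.adjoin R {t} = ⊤) (ht : algebraMap R S x * t = algebraMap R S y)
    (hx : algebraMap R S x ∈ nonZeroDivisors S) {I : Ideal R} {N : ℕ}
    (hN : Ideal.span {x, y} ^ N ≤ I) (hfin : Module.length R (R ⧸ I) ≠ ⊤) {d : ℕ} (hd : 0 < d)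
    (hId : I ≤ Ideal.span {x, y} ^ d) (hId' : ¬ I ≤ Ideal.span {x, y} ^ (d + 1)) (J : Ideal S)
    (hJ : ∀ s, s ∈ J ↔ s * algebraMap R S x ^ d ∈ I.map (algebraMap R S)) :
    Module.length S (S ⧸ J) < Module.length R (R ⧸ I) := by
  classical
  have hy : ∀ k ≤ d, algebraMap R S (x ^ (d - k) * y ^ k) = algebraMap R S x ^ d * t ^ k := fun k hk => by
    rw [map_mul, map_pow, map_pow, ← ht, mul_pow, ← mul_assoc, ← pow_add, Nat.sub_add_cancel hk]
  have hIJ : ∀ r ∈ I, algebraMap R S r ∈ J := fun r hr =>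
    (hJ _).2 (Ideal.mul_mem_right _ _ (Ideal.mem_map_of_mem _ hr))
  obtain ⟨f, hf, hf'⟩ := SetLike.not_le_iff_exists.1 hId'
  obtain ⟨c, hc⟩ := exists_binary_form x y d (hId hf)
  have hcm : ∃ k ∈ Finset.range (d + 1), c k ∉ Ideal.span {x, y} := by
    by_contra! h
    refine hf' (hc ▸ Submodule.sum_mem _ fun k hk => ?_)
    rw [pow_succ' (Ideal.span {x, y}) d]
    exact Ideal.mul_mem_mul (h k hk) (pow_mul_pow_mem_pow (by have := Finset.mem_range.1 hk; omega))
  have hF : ∑ k ∈ Finset.range (d + 1), algebraMap R S (c k) * t ^ k ∈ J := by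
    rw [hJ, mul_comm, Finset.mul_sum]
    have h : algebraMap R S f ∈ I.map (algebraMap R S) := Ideal.mem_map_of_mem _ hf
    rw [hc, map_sum] at h
    refine (congrArg (· ∈ I.map (algebraMap R S)) (Finset.sum_congr rfl fun k hk => ?_)).mp h
    rw [map_mul, hy k (by have := Finset.mem_range.1 hk; omega)]
    ring
  have hspan := span_pow_eq_top hgen J (fun r hr => hIJ r (hN hr)) c hcm hF
  obtain ⟨g, hg⟩ := exists_division ht hx d
  refine (length_le_restrictScalars R (S ⧸ J)).trans_lt
    (length_lt_of_surjective hId (fun h => hm.ne_top (eq_top_iff.2 (h ▸ Ideal.pow_le_self hd.ne'))) hfin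
      (((Submodule.mkQ J).restrictScalars R).comp g) ?_ fun a ha => ?_)
  · rw [← LinearMap.range_eq_top, eq_top_iff, ← hspan, Submodule.span_le]
    rintro _ ⟨k, hk, rfl⟩
    have hk' : k ≤ d := le_of_lt hk
    refine ⟨⟨_, pow_mul_pow_mem_pow hk'⟩, ?_⟩
    have h : g ⟨_, pow_mul_pow_mem_pow hk'⟩ = t ^ k :=
      (mul_cancel_left_mem_nonZeroDivisors (pow_mem hx d)).1 ((hg ⟨_, _⟩).trans (hy k hk'))
    simp only [LinearMap.comp_apply, h]
    rfl
  · refine (Submodule.Quotient.mk_eq_zero J).2 ((hJ _).2 ?_)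
    rw [mul_comm, hg]
    exact Ideal.mem_map_of_mem _ ha

end Groth.Agent.ResSurf
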