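import Groth.Agent.TwistX.Global
import Groth.Agent.InvX.GenLocusPull
import Mathlib.AlgebraicGeometry.ProjectiveSpectrum.Functor

/-!
# Pulling back `O(1)`: comparison by generating sections
-/

universe u

open CategoryTheory AlgebraicGeometry TopologicalSpace Opposite HomogeneousLocalization

set_option backward.isDefEq.respectTransparency false
set_option backward.isDefEq.respectTransparency.types false

namespace Groth.Agent.ResSurf

open Groth.Agent

variable {X : Scheme.{u}} {M N : X.Modules}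

/-- Modules with frames satisfying the same relations are isomorphic. -/
theorem nonempty_iso_of_frames' {ι : Type u} (U : ι → X.Opens) (hcov : ∀ x, ∃ a, x ∈ U a)
    (e : ∀ a, Γ(M, U a)) (n : ∀ a, Γ(N, U a)) (he : ∀ a, InvX.IsFrame (e a))
    (hn : ∀ a, InvX.IsFrame (n a))
    (hc : ∀ (a b : ι) (W : X.Opens) (ha : W ≤ U a) (hb : W ≤ U b) (g : Γ(X, W)),
      AModX.res M hb (e b) = g • AModX.res M ha (e a) →
        AModX.res N hb (n b) = g • AModX.res N ha (n a)) :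
    Nonempty (M ≅ N) := by
  have hc' : ∀ (a b : ι) (W : X.Opens) (ha : W ≤ U a) (hb : W ≤ U b) (g : Γ(X, W)),
      AModX.res N hb (n b) = g • AModX.res N ha (n a) →
        AModX.res M hb (e b) = g • AModX.res M ha (e a) := by
    intro a b W ha hb g hg
    obtain ⟨g', hg'⟩ := (he a).exists_coord ha (AModX.res M hb (e b))
    have := hc a b W ha hb g' hg'
    rw [hg] at this
    rw [(hn a).coord_unique ha this]
    exact hg'
  let φ : M ⟶ N := InvX.ofFrames (U := U) (e := e) (n := n) hcov he hc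
  let ψ : N ⟶ M := InvX.ofFrames (U := U) (e := n) (n := e) hcov hn hc'
  have h1 : ∀ a, φ.app (U a) (e a) = n a := fun a => InvX.ofFrames_app hcov he hc a
  have h2 : ∀ a, ψ.app (U a) (n a) = e a := fun a => InvX.ofFrames_app hcov hn hc' a
  refine ⟨⟨φ, ψ, InvX.hom_ext_of_frames U hcov e he fun a => ?_,
    InvX.hom_ext_of_frames U hcov n hn fun a => ?_⟩⟩
  · show ψ.app (U a) (φ.app (U a) (e a)) = e a
    rw [h1, h2]
  · show φ.app (U a) (ψ.app (U a) (n a)) = n a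
    rw [h2, h1]

/-- Modules generated by global sections with the same relations are isomorphic. -/
theorem nonempty_iso_of_sections {ι : Type u} (U : ι → X.Opens) (hcov : ∀ x, ∃ a, x ∈ U a)
    (s : ι → Γ(M, ⊤)) (t : ι → Γ(N, ⊤))
    (hs : ∀ a, InvX.IsFrame (AModX.res M (le_top : U a ≤ ⊤) (s a)))
    (ht : ∀ a, InvX.IsFrame (AModX.res N (le_top : U a ≤ ⊤) (t a)))
    (hrel : ∀ a b, ∃ c : Γ(X, U a),
      AModX.res M (le_top : U a ≤ ⊤) (s b) = c • AModX.res M (le_top : U a ≤ ⊤) (s a) ∧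
        AModX.res N (le_top : U a ≤ ⊤) (t b) = c • AModX.res N (le_top : U a ≤ ⊤) (t a)) :
    Nonempty (M ≅ N) := by
  refine nonempty_iso_of_frames' U hcov _ _ hs ht fun a b W ha hb g hg => ?_
  obtain ⟨c, hc₁, hc₂⟩ := hrel a b
  have h₁ := congrArg (AModX.res M ha) hc₁
  have h₂ := congrArg (AModX.res N ha) hc₂
  simp only [AModX.res_smul, AModX.res_res] at h₁ h₂ hg
  have : g = AModX.resR ha c := (hs a).coord_unique ha (by
    simp only [AModX.res_res]
    rw [← hg, ← h₁])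
  simp only [AModX.res_res]
  rw [this, ← h₂]

variable {R A : Type u} [CommRing R] [CommRing A] [Algebra R A]
  (𝒜 : ℕ → Submodule R A) [GradedAlgebra 𝒜]

/-- The fraction `b/a` of elements of degree one, as a function on `D₊(a)`. -/
noncomputable def degOneFrac {a b : A} (ha : a ∈ 𝒜 1) (hb : b ∈ 𝒜 1) :
    Γ(Proj 𝒜, Proj.basicOpen 𝒜 a) :=
  Proj.awayToSection 𝒜 a (Away.mk 𝒜 ha 1 b (by simpa using hb))

/-- On `D₊(a)` the section `b` of `O(1)` is `b/a` times the section `a`. -/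
theorem res_globalOf_eq {a b : A} (ha : a ∈ 𝒜 1) (hb : b ∈ 𝒜 1) :
    AModX.res (Twist.twist 𝒜 ((1 : ℕ) : ℤ)) (le_top : Proj.basicOpen 𝒜 a ≤ ⊤)
        (Twist.globalOf 𝒜 ⟨b, hb⟩) =
      degOneFrac 𝒜 ha hb •
        AModX.res (Twist.twist 𝒜 ((1 : ℕ) : ℤ)) (le_top : Proj.basicOpen 𝒜 a ≤ ⊤)
          (Twist.globalOf 𝒜 ⟨a, ha⟩) := by
  apply Subtype.ext
  funext x
  apply Subtype.ext
  refine Eq.trans ?_ (Twist.coe_smul_val ((1 : ℕ) : ℤ) x.1 _ _).symm
  show Localization.mk b _ = (((ProjectiveSpectrum.Proj.awayToSection 𝒜 a).1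
    (Away.mk 𝒜 ha 1 b _)).val x).val * Localization.mk a _
  erw [ProjectiveSpectrum.Proj.awayToSection_apply, Away.val_mk]
  simp only [Localization.mk_eq_mk']
  erw [IsLocalization.map_mk', ← IsLocalization.mk'_mul]
  refine IsLocalization.mk'_eq_of_eq ?_
  simp [mul_comm]

/-- `O(1)` pulls back to any module generated by sections with the relations of the `aᵢ`. -/
theorem nonempty_pullback_twist_one_iso (r : X ⟶ Proj 𝒜) {ι : Type u} (a : ι → A)
    (ha : ∀ i, a i ∈ 𝒜 1) (hcov : ∀ x : X, ∃ i, r x ∈ Proj.basicOpen 𝒜 (a i))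
    (t : ι → Γ(N, ⊤))
    (ht : ∀ i, InvX.IsFrame (AModX.res N (le_top : r ⁻¹ᵁ Proj.basicOpen 𝒜 (a i) ≤ ⊤) (t i)))
    (hrel : ∀ i j, AModX.res N (le_top : r ⁻¹ᵁ Proj.basicOpen 𝒜 (a i) ≤ ⊤) (t j) =
      r.app (Proj.basicOpen 𝒜 (a i)) (degOneFrac 𝒜 (ha i) (ha j)) •
        AModX.res N (le_top : r ⁻¹ᵁ Proj.basicOpen 𝒜 (a i) ≤ ⊤) (t i)) :
    Nonempty ((Scheme.Modules.pullback r).obj (Twist.twist 𝒜 (1 : ℤ)) ≅ N) := by
  let L : (Proj 𝒜).Modules := Twist.twist 𝒜 ((1 : ℕ) : ℤ)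
  let s : ∀ i, Γ((Scheme.Modules.pullback r).obj L, ⊤) := fun i =>
    InvX.pullElt r (M := L) (U := ⊤) (Twist.globalOf 𝒜 ⟨a i, ha i⟩)
  have hs : ∀ i j, AModX.res _ (le_top : r ⁻¹ᵁ Proj.basicOpen 𝒜 (a i) ≤ ⊤) (s j) =
      InvX.pullElt r (AModX.res L (le_top : Proj.basicOpen 𝒜 (a i) ≤ ⊤)
        (Twist.globalOf 𝒜 ⟨a j, ha j⟩)) := fun i j => InvX.res_pullElt r le_top _
  refine nonempty_iso_of_sections (fun i => r ⁻¹ᵁ Proj.basicOpen 𝒜 (a i)) hcov s t (fun i => ?_) ht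
    fun i j => ⟨_, ?_, hrel i j⟩
  · show InvX.IsFrame (AModX.res ((Scheme.Modules.pullback r).obj L) le_top (s i))
    rw [hs i i]
    exact InvX.isFrame_pullElt r (TwistX.isFrame_res_globalOf (ha i) fun y => y.2)
  · show AModX.res ((Scheme.Modules.pullback r).obj L) _ (s j) =
      _ • AModX.res ((Scheme.Modules.pullback r).obj L) _ (s i)
    rw [hs i j, hs i i, ← InvX.pullElt_smul]
    exact congrArg _ (res_globalOf_eq 𝒜 (ha i) (ha j))

end Groth.Agent.ResSurf
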