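import Groth.Agent.ResSurf.RegularOver

/-!
# Finiteness of the normalization below a proper dominant morphism from a normal scheme
-/

universe u
open CategoryTheory CategoryTheory.Limits AlgebraicGeometry

set_option autoImplicit false
set_option linter.style.haveILetI false
set_option backward.isDefEq.respectTransparency false
set_option backward.isDefEq.respectTransparency.types false

namespace Groth.Agent.ResSurf.AlterNorm

variable {W Z : Scheme.{u}} [IsIntegral W] [IsIntegral Z]

theorem apply_genericPoint_of_isDominant (k : W ⟶ Z) [IsDominant k] :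
    k (genericPoint W) = genericPoint Z := by
  apply ((genericPoint_spec W).image k.continuous).eq
  rw [Set.image_univ, k.denseRange.closure_range]
  exact genericPoint_spec Z

/-- A dominant morphism of integral schemes is injective on sections. -/
theorem app_injective_of_isDominant (k : W ⟶ Z) [IsDominant k] (U : Z.Opens) :
    Function.Injective (k.app U).hom := by
  by_cases hU : (U : Set Z).Nonempty
  · have hgen : genericPoint Z ∈ U :=
      ((genericPoint_spec Z).mem_open_set_iff U.isOpen).2 (by rwa [Set.univ_inter])
    have hη : k (genericPoint W) ∈ U := by rwa [apply_genericPoint_of_isDominant k]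
    intro a b hab
    haveI : Nonempty U := hU.to_subtype
    refine germ_injective_of_isIntegral Z (k (genericPoint W)) hη ?_
    have hf : IsField (Z.presheaf.stalk (k (genericPoint W))) := by
      rw [apply_genericPoint_of_isDominant k]; exact Field.toIsField Z.functionField
    letI := hf.toField
    refine (k.stalkMap (genericPoint W)).hom.injective ?_
    rw [Scheme.Hom.germ_stalkMap_apply k U (genericPoint W) hη, Scheme.Hom.germ_stalkMap_apply k U (genericPoint W) hη]
    exact congrArg (W.presheaf.germ (k ⁻¹ᵁ U) (genericPoint W) hη).hom hab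
  · have : U = ⊥ := TopologicalSpace.Opens.ext (Set.not_nonempty_iff_eq_empty.1 hU)
    subst this
    exact fun a b _ => Subsingleton.elim a b

variable [QuasiCompact (Z.fromSpecStalk (genericPoint Z))] [QuasiSeparated (Z.fromSpecStalk (genericPoint Z))]

/-- A dominant morphism from a normal scheme lifts to the normalization. -/
theorem exists_lift (hW : Pi1.IsNormalScheme W) (k : W ⟶ Z) [IsDominant k] :
    ∃ k' : W ⟶ Curv2.normalization Z, k' ≫ Curv2.normalizationι Z = k := by
  haveI : IsIntegralHom (Curv2.normalizationι Z) :=
    inferInstanceAs (IsIntegralHom (Z.fromSpecStalk (genericPoint Z)).fromNormalization)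
  let t := (Z.fromSpecStalk (genericPoint Z)).toNormalization
  have he : genericPoint Z ⤳ k (genericPoint W) :=
    specializes_of_eq (apply_genericPoint_of_isDominant k).symm
  have he' : k (genericPoint W) ⤳ genericPoint Z :=
    specializes_of_eq (apply_genericPoint_of_isDominant k)
  let ι : Spec W.functionField ⟶ Spec (Z.presheaf.stalk (genericPoint Z)) :=
    Spec.map (Z.presheaf.stalkSpecializes he' ≫ k.stalkMap (genericPoint W))
  have hι : ι ≫ Z.fromSpecStalk (genericPoint Z) = W.fromSpecStalk (genericPoint W) ≫ k := by
    simp only [ι, Spec.map_comp, Category.assoc, Scheme.SpecMap_stalkSpecializes_fromSpecStalk,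
      Scheme.SpecMap_stalkMap_fromSpecStalk]
  let σ : Spec W.functionField ⟶ pullback (Curv2.normalizationι Z) k :=
    pullback.lift (ι ≫ t) (W.fromSpecStalk (genericPoint W)) (by
      rw [Category.assoc]
      exact (congrArg (ι ≫ ·)
        (Z.fromSpecStalk (genericPoint Z)).toNormalization_fromNormalization).trans hι)
  obtain ⟨s, hs, -⟩ := Proj16.exists_section_of_isIntegralHom hW (pullback.snd (Curv2.normalizationι Z) k) σ
    (pullback.lift_snd _ _ _)
  exact ⟨s ≫ pullback.fst _ _, by rw [Category.assoc, pullback.condition, ← Category.assoc, hs, Category.id_comp]⟩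

/-- The normalization is finite below a proper dominant morphism from a normal scheme. -/
theorem isFinite_normalizationι [IsLocallyNoetherian Z] (hW : Pi1.IsNormalScheme W) (k : W ⟶ Z)
    [IsProper k] [IsDominant k] : IsFinite (Curv2.normalizationι Z) := by
  obtain ⟨k', hk'⟩ := exists_lift hW k
  haveI : IsIntegralHom (Curv2.normalizationι Z) :=
    inferInstanceAs (IsIntegralHom (Z.fromSpecStalk (genericPoint Z)).fromNormalization)
  haveI : IsIntegral (Curv2.normalization Z) :=
    inferInstanceAs (IsIntegral (Z.fromSpecStalk (genericPoint Z)).normalization)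
  have hdom : IsDominant k' := by
    constructor
    have hν := isBirat_normalizationι Z
    have h1 : (Curv2.normalizationι Z) (k' (genericPoint W)) = genericPoint Z := by
      rw [← Scheme.Hom.comp_apply, hk']; exact apply_genericPoint_of_isDominant k
    have h2 : k' (genericPoint W) = genericPoint (Curv2.normalization Z) := hν.eq_genericPoint h1
    refine dense_iff_closure_eq.2 (Set.eq_univ_of_univ_subset ?_)
    rw [← (genericPoint_spec (Curv2.normalization Z)).def]
    exact closure_mono (Set.singleton_subset_iff.2 ⟨_, h2⟩)
  refine ⟨fun U hU => ?_⟩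
  haveI : IsNoetherianRing Γ(Z, U) := IsLocallyNoetherian.component_noetherian ⟨U, hU⟩
  let φ := ((Curv2.normalizationι Z).app U).hom
  let ψ := (k'.app (Curv2.normalizationι Z ⁻¹ᵁ U)).hom
  haveI : IsProper (k' ≫ Curv2.normalizationι Z) := by rw [hk']; infer_instance
  have h2 : (ψ.comp φ).Finite := by
    have h := Groth.Agent.S1297.finite_app (k' ≫ Curv2.normalizationι Z) hU
    rw [Scheme.Hom.comp_app, CommRingCat.hom_comp] at h
    exact h
  have hψ : Function.Injective ψ := app_injective_of_isDominant k' _
  letI := φ.toAlgebra
  letI := (ψ.comp φ).toAlgebra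
  haveI : Module.Finite Γ(Z, U) Γ(W, k' ⁻¹ᵁ Curv2.normalizationι Z ⁻¹ᵁ U) := h2
  haveI : IsNoetherian Γ(Z, U) Γ(W, k' ⁻¹ᵁ Curv2.normalizationι Z ⁻¹ᵁ U) := isNoetherian_of_isNoetherianRing_of_finite _ _
  let l : Γ(Curv2.normalization Z, Curv2.normalizationι Z ⁻¹ᵁ U) →ₐ[Γ(Z, U)]
      Γ(W, k' ⁻¹ᵁ Curv2.normalizationι Z ⁻¹ᵁ U) := { ψ with commutes' := fun _ => rfl }
  exact Module.Finite.of_injective l.toLinearMap hψ

end Groth.Agent.ResSurf.AlterNorm
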