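import Groth.Agent.ResSurf.Dominance
import Groth.Agent.ResSurf.CentrePts
import Groth.Agent.Proj16.NormalExt
import Mathlib.AlgebraicGeometry.ZariskisMainTheorem

/-!
# The bad points of a proper birational morphism onto a normal surface

The statements of `RegularOver.exists_bad` and its ingredients, with a small import closure.
-/

universe u

open CategoryTheory CategoryTheory.Limits AlgebraicGeometry TopologicalSpace IsLocalRing

set_option backward.isDefEq.respectTransparency false
set_option backward.isDefEq.respectTransparency.types false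
set_option linter.style.haveILetI false
set_option maxHeartbeats 400000

namespace Groth.Agent.ResSurf.BadPoints

open Groth.Agent

theorem isNormalScheme_open {X : Scheme.{u}} (hX : Pi1.IsNormalScheme X) (O : X.Opens) :
    Pi1.IsNormalScheme (O : Scheme.{u}) := fun x => by
  haveI := (hX x.1).1
  haveI := (hX x.1).2
  let e : X.presheaf.stalk x.1 ≃+* (O : Scheme.{u}).presheaf.stalk x :=
    (O.stalkIso x).commRingCatIsoToRingEquiv.symm
  exact ⟨e.symm.toMulEquiv.isDomain _, IsIntegrallyClosed.of_equiv e⟩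

theorem isBirat_opensι {X : Scheme.{u}} [IsIntegral X] (O : X.Opens) [IsIntegral (O : Scheme.{u})] :
    IsBirat O.ι := by
  haveI : IsIso (O.ι ∣_ O) := by
    haveI : IsOpenImmersion (O.ι ∣_ O) := inferInstance
    haveI : Surjective (O.ι ∣_ O) := ⟨fun x => ⟨⟨⟨x.1, x.2⟩, x.2⟩, Subtype.ext (by
      rw [morphismRestrict_base_coe]; rfl)⟩⟩
    exact (isIso_iff_isOpenImmersion_and_surjective _).2 ⟨inferInstance, inferInstance⟩
  exact isBirat_of_isIso_restrict O.ι O ⟨_, (genericPoint (O : Scheme.{u})).2⟩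

theorem topologicalKrullDim_le_of_birat {Z X : Scheme.{u}} [IsIntegral Z] [IsIntegral X] [IsLocallyNoetherian X]
    (c : Z ⟶ X) [LocallyOfFiniteType c] [IsSeparated c] (hc : IsBirat c) (hd : topologicalKrullDim X ≤ 2) :
    topologicalKrullDim Z ≤ 2 := by
  haveI := LocallyOfFiniteType.isLocallyNoetherian c
  have h1 : topologicalKrullDim Z = Order.krullDim Z := Order.krullDim_eq_of_orderIso irreducibleSetEquivPoints
  rw [h1, Order.krullDim_eq_iSup_coheight]
  refine iSup_le fun z => ?_
  rw [← DimFormula.coe_codim]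
  have := codim_add_rd_le c hc z
  have := codim_le_of_dim_le (d := 2) (by exact_mod_cast hd) (c z)
  exact WithBot.coe_le_coe.2 (by exact_mod_cast (show DimFormula.codim z ≤ 2 by omega))

theorem isIso_of_finite_fibres {X Y : Scheme.{u}} [IsIntegral X] [IsIntegral Y] (f : X ⟶ Y) [IsProper f]
    (hf : IsBirat f) (hY : Pi1.IsNormalScheme Y) (h : ∀ y, (f ⁻¹' {y}).Finite) : IsIso f := by
  haveI : LocallyQuasiFinite f := LocallyQuasiFinite.of_finite_preimage_singleton _ h
  haveI : IsFinite f := (IsFinite.iff_isProper_and_locallyQuasiFinite f).2 ⟨inferInstance, inferInstance⟩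
  obtain ⟨θ, hθ⟩ := hf
  exact Proj16.isIso_of_isIntegralHom hY f (Spec.map θ.inv ≫ X.fromSpecStalk (genericPoint X))
    (by rw [Category.assoc, ← hθ, ← Spec.map_comp_assoc, Iso.hom_inv_id, Spec.map_id, Category.id_comp])

/-- A proper birational morphism onto a normal surface is an isomorphism away from finitely many points. -/
theorem exists_bad {Y Z : Scheme.{u}} [IsIntegral Y] [IsIntegral Z] [IsNoetherian Z] (c : Y ⟶ Z) [IsProper c]
    (hc : IsBirat c) (hZ : Pi1.IsNormalScheme Z) (hd : topologicalKrullDim Z ≤ 2)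
    (U : Z.Opens) (hU : (U : Set Z).Nonempty) [IsIso (c ∣_ U)] :
    ∃ (T : Set Z) (hT : IsClosed T), T.Finite ∧
      (∀ w ∈ T, IsClosed ({w} : Set Z) ∧ ¬ (c ⁻¹' {w}).Finite) ∧
      IsIso (c ∣_ (⟨Tᶜ, hT.isOpen_compl⟩ : Z.Opens)) := by
  haveI : IsLocallyNoetherian Y := LocallyOfFiniteType.isLocallyNoetherian c
  haveI : CompactSpace Y := QuasiCompact.compactSpace_of_compactSpace c
  haveI : IsNoetherian Y := ⟨⟩
  let T : Set Z := {w | ¬ (c ⁻¹' {w}).Finite}
  have hcl : ∀ w ∈ T, IsClosed ({w} : Set Z) := by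
    intro w hw
    by_contra hwc
    refine hw (Set.Subsingleton.finite fun a ha b hb => ?_)
    haveI : ValuationRing (Z.presheaf.stalk (c a)) := by
      rw [show c a = w from ha]
      exact valuationRing_of_not_isClosed (𝟙 Z) (isBirat_of_isIso (𝟙 Z)) hZ hd hwc
    exact hc.eq_of_valuationRing ((ha : c a = w).trans (hb : c b = w).symm)
  have hsub : T ⊆ c '' {ξ : Y | ¬ IsClosed ({ξ} : Set Y) ∧ IsClosed ({c ξ} : Set Z)} := by
    intro w hw
    by_contra hne
    refine hw (finite_of_forall_isClosed ((hcl w hw).preimage c.continuous) fun ξ hξ => ?_)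
    by_contra hξc
    exact hne ⟨ξ, ⟨hξc, by rw [show c ξ = w from hξ]; exact hcl w hw⟩, hξ⟩
  have hTf : T.Finite := ((finite_nonclosed c hc hd U hU).image c).subset hsub
  have hTc : IsClosed T := by
    rw [← Set.biUnion_of_singleton T]
    exact hTf.isClosed_biUnion hcl
  refine ⟨T, hTc, hTf, fun w hw => ⟨hcl w hw, hw⟩, ?_⟩
  let O : Z.Opens := ⟨Tᶜ, hTc.isOpen_compl⟩
  have hηO : genericPoint Z ∈ O := fun hη => hη (Set.Subsingleton.finite fun a ha b hb => by
    haveI : ValuationRing (Z.presheaf.stalk (c a)) := by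
      rw [show c a = genericPoint Z from ha]; exact inferInstanceAs (ValuationRing Z.functionField)
    exact hc.eq_of_valuationRing ((ha : c a = genericPoint Z).trans (hb : c b = genericPoint Z).symm))
  haveI : Nonempty (O : Scheme.{u}) := ⟨⟨_, hηO⟩⟩
  haveI : IsIntegral (O : Scheme.{u}) := isIntegral_of_isOpenImmersion O.ι
  haveI : Nonempty (c ⁻¹ᵁ O : Scheme.{u}) :=
    ⟨⟨genericPoint Y, show c (genericPoint Y) ∈ O from hc.apply_genericPoint.symm ▸ hηO⟩⟩
  haveI : IsIntegral (c ⁻¹ᵁ O : Scheme.{u}) := isIntegral_of_isOpenImmersion (c ⁻¹ᵁ O).ι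
  haveI : IsProper (c ∣_ O) := IsZariskiLocalAtTarget.restrict (P := @IsProper) inferInstance _
  have hb : IsBirat (c ∣_ O) := by
    refine IsBirat.of_comp (c := O.ι) ?_ (isBirat_opensι O)
    rw [morphismRestrict_ι]
    exact (isBirat_opensι (c ⁻¹ᵁ O)).comp hc
  refine isIso_of_finite_fibres (c ∣_ O) hb (isNormalScheme_open hZ O) fun w => ?_
  have hfin : (c ⁻¹' {w.1}).Finite := not_not.1 w.2
  refine (hfin.preimage ((c ⁻¹ᵁ O).ι.isOpenEmbedding.injective.injOn)).subset fun v hv => ?_
  show c v.1 = w.1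
  rw [← show (c ∣_ O) v = w from hv]
  exact (morphismRestrict_base_coe c O v).symm

theorem topologicalKrullDim_closed_le_one {X : Scheme.{u}} [IsIntegral X] [IsLocallyNoetherian X]
    (hd : ∀ x : X, ringKrullDim (X.presheaf.stalk x) ≤ 2) (S : Set X) (hS : IsClosed S)
    (hη : genericPoint X ∉ S) : topologicalKrullDim S ≤ 1 := by
  haveI : QuasiSober S := hS.isClosedEmbedding_subtypeVal.quasiSober
  let P : Preorder S := (specializationOrder S).toPreorder
  have h1 : topologicalKrullDim S = @Order.krullDim S P :=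
    @Order.krullDim_eq_of_orderIso _ _ _ P irreducibleSetEquivPoints
  rw [h1, Order.krullDim]
  refine iSup_le fun l => ?_
  by_contra hl
  have hlen : 2 ≤ l.length := by
    by_contra h
    exact hl (by exact_mod_cast (show l.length ≤ 1 by omega))
  have hsp : ∀ {a b : S}, P.lt a b → (b.1 ⤳ a.1) ∧ b.1 ≠ a.1 := fun {a b} h =>
    ⟨(@le_of_lt _ P _ _ h : b ⤳ a).map continuous_subtype_val,
      fun e => @ne_of_lt _ P _ _ h (Subtype.ext e.symm)⟩
  obtain ⟨h01, hne01⟩ := hsp (l.strictMono (show (⟨0, by omega⟩ : Fin (l.length + 1)) < ⟨1, by omega⟩ from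
    Fin.mk_lt_mk.2 (by omega)))
  obtain ⟨h12, hne12⟩ := hsp (l.strictMono (show (⟨1, by omega⟩ : Fin (l.length + 1)) < ⟨2, by omega⟩ from
    Fin.mk_lt_mk.2 (by omega)))
  set a := (l ⟨0, by omega⟩).1
  set b := (l ⟨1, by omega⟩).1
  set c := (l ⟨2, by omega⟩).1
  have hc : 1 ≤ DimFormula.codim c := by
    rw [← DimFormula.cd_eq_codim_of_irreducible]
    exact Nat.one_le_iff_ne_zero.2 fun h0 =>
      hη (((DimFormula.cd_eq_zero_iff (genericPoint_specializes c)).1 h0).symm ▸ (l ⟨2, by omega⟩).2)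
  have hb1 : 1 ≤ DimFormula.cd c b :=
    Nat.one_le_iff_ne_zero.2 fun h0 => hne12 ((DimFormula.cd_eq_zero_iff h12).1 h0)
  have ha1 : 1 ≤ DimFormula.cd b a :=
    Nat.one_le_iff_ne_zero.2 fun h0 => hne01 ((DimFormula.cd_eq_zero_iff h01).1 h0)
  have e1 := DimFormula.cd_add_cd_le h12 (genericPoint_specializes c)
  have e2 := DimFormula.cd_add_cd_le h01 (genericPoint_specializes b)
  rw [DimFormula.cd_eq_codim_of_irreducible, DimFormula.cd_eq_codim_of_irreducible] at e1 e2
  have h3 := hd a
  rw [DimFormula.ringKrullDim_stalk] at h3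
  have h5 : DimFormula.codim a ≤ 2 := by exact_mod_cast h3
  omega

end Groth.Agent.ResSurf.BadPoints
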