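import Groth.Prelude.Def_Pi1
import Mathlib.AlgebraicGeometry.FunctionField
import Mathlib.AlgebraicGeometry.ValuativeCriterion
import Mathlib.AlgebraicGeometry.Morphisms.Separated
import Mathlib.AlgebraicGeometry.IdealSheaf.Subscheme
import Mathlib.RingTheory.Valuation.ValuationRing

/-!
# Birational morphisms through function fields, and lifts of points
-/

universe u

open CategoryTheory CategoryTheory.Limits AlgebraicGeometry IsLocalRing

set_option backward.isDefEq.respectTransparency false
set_option backward.isDefEq.respectTransparency.types false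
set_option linter.style.haveILetI false

namespace Groth.Agent.ResSurf

/-- The morphism identifies the function fields. -/
def IsBirat {Z X : Scheme.{u}} [IsIntegral Z] [IsIntegral X] (c : Z ⟶ X) : Prop :=
  ∃ ι : X.functionField ≅ Z.functionField,
    Spec.map ι.hom ≫ X.fromSpecStalk (genericPoint X) = Z.fromSpecStalk (genericPoint Z) ≫ c

/-- A morphism out of the spectrum of a field into a point `z` factors through `Spec` of the stalk. -/
theorem exists_factor_fromSpecStalk {Z : Scheme.{u}} {L : CommRingCat.{u}} [IsLocalRing L]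
    (σ : Spec L ⟶ Z) {z : Z} (h : σ (closedPoint L) = z) :
    ∃ e : Z.presheaf.stalk z ⟶ L, IsLocalHom e.hom ∧ Spec.map e ≫ Z.fromSpecStalk z = σ := by
  subst h
  exact ⟨Scheme.stalkClosedPointTo σ, inferInstance, Scheme.Spec_stalkClosedPointTo_fromSpecStalk σ⟩

theorem fromSpecStalk_hom_ext {Z : Scheme.{u}} {z : Z} {L : CommRingCat.{u}}
    {e e' : Z.presheaf.stalk z ⟶ L} (h : Spec.map e ≫ Z.fromSpecStalk z = Spec.map e' ≫ Z.fromSpecStalk z) :
    e = e' :=
  Spec.map_injective ((cancel_mono (Z.fromSpecStalk z)).1 h)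

section

variable {Z X W : Scheme.{u}} [IsIntegral Z] [IsIntegral X] [IsIntegral W]

theorem IsBirat.apply_genericPoint {c : Z ⟶ X} (h : IsBirat c) : c (genericPoint Z) = genericPoint X := by
  obtain ⟨ι, hι⟩ := h
  have h1 := congrArg (fun k : Spec Z.functionField ⟶ X => k (closedPoint Z.functionField)) hι
  have h2 : (Spec.map ι.hom) (closedPoint Z.functionField) = closedPoint X.functionField :=
    Spec_closedPoint
  simp only [Scheme.Hom.comp_apply] at h1
  rw [h2, X.fromSpecStalk_closedPoint, Z.fromSpecStalk_closedPoint] at h1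
  exact h1.symm

theorem IsBirat.comp {g : W ⟶ Z} {c : Z ⟶ X} (hg : IsBirat g) (hc : IsBirat c) : IsBirat (g ≫ c) := by
  obtain ⟨ι, hι⟩ := hg
  obtain ⟨κ, hκ⟩ := hc
  refine ⟨κ ≪≫ ι, ?_⟩
  rw [Iso.trans_hom, Spec.map_comp, Category.assoc, hκ, reassoc_of% hι]

/-- A section at the generic point, meeting the generic point, makes a morphism birational. -/
theorem isBirat_of_lift {c : Z ⟶ X} (δ : Spec X.functionField ⟶ Z)
    (h1 : δ ≫ c = X.fromSpecStalk (genericPoint X))
    (h2 : δ (closedPoint X.functionField) = genericPoint Z) : IsBirat c := by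
  obtain ⟨e, -, he⟩ := exists_factor_fromSpecStalk δ h2
  have hgen : c (genericPoint Z) = genericPoint X := by
    rw [← h2, ← Scheme.Hom.comp_apply, h1, X.fromSpecStalk_closedPoint]
  have h3 : (Z.fromSpecStalk (genericPoint Z) ≫ c) (closedPoint Z.functionField) = genericPoint X := by
    rw [Scheme.Hom.comp_apply, Z.fromSpecStalk_closedPoint, hgen]
  obtain ⟨i, -, hi⟩ := exists_factor_fromSpecStalk (Z.fromSpecStalk (genericPoint Z) ≫ c) h3
  have hid : i ≫ e = 𝟙 _ := by
    refine fromSpecStalk_hom_ext ?_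
    rw [Spec.map_comp, Category.assoc, hi, reassoc_of% he, Spec.map_id, Category.id_comp, h1]
  have hinj : Function.Injective e.hom := RingHom.injective e.hom
  have hie : e ≫ i = 𝟙 _ := by
    refine CommRingCat.hom_ext (RingHom.ext fun a => hinj ?_)
    exact RingHom.congr_fun (congrArg CommRingCat.Hom.hom hid) (e a)
  exact ⟨⟨i, e, hid, hie⟩, hi⟩

theorem isBirat_of_isIso (c : Z ⟶ X) [IsIso c] : IsBirat c := by
  refine isBirat_of_lift (X.fromSpecStalk (genericPoint X) ≫ inv c) (by simp) ?_
  rw [Scheme.Hom.comp_apply, X.fromSpecStalk_closedPoint, genericPoint_eq_of_isOpenImmersion (inv c)]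

/-- An isomorphism over a nonempty open is birational. -/
theorem isBirat_of_isIso_restrict (c : Z ⟶ X) (U : X.Opens) (hU : (U : Set X).Nonempty) [IsIso (c ∣_ U)] :
    IsBirat c := by
  have hη : genericPoint X ∈ U := ((genericPoint_spec X).mem_open_set_iff U.2).2 (by simpa using hU)
  have hr : Set.range (X.fromSpecStalk (genericPoint X)) ⊆ Set.range U.ι := by
    rw [Scheme.range_fromSpecStalk, Scheme.Opens.range_ι]
    exact fun y hy => Specializes.mem_open hy U.2 hη
  haveI : Nonempty (U : Scheme.{u}) := hU.to_subtype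
  let δ₀ := IsOpenImmersion.lift U.ι (X.fromSpecStalk (genericPoint X)) hr
  have hδ₀ : δ₀ ≫ U.ι = X.fromSpecStalk (genericPoint X) := IsOpenImmersion.lift_fac _ _ _
  refine isBirat_of_lift (δ₀ ≫ inv (c ∣_ U) ≫ (c ⁻¹ᵁ U).ι) ?_ ?_
  · rw [Category.assoc, Category.assoc, ← morphismRestrict_ι, IsIso.inv_hom_id_assoc, hδ₀]
  · have hg : δ₀ (closedPoint X.functionField) = genericPoint (U : Scheme.{u}) :=
      U.ι.isOpenEmbedding.injective (by
        rw [genericPoint_eq_of_isOpenImmersion U.ι, ← Scheme.Hom.comp_apply, hδ₀, X.fromSpecStalk_closedPoint])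
    rw [Scheme.Hom.comp_apply, hg, genericPoint_eq_of_isOpenImmersion (inv (c ∣_ U) ≫ (c ⁻¹ᵁ U).ι)]

/-- `stalk → function field` as a morphism over the scheme. -/
theorem SpecMap_algebraMap_fromSpecStalk (z : Z) :
    Spec.map (CommRingCat.ofHom (algebraMap (Z.presheaf.stalk z) Z.functionField)) ≫ Z.fromSpecStalk z =
      Z.fromSpecStalk (genericPoint Z) :=
  Scheme.SpecMap_stalkSpecializes_fromSpecStalk ((genericPoint_spec Z).specializes trivial)

/-- The stalk maps of a birational morphism are compatible with the function fields. -/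
theorem IsBirat.exists_stalkMap_comp {c : Z ⟶ X} (hc : IsBirat c) :
    ∃ ι : X.functionField ≅ Z.functionField, ∀ (z : Z),
      c.stalkMap z ≫ CommRingCat.ofHom (algebraMap (Z.presheaf.stalk z) Z.functionField) =
        CommRingCat.ofHom (algebraMap (X.presheaf.stalk (c z)) X.functionField) ≫ ι.hom := by
  obtain ⟨ι, hι⟩ := hc
  refine ⟨ι, fun z => fromSpecStalk_hom_ext ?_⟩
  rw [Spec.map_comp, Category.assoc, Scheme.SpecMap_stalkMap_fromSpecStalk,
    reassoc_of% SpecMap_algebraMap_fromSpecStalk z, Spec.map_comp, Category.assoc,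
    SpecMap_algebraMap_fromSpecStalk (c z), hι]

/-- A birational morphism induces an isomorphism at the points over valuation rings. -/
theorem IsBirat.bijective_stalkMap {c : Z ⟶ X} (hc : IsBirat c) (z : Z)
    [ValuationRing (X.presheaf.stalk (c z))] : Function.Bijective (c.stalkMap z).hom := by
  obtain ⟨ι, hι⟩ := hc.exists_stalkMap_comp
  let R := X.presheaf.stalk (c z)
  let S := Z.presheaf.stalk z
  let φ : R →+* S := (c.stalkMap z).hom
  let jR : R →+* Z.functionField := ι.hom.hom.comp (algebraMap R X.functionField)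
  let jS : S →+* Z.functionField := algebraMap S Z.functionField
  have hcomp : ∀ r, jS (φ r) = jR r := fun r => RingHom.congr_fun (congrArg CommRingCat.Hom.hom (hι z)) r
  have hjS : Function.Injective jS := IsFractionRing.injective S Z.functionField
  have hjR : Function.Injective jR :=
    (RingHom.injective ι.hom.hom).comp (IsFractionRing.injective R X.functionField)
  refine ⟨fun a b hab => hjR (by rw [← hcomp, ← hcomp]; exact congrArg jS hab), fun s => ?_⟩
  obtain ⟨a, ha⟩ : ∃ a, ι.hom.hom a = jS s :=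
    ⟨ι.inv.hom (jS s), RingHom.congr_fun (congrArg CommRingCat.Hom.hom ι.inv_hom_id) _⟩
  rcases ValuationRing.isInteger_or_isInteger R a with ⟨r, hr⟩ | ⟨r, hr⟩
  · refine ⟨r, hjS ?_⟩
    change jS (φ r) = jS s
    rw [hcomp]
    show ι.hom.hom (algebraMap R X.functionField r) = jS s
    rw [hr, ha]
  · by_cases ha0 : a = 0
    · refine ⟨0, hjS ?_⟩
      change jS (φ 0) = jS s
      rw [← ha, ha0, map_zero φ, map_zero, map_zero]
    · have h1 : jS (φ r) * jS s = 1 := by
        rw [hcomp, ← ha]
        show ι.hom.hom (algebraMap R X.functionField r) * _ = _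
        rw [hr, ← map_mul, inv_mul_cancel₀ ha0, map_one]
      have hu : IsUnit (φ r) := IsUnit.of_mul_eq_one s (hjS (by rw [map_mul, h1, map_one]))
      obtain ⟨v, rfl⟩ := (IsUnit.of_map φ r hu)
      refine ⟨((v⁻¹ : Rˣ) : R), ?_⟩
      have h2 : φ v * s = 1 := hjS (by rw [map_mul, h1, map_one])
      calc φ ((v⁻¹ : Rˣ) : R) = φ ((v⁻¹ : Rˣ) : R) * (φ v * s) := by rw [h2, mul_one]
        _ = s := by rw [← mul_assoc, ← map_mul, Units.inv_mul, map_one, one_mul]

/-- A separated birational morphism has at most one point over a valuation ring. -/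
theorem IsBirat.eq_of_valuationRing {c : Z ⟶ X} [IsSeparated c] (hc : IsBirat c) {z₁ z₂ : Z}
    (h : c z₁ = c z₂) [ValuationRing (X.presheaf.stalk (c z₁))] : z₁ = z₂ := by
  haveI : ValuationRing (X.presheaf.stalk (c z₂)) := h ▸ ‹ValuationRing (X.presheaf.stalk (c z₁))›
  have hb₁ := hc.bijective_stalkMap z₁
  have hb₂ := hc.bijective_stalkMap z₂
  obtain ⟨ι, hι⟩ := hc.exists_stalkMap_comp
  obtain ⟨κ, hκ⟩ := hc
  haveI : IsIso (c.stalkMap z₁) := (ConcreteCategory.isIso_iff_bijective _).2 hb₁
  haveI : IsIso (c.stalkMap z₂) := (ConcreteCategory.isIso_iff_bijective _).2 hb₂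
  have key : ∀ (z : Z) [IsIso (c.stalkMap z)], Spec.map (inv (c.stalkMap z)) ≫ Z.fromSpecStalk z ≫ c =
      X.fromSpecStalk (c z) := fun z _ => by
    rw [← Scheme.SpecMap_stalkMap_fromSpecStalk, ← Spec.map_comp_assoc, IsIso.hom_inv_id, Spec.map_id,
      Category.id_comp]
  have key' : ∀ (z : Z) [IsIso (c.stalkMap z)],
      Spec.map (CommRingCat.ofHom (algebraMap (X.presheaf.stalk (c z)) X.functionField) ≫ ι.hom) ≫
        Spec.map (inv (c.stalkMap z)) ≫ Z.fromSpecStalk z = Z.fromSpecStalk (genericPoint Z) := fun z _ => by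
    rw [← Spec.map_comp_assoc, ← hι z, IsIso.inv_hom_id_assoc, SpecMap_algebraMap_fromSpecStalk]
  have main : ∀ (x : X), ∀ (a b : Spec (X.presheaf.stalk x) ⟶ Z), a ≫ c = b ≫ c →
      Spec.map (CommRingCat.ofHom (algebraMap (X.presheaf.stalk x) X.functionField) ≫ ι.hom) ≫ a =
        Spec.map (CommRingCat.ofHom (algebraMap (X.presheaf.stalk x) X.functionField) ≫ ι.hom) ≫ b →
      a = b := fun x a b hab hgen => by
    haveI : IsDominant (Spec.map (CommRingCat.ofHom (algebraMap (X.presheaf.stalk x) X.functionField) ≫ ι.hom)) := by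
      rw [Spec.map_comp]
      haveI : IsDominant (Spec.map (CommRingCat.ofHom (algebraMap (X.presheaf.stalk x) X.functionField))) :=
        ⟨(PrimeSpectrum.denseRange_comap_iff_ker_le_nilRadical _).2 (by
          rw [CommRingCat.hom_ofHom, (RingHom.injective_iff_ker_eq_bot _).1
            (IsFractionRing.injective (X.presheaf.stalk x) X.functionField)]
          exact bot_le)⟩
      infer_instance
    exact ext_of_isDominant_of_isSeparated c hab _ hgen
  let a := Spec.map (inv (c.stalkMap z₁)) ≫ Z.fromSpecStalk z₁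
  let e := X.presheaf.stalkCongr (.of_eq h)
  let b := Spec.map e.inv ≫ Spec.map (inv (c.stalkMap z₂)) ≫ Z.fromSpecStalk z₂
  have hcongr : ∀ {x x' : X} (h : x = x'),
      Spec.map (X.presheaf.stalkCongr (.of_eq h)).inv ≫ X.fromSpecStalk x' = X.fromSpecStalk x := by
    intro x x' h; subst h; simp
  have hcongr' : ∀ {x x' : X} (h : x = x'),
      (X.presheaf.stalkCongr (.of_eq h)).inv ≫ CommRingCat.ofHom (algebraMap (X.presheaf.stalk x) X.functionField) =
        CommRingCat.ofHom (algebraMap (X.presheaf.stalk x') X.functionField) := by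
    intro x x' h; subst h; simp
  have hab : a = b := by
    refine main _ a b ?_ ?_
    · simp only [a, b, Category.assoc, key z₁, key z₂]
      exact (hcongr h).symm
    · simp only [a, b]
      rw [key' z₁, ← Spec.map_comp_assoc, reassoc_of% (hcongr' h), key' z₂]
  have h2 := congrArg (fun k : Spec (X.presheaf.stalk (c z₁)) ⟶ Z => k (closedPoint _)) hab
  simp only [a, b, Scheme.Hom.comp_apply] at h2
  rw [Spec_closedPoint, Spec_closedPoint, Spec_closedPoint, Z.fromSpecStalk_closedPoint,
    Z.fromSpecStalk_closedPoint] at h2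
  exact h2

/-- Over the generic point there is only the generic point. -/
theorem IsBirat.eq_genericPoint {c : Z ⟶ X} [IsSeparated c] (hc : IsBirat c) {z : Z}
    (h : c z = genericPoint X) : z = genericPoint Z := by
  haveI : ValuationRing (X.presheaf.stalk (c z)) := by
    rw [h]; exact inferInstanceAs (ValuationRing X.functionField)
  exact hc.eq_of_valuationRing (h.trans hc.apply_genericPoint.symm)

/-- Cancellation: a factor of a birational morphism through a separated birational morphism. -/
theorem IsBirat.of_comp {g : W ⟶ Z} {c : Z ⟶ X} [IsSeparated c] (hgc : IsBirat (g ≫ c)) (hc : IsBirat c) :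
    IsBirat g := by
  have hg : g (genericPoint W) = genericPoint Z := hc.eq_genericPoint hgc.apply_genericPoint
  obtain ⟨κ, hκ⟩ := hgc
  obtain ⟨ι, hι⟩ := hc
  obtain ⟨e, -, he⟩ := exists_factor_fromSpecStalk (W.fromSpecStalk (genericPoint W) ≫ g) (z := genericPoint Z)
    (L := W.functionField) (by rw [Scheme.Hom.comp_apply, W.fromSpecStalk_closedPoint, hg])
  have h1 : ι.hom ≫ e = κ.hom := fromSpecStalk_hom_ext (by
    rw [Spec.map_comp, Category.assoc, hι, reassoc_of% he, hκ])
  refine ⟨ι.symm ≪≫ κ, ?_⟩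
  rw [Iso.trans_hom, Iso.symm_hom, ← h1, Iso.inv_hom_id_assoc, he]

end

/-- The scheme-theoretic image of an integral scheme is integral. -/
theorem isIntegral_image {T Z : Scheme.{u}} [IsIntegral T] (f : T ⟶ Z) [QuasiCompact f] : IsIntegral f.image := by
  haveI : ∀ x : f.image, _root_.IsReduced (f.image.presheaf.stalk x) := fun x => by
    let P := (TopCat.Presheaf.pushforward CommRingCat f.toImage.base).obj T.presheaf
    have hP : _root_.IsReduced (P.stalk x) := by
      refine ⟨fun a ⟨n, hn⟩ => ?_⟩
      obtain ⟨V, hxV, t, rfl⟩ := P.exists_germ_eq a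
      have hn' : P.germ V x hxV (t ^ n) = P.germ V x hxV 0 := by
        rw [map_pow, map_zero]; exact hn
      obtain ⟨W, hxW, iV, iV', e⟩ := P.germ_eq x hxV hxV _ _ hn'
      rw [map_pow, map_zero] at e
      haveI hW : _root_.IsReduced (P.obj (Opposite.op W)) := inferInstanceAs (_root_.IsReduced Γ(T, f.toImage ⁻¹ᵁ W))
      have h0 : P.map iV.op t = 0 := IsReduced.eq_zero _ ⟨n, e⟩
      rw [← P.germ_res_apply iV x hxW t, h0, map_zero]
    exact @isReduced_of_injective (f.image.presheaf.stalk x) (P.stalk x) _ _ _ _ _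
      ((TopCat.Presheaf.stalkFunctor CommRingCat x).map f.toImage.c).hom (f.stalkFunctor_toImage_injective x) hP
  haveI : IsReduced f.image := isReduced_of_isReduced_stalk _
  haveI : IrreducibleSpace f.image := by
    rw [irreducibleSpace_def, Set.top_eq_univ, ← f.toImage.denseRange.closure_eq]
    have := (IrreducibleSpace.isIrreducible_univ T).image f.toImage f.toImage.continuous.continuousOn
    rw [Set.image_univ] at this
    exact this.closure
  exact isIntegral_of_irreducibleSpace_of_isReduced _

end Groth.Agent.ResSurf
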