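import Groth.Agent.FibDim.Comp
import Groth.Agent.S1681
import Groth.Agent.S8851

/-! # Blowing up integral schemes -/

universe u

open CategoryTheory CategoryTheory.Limits AlgebraicGeometry

namespace Groth.Agent.ResSurf.BlowInt

/-- The blowing up of an integral scheme in a nonzero ideal is irreducible. -/
theorem irreducibleSpace {X T : Scheme.{u}} [IsIntegral X] {b : T ⟶ X} {C : X.IdealSheafData}
    (hb : BlowUp.IsBlowUp b C) (hC : genericPoint X ∉ C.support) : IrreducibleSpace T := by
  have hB := S1681.result C b hb
  have hgen : genericPoint X ∈ {x : X | (∀ y : X, y ⤳ x → y = x) ∧ x ∉ C.support} :=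
    ⟨fun y hy => (hy.antisymm (genericPoint_specializes y)).eq, hC⟩
  obtain ⟨η, hη, -⟩ := hB.surjOn hgen
  have hall : ∀ t : T, η ⤳ t := fun t => by
    obtain ⟨z, hz, hmax⟩ := FibDim.exists_maximal_generization t
    have hz' := hB.mapsTo (show z ∈ {x' : T | ∀ y : T, y ⤳ x' → y = x'} from fun y hy => hmax y hy)
    have h1 : b z = genericPoint X := (hz'.1 _ (genericPoint_specializes _)).symm
    have h2 : b η = genericPoint X := ((hB.mapsTo hη).1 _ (genericPoint_specializes _)).symm
    rw [hB.injOn hη (fun y hy => hmax y hy) (h2.trans h1.symm)]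
    exact hz
  have : closure ({η} : Set T) = Set.univ := Set.eq_univ_of_forall fun t => (hall t).mem_closure
  rw [irreducibleSpace_def, Set.top_eq_univ, ← this]
  exact isIrreducible_singleton.closure

theorem isIntegral {X T : Scheme.{u}} [IsIntegral X] {b : T ⟶ X} {C : X.IdealSheafData}
    (hb : BlowUp.IsBlowUp b C) (hC : genericPoint X ∉ C.support) : IsIntegral T := by
  haveI := irreducibleSpace hb hC
  haveI := S8851.result C b hb
  exact isIntegral_of_irreducibleSpace_of_isReduced T

end Groth.Agent.ResSurf.BlowInt
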