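import Groth.Agent.OmegaLib.IdealMod
import Groth.Agent.InvX.Tensor
import Groth.Agent.MeroX.Basic
import Groth.Agent.ModPairLib.Limit

/-! # Frames of effective Cartier ideals from local generators (light imports) -/

universe u

open CategoryTheory AlgebraicGeometry TopologicalSpace Opposite

set_option backward.isDefEq.respectTransparency false
set_option backward.isDefEq.respectTransparency.types false
set_option linter.style.haveILetI false

namespace Groth.Agent.ResSurf

open Groth.Agent Groth.Agent.InvX Groth.Agent.AModX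

variable {X : Scheme.{u}}

/-- An element whose image is a generating nonzerodivisor is a frame of the ideal. -/
theorem isFrame_of_generator {I : X.IdealSheafData} (hI : BlowUp.IsEffCartierIdeal I) {U : X.affineOpens}
    {g : Γ(X, U.1)} (hg : I.ideal U = Ideal.span {g}) {e : Γ(ClSub.idealMod I, U.1)}
    (he : OmegaSh.idealSect I U.1 e = g) : IsFrame e := by
  obtain ⟨f, rfl⟩ : ∃ f, f = g := ⟨g, rfl⟩
  have hf : f ∈ nonZeroDivisors Γ(X, U.1) := ModPairLib.generator_mem_nonZeroDivisors hI hg
  have hinj : ∀ (W : X.Opens) (hW : W ≤ U.1) (r r' : Γ(X, W)),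
      r • AModX.res _ hW e = r' • AModX.res _ hW e → r = r' := by
    intro W hW r r' hr
    have h1 := congrArg (OmegaSh.idealSect I W) hr
    have h2 : OmegaSh.idealSect I W (AModX.res _ hW e) = AModX.resR hW f := by
      rw [← he]
      exact OmegaLib.idealSect_map I hW e
    rw [OmegaLib.idealSect_smul, OmegaLib.idealSect_smul, h2] at h1
    refine TopCat.Presheaf.section_ext X.sheaf W r r' fun y hy => ?_
    have h3 : X.presheaf.germ W y hy r * X.presheaf.germ W y hy (AModX.resR hW f) =
        X.presheaf.germ W y hy r' * X.presheaf.germ W y hy (AModX.resR hW f) := by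
      rw [← map_mul, ← map_mul, h1]
    rw [InvX.germ_resR' hW hy f] at h3
    exact (mul_cancel_right_mem_nonZeroDivisors (MeroX.germ_mem_nonZeroDivisors U.2 hf y (hW hy))).1 h3
  refine fun V hV => ⟨fun r r' hr => hinj V hV r r' hr, fun z => ?_⟩
  have hloc : ∀ p : V, ∃ (W : X.Opens) (hW : W ≤ V) (_ : p.1 ∈ W) (r : Γ(X, W)),
      AModX.res _ hW z = r • AModX.res _ (hW.trans hV) e := fun p => by
    obtain ⟨W, hW, hpW, hWV⟩ := exists_isAffineOpen_mem_and_subset p.2
    have hmem := OmegaLib.idealSect_mem I ⟨W, hW⟩ (AModX.res _ hWV z)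
    rw [← I.map_ideal (U := ⟨W, hW⟩) (V := U) (show W ≤ U.1 from le_trans hWV hV), hg, Ideal.map_span,
      Set.image_singleton, Ideal.mem_span_singleton'] at hmem
    obtain ⟨r, hr⟩ := hmem
    refine ⟨W, hWV, hpW, r, OmegaLib.idealSect_injective I W ?_⟩
    rw [OmegaLib.idealSect_smul, show OmegaSh.idealSect I W (AModX.res _ (le_trans hWV hV) e) = _ from
      OmegaLib.idealSect_map I _ e, he]
    exact hr.symm
  choose W hW hpW r hr using hloc
  obtain ⟨R, hR, -⟩ := TopCat.Sheaf.existsUnique_gluing' X.sheaf W V (fun p => homOfLE (hW p))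
    (fun p hp => TopologicalSpace.Opens.mem_iSup.2 ⟨⟨p, hp⟩, hpW ⟨p, hp⟩⟩) r fun p q => by
      apply hinj _ (inf_le_left.trans ((hW p).trans hV))
      have h1 := congrArg (AModX.res _ (inf_le_left : W p ⊓ W q ≤ W p)) (hr p)
      have h2 := congrArg (AModX.res _ (inf_le_right : W p ⊓ W q ≤ W q)) (hr q)
      rw [AModX.res_res, AModX.res_smul, AModX.res_res] at h1 h2
      exact h1.symm.trans h2
  refine ⟨R, AModX.eq_of_locally _ _ fun p hp => ⟨W ⟨p, hp⟩, hW _, hpW _, ?_⟩⟩
  rw [AModX.res_smul, AModX.res_res, hr]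
  exact congrArg (· • _) (hR ⟨p, hp⟩)

end Groth.Agent.ResSurf
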