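import Groth.Agent.ResSurf.ReesPoly
import Groth.Agent.ResSurf.TwistPull
import Groth.Agent.ResSurf.IdealFrame
import Groth.Prelude.Def_ModelsG

/-!
# The blowing up in a quasi-regular sequence inside projective space
-/

universe u

open CategoryTheory AlgebraicGeometry HomogeneousLocalization MvPolynomial TopologicalSpace Opposite
open scoped HomogeneousIdeal

set_option backward.isDefEq.respectTransparency false
set_option backward.isDefEq.respectTransparency.types false

namespace Groth.Agent.ResSurf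

open Groth.Agent
open BlowUpLib

/-- `fromSpec` of a basic open of `Proj` through the ring of fractions. -/
theorem fromSpec_basicOpen {R A : Type u} [CommRing R] [CommRing A] [Algebra R A]
    (𝒜 : ℕ → Submodule R A) [GradedAlgebra 𝒜] {f : A} {m : ℕ} (hf : f ∈ 𝒜 m) (hm : 0 < m) :
    (Proj.isAffineOpen_basicOpen 𝒜 f hf hm).fromSpec =
      Spec.map (Proj.awayToSection 𝒜 f) ≫ Proj.awayι 𝒜 f hf hm := by
  have h : (Proj.basicOpen 𝒜 f).toSpecΓ ≫ Spec.map (Proj.awayToSection 𝒜 f) =
      (Proj.basicOpenIsoSpec 𝒜 f hf hm).hom := (Proj.basicOpenIsoSpec_hom 𝒜 f hf hm).symm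
  rw [← cancel_epi (Proj.isAffineOpen_basicOpen 𝒜 f hf hm).isoSpec.hom,
    IsAffineOpen.isoSpec_hom_fromSpec, IsAffineOpen.isoSpec_hom, reassoc_of% h, Proj.awayι,
    Iso.hom_inv_id_assoc]

variable {A : Type u} [CommRing A] {n : ℕ} (x : Fin (n + 1) → A)

/-- Functions of the base on a standard open of the blowing up. -/
theorem strHom_basicOpen {f : reesAlgebra (seqIdeal x)} (hf : f ∈ BlowUpLib.deg (seqIdeal x) 1) :
    strHom (toBase (seqIdeal x)) (Proj.basicOpen (BlowUpLib.deg (seqIdeal x)) f) =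
      (Proj.awayToSection (BlowUpLib.deg (seqIdeal x)) f).hom.comp
        ((fromZeroRingHom (BlowUpLib.deg (seqIdeal x)) _).comp (toZero (seqIdeal x))) := by
  have h := BlowUpLib.SpecMap_strHom (toBase (seqIdeal x))
    ⟨_, Proj.isAffineOpen_basicOpen _ f hf Nat.one_pos⟩
  rw [fromSpec_basicOpen _ hf Nat.one_pos, toBase, Category.assoc, Proj.awayι_toSpecZero_assoc,
    ← Spec.map_comp, ← Spec.map_comp] at h
  exact congrArg CommRingCat.Hom.hom (Spec.map_injective h)

theorem irrelevant_le_map_polyToRees :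
    (BlowUpLib.deg (seqIdeal x))₊ ≤ ((CohB1.polyGrading n A)₊).map (polyToRees x) :=
  irrelevant_le_map_of_surjective _ (polyToRees_surjective x)

/-- The blowing up as a subscheme of projective space. -/
noncomputable def polyMap : localBlowUp (seqIdeal x) ⟶ CohB1.ProjSpace n A :=
  Proj.map (polyToRees x) (irrelevant_le_map_polyToRees x)

instance isClosedImmersion_polyMap : IsClosedImmersion (polyMap x) :=
  Proj16.isClosedImmersion_map _ (irrelevant_le_map_polyToRees x) (polyToRees_surjective x)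

theorem polyMap_toSpec : polyMap x ≫ CohB1.ProjSpace.toSpec n A = toBase (seqIdeal x) := by
  refine (Proj.mapAffineOpenCover _ (irrelevant_le_map_polyToRees x)).openCover.hom_ext _ _ fun s => ?_
  simp only [Scheme.AffineOpenCover.openCover_f, Proj.mapAffineOpenCover_f, polyMap, toBase,
    CohB1.ProjSpace.toSpec]
  erw [Proj.awayι_comp_map_assoc (polyToRees x) (irrelevant_le_map_polyToRees x) s.1.2 _ s.2.2,
    Proj.awayι_toSpecZero_assoc, Proj.awayι_toSpecZero_assoc]
  rw [← Spec.map_comp, ← Spec.map_comp, ← Spec.map_comp]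
  congr 1
  ext c
  simp only [fromZeroRingHom, RingHom.coe_mk, MonoidHom.coe_mk, OneHom.coe_mk, Away.map,
    CommRingCat.hom_comp, CommRingCat.hom_ofHom, RingHom.comp_apply,
    HomogeneousLocalization.map_mk, HomogeneousLocalization.val_mk]
  congr 1
  · exact polyToRees_C x c
  · exact Subtype.ext (map_one _)

/-- Elements of the centre give sections of the exceptional ideal. -/
theorem exists_exceptional_section {T : Scheme.{u}} (b : T ⟶ Spec (CommRingCat.of A)) (I : Ideal A)
    {a : A} (ha : a ∈ I) : ∃ s : Γ(ClSub.idealMod (BlowUp.exceptional b (centre I)), ⊤),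
      OmegaSh.idealSect (BlowUp.exceptional b (centre I)) ⊤ s = strHom b ⊤ a := by
  set E := BlowUp.exceptional b (centre I)
  refine OmegaLib.exists_idealSect_eq E ⊤ _ ?_
  let z : Γ(ClSub.quotMod E, ⊤) := E.subschemeι.app ⊤ (strHom b ⊤ a)
  suffices z = 0 from this
  refine AModX.eq_of_locally z 0 fun p hp => ?_
  obtain ⟨W, hW, hpW, hWU⟩ := exists_isAffineOpen_mem_and_subset hp
  refine ⟨W, hWU, hpW, ?_⟩
  rw [map_zero]
  refine (AModX.app_res (ClSub.toSubscheme E) hWU
    (show Γ(Coh.structureModule T, ⊤) from strHom b ⊤ a)).symm.trans ?_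
  show E.subschemeι.app W (T.presheaf.map (homOfLE hWU).op (strHom b ⊤ a)) = 0
  rw [← RingHom.mem_ker, E.ker_subschemeι_app ⟨W, hW⟩, BlowUpLib.ideal_comap_centre]
  refine (congrArg (· ∈ I.map (strHom b W)) ?_).mpr (Ideal.mem_map_of_mem _ ha)
  simp only [BlowUpLib.strHom, CommRingCat.hom_comp, RingHom.comp_apply]
  rw [← ConcreteCategory.comp_apply, Scheme.Hom.appLE_map]

variable {T : Scheme.{u}} (b : T ⟶ Spec (CommRingCat.of A))
  (σ : T ⟶ localBlowUp (seqIdeal x)) (hσ : σ ≫ toBase (seqIdeal x) = b)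

include hσ in
theorem strHom_preimage (W : (localBlowUp (seqIdeal x)).Opens) (c : A) :
    strHom b (σ ⁻¹ᵁ W) c = σ.app W (strHom (toBase (seqIdeal x)) W c) := by
  subst hσ
  simp only [BlowUpLib.strHom, CommRingCat.hom_comp, RingHom.comp_apply]
  rw [← ConcreteCategory.comp_apply ((toBase (seqIdeal x)).appLE ⊤ W le_top),
    Scheme.Hom.app_eq_appLE, Scheme.Hom.appLE_comp_appLE]

/-- `x_j = (T_j/T_i) x_i` on the chart of `T_i`. -/
theorem strHom_eq_frac_mul (i j : Fin (n + 1)) :
    strHom (toBase (seqIdeal x)) (polyMap x ⁻¹ᵁ Proj.basicOpen (CohB1.polyGrading n A) (MvPolynomial.X i)) (x j) =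
      (polyMap x).app (Proj.basicOpen (CohB1.polyGrading n A) (MvPolynomial.X i))
          (degOneFrac (CohB1.polyGrading n A) (isHomogeneous_X A i) (isHomogeneous_X A j)) *
        strHom (toBase (seqIdeal x))
          (polyMap x ⁻¹ᵁ Proj.basicOpen (CohB1.polyGrading n A) (MvPolynomial.X i)) (x i) := by
  let q : Away (CohB1.polyGrading n A) (MvPolynomial.X i) :=
    Away.mk (CohB1.polyGrading n A) (isHomogeneous_X A i) 1 (MvPolynomial.X j)
      (by simpa using isHomogeneous_X A j)
  have hg : polyToRees x (MvPolynomial.X i) ∈ BlowUpLib.deg (seqIdeal x) 1 :=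
    Graded.map_mem (polyToRees x) (isHomogeneous_X A i)
  have key : strHom (toBase (seqIdeal x))
        (Proj.basicOpen (BlowUpLib.deg (seqIdeal x)) (polyToRees x (MvPolynomial.X i))) (x j) =
      Proj.awayToSection (BlowUpLib.deg (seqIdeal x)) (polyToRees x (MvPolynomial.X i))
          (Away.map (polyToRees x) (MvPolynomial.X i) q) *
        strHom (toBase (seqIdeal x))
          (Proj.basicOpen (BlowUpLib.deg (seqIdeal x)) (polyToRees x (MvPolynomial.X i))) (x i) := by
    rw [strHom_basicOpen x hg]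
    simp only [RingHom.comp_apply]
    rw [← map_mul]
    refine congrArg _ (HomogeneousLocalization.val_injective _ ?_)
    erw [HomogeneousLocalization.val_mul, Away.map_mk, Away.val_mk]
    have hv : ∀ c : A, (fromZeroRingHom (BlowUpLib.deg (seqIdeal x))
        (Submonoid.powers (polyToRees x (MvPolynomial.X i))) (toZero (seqIdeal x) c)).val =
        algebraMap (reesAlgebra (seqIdeal x)) (Localization.Away (polyToRees x (MvPolynomial.X i)))
          (algebraMap A _ c) := fun c => Localization.mk_one_eq_algebraMap _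
    rw [hv, hv, Localization.mk_eq_mk', mul_comm, IsLocalization.mul_mk'_eq_mk'_of_mul,
      IsLocalization.eq_mk'_iff_mul_eq, ← map_mul]
    congr 1
    simp only [pow_one, polyToRees_X]
    apply Subtype.ext
    simp [gen, seqElem, Polynomial.C_mul_monomial, mul_comm]
  have h := congr($(Proj.awayToSection_comp_appLE (polyToRees x) (irrelevant_le_map_polyToRees x)
    (isHomogeneous_X A i)) q)
  simp only [CommRingCat.hom_comp, CommRingCat.hom_ofHom, RingHom.comp_apply] at h
  refine key.trans (congrArg (· * _) (h.symm.trans ?_))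
  rw [Scheme.Hom.app_eq_appLE]
  rfl

include hσ in
/-- `O(1)` restricts to the exceptional ideal. -/
theorem nonempty_pullback_twist_exceptional [IsIso σ]
    (hE : BlowUp.IsEffCartierIdeal (BlowUp.exceptional b (centre (seqIdeal x)))) :
    Nonempty ((Scheme.Modules.pullback (σ ≫ polyMap x)).obj (Twist.twistProjSpace n A 1) ≅
      ClSub.idealMod (BlowUp.exceptional b (centre (seqIdeal x)))) := by
  set E := BlowUp.exceptional b (centre (seqIdeal x))
  choose t ht using fun i : ULift.{u} (Fin (n + 1)) =>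
    exists_exceptional_section b (seqIdeal x) (a := x i.down) (Ideal.subset_span ⟨_, rfl⟩)
  have hres : ∀ (i : ULift.{u} (Fin (n + 1))) (W : T.Opens),
      OmegaSh.idealSect E W (AModX.res _ (le_top : W ≤ ⊤) (t i)) = strHom b W (x i.down) := fun i W => by
    refine (OmegaLib.idealSect_map E le_top (t i)).trans ?_
    rw [ht i]
    simp only [BlowUpLib.strHom, CommRingCat.hom_comp, RingHom.comp_apply]
    rw [← ConcreteCategory.comp_apply, Scheme.Hom.appLE_map]
  have hrel : ∀ i j : ULift.{u} (Fin (n + 1)),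
      strHom b ((σ ≫ polyMap x) ⁻¹ᵁ Proj.basicOpen (CohB1.polyGrading n A) (X i.down)) (x j.down) =
        (σ ≫ polyMap x).app (Proj.basicOpen (CohB1.polyGrading n A) (X i.down))
          (degOneFrac (CohB1.polyGrading n A) (isHomogeneous_X A i.down) (isHomogeneous_X A j.down)) *
        strHom b ((σ ≫ polyMap x) ⁻¹ᵁ Proj.basicOpen (CohB1.polyGrading n A) (X i.down)) (x i.down) := by
    intro i j
    show strHom b (σ ⁻¹ᵁ polyMap x ⁻¹ᵁ Proj.basicOpen (CohB1.polyGrading n A) (X i.down)) _ =
      σ.app (polyMap x ⁻¹ᵁ Proj.basicOpen (CohB1.polyGrading n A) (X i.down)) ((polyMap x).app _ _) *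
        strHom b (σ ⁻¹ᵁ polyMap x ⁻¹ᵁ Proj.basicOpen (CohB1.polyGrading n A) (X i.down)) _
    rw [strHom_preimage x b σ hσ, strHom_preimage x b σ hσ, strHom_eq_frac_mul x i.down j.down, map_mul]
  refine nonempty_pullback_twist_one_iso (CohB1.polyGrading n A) (σ ≫ polyMap x)
    (fun i : ULift.{u} (Fin (n + 1)) => X i.down) (fun i => isHomogeneous_X A i.down) (fun p => ?_) t
    (fun i => ?_) (fun i j => ?_)
  · have htop : (⨆ i : Fin (n + 1), Proj.basicOpen (CohB1.polyGrading n A) (X i)) = ⊤ :=
      Proj.iSup_basicOpen_eq_top' (CohB1.polyGrading n A) _ (fun i => ⟨1, isHomogeneous_X A i⟩) (by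
        rw [eq_top_iff]
        intro P _
        induction P using MvPolynomial.induction_on with
        | C c => exact Subalgebra.algebraMap_mem _ (⟨C c, isHomogeneous_C _ c⟩ : CohB1.polyGrading n A 0)
        | add p q hp hq => exact add_mem (hp trivial) (hq trivial)
        | mul_X p i hp => exact mul_mem (hp trivial) (Algebra.subset_adjoin ⟨i, rfl⟩))
    obtain ⟨i, hi⟩ := TopologicalSpace.Opens.mem_iSup.1 (htop.ge (Set.mem_univ ((σ ≫ polyMap x) p)))
    exact ⟨⟨i⟩, hi⟩
  · have hU : IsAffineOpen ((σ ≫ polyMap x) ⁻¹ᵁ Proj.basicOpen (CohB1.polyGrading n A) (X i.down)) :=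
      (Proj.isAffineOpen_basicOpen _ _ (isHomogeneous_X A i.down) Nat.one_pos).preimage (σ ≫ polyMap x)
    refine isFrame_of_generator hE (U := ⟨_, hU⟩) ?_ (hres i _)
    rw [show E.ideal ⟨_, hU⟩ = _ from BlowUpLib.ideal_comap_centre (seqIdeal x) b ⟨_, hU⟩]
    refine le_antisymm ?_ ((Ideal.span_singleton_le_iff_mem _).2
      (Ideal.mem_map_of_mem _ (Ideal.subset_span ⟨i.down, rfl⟩)))
    rw [Ideal.map_le_iff_le_comap, Ideal.span_le]
    rintro _ ⟨j, rfl⟩
    exact Ideal.mem_span_singleton'.2 ⟨_, (hrel i ⟨j⟩).symm⟩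
  · refine OmegaLib.idealSect_injective E _ ?_
    rw [OmegaLib.idealSect_smul, hres, hres]
    exact hrel i j

variable {x}

theorem irrelevant_le_map_reesToFibre (hx : IsQuasiReg x) :
    (CohB1.polyGrading n (A ⧸ seqIdeal x))₊ ≤
      ((BlowUpLib.deg (seqIdeal x))₊).map (reesToFibre hx) :=
  irrelevant_le_map_of_surjective _ (reesToFibre_surjective hx)

/-- Projective space over `A/I` as the exceptional divisor. -/
noncomputable def fibreMap (hx : IsQuasiReg x) :
    CohB1.ProjSpace n (A ⧸ seqIdeal x) ⟶ localBlowUp (seqIdeal x) :=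
  Proj.map (reesToFibre hx) (irrelevant_le_map_reesToFibre hx)

instance isClosedImmersion_fibreMap (hx : IsQuasiReg x) : IsClosedImmersion (fibreMap hx) :=
  Proj16.isClosedImmersion_map _ (irrelevant_le_map_reesToFibre hx) (reesToFibre_surjective hx)

theorem ker_fibreMap (hx : IsQuasiReg x) :
    (fibreMap hx).ker = (centre (seqIdeal x)).comap (toBase (seqIdeal x)) := by
  let f : Fin (n + 1) → reesAlgebra (seqIdeal x) := fun i => gen (seqIdeal x) (seqElem x i)
  refine Scheme.IdealSheafData.ext_of_iSup_eq_top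
    (fun i => ⟨Proj.basicOpen (BlowUpLib.deg (seqIdeal x)) (f i),
      Proj.isAffineOpen_basicOpen _ _ (gen_mem (seqIdeal x) (seqElem x i)) Nat.one_pos⟩)
    (Proj.iSup_basicOpen_eq_top _ f ((BlowUpLib.irrelevant_le_span_gen _).trans
      (by exact CIntLib.span_gen_le x))) fun i => ?_
  rw [Scheme.Hom.ker_apply, BlowUpLib.ideal_comap_centre,
    strHom_basicOpen x (gen_mem (seqIdeal x) (seqElem x i)), ← Ideal.map_map,
    ← ker_awayMap_reesToFibre hx i]
  have hbij : Function.Bijective (Proj.awayToSection (BlowUpLib.deg (seqIdeal x)) (f i)) :=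
    ConcreteCategory.bijective_of_isIso
      (Proj.basicOpenIsoAway (BlowUpLib.deg (seqIdeal x)) (f i) (gen_mem _ _) Nat.one_pos).hom
  ext w
  obtain ⟨y, rfl⟩ := hbij.2 w
  have hf' : reesToFibre hx (f i) ∈ CohB1.polyGrading n (A ⧸ seqIdeal x) 1 :=
    Graded.map_mem (reesToFibre hx) (gen_mem (seqIdeal x) (seqElem x i))
  have hbij' : Function.Injective
      (Proj.awayToSection (CohB1.polyGrading n (A ⧸ seqIdeal x)) (reesToFibre hx (f i))) :=
    (ConcreteCategory.bijective_of_isIso
      (Proj.basicOpenIsoAway (CohB1.polyGrading n (A ⧸ seqIdeal x)) _ hf' Nat.one_pos).hom).1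
  have h := congr($(Proj.awayToSection_comp_appLE (reesToFibre hx) (irrelevant_le_map_reesToFibre hx)
    (gen_mem (seqIdeal x) (seqElem x i))) y)
  simp only [CommRingCat.hom_comp, CommRingCat.hom_ofHom, RingHom.comp_apply] at h
  rw [Ideal.mem_map_iff_of_surjective _ hbij.2, RingHom.mem_ker, fibreMap, Scheme.Hom.app_eq_appLE]
  erw [h]
  constructor
  · exact fun h0 => ⟨y, hbij' (h0.trans (map_zero _).symm), rfl⟩
  · rintro ⟨y', hy', he⟩
    rw [hbij.1 he] at hy'
    rw [show Away.map (reesToFibre hx) (f i) y = 0 from hy', map_zero]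

/-- The exceptional divisor is a projective space over `A/I` with conormal sheaf `O(1)`. -/
theorem exists_iso_exceptional (hx : IsQuasiReg x) (b : T ⟶ Spec (CommRingCat.of A))
    (σ : T ⟶ localBlowUp (seqIdeal x)) [IsIso σ] (hσ : σ ≫ toBase (seqIdeal x) = b)
    (hE : BlowUp.IsEffCartierIdeal (BlowUp.exceptional b (centre (seqIdeal x)))) :
    ∃ e : CohB1.ProjSpace n (A ⧸ seqIdeal x) ≅ (BlowUp.exceptional b (centre (seqIdeal x))).subscheme,
      Nonempty ((Scheme.Modules.pullback
          (e.hom ≫ (BlowUp.exceptional b (centre (seqIdeal x))).subschemeι)).obj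
          (ClSub.idealMod (BlowUp.exceptional b (centre (seqIdeal x)))) ≅
        Twist.twistProjSpace n (A ⧸ seqIdeal x) 1) := by
  set E := BlowUp.exceptional b (centre (seqIdeal x)) with hEdef
  let j : CohB1.ProjSpace n (A ⧸ seqIdeal x) ⟶ T := fibreMap hx ≫ inv σ
  have hj : E.subschemeι.ker = j.ker := by
    rw [Scheme.IdealSheafData.ker_subschemeι, Scheme.Hom.ker_comp, ker_fibreMap hx, hEdef,
      BlowUp.exceptional, ← hσ, Scheme.IdealSheafData.comap_comp]
    set J := (centre (seqIdeal x)).comap (toBase (seqIdeal x))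
    refine le_antisymm ?_ ?_
    · rw [Scheme.IdealSheafData.le_map_iff_comap_le, ← Scheme.IdealSheafData.comap_comp,
        IsIso.inv_hom_id, Scheme.IdealSheafData.comap_id]
    · calc J.map (inv σ) = ((J.map (inv σ)).comap (inv σ)).comap σ := by
            rw [← Scheme.IdealSheafData.comap_comp, IsIso.hom_inv_id, Scheme.IdealSheafData.comap_id]
        _ ≤ J.comap σ := Scheme.IdealSheafData.comap_mono _ (Scheme.IdealSheafData.comap_map_le _ _)
  have : IsIso (IsClosedImmersion.lift E.subschemeι j hj.le) := IsClosedImmersion.isIso_lift _ _ hj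
  refine ⟨asIso (IsClosedImmersion.lift E.subschemeι j hj.le), ?_⟩
  rw [asIso_hom, IsClosedImmersion.lift_fac]
  obtain ⟨e₁⟩ := nonempty_pullback_twist_exceptional x b σ hσ hE
  let χ := (reesToFibre hx).comp (polyToRees x)
  let hχ : (CohB1.polyGrading n (A ⧸ seqIdeal x))₊ ≤ ((CohB1.polyGrading n A)₊).map χ :=
    irrelevant_le_map_of_surjective χ fun q => by
      obtain ⟨p, rfl⟩ := reesToFibre_surjective hx q
      obtain ⟨P, rfl⟩ := polyToRees_surjective x p
      exact ⟨P, rfl⟩
  have hjr : j ≫ σ ≫ polyMap x = Proj.map χ hχ := by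
    simp only [j, Category.assoc, IsIso.inv_hom_id_assoc, fibreMap, polyMap]
    exact (Proj.map_comp (polyToRees x) (reesToFibre hx) (irrelevant_le_map_polyToRees x)
      (irrelevant_le_map_reesToFibre hx)).symm
  refine ⟨(Scheme.Modules.pullback j).mapIso e₁.symm ≪≫ (Scheme.Modules.pullbackComp j (σ ≫ polyMap x)).app _ ≪≫
    (Scheme.Modules.pullbackCongr hjr).app _ ≪≫ Nonempty.some ?_⟩
  refine nonempty_pullback_twist_one_iso (N := Twist.twistProjSpace n (A ⧸ seqIdeal x) 1)
    (CohB1.polyGrading n A) (Proj.map χ hχ) (fun i : ULift.{u} (Fin (n + 1)) => X i.down)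
    (fun i => isHomogeneous_X A i.down) (fun p => ?_)
    (fun i => Twist.globalOf (CohB1.polyGrading n (A ⧸ seqIdeal x))
      ⟨χ (X i.down), Graded.map_mem χ (isHomogeneous_X A i.down)⟩)
    (fun i => TwistX.isFrame_res_globalOf (Graded.map_mem χ (isHomogeneous_X A i.down)) fun y => y.2)
    fun i k => ?_
  · have hcov : (⨆ i : Fin (n + 1), Proj.basicOpen (CohB1.polyGrading n (A ⧸ seqIdeal x)) (χ (X i))) = ⊤ :=
      Proj.iSup_basicOpen_eq_top' _ _ (fun i => ⟨1, Graded.map_mem χ (isHomogeneous_X A i)⟩) (by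
        rw [eq_top_iff]
        intro P _
        have hχX : ∀ i, χ (X i) = X i := fun i => by
          show reesToFibre hx (polyToRees x (X i)) = X i
          rw [reesToFibre_polyToRees, map_X]
        simp only [hχX]
        induction P using MvPolynomial.induction_on with
        | C c => exact Subalgebra.algebraMap_mem _ (⟨C c, isHomogeneous_C _ c⟩ : CohB1.polyGrading n (A ⧸ seqIdeal x) 0)
        | add p q hp hq => exact add_mem (hp trivial) (hq trivial)
        | mul_X p i hp => exact mul_mem (hp trivial) (Algebra.subset_adjoin ⟨i, rfl⟩))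
    obtain ⟨i, hi⟩ := TopologicalSpace.Opens.mem_iSup.1 (hcov.ge (Set.mem_univ p))
    exact ⟨⟨i⟩, hi⟩
  · have h := congr($(Proj.awayToSection_comp_appLE χ hχ (isHomogeneous_X A i.down))
      (Away.mk (CohB1.polyGrading n A) (isHomogeneous_X A i.down) 1 (X k.down)
        (by simpa using isHomogeneous_X A k.down)))
    simp only [CommRingCat.hom_comp, CommRingCat.hom_ofHom, RingHom.comp_apply] at h
    refine (res_globalOf_eq (CohB1.polyGrading n (A ⧸ seqIdeal x))
      (Graded.map_mem χ (isHomogeneous_X A i.down)) (Graded.map_mem χ (isHomogeneous_X A k.down))).trans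
      (congrArg (· • _) ?_)
    refine Eq.trans ?_ (h.symm.trans ?_)
    · exact (congrArg _ (Away.map_mk χ _ (isHomogeneous_X A i.down) 1 (X k.down) _)).symm
    · rw [Scheme.Hom.app_eq_appLE]
      rfl

end Groth.Agent.ResSurf
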