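import Groth.Agent.ResSurf.BlowTwo
import Groth.Agent.ResSurf.TwoCover
import Groth.Agent.ResSurf.GGSpan

/-!
# Vanishing of `H¹` of globally generated modules on a scheme with two charts
-/

universe u

open CategoryTheory CategoryTheory.Limits AlgebraicGeometry TopologicalSpace Opposite

set_option backward.isDefEq.respectTransparency false
set_option backward.isDefEq.respectTransparency.types false

namespace Groth.Agent.ResSurf

open Groth.Agent

/-- When functions on the intersection of two charts split, globally generated quasi-coherent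
modules have no first cohomology. -/
theorem subsingleton_HH_one_of_twoCharts {X : Scheme.{u}} (c : TwoCharts X) {F : X.Modules}
    (hF : Coh.IsQCoh F) (hgg : Curv2.IsGloballyGenerated F) : Subsingleton (Coh.HH X F 1) := by
  refine subsingleton_HH_one_of_two hF c.U c.V c.isAffine_U c.isAffine_V c.sup_eq_top fun m => ?_
  have hm : (show Γ(F, c.U ⊓ c.V) from m) ∈ Submodule.span Γ(X, c.U ⊓ c.V)
      (Set.range fun t : Γ(F, ⊤) => F.presheaf.map (homOfLE (le_top : c.U ⊓ c.V ≤ ⊤)).op t) :=
    (span_res_eq_top hF hgg c.isAffine_inf).ge trivial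
  let P : Γ(F, c.U ⊓ c.V) → Prop := fun m => ∃ (a : Γ(F, c.U)) (b : Γ(F, c.V)),
    AModX.res F (inf_le_left : c.U ⊓ c.V ≤ c.U) a + AModX.res F (inf_le_right : c.U ⊓ c.V ≤ c.V) b = m
  suffices P (show Γ(F, c.U ⊓ c.V) from m) by
    obtain ⟨a, b, hab⟩ := this
    exact ⟨a, b, hab⟩
  obtain ⟨l, hl⟩ := Finsupp.mem_span_range_iff_exists_finsupp.1 hm
  rw [← hl]
  refine Finset.sum_induction _ P ?_ ⟨0, 0, by simp⟩ fun t _ => ?_
  · rintro _ _ ⟨a, b, rfl⟩ ⟨a', b', rfl⟩
    exact ⟨a + a', b + b', by simp only [map_add]; abel⟩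
  · obtain ⟨p, q, hpq⟩ := c.split (l t)
    refine ⟨p • AModX.res F (le_top : c.U ≤ ⊤) t, q • AModX.res F (le_top : c.V ≤ ⊤) t, ?_⟩
    rw [AModX.res_smul, AModX.res_smul, AModX.res_res, AModX.res_res, ← add_smul]
    exact congrArg (· • _) hpq

end Groth.Agent.ResSurf
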