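import Mathlib.AlgebraicGeometry.IdealSheaf.Basic
import Mathlib.AlgebraicGeometry.Noetherian
import Mathlib.RingTheory.Ideal.Colon
import Groth.Prelude.Def_BlowUp2

/-!
# Quotients of ideal sheaves on locally Noetherian schemes
-/

universe u

open CategoryTheory AlgebraicGeometry TopologicalSpace

set_option maxHeartbeats 400000

namespace Groth.Agent.ResSurf

/-- Colon ideals of finitely generated ideals commute with localisation away from an element. -/
theorem map_colon_away {R S : Type u} [CommRing R] [CommRing S] [Algebra R S] (g : R)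
    [IsLocalization.Away g S] (I J : Ideal R) (hJ : J.FG) :
    Ideal.map (algebraMap R S) (Submodule.colon I (J : Set R)) =
      Submodule.colon (I.map (algebraMap R S)) ((J.map (algebraMap R S) : Ideal S) : Set S) := by
  classical
  refine le_antisymm ?_ ?_
  · rw [Ideal.map_le_iff_le_comap]
    intro a ha
    refine Submodule.mem_colon.2 fun p hp => ?_
    have h : J.map (algebraMap R S) ≤ Submodule.colon (I.map (algebraMap R S)) {algebraMap R S a} := by
      rw [Ideal.map_le_iff_le_comap]
      intro q hq
      refine Submodule.mem_colon_singleton.2 ?_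
      rw [smul_eq_mul, mul_comm, ← map_mul]
      exact Ideal.mem_map_of_mem _ (Submodule.mem_colon.1 ha q hq)
    have h2 := Submodule.mem_colon_singleton.1 (h hp)
    rwa [smul_eq_mul, mul_comm] at h2
  · intro y hy
    obtain ⟨⟨a, s⟩, hs⟩ := IsLocalization.surj (Submonoid.powers g) y
    have hu : IsUnit (algebraMap R S s) := IsLocalization.map_units S s
    refine (Ideal.unit_mul_mem_iff_mem _ hu).1 ?_
    rw [mul_comm, hs]
    obtain ⟨T, hT⟩ := hJ
    have hkey : ∀ q ∈ T, ∃ u : Submonoid.powers g, u.1 * (a * q) ∈ I := by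
      intro q hq
      have hq' : algebraMap R S q ∈ J.map (algebraMap R S) :=
        Ideal.mem_map_of_mem _ (hT ▸ Submodule.subset_span hq)
      have h := Ideal.mul_mem_left _ (algebraMap R S s) (Submodule.mem_colon.1 hy _ hq')
      rw [smul_eq_mul, ← mul_assoc, mul_comm (algebraMap R S s), hs, ← map_mul,
        IsLocalization.algebraMap_mem_map_algebraMap_iff (Submonoid.powers g)] at h
      obtain ⟨u, hu, hmem⟩ := h
      exact ⟨⟨u, hu⟩, hmem⟩
    choose u hu' using hkey
    let U : Submonoid.powers g := ∏ q ∈ T.attach, u q.1 q.2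
    refine (IsLocalization.algebraMap_mem_map_algebraMap_iff (Submonoid.powers g) _ _ _).2
      ⟨U.1, U.2, Submodule.mem_colon.2 fun p hp => ?_⟩
    have h : J ≤ Submodule.colon I {U.1 * a} := by
      rw [← hT, Submodule.span_le]
      intro q hq
      refine Submodule.mem_colon_singleton.2 ?_
      obtain ⟨w, hw⟩ : u q hq ∣ U :=
        Finset.dvd_prod_of_mem (fun q : ↥T => u q.1 q.2) (Finset.mem_attach T ⟨q, hq⟩)
      rw [smul_eq_mul, hw, Submonoid.coe_mul]
      have := Ideal.mul_mem_left I (w : R) (hu' q hq)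
      convert this using 1
      ring
    have h2 := Submodule.mem_colon_singleton.1 (h hp)
    rwa [smul_eq_mul, mul_comm] at h2

variable {X : Scheme.{u}} [IsLocallyNoetherian X]

/-- The ideal sheaf `(I : J)`. -/
noncomputable def colonSheaf (I J : X.IdealSheafData) : X.IdealSheafData where
  ideal U := Submodule.colon (I.ideal U) (J.ideal U : Set Γ(X, U.1))
  map_ideal_basicOpen U g := by
    letI := (X.presheaf.map (homOfLE (X.basicOpen_le g)).op).hom.toAlgebra
    haveI : IsLocalization.Away g Γ(X, X.basicOpen g) := U.2.isLocalization_basicOpen g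
    haveI := IsLocallyNoetherian.component_noetherian U
    rw [← I.map_ideal_basicOpen U g, ← J.map_ideal_basicOpen U g]
    exact map_colon_away g _ _ (IsNoetherian.noetherian _)

theorem colonSheaf_ideal (I J : X.IdealSheafData) (U : X.affineOpens) :
    (colonSheaf I J).ideal U = Submodule.colon (I.ideal U) (J.ideal U : Set Γ(X, U.1)) := rfl

theorem le_colonSheaf (I J : X.IdealSheafData) : I ≤ colonSheaf I J := fun _ a ha =>
  Submodule.mem_colon.2 fun _ _ => Ideal.mul_mem_right _ _ ha

theorem mem_colonSheaf_of_span {I J : X.IdealSheafData} {U : X.affineOpens} {e : Γ(X, U.1)}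
    (he : J.ideal U = Ideal.span {e}) (a : Γ(X, U.1)) :
    a ∈ (colonSheaf I J).ideal U ↔ a * e ∈ I.ideal U := by
  rw [colonSheaf_ideal, he]
  refine ⟨fun h => Submodule.mem_colon.1 h e (Ideal.mem_span_singleton_self e),
    fun h => Submodule.mem_colon.2 fun p hp => ?_⟩
  obtain ⟨c, rfl⟩ := Ideal.mem_span_singleton'.1 hp
  rw [smul_eq_mul, mul_left_comm]
  exact Ideal.mul_mem_left _ _ h

/-- An ideal sheaf inside an effective Cartier one factors through it. -/
theorem eq_mul_colonSheaf {I J : X.IdealSheafData} (hJ : BlowUp.IsEffCartierIdeal J) (h : I ≤ J) :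
    I = J * colonSheaf I J := by
  choose U hxU f _ hU using hJ
  refine Scheme.IdealSheafData.ext_of_iSup_eq_top U
    (eq_top_iff.2 fun x _ => Opens.mem_iSup.2 ⟨x, hxU x⟩) fun x => ?_
  rw [Scheme.IdealSheafData.ideal_mul, Pi.mul_apply, hU x]
  refine le_antisymm (fun a ha => ?_) ?_
  · obtain ⟨c, rfl⟩ := Ideal.mem_span_singleton'.1 (hU x ▸ h (U x) ha)
    rw [mul_comm c]
    exact Ideal.mem_span_singleton_mul.2 ⟨c, (mem_colonSheaf_of_span (hU x) c).2 ha, rfl⟩
  · intro a ha
    obtain ⟨c, hc, rfl⟩ := Ideal.mem_span_singleton_mul.1 ha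
    rw [mul_comm]
    exact (mem_colonSheaf_of_span (hU x) c).1 hc

end Groth.Agent.ResSurf
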