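import Groth.Agent.ResSurf.NoPolar
import Groth.Agent.CIntLib.ClosedStalk
import Groth.Agent.OmegaLib.IdealMod
import Groth.Prelude.Def_ClSub2
import Mathlib.AlgebraicGeometry.ResidueField

/-!
# The conormal sheaf of an effective divisor in the closed fibre is not trivial
-/

universe u

open CategoryTheory CategoryTheory.Limits AlgebraicGeometry IsLocalRing TopologicalSpace Opposite

set_option backward.isDefEq.respectTransparency false
set_option backward.isDefEq.respectTransparency.types false
set_option linter.style.haveILetI false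
set_option linter.unusedSectionVars false

namespace Groth.Agent.ResSurf.Conormal

open Groth.Agent FibreCurves CDiv6 NoPolar

variable {X : Scheme.{u}} (I : X.IdealSheafData)
  (e : (Scheme.Modules.pullback I.subschemeι).obj (ClSub.idealMod I) ≅ Coh.structureModule I.subscheme)

/-- The adjunct of a trivialisation of the conormal sheaf. -/
noncomputable def θ : ClSub.idealMod I ⟶ (Scheme.Modules.pushforward I.subschemeι).obj (Coh.structureModule I.subscheme) :=
  (Scheme.Modules.pullbackPushforwardAdjunction I.subschemeι).homEquiv _ _ e.hom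

/-- The value of the adjunct, as a function on the subscheme. -/
noncomputable def val (U : X.Opens) (k : Γ(ClSub.idealMod I, U)) : Γ(I.subscheme, I.subschemeι ⁻¹ᵁ U) :=
  (θ I e).app U k

theorem val_smul (U : X.Opens) (r : Γ(X, U)) (k : Γ(ClSub.idealMod I, U)) :
    val I e U (r • k) = I.subschemeι.app U r * val I e U k := by
  show (θ I e).app U (r • k) = _
  rw [Scheme.Modules.Hom.app_smul]
  rfl

theorem val_map {U V : X.Opens} (h : V ≤ U) (k : Γ(ClSub.idealMod I, U)) :
    val I e V ((ClSub.idealMod I).presheaf.map (homOfLE h).op k) =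
      I.subscheme.presheaf.map (homOfLE (show I.subschemeι ⁻¹ᵁ V ≤ I.subschemeι ⁻¹ᵁ U from fun z hz => h hz)).op
        (val I e U k) :=
  congr($((θ I e).mapPresheaf.naturality (homOfLE h).op) k)

/-- The value at a point. -/
noncomputable def valAt (U : X.Opens) (k : Γ(ClSub.idealMod I, U)) (z : I.subscheme) (hz : I.subschemeι z ∈ U) :
    I.subscheme.presheaf.stalk z :=
  (I.subscheme.presheaf.germ (I.subschemeι ⁻¹ᵁ U) z hz).hom (val I e U k)

theorem valAt_map {U V : X.Opens} (h : V ≤ U) (k : Γ(ClSub.idealMod I, U)) (z : I.subscheme)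
    (hz : I.subschemeι z ∈ V) :
    valAt I e V ((ClSub.idealMod I).presheaf.map (homOfLE h).op k) z hz = valAt I e U k z (h hz) := by
  rw [valAt, val_map]
  exact TopCat.Presheaf.germ_res_apply _ _ _ _ _

theorem valAt_smul (U : X.Opens) (r : Γ(X, U)) (k : Γ(ClSub.idealMod I, U)) (z : I.subscheme)
    (hz : I.subschemeι z ∈ U) :
    valAt I e U (r • k) z hz =
      (I.subschemeι.stalkMap z).hom ((X.presheaf.germ U (I.subschemeι z) hz).hom r) * valAt I e U k z hz := by
  rw [valAt, val_smul, map_mul]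
  exact congrArg (· * _) (Scheme.Hom.germ_stalkMap_apply I.subschemeι U z hz r).symm

theorem exists_isUnit (z : I.subscheme) : ∃ (U : X.Opens) (k : Γ(ClSub.idealMod I, U)) (hz : I.subschemeι z ∈ U),
    IsUnit (valAt I e U k z hz) := by
  by_contra hc
  push Not at hc
  let j := I.subscheme.fromSpecResidueField z
  let q := ClSub.unitToPush j
  have h0 : θ I e ≫ (Scheme.Modules.pushforward I.subschemeι).map q = 0 := by
    refine Scheme.Modules.hom_ext _ _ fun U => ?_
    ext k
    show j.app (I.subschemeι ⁻¹ᵁ U) (val I e U k) = 0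
    rw [← basicOpen_eq_bot_iff, ← Scheme.preimage_basicOpen]
    refine Opens.ext (Set.eq_empty_of_forall_notMem fun p hp => ?_)
    have hpz : j p = z := by
      have : j p ∈ Set.range j := ⟨p, rfl⟩
      rwa [Scheme.range_fromSpecResidueField, Set.mem_singleton_iff] at this
    have hmem : z ∈ I.subscheme.basicOpen (val I e U k) := hpz ▸ hp
    exact hc U k (I.subscheme.basicOpen_le _ hmem) ((Scheme.mem_basicOpen _ _ _ _).1 hmem)
  have h1 : e.hom ≫ q = 0 := by
    apply ((Scheme.Modules.pullbackPushforwardAdjunction I.subschemeι).homEquiv _ _).injective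
    rw [Adjunction.homEquiv_naturality_right]
    refine h0.trans ?_
    simp [Adjunction.homEquiv_unit]
  have h2 : q = 0 := by rw [← cancel_epi e.hom, h1, comp_zero]
  have h3 : j.app ⊤ 1 = 0 := congr(($h2).app ⊤ (show Γ(Coh.structureModule I.subscheme, ⊤) from (1 : Γ(I.subscheme, ⊤))))
  rw [map_one] at h3
  haveI : Nonempty (j ⁻¹ᵁ (⊤ : I.subscheme.Opens)) := ⟨⟨closedPoint _, trivial⟩⟩
  exact one_ne_zero h3

/-- A local equation of the divisor with the value of the adjunct on it. -/
structure Chart (x : X) where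
  V : X.affineOpens
  mem : x ∈ V.1
  t : Γ(X, V.1)
  ideal_eq : I.ideal V = Ideal.span {t}
  k : Γ(ClSub.idealMod I, V.1)
  sect_eq : OmegaSh.idealSect I V.1 k = t
  z : I.subscheme
  z_eq : I.subschemeι z = x
  ε : X.presheaf.stalk (I.subschemeι z)
  ε_eq : (I.subschemeι.stalkMap z).hom ε =
    valAt I e V.1 k z (by rw [z_eq]; exact mem)

theorem Chart.mem' {I : X.IdealSheafData}
    {e : (Scheme.Modules.pullback I.subschemeι).obj (ClSub.idealMod I) ≅ Coh.structureModule I.subscheme}
    {x : X} (c : Chart I e x) : I.subschemeι c.z ∈ c.V.1 := by rw [c.z_eq]; exact c.mem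

variable [IsIntegral X]

/-- The local polar part. -/
noncomputable def Chart.s {x : X} (c : Chart I e x) : X.functionField :=
  toK _ c.ε / toK _ ((X.presheaf.germ c.V.1 (I.subschemeι c.z) c.mem').hom c.t)

theorem mem_ker_iff {x : X} (c : Chart I e x) (b : X.presheaf.stalk (I.subschemeι c.z)) :
    (I.subschemeι.stalkMap c.z).hom b = 0 ↔
      ∃ d, d * (X.presheaf.germ c.V.1 (I.subschemeι c.z) c.mem').hom c.t = b := by
  rw [← RingHom.mem_ker, CIntLib.ker_stalkMap_eq_map_germ I.subschemeι c.z c.V c.mem',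
    I.ker_subschemeι, c.ideal_eq, Ideal.map_span, Set.image_singleton, Ideal.mem_span_singleton']

variable (hI : BlowUp.IsEffCartierIdeal I)
include hI

theorem Chart.t_ne_zero {x : X} (c : Chart I e x) : c.t ≠ 0 := by
  intro h0
  obtain ⟨U, hxU, f, hf, hfeq⟩ := hI x
  haveI : Nonempty (U.1 : Scheme.{u}) := ⟨⟨x, hxU⟩⟩
  obtain ⟨W, hW, hxW, hWle⟩ := exists_isAffineOpen_mem_and_subset (x := x) (U := U.1 ⊓ c.V.1) ⟨hxU, c.mem⟩
  have h1 := I.map_ideal (U := ⟨W, hW⟩) (V := c.V) (hWle.trans Set.inter_subset_right)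
  have h2 := I.map_ideal (U := ⟨W, hW⟩) (V := U) (hWle.trans Set.inter_subset_left)
  rw [c.ideal_eq, h0, Ideal.span_singleton_zero, Ideal.map_bot] at h1
  rw [← h1, hfeq, Ideal.map_span, Set.image_singleton, Ideal.span_singleton_eq_bot] at h2
  have hf0 : f ≠ 0 := nonZeroDivisors.ne_zero hf
  haveI : Nonempty (W : Scheme.{u}) := ⟨⟨x, hxW⟩⟩
  exact hf0 (map_injective_of_isIntegral X (homOfLE (hWle.trans Set.inter_subset_left)) (h2.trans (map_zero _).symm))

theorem Chart.toK_t_ne_zero {x : X} (c : Chart I e x) :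
    toK _ ((X.presheaf.germ c.V.1 (I.subschemeι c.z) c.mem').hom c.t) ≠ 0 := by
  rw [map_ne_zero_iff _ (toK_injective _), map_ne_zero_iff _ (germ_injective_of_isIntegral X _ _)]
  exact c.t_ne_zero I e hI

theorem exists_chart {x : X} (hx : x ∈ I.support) : ∃ c : Chart I e x, IsUnit c.ε := by
  obtain ⟨z, rfl⟩ : ∃ z, I.subschemeι z = x := by
    rw [← Set.mem_range, I.range_subschemeι]
    exact hx
  obtain ⟨V, hxV, t, ht, hVt⟩ := hI (I.subschemeι z)
  obtain ⟨kt, hkt⟩ := OmegaLib.exists_of_mem I V t (hVt ▸ Ideal.subset_span rfl)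
  let τ := valAt I e V.1 kt z hxV
  obtain ⟨ε, hε⟩ := I.subschemeι.stalkMap_surjective z τ
  refine ⟨⟨V, hxV, t, hVt, kt, hkt, z, rfl, ε, hε⟩, ?_⟩
  show IsUnit ε
  haveI : IsLocalHom (I.subschemeι.stalkMap z).hom := inferInstance
  refine (isUnit_map_iff (I.subschemeι.stalkMap z).hom ε).1 ?_
  rw [show (I.subschemeι.stalkMap z).hom ε = τ from hε]
  obtain ⟨U, k, hzU, hu⟩ := exists_isUnit I e z
  obtain ⟨g, hgle, hxg⟩ := V.2.exists_basicOpen_le (V := U) ⟨I.subschemeι z, hzU⟩ hxV
  let W : X.affineOpens := ⟨X.basicOpen g, V.2.basicOpen g⟩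
  have hWV : W.1 ≤ V.1 := X.basicOpen_le g
  have ha : OmegaSh.idealSect I W.1 ((ClSub.idealMod I).presheaf.map (homOfLE hgle).op k) ∈
      (I.ideal V).map (X.presheaf.map (homOfLE hWV).op).hom := by
    erw [I.map_ideal (U := W) (V := V) hWV]
    exact OmegaLib.idealSect_mem I W _
  rw [hVt, Ideal.map_span, Set.image_singleton, Ideal.mem_span_singleton'] at ha
  obtain ⟨w, hw⟩ := ha
  have hk : (ClSub.idealMod I).presheaf.map (homOfLE hgle).op k =
      w • (ClSub.idealMod I).presheaf.map (homOfLE hWV).op kt := by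
    apply OmegaLib.idealSect_injective I W.1
    rw [OmegaLib.idealSect_smul, OmegaLib.idealSect_map I hWV, hkt]
    exact hw.symm
  have h := congrArg (fun s => valAt I e W.1 s z hxg) hk
  simp only [valAt_smul] at h
  erw [valAt_map I e hgle k z hxg, valAt_map I e hWV kt z hxg] at h
  rw [h] at hu
  exact isUnit_of_mul_isUnit_right hu

/-- Charts transfer to generizations in the support. -/
theorem exists_chart_of_specializes {x y : X} (h : y ⤳ x) (hy : y ∈ I.support) (c : Chart I e x) :
    ∃ c' : Chart I e y, c'.s I e = c.s I e := by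
  obtain ⟨w, rfl⟩ : ∃ w, I.subschemeι w = y := by
    rw [← Set.mem_range, I.range_subschemeι]
    exact hy
  have hwz : w ⤳ c.z := by
    rw [← I.subschemeι.isEmbedding.isInducing.specializes_iff]
    exact h.trans (specializes_of_eq c.z_eq.symm)
  have hsp := hwz.map I.subschemeι.continuous
  have hmem : I.subschemeι w ∈ c.V.1 := h.mem_open c.V.1.2 c.mem
  refine ⟨⟨c.V, hmem, c.t, c.ideal_eq, c.k, c.sect_eq, w, rfl,
    (X.presheaf.stalkSpecializes hsp).hom c.ε, ?_⟩, ?_⟩
  · have h1 := congr($(Scheme.Hom.stalkSpecializes_stalkMap I.subschemeι _ _ hwz) c.ε)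
    simp only [CommRingCat.comp_apply] at h1
    refine h1.trans ?_
    rw [c.ε_eq]
    exact TopCat.Presheaf.germ_stalkSpecializes_apply _ _ _ _
  · simp only [Chart.s]
    rw [toK_specializes, ← TopCat.Presheaf.germ_stalkSpecializes_apply X.presheaf c.mem' hsp c.t,
      toK_specializes]

/-- Two charts at a point differ by a regular germ. -/
theorem reg_sub_chart {x : X} (c c' : Chart I e x) : Reg x (c.s I e - c'.s I e) := by
  obtain ⟨V, hxV, t, hV, kt, hkt, z, rfl, ε, hε⟩ := c
  obtain ⟨V', hxV', t', hV', kt', hkt', z', hz', ε', hε'⟩ := c'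
  obtain rfl : z' = z := I.subschemeι.isEmbedding.injective hz'
  obtain ⟨g, hgle, hxg⟩ := V.2.exists_basicOpen_le (V := V'.1) ⟨_, hxV'⟩ hxV
  let W : X.affineOpens := ⟨X.basicOpen g, V.2.basicOpen g⟩
  have hWV : W.1 ≤ V.1 := X.basicOpen_le g
  have ha : (X.presheaf.map (homOfLE hWV).op).hom t ∈ (I.ideal V').map (X.presheaf.map (homOfLE hgle).op).hom := by
    erw [I.map_ideal (U := W) (V := V') hgle, ← I.map_ideal (U := W) (V := V) hWV, hV]
    exact Ideal.mem_map_of_mem _ (Ideal.subset_span rfl)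
  rw [hV', Ideal.map_span, Set.image_singleton, Ideal.mem_span_singleton'] at ha
  obtain ⟨w, hw⟩ := ha
  have hk : (ClSub.idealMod I).presheaf.map (homOfLE hWV).op kt =
      w • (ClSub.idealMod I).presheaf.map (homOfLE hgle).op kt' := by
    apply OmegaLib.idealSect_injective I W.1
    rw [OmegaLib.idealSect_smul, OmegaLib.idealSect_map I hgle, OmegaLib.idealSect_map I hWV, hkt, hkt']
    exact hw.symm
  have h := congrArg (fun s => valAt I e W.1 s z' hxg) hk
  simp only [valAt_smul] at h
  erw [valAt_map I e hgle kt' z' hxg, valAt_map I e hWV kt z' hxg] at h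
  rw [← hε, ← hε', ← map_mul] at h
  have hk0 : (I.subschemeι.stalkMap z').hom (ε - (X.presheaf.germ W.1 _ hxg).hom w * ε') = 0 := by
    rw [map_sub, sub_eq_zero]
    exact h
  let c : Chart I e (I.subschemeι z') := ⟨V, hxV, t, hV, kt, hkt, z', rfl, ε, hε⟩
  let c' : Chart I e (I.subschemeι z') := ⟨V', hxV', t', hV', kt', hkt', z', rfl, ε', hε'⟩
  obtain ⟨d, hd⟩ := (mem_ker_iff I e c _).1 hk0
  refine ⟨d, ?_⟩
  have htw : (X.presheaf.germ V.1 _ hxV).hom t =
      (X.presheaf.germ W.1 _ hxg).hom w * (X.presheaf.germ V'.1 _ hxV').hom t' := by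
    have := congrArg (X.presheaf.germ W.1 _ hxg).hom hw
    rw [map_mul, TopCat.Presheaf.germ_res_apply, TopCat.Presheaf.germ_res_apply] at this
    exact this.symm
  have ht0 := c.toK_t_ne_zero I e hI
  have ht0' := c'.toK_t_ne_zero I e hI
  change toK (I.subschemeι z') d = toK (I.subschemeι z') ε / toK _ ((X.presheaf.germ V.1 _ hxV).hom t) -
    toK (I.subschemeι z') ε' / toK _ ((X.presheaf.germ V'.1 _ hxV').hom t')
  replace hd := congrArg (toK (I.subschemeι z')) hd
  simp only [c, map_mul, map_sub, htw] at hd ht0 ⊢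
  rw [div_sub_div _ _ ht0 (right_ne_zero_of_mul ht0), eq_div_iff (mul_ne_zero ht0 (right_ne_zero_of_mul ht0))]
  linear_combination (toK (I.subschemeι z') ((X.presheaf.germ V'.1 _ hxV').hom t')) * hd

/-- Away from the support a chart is regular. -/
theorem reg_of_notMem {x y : X} (c : Chart I e x) (h : y ⤳ x) (hy : y ∉ I.support) : Reg y (c.s I e) := by
  have hyV : y ∈ c.V.1 := h.mem_open c.V.1.2 c.mem
  have ht : IsUnit ((X.presheaf.germ c.V.1 y hyV).hom c.t) := by
    by_contra hu
    refine hy ((Scheme.IdealSheafData.mem_support_iff_of_mem (U := c.V) hyV).2 ?_)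
    rw [c.ideal_eq, Scheme.mem_zeroLocus_iff]
    rintro a ha hm
    obtain ⟨r, rfl⟩ := Ideal.mem_span_singleton'.1 ha
    rw [Scheme.basicOpen_mul] at hm
    exact hu ((Scheme.mem_basicOpen _ _ _ hyV).1 hm.2)
  have hsp : y ⤳ I.subschemeι c.z := h.trans (specializes_of_eq c.z_eq.symm)
  obtain ⟨u, hu⟩ := ht
  refine ⟨(X.presheaf.stalkSpecializes hsp).hom c.ε * (↑u⁻¹ : X.presheaf.stalk y), ?_⟩
  show toK y _ = _
  rw [map_mul, toK_specializes, map_units_inv, hu, Chart.s, div_eq_mul_inv]
  congr 2
  rw [← toK_specializes hsp, TopCat.Presheaf.germ_stalkSpecializes_apply]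

theorem false_of_iso {A : Type u} [CommRing A] [IsDomain A] [IsLocalRing A] [IsNoetherianRing A] [IsIntegrallyClosed A]
    (hdim : ringKrullDim A = 2) (f : X ⟶ Spec (CommRingCat.of A)) [IsProper f] (hf : IsBirat f)
    (hX : Pi1.IsNormalScheme X) (hne : (I.support : Set X).Nonempty)
    (hZ : (I.support : Set X) ⊆ f ⁻¹' {closedPoint A})
    (e : (Scheme.Modules.pullback I.subschemeι).obj (ClSub.idealMod I) ≅ Coh.structureModule I.subscheme) : False := by
  classical
  let ch : ∀ x, x ∈ I.support → Chart I e x := fun x hx => (exists_chart I e hI hx).choose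
  let σ : X → X.functionField := fun x => if hx : x ∈ I.support then (ch x hx).s I e else 0
  have hreg := reg f hdim hf hX σ (fun x y _ _ h => ?_) (fun x y _ hy h => ?_)
  · obtain ⟨x, hx⟩ := hne
    obtain ⟨a, ha⟩ := hreg x (hZ hx)
    simp only [σ, show x ∈ I.support from hx, dif_pos] at ha
    let c := ch x hx
    have hε : IsUnit c.ε := (exists_chart I e hI hx).choose_spec
    have hxz : I.subschemeι c.z ⤳ x := specializes_of_eq c.z_eq
    have h0 : (I.subschemeι.stalkMap c.z).hom c.ε = 0 := (mem_ker_iff I e c _).2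
      ⟨(X.presheaf.stalkSpecializes hxz).hom a, toK_injective _ (by
        rw [map_mul, toK_specializes, show toK x a = _ from ha]
        exact div_mul_cancel₀ _ (c.toK_t_ne_zero I e hI))⟩
    exact not_isUnit_zero (h0 ▸ hε.map (I.subschemeι.stalkMap c.z).hom)
  · simp only [σ]
    by_cases hy : y ∈ I.support
    · have hx : x ∈ I.support := h.mem_closed I.support.2 hy
      rw [dif_pos hx, dif_pos hy]
      obtain ⟨c', hc'⟩ := exists_chart_of_specializes I e hI h hy (ch x hx)
      rw [← hc']
      exact reg_sub_chart I e hI c' (ch y hy)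
    · rw [dif_neg hy, sub_zero]
      by_cases hx : x ∈ I.support
      · rw [dif_pos hx]
        exact reg_of_notMem I e hI (ch x hx) h hy
      · rw [dif_neg hx]
        exact reg_zero y
  · simp only [σ]
    by_cases hx : x ∈ I.support
    · rw [dif_pos hx]
      exact reg_of_notMem I e hI (ch x hx) h fun hy' => hy (hZ hy')
    · rw [dif_neg hx]
      exact reg_zero y

end Groth.Agent.ResSurf.Conormal
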