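import Groth.Agent.ResSurf.Birat
import Groth.Agent.ResSurf.RegularRational
import Groth.Agent.DimFormula.Codim
import Mathlib.AlgebraicGeometry.Morphisms.Flat
import Mathlib.RingTheory.RingHom.FaithfullyFlat
import Mathlib.AlgebraicGeometry.Fiber

/-!
# Base change of a birational morphism to a local ring
-/

universe u

open CategoryTheory CategoryTheory.Limits AlgebraicGeometry TopologicalSpace IsLocalRing

set_option backward.isDefEq.respectTransparency false
set_option backward.isDefEq.respectTransparency.types false
set_option linter.style.haveILetI false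

namespace Groth.Agent.ResSurf.LocalChange

open Groth.Agent

theorem flat_fromSpecStalk {X : Scheme.{u}} (x : X) : Flat (X.fromSpecStalk x) := by
  obtain ⟨U, hU, hxU, -⟩ := exists_isAffineOpen_mem_and_subset (show x ∈ (⊤ : X.Opens) from trivial)
  rw [← hU.fromSpecStalk_eq_fromSpecStalk hxU, IsAffineOpen.fromSpecStalk]
  haveI : Flat (Spec.map (X.presheaf.germ U x hxU)) := by
    rw [HasRingHomProperty.Spec_iff (P := @Flat)]
    letI : Algebra Γ(X, U) (X.presheaf.stalk x) := (X.presheaf.germ U x hxU).hom.toAlgebra
    haveI := hU.isLocalization_stalk ⟨x, hxU⟩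
    exact IsLocalization.flat (X.presheaf.stalk x) (hU.primeIdealOf ⟨x, hxU⟩).asIdeal.primeCompl
  infer_instance

/-- A flat preimmersion induces isomorphisms on local rings. -/
theorem bijective_stalkMap {P X : Scheme.{u}} (g : P ⟶ X) [IsPreimmersion g] [Flat g] (p : P) :
    Function.Bijective (g.stalkMap p).hom := by
  refine ⟨?_, g.stalkMap_surjective p⟩
  letI := (g.stalkMap p).hom.toAlgebra
  haveI : Module.Flat (X.presheaf.stalk (g p)) (P.presheaf.stalk p) := Flat.stalkMap g p
  haveI : IsLocalHom (algebraMap (X.presheaf.stalk (g p)) (P.presheaf.stalk p)) := g.toLRSHom.prop p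
  haveI : Module.FaithfullyFlat (X.presheaf.stalk (g p)) (P.presheaf.stalk p) :=
    Module.FaithfullyFlat.of_flat_of_isLocalHom
  exact FaithfulSMul.algebraMap_injective (X.presheaf.stalk (g p)) (P.presheaf.stalk p)

/-- A scheme with a flat preimmersion into an integral scheme hitting the generic point is integral. -/
theorem isIntegral_of_preimmersion {P X : Scheme.{u}} [IsIntegral X] (g : P ⟶ X) [IsPreimmersion g] [Flat g]
    (η : P) (hη : g η = genericPoint X) : ∃ _ : IsIntegral P, g (genericPoint P) = genericPoint X := by
  have hgen : IsGenericPoint η (⊤ : Set P) := by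
    show closure {η} = Set.univ
    refine Set.eq_univ_of_forall fun p => specializes_iff_mem_closure.1 ?_
    rw [g.isEmbedding.isInducing.specializes_iff.symm, hη]
    exact genericPoint_specializes _
  haveI : Nonempty P := ⟨η⟩
  haveI : IrreducibleSpace P := by
    haveI : PreirreducibleSpace P := ⟨by
      have h : IsPreirreducible (closure ({η} : Set P)) := isPreirreducible_singleton.closure
      rwa [show closure ({η} : Set P) = Set.univ from hgen] at h⟩
    exact ⟨inferInstance⟩
  haveI : ∀ p, _root_.IsReduced (P.presheaf.stalk p) := fun p =>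
    isReduced_of_injective (RingEquiv.ofBijective _ (bijective_stalkMap g p)).symm (RingEquiv.injective _)
  haveI : IsReduced P := isReduced_of_isReduced_stalk _
  haveI : IsIntegral P := isIntegral_of_irreducibleSpace_of_isReduced _
  exact ⟨inferInstance, by rw [← hgen.eq (genericPoint_spec _)]; exact hη⟩

variable {X Z : Scheme.{u}} (c : X ⟶ Z) (z : Z)

/-- The local model. -/
noncomputable abbrev loc : Scheme.{u} := pullback c (Z.fromSpecStalk z)

/-- The inclusion of the local model. -/
noncomputable abbrev incl : loc c z ⟶ X := pullback.fst c (Z.fromSpecStalk z)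

/-- The structure morphism of the local model. -/
noncomputable abbrev str : loc c z ⟶ Spec (CommRingCat.of (Z.presheaf.stalk z)) :=
  pullback.snd c (Z.fromSpecStalk z)

theorem bijective_incl_stalkMap (p : ↥(loc c z)) : Function.Bijective ((incl c z).stalkMap p).hom :=
  haveI := flat_fromSpecStalk z
  bijective_stalkMap (incl c z) p

theorem isNormalScheme_loc (hX : Pi1.IsNormalScheme X) : Pi1.IsNormalScheme (loc c z) := fun p => by
  haveI := (hX (incl c z p)).1
  haveI := (hX (incl c z p)).2
  let e := RingEquiv.ofBijective _ (bijective_incl_stalkMap c z p)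
  exact ⟨e.symm.toMulEquiv.isDomain _, IsIntegrallyClosed.of_equiv e⟩

theorem isRegularLocalRing_loc (hX : ∀ x : X, IsRegularLocalRing (X.presheaf.stalk x)) (p : ↥(loc c z)) :
    IsRegularLocalRing ((loc c z).presheaf.stalk p) := by
  haveI := hX (incl c z p)
  exact IsRegularLocalRing.of_ringEquiv (RingEquiv.ofBijective _ (bijective_incl_stalkMap c z p))

theorem ringKrullDim_loc (p : ↥(loc c z)) :
    ringKrullDim ((loc c z).presheaf.stalk p) = ringKrullDim (X.presheaf.stalk (incl c z p)) :=
  (ringKrullDim_eq_of_ringEquiv (RingEquiv.ofBijective _ (bijective_incl_stalkMap c z p))).symm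

theorem exists_point {x : X} (hx : c x = z) :
    ∃ p : ↥(loc c z), incl c z p = x ∧ str c z p = closedPoint (Z.presheaf.stalk z) := by
  obtain ⟨p, hp, hp'⟩ := Scheme.Pullback.exists_preimage_pullback (f := c) (g := Z.fromSpecStalk z)
    x (closedPoint (Z.presheaf.stalk z)) (by rw [Z.fromSpecStalk_closedPoint]; exact hx)
  exact ⟨p, hp, hp'⟩

variable [IsIntegral X] [IsIntegral Z]

theorem isIntegral_loc (e : c (genericPoint X) = genericPoint Z) :
    ∃ _ : IsIntegral (loc c z), incl c z (genericPoint (loc c z)) = genericPoint X := by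
  obtain ⟨q, hq⟩ : genericPoint Z ∈ Set.range (Z.fromSpecStalk z) := by
    rw [Z.range_fromSpecStalk]
    exact genericPoint_specializes z
  obtain ⟨η, hη, -⟩ := Scheme.Pullback.exists_preimage_pullback (f := c) (g := Z.fromSpecStalk z)
    (genericPoint X) q (e.trans hq.symm)
  haveI := flat_fromSpecStalk z
  exact isIntegral_of_preimmersion (incl c z) η hη

/-- All functions on the local model come from the local ring. -/
theorem surjective_toGlobal [IsProper c] (hc : IsBirat c) (hZ : Pi1.IsNormalScheme Z) :
    Function.Surjective (Coh.toGlobal (str c z)) := by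
  obtain ⟨_, hη⟩ := isIntegral_loc c z hc.apply_genericPoint
  haveI := (hZ z).1
  haveI := (hZ z).2
  haveI : IsIntegral (Spec (CommRingCat.of (Z.presheaf.stalk z))) := inferInstance
  haveI : IsProper (str c z) := MorphismProperty.pullback_snd _ _ inferInstance
  let S : Scheme.{u} := Spec (CommRingCat.of (Z.presheaf.stalk z))
  let η := genericPoint (loc c z)
  have hw : incl c z ≫ c = str c z ≫ Z.fromSpecStalk z := pullback.condition
  have hstr : str c z η = genericPoint S := by
    refine (Z.fromSpecStalk z).isEmbedding.injective ?_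
    show (str c z ≫ Z.fromSpecStalk z) η = _
    rw [← hw, Scheme.Hom.comp_apply, hη, hc.apply_genericPoint]
    obtain ⟨q, hq⟩ : genericPoint Z ∈ Set.range (Z.fromSpecStalk z) := by
      rw [Z.range_fromSpecStalk]; exact genericPoint_specializes z
    have h1 : Z.fromSpecStalk z (genericPoint S) ⤳ genericPoint Z :=
      hq ▸ (genericPoint_specializes q).map (Z.fromSpecStalk z).continuous
    exact ((genericPoint_specializes _).antisymm h1).eq
  refine fun a => ?_
  have hbij := bijective_app_of_birational (str c z) (isNormalScheme_Spec (Z.presheaf.stalk z)) hstr ?_ ⊤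
  · obtain ⟨b, hb⟩ := hbij.2 a
    refine ⟨(Scheme.ΓSpecIso (CommRingCat.of (Z.presheaf.stalk z))).hom b, ?_⟩
    show (str c z).appTop ((Scheme.ΓSpecIso _).inv ((Scheme.ΓSpecIso _).hom b)) = a
    rw [Iso.hom_inv_id_apply]
    exact hb
  · haveI : IsIso ((incl c z).stalkMap η) :=
      (ConcreteCategory.isIso_iff_bijective _).2 (bijective_incl_stalkMap c z η)
    haveI : IsIso (c.stalkMap (incl c z η)) := by
      haveI : ValuationRing (Z.presheaf.stalk (c (incl c z η))) := by
        rw [hη, hc.apply_genericPoint]
        exact inferInstanceAs (ValuationRing Z.functionField)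
      exact (ConcreteCategory.isIso_iff_bijective _).2 (hc.bijective_stalkMap _)
    haveI : IsIso ((Z.fromSpecStalk z).stalkMap (str c z η)) :=
      haveI := flat_fromSpecStalk z
      (ConcreteCategory.isIso_iff_bijective _).2 (bijective_stalkMap _ _)
    haveI : IsIso ((str c z ≫ Z.fromSpecStalk z).stalkMap η) := by
      rw [← hw, Scheme.Hom.stalkMap_comp]; infer_instance
    haveI : IsIso ((str c z).stalkMap η) := by
      have h1 : IsIso ((Z.fromSpecStalk z).stalkMap (str c z η) ≫ (str c z).stalkMap η) :=
        (Scheme.Hom.stalkMap_comp (str c z) (Z.fromSpecStalk z) η) ▸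
          ‹IsIso ((str c z ≫ Z.fromSpecStalk z).stalkMap η)›
      exact IsIso.of_isIso_comp_left ((Z.fromSpecStalk z).stalkMap (str c z η)) _
    haveI : IsIso (S.presheaf.stalkSpecializes (specializes_of_eq hstr)) :=
      (TopCat.Presheaf.stalkCongr S.presheaf (Inseparable.of_eq hstr.symm)).isIso_hom
    exact ConcreteCategory.bijective_of_isIso _

end Groth.Agent.ResSurf.LocalChange
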