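import Groth.Agent.ResSurf.PointExc
import Groth.Agent.ResSurf.LocalChange
import Groth.Agent.ResSurf.BlowInt
import Groth.Agent.H23.Rigid
import Groth.Agent.S10829
import Groth.Agent.H23.PnChart

/-!
# Contractions: functions, fibres, and the universal property
-/

universe u

open CategoryTheory CategoryTheory.Limits AlgebraicGeometry TopologicalSpace Opposite IsLocalRing

set_option autoImplicit false
set_option backward.isDefEq.respectTransparency false
set_option backward.isDefEq.respectTransparency.types false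
set_option linter.style.haveILetI false

namespace Groth.Agent.ResSurf.ContractFactor

open Groth.Agent

/-- A closed embedding of a one-dimensional space into a one-dimensional irreducible one is surjective. -/
theorem surjective_of_dim_one {α β : Type u} [TopologicalSpace α] [TopologicalSpace β] [IrreducibleSpace β]
    (hα : topologicalKrullDim α = 1) (hβ : topologicalKrullDim β = 1) (i : α → β)
    (hi : Topology.IsClosedEmbedding i) : Function.Surjective i := by
  rw [← Set.range_eq_univ]
  by_contra hne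
  have h1 : ∃ s t : IrreducibleCloseds α, s < t := by
    by_contra h
    push Not at h
    have : topologicalKrullDim α ≤ 0 := iSup_le fun l => by
      by_contra hl
      have hlen : 1 ≤ l.length := by
        by_contra hlt
        exact hl (by exact_mod_cast (show l.length ≤ 0 by omega))
      exact h _ _ (l.strictMono (show (⟨0, by omega⟩ : Fin (l.length + 1)) < ⟨1, by omega⟩ from
        Fin.mk_lt_mk.2 (by omega)))
    rw [hα] at this
    exact absurd this (by decide)
  obtain ⟨s, t, hst⟩ := h1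
  have hmono := IrreducibleCloseds.map_strictMono_of_isInducing hi.isEmbedding.isInducing
  let g := IrreducibleCloseds.map i hi.continuous
  let top : IrreducibleCloseds β := ⟨Set.univ, IrreducibleSpace.isIrreducible_univ β, isClosed_univ⟩
  have htop : g t < top := by
    refine lt_of_le_of_ne (fun x _ => trivial) fun h => hne (Set.eq_univ_of_univ_subset ?_)
    have h2 : closure (i '' (t : Set α)) = Set.univ := congrArg SetLike.coe h
    rw [← h2]
    exact closure_minimal (Set.image_subset_range _ _) hi.isClosed_range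
  let l : LTSeries (IrreducibleCloseds β) :=
    ((RelSeries.singleton _ (g s)).snoc (g t) (hmono hst)).snoc top (by simpa using htop)
  have h3 : (l.length : WithBot ℕ∞) ≤ topologicalKrullDim β := le_iSup (fun l : LTSeries (IrreducibleCloseds β) => (l.length : WithBot ℕ∞)) l
  rw [hβ] at h3
  exact absurd h3 (by simp [l])

variable {X X' : Scheme.{u}}

/-- The inverse image of the reduced point on the spectrum of the local ring. -/
theorem comap_fromSpecStalk {y : X} {C : X.IdealSheafData} (F : PointFrame X y)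
    (hC : C.ideal ⟨F.V, F.isAffine⟩ = Ideal.span (Set.range F.r)) :
    C.comap (X.fromSpecStalk y) = BlowUpLib.centre (maximalIdeal (X.presheaf.stalk y)) := by
  haveI := F.isMaximal
  rw [← F.isAffine.fromSpecStalk_eq_fromSpecStalk F.mem, IsAffineOpen.fromSpecStalk,
    Scheme.IdealSheafData.comap_comp]
  erw [BlowUpLib.comap_fromSpec C ⟨F.V, F.isAffine⟩]
  rw [hC,
    ← CommRingCat.ofHom_hom (X.presheaf.germ _ _ _)]
  refine (CIntLib.centre_comap_specMap _ _).trans (congrArg _ ?_)
  have hP : (F.isAffine.primeIdealOf ⟨y, F.mem⟩).asIdeal = Ideal.span (Set.range F.r) :=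
    (F.point _).1 (F.isAffine.fromSpec_primeIdealOf ⟨y, F.mem⟩)
  letI := TopCat.Presheaf.algebra_section_stalk X.presheaf (⟨y, F.mem⟩ : F.V)
  haveI : IsLocalization.AtPrime (X.presheaf.stalk y) (Ideal.span (Set.range F.r)) :=
    by convert F.isAffine.isLocalization_stalk ⟨y, F.mem⟩ using 2; exact hP.symm
  exact IsLocalization.AtPrime.map_eq_maximalIdeal (Ideal.span (Set.range F.r)) (X.presheaf.stalk y)

variable (b : X' ⟶ X) [IsProper b] {y : X} (hy : IsClosed ({y} : Set X))
  (hreg : IsRegularLocalRing (X.presheaf.stalk y)) (hdim : ringKrullDim (X.presheaf.stalk y) = 2)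

open LocalChange in
include hreg hdim in
/-- Functions on the local model of a point blow up come from the local ring, uniquely. -/
theorem bijective_str_appTop [IsLocallyNoetherian X]
    (hb : BlowUp.IsBlowUp b (Scheme.IdealSheafData.vanishingIdeal ⟨{y}, hy⟩)) :
    Function.Bijective ((str b y).appTop).hom ∧ ∃ p : ↥(loc b y), b (incl b y p) = y := by
  obtain ⟨U₀, hU₀, hyU₀, -⟩ := exists_isAffineOpen_mem_and_subset (x := y) (U := ⊤) trivial
  obtain ⟨F, -, -⟩ := exists_pointFrame hy hreg hdim hU₀ hyU₀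
  let C := Scheme.IdealSheafData.vanishingIdeal ⟨{y}, hy⟩
  have hC := F.ideal_vanishingIdeal hy
  haveI := flat_fromSpecStalk y
  haveI := hreg
  haveI : IsDomain (X.presheaf.stalk y) := RegLoc6.isDomain_of_isRegularLocalRing _
  haveI : IsIntegrallyClosed (X.presheaf.stalk y) := RegLoc6.isIntegrallyClosed_of_isRegularLocalRing _
  have hm : maximalIdeal (X.presheaf.stalk y) ≠ ⊥ := fun h => by
    rw [ringKrullDim_eq_zero_of_isField (isField_iff_maximalIdeal_eq.2 h)] at hdim
    exact two_ne_zero hdim.symm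
  have hb' : BlowUp.IsBlowUp (str b y) (BlowUpLib.centre (maximalIdeal (X.presheaf.stalk y))) :=
    comap_fromSpecStalk F hC ▸
      BlowUpLib.isBlowUp_of_isPullback (IsPullback.of_hasPullback b (X.fromSpecStalk y)).flip hb
  have hgen : genericPoint (Spec (X.presheaf.stalk y)) ∉
      (BlowUpLib.centre (maximalIdeal (X.presheaf.stalk y))).support := by
    intro h
    obtain ⟨t, ht, ht0⟩ := Submodule.exists_mem_ne_zero_of_ne_bot hm
    rw [← SetLike.mem_coe, Scheme.IdealSheafData.coe_support_ofIdealTop] at h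
    have h2 := (Scheme.mem_zeroLocus_iff _ _ _).1 h _ (Ideal.mem_map_of_mem _ ht)
    refine h2 ?_
    show genericPoint _ ∈ (Spec (X.presheaf.stalk y)).basicOpen ((Scheme.ΓSpecIso (X.presheaf.stalk y)).inv t)
    rw [basicOpen_eq_of_affine]
    show t ∉ (genericPoint (Spec (X.presheaf.stalk y))).asIdeal
    rw [genericPoint_eq_bot_of_affine]
    exact fun h0 => ht0 h0
  haveI : IsIntegral (loc b y) := BlowInt.isIntegral hb' hgen
  haveI : IsProper (str b y) := MorphismProperty.pullback_snd _ _ inferInstance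
  let V : (Spec (X.presheaf.stalk y)).Opens := ModPair.interior (BlowUpLib.centre (maximalIdeal (X.presheaf.stalk y)))
  haveI : IsIso (str b y ∣_ V) := BlowUpLib.isIso_restrict hb' _ le_rfl
  have hbir : IsBirat (str b y) := isBirat_of_isIso_restrict (str b y) V ⟨_, hgen⟩
  have hbij : Function.Bijective ((Spec (X.presheaf.stalk y)).presheaf.stalkSpecializes
      (specializes_of_eq hbir.apply_genericPoint) ≫ (str b y).stalkMap (genericPoint (loc b y))).hom := by
    haveI : ValuationRing ((Spec (X.presheaf.stalk y)).presheaf.stalk (str b y (genericPoint (loc b y)))) := by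
      rw [hbir.apply_genericPoint]
      exact inferInstanceAs (ValuationRing (Spec (X.presheaf.stalk y)).functionField)
    haveI : IsIso ((str b y).stalkMap (genericPoint (loc b y))) :=
      (ConcreteCategory.isIso_iff_bijective _).2 (hbir.bijective_stalkMap _)
    haveI : IsIso ((Spec (X.presheaf.stalk y)).presheaf.stalkSpecializes (specializes_of_eq hbir.apply_genericPoint)) :=
      (TopCat.Presheaf.stalkCongr (Spec (X.presheaf.stalk y)).presheaf
        (Inseparable.of_eq hbir.apply_genericPoint.symm)).isIso_hom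
    exact ConcreteCategory.bijective_of_isIso _
  refine ⟨bijective_app_of_birational (str b y) (isNormalScheme_Spec _) hbir.apply_genericPoint hbij ⊤, ?_⟩
  obtain ⟨p, hp⟩ : closedPoint (X.presheaf.stalk y) ∈ Set.range (str b y) := by
    have hcl : IsClosed (Set.range (str b y)) := (str b y).isClosedMap.isClosed_range
    exact (genericPoint_specializes (α := Spec (X.presheaf.stalk y)) (closedPoint _)).mem_closed hcl
      ⟨_, hbir.apply_genericPoint⟩
  refine ⟨p, ?_⟩
  rw [← Scheme.Hom.comp_apply, pullback.condition, Scheme.Hom.comp_apply]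
  rw [show pullback.snd b (X.fromSpecStalk y) p = closedPoint (X.presheaf.stalk y) from hp]
  exact X.fromSpecStalk_closedPoint

open LocalChange in
include hy hreg hdim in
/-- Functions upstairs of a point blow up come from below. -/
theorem bijective_app [IsLocallyNoetherian X]
    (hb : BlowUp.IsBlowUp b (Scheme.IdealSheafData.vanishingIdeal ⟨{y}, hy⟩)) :
    ∀ W : X.Opens, Function.Bijective (b.app W) := by
  obtain ⟨hbij, -⟩ := bijective_str_appTop b hy hreg hdim hb
  let O : X.Opens := ⟨{y}ᶜ, hy.isOpen_compl⟩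
  haveI hiso : IsIso (b ∣_ O) := by
    have h : (Scheme.IdealSheafData.vanishingIdeal ⟨{y}, hy⟩).support.compl = O :=
      Opens.ext (congrArg compl (Scheme.IdealSheafData.coe_support_vanishingIdeal _))
    exact h ▸ BlowUpX.isIso_restrict hb
  have hoff : ∀ W : X.Opens, W ≤ O → Function.Bijective (b.app W) := fun W hW => by
    let V : (O : Scheme.{u}).Opens := O.ι ⁻¹ᵁ W
    have hV : O.ι ''ᵁ V = W := by
      rw [Scheme.Hom.image_preimage_eq_opensRange_inf, Scheme.Opens.opensRange_ι, inf_eq_right.2 hW]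
    haveI : IsIso (b.app (O.ι ''ᵁ V)) := by
      have h : IsIso ((b ∣_ O).app V) := inferInstance
      rw [morphismRestrict_app] at h
      exact @IsIso.of_isIso_comp_right _ _ _ _ _ _ _ inferInstance h
    rw [← hV]
    exact ConcreteCategory.bijective_of_isIso _
  -- comparison with the local model
  have hpre : ∀ W : X.Opens, y ∈ W → (X.fromSpecStalk y) ⁻¹ᵁ W = ⊤ := fun W hW => by
    refine top_le_iff.1 fun q _ => ?_
    have h : X.fromSpecStalk y q ⤳ y := by
      have : X.fromSpecStalk y q ∈ Set.range (X.fromSpecStalk y) := ⟨q, rfl⟩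
      rwa [X.range_fromSpecStalk] at this
    exact h.mem_open W.isOpen hW
  have hpre' : ∀ W : X.Opens, y ∈ W → (incl b y) ⁻¹ᵁ (b ⁻¹ᵁ W) = ⊤ := fun W hW => by
    refine top_le_iff.1 fun q _ => ?_
    show (incl b y ≫ b) q ∈ W
    rw [pullback.condition]
    show str b y q ∈ (X.fromSpecStalk y) ⁻¹ᵁ W
    rw [hpre W hW]
    trivial
  have hsq : ∀ (W : X.Opens) (hW : y ∈ W) (a : Γ(X, W)),
      (incl b y).appLE (b ⁻¹ᵁ W) ⊤ (hpre' W hW).ge (b.app W a) =
        (str b y).appTop ((Scheme.ΓSpecIso _).inv (X.presheaf.germ W y hW a)) := fun W hW a => by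
    have key : ∀ {Z : Scheme.{u}} (φ φ' : Z ⟶ X) (_ : φ = φ') (h : ⊤ ≤ φ ⁻¹ᵁ W) (h' : ⊤ ≤ φ' ⁻¹ᵁ W),
        φ.appLE W ⊤ h = φ'.appLE W ⊤ h' := by rintro Z φ _ rfl _ _; rfl
    have h1 : ⊤ ≤ (incl b y ≫ b) ⁻¹ᵁ W := (hpre' W hW).ge
    have h2 : ⊤ ≤ (str b y ≫ X.fromSpecStalk y) ⁻¹ᵁ W := by rw [← pullback.condition]; exact h1
    have h3 := key _ _ pullback.condition h1 h2
    rw [← Scheme.Hom.appLE_comp_appLE (incl b y) b W (b ⁻¹ᵁ W) ⊤ le_rfl (hpre' W hW).ge,
      ← Scheme.Hom.appLE_comp_appLE (str b y) (X.fromSpecStalk y) W ⊤ ⊤ (hpre W hW).ge le_top,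
      Scheme.Hom.appLE_eq_app] at h3
    refine (congr($h3 a)).trans ?_
    show (str b y).appLE ⊤ ⊤ _ ((X.fromSpecStalk y).appLE W ⊤ _ a) = _
    rw [show (str b y).appLE ⊤ ⊤ le_top = (str b y).appTop from Scheme.Hom.appLE_eq_app _]
    refine congrArg _ ?_
    show ((X.fromSpecStalk y).app W ≫ (Spec (X.presheaf.stalk y)).presheaf.map (homOfLE (hpre W hW).ge).op) a = _
    rw [Scheme.fromSpecStalk_app hW]
    simp only [Category.assoc, ← Functor.map_comp, CommRingCat.comp_apply]
    rw [show ((homOfLE le_top).op ≫ (homOfLE (hpre W hW).ge).op) = 𝟙 _ from Subsingleton.elim _ _,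
      CategoryTheory.Functor.map_id]
    rfl
  have hinj : ∀ W : X.Opens, Function.Injective (b.app W) := fun W => by
    rw [injective_iff_map_eq_zero]
    intro a ha
    refine TopCat.Presheaf.section_ext X.sheaf W a 0 fun w hw => ?_
    show X.presheaf.germ W w hw a = X.presheaf.germ W w hw 0
    rw [map_zero]
    by_cases hwy : w = y
    · subst hwy
      have h := hsq W hw a
      rw [ha, map_zero] at h
      have h2 := hbij.1 (h.symm.trans (map_zero _).symm)
      exact (Scheme.ΓSpecIso _).commRingCatIsoToRingEquiv.symm.injective (h2.trans (map_zero _).symm)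
    · have hw' : w ∈ W ⊓ O := ⟨hw, hwy⟩
      rw [← TopCat.Presheaf.germ_res_apply X.presheaf (homOfLE (inf_le_left : W ⊓ O ≤ W)) w hw' a]
      refine (congrArg _ ((hoff (W ⊓ O) inf_le_right).1 ?_)).trans (map_zero _)
      rw [map_zero, ← ConcreteCategory.comp_apply, Scheme.Hom.naturality, ConcreteCategory.comp_apply, ha, map_zero]
  intro W
  refine ⟨hinj W, fun s => ?_⟩
  -- local lifts
  have hloc : ∀ w ∈ W, ∃ (V : X.Opens) (hV : V ≤ W) (t : Γ(X, V)), w ∈ V ∧
      b.app V t = X'.presheaf.map (homOfLE (b.preimage_mono hV)).op s := fun w hw => by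
    by_cases hwy : w = y
    · subst hwy
      obtain ⟨g, hg⟩ := hbij.2 ((incl b w).appLE (b ⁻¹ᵁ W) ⊤ (hpre' W hw).ge s)
      obtain ⟨V₀, hwV₀, t₀, ht₀⟩ := TopCat.Presheaf.exists_germ_eq X.presheaf ((Scheme.ΓSpecIso _).hom g)
      let V := V₀ ⊓ W
      have hwV : w ∈ V := ⟨hwV₀, hw⟩
      let t := X.presheaf.map (homOfLE (inf_le_left : V ≤ V₀)).op t₀
      let d := b.app V t - X'.presheaf.map (homOfLE (b.preimage_mono (inf_le_right : V ≤ W))).op s
      have hd : (incl b w).appLE (b ⁻¹ᵁ V) ⊤ (hpre' V hwV).ge d = 0 := by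
        have e1 : (str b w).appTop ((Scheme.ΓSpecIso _).inv (X.presheaf.germ V w hwV t)) =
            (incl b w).appLE (b ⁻¹ᵁ W) ⊤ (hpre' W hw).ge s := by
          refine Eq.trans (congrArg _ ?_) hg
          show (Scheme.ΓSpecIso (X.presheaf.stalk w)).inv (X.presheaf.germ V w hwV t) = g
          rw [TopCat.Presheaf.germ_res_apply, ht₀, Iso.hom_inv_id_apply]
        simp only [d]
        rw [map_sub, hsq V hwV t, sub_eq_zero, e1]
        exact congr($((incl b w).map_appLE (hpre' V hwV).ge
          (homOfLE (b.preimage_mono (inf_le_right : V ≤ W))).op) s).symm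
      have hzero : ∀ (x : X') (hx : b x = w) (hxV : x ∈ b ⁻¹ᵁ V), X'.presheaf.germ (b ⁻¹ᵁ V) x hxV d = 0 :=
        fun x hx hxV => by
          obtain ⟨p, rfl, -⟩ := exists_point b w hx
          refine (bijective_incl_stalkMap b w p).1 ?_
          rw [map_zero, Scheme.Hom.germ_stalkMap_apply]
          have hp : p ∈ (⊤ : (loc b w).Opens) := trivial
          have h := congrArg ((loc b w).presheaf.germ ⊤ p hp) hd
          rw [map_zero] at h
          rw [← h]
          show _ = (loc b w).presheaf.germ ⊤ p hp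
            (((incl b w).app (b ⁻¹ᵁ V) ≫ (loc b w).presheaf.map (homOfLE (hpre' V hwV).ge).op) d)
          rw [ConcreteCategory.comp_apply, TopCat.Presheaf.germ_res_apply]
      -- the closed map
      let G : Set X' := {x | ∃ hx : x ∈ b ⁻¹ᵁ V, X'.presheaf.germ (b ⁻¹ᵁ V) x hx d = 0}
      have hGo : IsOpen G := isOpen_iff_forall_mem_open.2 fun x ⟨hxV, hx⟩ => by
        obtain ⟨U, hxU, i₁, i₂, he⟩ := TopCat.Presheaf.germ_eq X'.presheaf x hxV hxV d 0 (by rw [hx, map_zero])
        refine ⟨U, fun z hz => ⟨i₁.le hz, ?_⟩, U.isOpen, hxU⟩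
        rw [← TopCat.Presheaf.germ_res_apply X'.presheaf i₁ z hz, he, map_zero, map_zero]
      let V' : X.Opens := ⟨(b '' Gᶜ)ᶜ, (b.isClosedMap _ hGo.isClosed_compl).isOpen_compl⟩ ⊓ V
      have hwV' : w ∈ V' := ⟨fun ⟨x, hx, hxw⟩ => hx ⟨show b x ∈ V from hxw.symm ▸ hwV,
        hzero x hxw _⟩, hwV⟩
      refine ⟨V', inf_le_right.trans inf_le_right, X.presheaf.map (homOfLE (inf_le_right : V' ≤ V)).op t, hwV', ?_⟩
      refine TopCat.Presheaf.section_ext X'.sheaf (b ⁻¹ᵁ V') _ _ fun x hx => ?_
      have hxG : x ∈ G := by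
        by_contra h
        exact hx.1 ⟨x, h, rfl⟩
      obtain ⟨hxV, hxd⟩ := hxG
      simp only [d, map_sub, sub_eq_zero] at hxd
      show X'.presheaf.germ _ x hx _ = X'.presheaf.germ _ x hx _
      rw [← ConcreteCategory.comp_apply (X.presheaf.map _) (b.app V'), Scheme.Hom.naturality,
        ConcreteCategory.comp_apply, TopCat.Presheaf.germ_res_apply, TopCat.Presheaf.germ_res_apply]
      exact (congr_arg _ rfl).trans (hxd.trans (TopCat.Presheaf.germ_res_apply _ _ _ _ _))
    · obtain ⟨t, ht⟩ := (hoff (W ⊓ O) inf_le_right).2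
        (X'.presheaf.map (homOfLE (b.preimage_mono (inf_le_left : W ⊓ O ≤ W))).op s)
      exact ⟨W ⊓ O, inf_le_left, t, ⟨hw, hwy⟩, ht⟩
  choose V hV t hwV ht using hloc
  obtain ⟨a, ha, -⟩ := X.sheaf.existsUnique_gluing' (fun w : W => V w.1 w.2) W (fun w => homOfLE (hV w.1 w.2))
    (fun w hw => Opens.mem_iSup.2 ⟨⟨w, hw⟩, hwV w hw⟩) (fun w => t w.1 w.2) (fun w w' => by
      refine hinj _ ?_
      show b.app _ (X.presheaf.map _ _) = b.app _ (X.presheaf.map _ _)
      rw [← ConcreteCategory.comp_apply, Scheme.Hom.naturality, ConcreteCategory.comp_apply, ht w.1 w.2,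
        ← ConcreteCategory.comp_apply (X.presheaf.map _) (b.app _), Scheme.Hom.naturality,
        ConcreteCategory.comp_apply, ht w'.1 w'.2, ← ConcreteCategory.comp_apply, ← Functor.map_comp,
        ← ConcreteCategory.comp_apply, ← Functor.map_comp]
      rfl)
  refine ⟨a, TopCat.Sheaf.eq_of_locally_eq' X'.sheaf (fun w : W => b ⁻¹ᵁ (V w.1 w.2)) (b ⁻¹ᵁ W)
    (fun w => homOfLE (b.preimage_mono (hV w.1 w.2)))
    (fun x hx => Opens.mem_iSup.2 ⟨⟨b x, hx⟩, hwV (b x) hx⟩) _ _ fun w => ?_⟩
  show X'.presheaf.map _ (b.app W a) = X'.presheaf.map _ s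
  rw [← ht w.1 w.2, ← ha w]
  exact congr($((b.naturality (homOfLE (hV w.1 w.2)).op).symm) a)

/-- The fibre of a contraction over its point is the contracted curve. -/
theorem mem_range_of_apply_eq {E : Scheme.{u}} [IsLocallyNoetherian X] (ι : E ⟶ X') [IsClosedImmersion ι]
    (hE : Models.IsExcCurve ι) (hrange : Set.range ((ι ≫ b).base : E → X) = {y})
    (hreg : IsRegularLocalRing (X.presheaf.stalk y)) (hdim : ringKrullDim (X.presheaf.stalk y) = 2)
    (hb : BlowUp.IsBlowUp b (Scheme.IdealSheafData.vanishingIdeal ⟨{y}, hy⟩)) {x : X'} (hx : b x = y) :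
    x ∈ Set.range ι.base := by
  obtain ⟨U₀, hU₀, hyU₀, -⟩ := exists_isAffineOpen_mem_and_subset (x := y) (U := ⊤) trivial
  obtain ⟨F, -, -⟩ := exists_pointFrame hy hreg hdim hU₀ hyU₀
  let C := Scheme.IdealSheafData.vanishingIdeal ⟨{y}, hy⟩
  have hsupp : (C.support : Set X) = {y} := Scheme.IdealSheafData.coe_support_vanishingIdeal _
  obtain ⟨⟨-, k, hk, e, -⟩, hr⟩ := isExcCurve_exceptional F hb (F.ideal_vanishingIdeal hy) hsupp
  obtain ⟨-, k', hk', e', -⟩ := hE
  let J := BlowUp.exceptional b C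
  have hJ : Set.range J.subschemeι = b ⁻¹' {y} := by
    rw [J.range_subschemeι]
    show ((C.comap b).support : Set X') = _
    rw [Scheme.IdealSheafData.support_comap]
    show b ⁻¹' (C.support : Set X) = _
    rw [hsupp]
  have hdE : ∀ {Z : Scheme.{u}} (K : Type u) [Field K] (ε : CohB1.ProjSpace 1 K ≅ Z),
      topologicalKrullDim Z = 1 := fun K _ ε => by
    rw [← (IsHomeomorph.topologicalKrullDim_eq _ (Scheme.homeoOfIso ε).isHomeomorph)]
    exact_mod_cast S10829.result K 1
  haveI : IrreducibleSpace J.subscheme := by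
    haveI : IsIntegral (CohB1.ProjSpace 1 k) := H23.PnChart.isIntegral_projSpace 1 k
    have h := (IrreducibleSpace.isIrreducible_univ (CohB1.ProjSpace 1 k)).image _
      (Scheme.homeoOfIso e).continuous.continuousOn
    rw [Set.image_univ, (Scheme.homeoOfIso e).surjective.range_eq] at h
    exact irreducibleSpace_def _ |>.2 h
  have hle : ∀ z, ι z ∈ Set.range J.subschemeι := fun z => by
    rw [hJ]
    exact hrange.le ⟨z, rfl⟩
  let i : E → J.subscheme := fun z => (hle z).choose
  have hi : ∀ z, J.subschemeι (i z) = ι z := fun z => (hle z).choose_spec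
  have hcomp : J.subschemeι ∘ i = ι := funext hi
  have hie : Topology.IsClosedEmbedding i :=
    J.subschemeι.isClosedEmbedding.of_comp_iff.1 (hcomp ▸ ι.isClosedEmbedding)
  obtain ⟨w, hw⟩ : x ∈ Set.range J.subschemeι := by rw [hJ]; exact hx
  obtain ⟨z, rfl⟩ := surjective_of_dim_one (hdE k' e') (hdE k e) i hie w
  exact ⟨z, (hi z).symm.trans hw⟩

/-- The universal property of a contraction. -/
theorem existsUnique_factor {E Y : Scheme.{u}} (ι : E ⟶ X') [IsClosedImmersion ι]
    (hE : Models.IsExcCurve ι) (hb : Models.IsContractionOf ι b) (φ : X' ⟶ Y) (v : Y)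
    (hφ : Set.range ((ι ≫ φ).base : E → Y) = {v}) : ∃! ψ : X ⟶ Y, b ≫ ψ = φ := by
  obtain ⟨hX, -, p, hp, hrange, hreg, hdim, hbl⟩ := hb
  haveI := hX
  have h0 := bijective_app b hp hreg hdim hbl
  have hsurj := H23.Rigid.surjective_of_bijective_app b h0 b.isClosedMap
  obtain ⟨r, hr⟩ := H23.Rigid.exists_factor b h0 b.isClosedMap φ fun s => by
    by_cases hs : s = p
    · subst hs
      refine ⟨v, fun x hx => ?_⟩
      obtain ⟨z, rfl⟩ := mem_range_of_apply_eq b hp ι hE hrange hreg hdim hbl hx
      exact hφ.le ⟨z, rfl⟩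
    · obtain ⟨x, hx⟩ := hsurj s
      let O : X.Opens := ⟨{p}ᶜ, hp.isOpen_compl⟩
      haveI : IsIso (b ∣_ O) := by
        have h : (Scheme.IdealSheafData.vanishingIdeal ⟨{p}, hp⟩).support.compl = O :=
          Opens.ext (congrArg compl (Scheme.IdealSheafData.coe_support_vanishingIdeal _))
        exact h ▸ BlowUpX.isIso_restrict hbl
      refine ⟨φ x, fun x' hx' => congrArg φ ?_⟩
      have hinj : Function.Injective (b ∣_ O) := (b ∣_ O).homeomorph.injective
      exact congrArg Subtype.val (@hinj ⟨x', show b x' ∈ O from hx'.symm ▸ hs⟩ ⟨x, show b x ∈ O from hx.symm ▸ hs⟩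
        (Subtype.ext (by rw [morphismRestrict_base_coe, morphismRestrict_base_coe, hx, hx'])))
  exact ⟨r, hr, fun r' hr' => H23.Rigid.cancel_left b h0 hsurj r' r (hr'.trans hr.symm)⟩

end Groth.Agent.ResSurf.ContractFactor
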