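import Groth.Agent.ResSurf.CplStalk
import Groth.Agent.FlatLoc6.Rk
import Groth.Agent.RegLoc6.Descent
import Groth.Agent.RegLoc6.Open
import Groth.Agent.FComplLib.AdicUnit
import Mathlib.RingTheory.AdicCompletion.AsTensorProduct
import Mathlib.AlgebraicGeometry.Morphisms.Flat

/-!
# Regularity and base change to the completion
-/

universe u

open CategoryTheory CategoryTheory.Limits AlgebraicGeometry IsLocalRing

set_option backward.isDefEq.respectTransparency false
set_option linter.style.haveILetI false

namespace Groth.Agent.ResSurf.CplRegular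

/-- Regularity passes to generisations. -/
theorem isRegularLocalRing_of_specializes {X : Scheme.{u}} [IsLocallyNoetherian X] {a c : X}
    (h : a ⤳ c) [IsRegularLocalRing (X.presheaf.stalk c)] :
    IsRegularLocalRing (X.presheaf.stalk a) := by
  obtain ⟨U, hU, hc, -⟩ := exists_isAffineOpen_mem_and_subset (x := c) (U := (⊤ : X.Opens)) trivial
  have ha : a ∈ U := h.mem_open U.2 hc
  have : IsNoetherianRing Γ(X, U) := IsLocallyNoetherian.component_noetherian ⟨U, hU⟩
  letI := X.presheaf.algebra_section_stalk ⟨c, hc⟩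
  letI := X.presheaf.algebra_section_stalk ⟨a, ha⟩
  have := hU.isLocalization_stalk ⟨c, hc⟩
  have := hU.isLocalization_stalk ⟨a, ha⟩
  have hspec : hU.primeIdealOf ⟨a, ha⟩ ⤳ hU.primeIdealOf ⟨c, hc⟩ := by
    refine hU.fromSpec.isOpenEmbedding.isInducing.specializes_iff.mp ?_
    rw [hU.fromSpec_primeIdealOf, hU.fromSpec_primeIdealOf]
    exact h
  have hle : (hU.primeIdealOf ⟨a, ha⟩).asIdeal ≤ (hU.primeIdealOf ⟨c, hc⟩).asIdeal :=
    (PrimeSpectrum.le_iff_specializes _ _).mpr hspec
  have h1 := RegLoc6.regular_of_le hle (IsRegularLocalRing.of_ringEquiv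
    (IsLocalization.algEquiv (hU.primeIdealOf ⟨c, hc⟩).asIdeal.primeCompl
      (X.presheaf.stalk c) (Localization.AtPrime _)).toRingEquiv)
  exact IsRegularLocalRing.of_ringEquiv
    (IsLocalization.algEquiv (hU.primeIdealOf ⟨a, ha⟩).asIdeal.primeCompl
      (X.presheaf.stalk a)
      (Localization.AtPrime (hU.primeIdealOf ⟨a, ha⟩).asIdeal)).toRingEquiv.symm


/-- A flat local map bijective modulo the squares of the maximal ideals preserves and reflects regularity. -/
theorem isRegularLocalRing_iff_of_truncation {R S : Type u} [CommRing R] [CommRing S] [IsLocalRing R] [IsLocalRing S]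
    [IsNoetherianRing R] [IsNoetherianRing S] [Algebra R S] [IsLocalHom (algebraMap R S)] [Module.Flat R S]
    (h : maximalIdeal R ^ 2 ≤ (maximalIdeal S ^ 2).comap (algebraMap R S))
    (hb : Function.Surjective (Ideal.quotientMap (maximalIdeal S ^ 2) (algebraMap R S) h)) :
    IsRegularLocalRing S ↔ IsRegularLocalRing R := by
  refine ⟨fun _ => RegLoc6.isRegularLocalRing_of_flat (B := S), fun _ => FlatLoc6.isRegularLocalRing_of_flat_fibre (A := R) (B := S) ?_⟩
  have hle : maximalIdeal S ≤ (maximalIdeal R).map (algebraMap R S) ⊔ maximalIdeal S * maximalIdeal S := by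
    intro x hx
    obtain ⟨r, hr⟩ := hb (Ideal.Quotient.mk _ x)
    obtain ⟨r, rfl⟩ := Ideal.Quotient.mk_surjective r
    rw [Ideal.quotientMap_mk, Ideal.Quotient.mk_eq_mk_iff_sub_mem, sq] at hr
    have hrm : r ∈ maximalIdeal R := by
      intro hu
      have h1 : algebraMap R S r ∈ maximalIdeal S := by
        simpa using add_mem (Ideal.mul_le_right hr) hx
      exact h1 (hu.map _)
    have : x = algebraMap R S r - (algebraMap R S r - x) := by ring
    rw [this]
    exact sub_mem (Ideal.mem_sup_left (Ideal.mem_map_of_mem _ hrm)) (Ideal.mem_sup_right hr)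
  have hm : (maximalIdeal R).map (algebraMap R S) = maximalIdeal S :=
    le_antisymm (map_maximalIdeal_le (algebraMap R S))
      (Submodule.le_of_le_smul_of_le_jacobson_bot (maximalIdeal S).fg_of_isNoetherianRing
        (maximalIdeal_le_jacobson _) hle)
  haveI : ((maximalIdeal R).map (algebraMap R S)).IsMaximal := hm ▸ maximalIdeal.isMaximal S
  letI := Ideal.Quotient.field ((maximalIdeal R).map (algebraMap R S))
  infer_instance

section

variable (A : Type u) [CommRing A] [IsLocalRing A] [IsNoetherianRing A] {X : Scheme.{u}}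
  (f : X ⟶ Spec (CommRingCat.of A))

instance isLocallyNoetherian_bcCpl [LocallyOfFiniteType f] : IsLocallyNoetherian (Curv2.bcCpl A f) :=
  haveI : IsNoetherianRing (Curv2.cpl A) := FComplLib.isNoetherianRing_adicCompletion (maximalIdeal A)
  haveI : IsNoetherianRing (CommRingCat.of (Curv2.cpl A)) := ‹_›
  LocallyOfFiniteType.isLocallyNoetherian (Curv2.bcCplSnd A f)

instance flat_bcCplFst : Flat (Curv2.bcCplFst A f) := by
  haveI : Flat (Spec.map (CommRingCat.ofHom (algebraMap A (Curv2.cpl A)))) :=
    (HasRingHomProperty.Spec_iff (P := @Flat)).2 (RingHom.flat_algebraMap_iff.2 inferInstance)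
  exact MorphismProperty.pullback_fst _ _ inferInstance

instance isLocalHom_algebraMap_cpl : IsLocalHom (algebraMap A (Curv2.cpl A)) :=
    ((local_hom_TFAE (algebraMap A (Curv2.cpl A))).out 2 0).1 (by
      rw [Ideal.map_le_iff_le_comap]
      intro a ha
      refine Ideal.mem_comap.2 fun hu => ha ?_
      have h1 := hu.map (AdicCompletion.evalₐ (maximalIdeal A) 1)
      rw [AlgHom.commutes, Ideal.Quotient.algebraMap_eq] at h1
      rw [Ideal.Quotient.eq_zero_iff_mem.2 (by rw [pow_one]; exact ha)] at h1
      haveI : Nontrivial (A ⧸ maximalIdeal A ^ 1) := Ideal.Quotient.nontrivial_iff.2 (by rw [pow_one]; exact Ideal.IsPrime.ne_top')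
      exact (not_isUnit_zero h1).elim)

theorem snd_closedPoint {y : Curv2.bcCpl A f} (hy : (Curv2.bcCplSnd A f) y = closedPoint (Curv2.cpl A)) :
    f ((Curv2.bcCplFst A f) y) = closedPoint A := by
  rw [← Scheme.Hom.comp_apply, pullback.condition, Scheme.Hom.comp_apply, hy]
  exact IsLocalRing.comap_closedPoint (algebraMap A (Curv2.cpl A))

theorem isRegularLocalRing_stalk_iff [LocallyOfFiniteType f] (y : Curv2.bcCpl A f)
    (hy : (Curv2.bcCplSnd A f) y = closedPoint (Curv2.cpl A)) :
    IsRegularLocalRing ((Curv2.bcCpl A f).presheaf.stalk y) ↔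
      IsRegularLocalRing (X.presheaf.stalk ((Curv2.bcCplFst A f) y)) := by
  haveI : IsLocallyNoetherian X := LocallyOfFiniteType.isLocallyNoetherian f
  let φ := ((Curv2.bcCplFst A f).stalkMap y).hom
  letI : Algebra (X.presheaf.stalk ((Curv2.bcCplFst A f) y)) ((Curv2.bcCpl A f).presheaf.stalk y) := φ.toAlgebra
  haveI : IsLocalHom φ := inferInstance
  haveI : IsLocalHom (algebraMap (X.presheaf.stalk ((Curv2.bcCplFst A f) y)) ((Curv2.bcCpl A f).presheaf.stalk y)) :=
    ‹IsLocalHom φ›
  haveI : Module.Flat (X.presheaf.stalk ((Curv2.bcCplFst A f) y)) ((Curv2.bcCpl A f).presheaf.stalk y) :=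
    Flat.stalkMap (Curv2.bcCplFst A f) y
  have h : maximalIdeal (X.presheaf.stalk ((Curv2.bcCplFst A f) y)) ^ 2 ≤
      (maximalIdeal ((Curv2.bcCpl A f).presheaf.stalk y) ^ 2).comap φ := fun x hx =>
    Ideal.pow_right_mono (map_maximalIdeal_le φ) 2 (Ideal.map_pow (f := φ) _ 2 ▸ Ideal.mem_map_of_mem φ hx)
  exact isRegularLocalRing_iff_of_truncation h
    (CplStalk.bijective_quotientMap A (maximalIdeal A).fg_of_isNoetherianRing X f y
      (snd_closedPoint A f hy) 2 one_le_two h).2

/-- Properness: regularity everywhere can be tested on the closed fibre. -/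
theorem isRegular_of_closedFibre {B : Type u} [CommRing B] [IsLocalRing B] [IsNoetherianRing B] {Z : Scheme.{u}}
    (g : Z ⟶ Spec (CommRingCat.of B)) [IsProper g]
    (h : ∀ z : Z, g z = closedPoint B → IsRegularLocalRing (Z.presheaf.stalk z)) (z : Z) :
    IsRegularLocalRing (Z.presheaf.stalk z) := by
  haveI : IsLocallyNoetherian Z := LocallyOfFiniteType.isLocallyNoetherian g
  haveI : CompactSpace Z := QuasiCompact.compactSpace_of_compactSpace g
  obtain ⟨c, hc, hcc⟩ := (isClosed_closure (s := {z})).exists_closed_singleton ⟨z, subset_closure rfl⟩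
  have hg : IsClosed ({g c} : Set (Spec (CommRingCat.of B))) := by
    simpa using g.isClosedMap _ hcc
  haveI := h c ?_
  · exact isRegularLocalRing_of_specializes (specializes_iff_mem_closure.2 hc)
  · refine PrimeSpectrum.ext ?_
    exact IsLocalRing.eq_maximalIdeal ((PrimeSpectrum.isClosed_singleton_iff_isMaximal _).1 hg)

theorem regular_iff_bcCpl [IsProper f] :
    (∀ x : X, IsRegularLocalRing (X.presheaf.stalk x)) ↔
      ∀ y : Curv2.bcCpl A f, IsRegularLocalRing ((Curv2.bcCpl A f).presheaf.stalk y) := by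
  haveI : IsNoetherianRing (Curv2.cpl A) := FComplLib.isNoetherianRing_adicCompletion (maximalIdeal A)
  refine ⟨fun h y => isRegular_of_closedFibre (Curv2.bcCplSnd A f)
    (fun z hz => (isRegularLocalRing_stalk_iff A f z hz).2 (h _)) y,
    fun h x => isRegular_of_closedFibre f (fun z hz => ?_) x⟩
  obtain ⟨y, hy1, hy2⟩ := Scheme.Pullback.exists_preimage_pullback z (closedPoint (Curv2.cpl A))
    (f := f) (g := Spec.map (CommRingCat.ofHom (algebraMap A (Curv2.cpl A)))) (by
      rw [hz]
      exact (IsLocalRing.comap_closedPoint (algebraMap A (Curv2.cpl A))).symm)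
  exact hy1 ▸ (isRegularLocalRing_stalk_iff A f y hy2).1 (h y)

end

end Groth.Agent.ResSurf.CplRegular
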