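import Mathlib.AlgebraicGeometry.Stalk
import Mathlib.RingTheory.AdicCompletion.Completeness
import Mathlib.RingTheory.AdicCompletion.Algebra
import Groth.Prelude.Def_Curv2

/-!
# Infinitesimal neighbourhoods of the closed fibre do not see the completion
-/

universe u

open CategoryTheory CategoryTheory.Limits AlgebraicGeometry IsLocalRing

set_option backward.isDefEq.respectTransparency false
set_option linter.style.haveILetI false

namespace Groth.Agent.ResSurf.CplStalk

variable {A : Type u} [CommRing A] [IsLocalRing A]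

/-- Extend a map killing a power of the maximal ideal to the completion. -/
theorem exists_extend {C : Type u} [CommRing C] (g : A →+* C) (n : ℕ)
    (hg : maximalIdeal A ^ n ≤ RingHom.ker g) :
    ∃ h : Curv2.cpl A →+* C, h.comp (algebraMap A (Curv2.cpl A)) = g := by
  refine ⟨(Ideal.Quotient.lift _ g fun a ha => hg ha).comp
    (AdicCompletion.evalₐ (maximalIdeal A) n).toRingHom, RingHom.ext fun a => ?_⟩
  simp only [RingHom.comp_apply, AlgHom.toRingHom_eq_coe, RingHom.coe_coe, AlgHom.commutes]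
  exact Ideal.Quotient.lift_mk _ _ _

/-- Maps out of the completion killing a power of the maximal ideal are determined on the ring. -/
theorem ext_of_pow {C : Type u} [CommRing C] (hm : (maximalIdeal A).FG) (g h : Curv2.cpl A →+* C) (n : ℕ)
    (hg : maximalIdeal A ^ n ≤ RingHom.ker (g.comp (algebraMap A (Curv2.cpl A))))
    (hc : g.comp (algebraMap A (Curv2.cpl A)) = h.comp (algebraMap A (Curv2.cpl A))) : g = h := by
  refine RingHom.ext fun x => ?_
  obtain ⟨a, ha⟩ := Submodule.Quotient.mk_surjective _ (AdicCompletion.eval (maximalIdeal A) A n x)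
  have hx : x - algebraMap A (Curv2.cpl A) a ∈
      (maximalIdeal A ^ n • ⊤ : Submodule A (Curv2.cpl A)) := by
    rw [AdicCompletion.pow_smul_top_eq_ker_eval hm, LinearMap.mem_ker, map_sub, sub_eq_zero, ← ha,
      AdicCompletion.algebraMap_apply]
    rfl
  have key : ∀ k : Curv2.cpl A →+* C, maximalIdeal A ^ n ≤ RingHom.ker (k.comp (algebraMap A _)) →
      k (x - algebraMap A _ a) = 0 := fun k hk => by
    refine Submodule.smul_induction_on hx (fun r hr y _ => ?_) fun y z hy hz => by rw [map_add, hy, hz, add_zero]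
    rw [Algebra.smul_def, map_mul, show k (algebraMap A _ r) = 0 from hk hr, zero_mul]
  have h1 := key g hg
  have h2 := key h (hc ▸ hg)
  rw [map_sub, sub_eq_zero] at h1 h2
  rw [h1, h2]
  exact RingHom.congr_fun hc a

/-- Morphisms from local schemes are a point and a local map. -/
theorem exists_local {Y : Scheme.{u}} {C : CommRingCat.{u}} [IsLocalRing C] (l : Spec C ⟶ Y) {q : Y}
    (hq : l (closedPoint C) = q) :
    ∃ ψ : Y.presheaf.stalk q ⟶ C, IsLocalHom ψ.hom ∧ Spec.map ψ ≫ Y.fromSpecStalk q = l := by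
  subst hq
  exact ⟨Scheme.stalkClosedPointTo l, inferInstance, Scheme.Spec_stalkClosedPointTo_fromSpecStalk l⟩

theorem eq_of_fromSpecStalk {Y : Scheme.{u}} {C : CommRingCat.{u}} {q : Y} {a b : Y.presheaf.stalk q ⟶ C}
    (h : Spec.map a ≫ Y.fromSpecStalk q = Spec.map b ≫ Y.fromSpecStalk q) : a = b :=
  Spec.map_injective ((cancel_mono (Y.fromSpecStalk q)).1 h)

/-- `A → O_{X,p}`, local when `p` is on the closed fibre. -/
theorem exists_local_base {X : Scheme.{u}} (f : X ⟶ Spec (CommRingCat.of A)) {p : X}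
    (hp : f p = closedPoint A) :
    ∃ α : CommRingCat.of A ⟶ X.presheaf.stalk p,
      X.fromSpecStalk p ≫ f = Spec.map α ∧ IsLocalHom α.hom := by
  refine ⟨Spec.preimage (X.fromSpecStalk p ≫ f), (Spec.map_preimage _).symm, ?_⟩
  refine ((IsLocalRing.local_hom_TFAE (Spec.preimage (X.fromSpecStalk p ≫ f)).hom).out 0 4).2 ?_
  have h : Spec.map (Spec.preimage (X.fromSpecStalk p ≫ f)) (closedPoint (X.presheaf.stalk p)) = closedPoint A := by
    rw [Spec.map_preimage, Scheme.Hom.comp_apply, Scheme.fromSpecStalk_closedPoint, hp]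
  exact congrArg PrimeSpectrum.asIdeal h

theorem pow_le_ker {B C : Type u} [CommRing B] [CommRing C] [IsLocalRing B] (g : A →+* B) [IsLocalHom g]
    (k : B →+* C) (n : ℕ) (hk : maximalIdeal B ^ n ≤ RingHom.ker k) :
    maximalIdeal A ^ n ≤ RingHom.ker (k.comp g) := by
  intro a ha
  refine hk ?_
  exact (Ideal.pow_right_mono (Ideal.map_le_iff_le_comap.2 (show maximalIdeal A ≤ (maximalIdeal B).comap g from fun x hx => map_nonunit g x hx)) n)
    (Ideal.map_pow (f := g) (maximalIdeal A) n ▸ Ideal.mem_map_of_mem g ha)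

variable (A) in
/-- The truncated local rings of `X` and of its base change to the completion agree on the closed fibre. -/
theorem bijective_quotientMap (hm : (maximalIdeal A).FG) (X : Scheme.{u}) (f : X ⟶ Spec (CommRingCat.of A))
    (q : ↥(Curv2.bcCpl A f)) (hq : f ((Curv2.bcCplFst A f) q) = closedPoint A) (n : ℕ) (hn : 1 ≤ n)
    (h : maximalIdeal (X.presheaf.stalk ((Curv2.bcCplFst A f) q)) ^ n ≤
      (maximalIdeal ((Curv2.bcCpl A f).presheaf.stalk q) ^ n).comap ((Curv2.bcCplFst A f).stalkMap q).hom) :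
    Function.Bijective (Ideal.quotientMap (maximalIdeal ((Curv2.bcCpl A f).presheaf.stalk q) ^ n)
      ((Curv2.bcCplFst A f).stalkMap q).hom h) := by
  let Y := Curv2.bcCpl A f
  let fst : Y ⟶ X := Curv2.bcCplFst A f
  let snd := Curv2.bcCplSnd A f
  let p : X := fst q
  let c : Spec (CommRingCat.of (Curv2.cpl A)) ⟶ Spec (CommRingCat.of A) :=
    Spec.map (CommRingCat.ofHom (algebraMap A (Curv2.cpl A)))
  have hcond : fst ≫ f = snd ≫ c := pullback.condition
  obtain ⟨α, hα, hαl⟩ := exists_local_base f (p := p) hq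
  let M := maximalIdeal (X.presheaf.stalk p)
  let N := maximalIdeal (Y.presheaf.stalk q)
  haveI hC : Nontrivial (X.presheaf.stalk p ⧸ M ^ n) := Ideal.Quotient.nontrivial_iff.2
    fun e => IsLocalRing.maximalIdeal.isMaximal (X.presheaf.stalk p) |>.ne_top
      (top_le_iff.1 (e ▸ Ideal.pow_le_self (by omega)))
  haveI hD : Nontrivial (Y.presheaf.stalk q ⧸ N ^ n) := Ideal.Quotient.nontrivial_iff.2
    fun e => IsLocalRing.maximalIdeal.isMaximal (Y.presheaf.stalk q) |>.ne_top
      (top_le_iff.1 (e ▸ Ideal.pow_le_self (by omega)))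
  let C : CommRingCat.{u} := CommRingCat.of (X.presheaf.stalk p ⧸ M ^ n)
  let D : CommRingCat.{u} := CommRingCat.of (Y.presheaf.stalk q ⧸ N ^ n)
  haveI : IsLocalRing C := IsLocalRing.of_surjective' _ Ideal.Quotient.mk_surjective
  haveI : IsLocalRing D := IsLocalRing.of_surjective' _ Ideal.Quotient.mk_surjective
  let π : X.presheaf.stalk p ⟶ C := CommRingCat.ofHom (Ideal.Quotient.mk (M ^ n))
  let ρ : Y.presheaf.stalk q ⟶ D := CommRingCat.ofHom (Ideal.Quotient.mk (N ^ n))
  let φ : C ⟶ D := CommRingCat.ofHom (Ideal.quotientMap (N ^ n) (fst.stalkMap q).hom h)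
  have hφ : π ≫ φ = fst.stalkMap q ≫ ρ := rfl
  haveI : IsLocalHom π.hom := IsLocalHom.of_surjective _ Ideal.Quotient.mk_surjective
  -- the lift
  obtain ⟨e, he⟩ := exists_extend ((π.hom).comp α.hom) n
    (pow_le_ker α.hom π.hom n (fun x hx => Ideal.Quotient.eq_zero_iff_mem.2 hx))
  let l : Spec C ⟶ Y := pullback.lift (Spec.map π ≫ X.fromSpecStalk p) (Spec.map (CommRingCat.ofHom e)) (by
    rw [Category.assoc, hα, ← Spec.map_comp, ← Spec.map_comp]
    congr 1
    exact CommRingCat.hom_ext he.symm)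
  have hl : l ≫ fst = Spec.map π ≫ X.fromSpecStalk p := pullback.lift_fst _ _ _
  -- two morphisms to `Y` agree as soon as they agree on `X`
  have huniq : ∀ {E : CommRingCat.{u}} (a b : Spec E ⟶ Y) (k : X.presheaf.stalk p ⟶ E),
      M ^ n ≤ RingHom.ker k.hom → a ≫ fst = Spec.map k ≫ X.fromSpecStalk p →
      b ≫ fst = Spec.map k ≫ X.fromSpecStalk p → a = b := by
    intro E a b k hk ha hb
    refine pullback.hom_ext (ha.trans hb.symm) ?_
    have h1 : (a ≫ snd) ≫ c = Spec.map (α ≫ k) := by
      rw [Category.assoc, ← hcond, ← Category.assoc, ha, Category.assoc, hα, Spec.map_comp]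
    have h2 : (b ≫ snd) ≫ c = Spec.map (α ≫ k) := by
      rw [Category.assoc, ← hcond, ← Category.assoc, hb, Category.assoc, hα, Spec.map_comp]
    rw [← Spec.map_preimage (a ≫ snd), ← Spec.map_comp] at h1
    rw [← Spec.map_preimage (b ≫ snd), ← Spec.map_comp] at h2
    show a ≫ snd = b ≫ snd
    rw [← Spec.map_preimage (a ≫ snd), ← Spec.map_preimage (b ≫ snd)]
    congr 1
    have e1 := congrArg CommRingCat.Hom.hom (Spec.map_injective h1)
    have e2 := congrArg CommRingCat.Hom.hom (Spec.map_injective h2)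
    refine CommRingCat.hom_ext (ext_of_pow hm _ _ n ?_ (e1.trans e2.symm))
    rw [show (Spec.preimage (a ≫ snd)).hom.comp (algebraMap A (Curv2.cpl A)) = k.hom.comp α.hom from e1]
    exact pow_le_ker α.hom k.hom n hk
  -- the closed point of the lift is `q`
  have hlq : l (closedPoint C) = q := by
    let r := Y.residue q
    obtain ⟨σ, hσ⟩ : ∃ σ : C ⟶ Y.residueField q, π ≫ σ = fst.stalkMap q ≫ r := by
      refine ⟨CommRingCat.ofHom (Ideal.Quotient.lift (M ^ n) (fst.stalkMap q ≫ r).hom fun x hx => ?_), rfl⟩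
      exact Ideal.Quotient.eq_zero_iff_mem.2 (Ideal.pow_le_self (by omega) (h hx))
    have h' := huniq (Spec.map r ≫ Y.fromSpecStalk q) (Spec.map σ ≫ l) (fst.stalkMap q ≫ r)
      (fun x hx => Ideal.Quotient.eq_zero_iff_mem.2 (Ideal.pow_le_self (by omega) (h hx)))
      (by rw [Category.assoc, ← Scheme.SpecMap_stalkMap_fromSpecStalk fst (x := q), ← Category.assoc,
        ← Spec.map_comp])
      (by rw [Category.assoc, hl, ← Category.assoc, ← Spec.map_comp, hσ])
    have hpt := congrArg (fun k : Spec (Y.residueField q) ⟶ Y => k (closedPoint _)) h'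
    haveI : IsLocalHom r.hom := IsLocalHom.of_surjective _ Ideal.Quotient.mk_surjective
    haveI : IsLocalHom σ.hom :=
      ⟨fun x hx => by
        obtain ⟨y, rfl⟩ := Ideal.Quotient.mk_surjective x
        have hy : IsUnit ((fst.stalkMap q ≫ r).hom y) := by rw [← hσ]; exact hx
        exact ((IsLocalHom.map_nonunit (f := (fst.stalkMap q).hom) y
          (IsLocalHom.map_nonunit (f := r.hom) _ hy))).map _⟩
    calc l (closedPoint C) = l (Spec.map σ (closedPoint (Y.residueField q))) :=
          congrArg l (IsLocalRing.comap_closedPoint σ.hom).symm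
      _ = Y.fromSpecStalk q (Spec.map r (closedPoint (Y.residueField q))) := hpt.symm
      _ = q := by
        rw [show Spec.map r (closedPoint (Y.residueField q)) = closedPoint (Y.presheaf.stalk q) from
          IsLocalRing.comap_closedPoint r.hom, Scheme.fromSpecStalk_closedPoint]
  obtain ⟨ψ, hψl, hψ⟩ := exists_local l hlq
  have hψN : N ^ n ≤ RingHom.ker ψ.hom := by
    intro x hx
    have h1 : ψ.hom x ∈ maximalIdeal C ^ n :=
      Ideal.pow_right_mono (Ideal.map_le_iff_le_comap.2 (show N ≤ (maximalIdeal C).comap ψ.hom from fun z hz => map_nonunit ψ.hom z hz)) n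
        (Ideal.map_pow (f := ψ.hom) N n ▸ Ideal.mem_map_of_mem ψ.hom hx)
    have h2 : maximalIdeal C ≤ M.map (Ideal.Quotient.mk (M ^ n)) := fun y hy => by
      obtain ⟨z, rfl⟩ := Ideal.Quotient.mk_surjective y
      exact Ideal.mem_map_of_mem _ fun hz => hy (hz.map _)
    have h3 := Ideal.pow_right_mono h2 n h1
    rw [← Ideal.map_pow, Ideal.map_quotient_self] at h3
    exact h3
  let ψ' : D ⟶ C := CommRingCat.ofHom (Ideal.Quotient.lift (N ^ n) ψ.hom hψN)
  have hψ' : ρ ≫ ψ' = ψ := rfl
  have h1 : φ ≫ ψ' = 𝟙 C := by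
    have : fst.stalkMap q ≫ ψ = π := eq_of_fromSpecStalk (Y := X) (q := p) (by
      rw [← hl, ← hψ, Category.assoc, ← Scheme.SpecMap_stalkMap_fromSpecStalk fst (x := q), Spec.map_comp,
        Category.assoc])
    refine CommRingCat.hom_ext (Ideal.Quotient.ringHom_ext ?_)
    exact congrArg CommRingCat.Hom.hom (show π ≫ φ ≫ ψ' = π by rw [← Category.assoc, hφ, Category.assoc, hψ', this])
  have h2 : ψ' ≫ φ = 𝟙 D := by
    have := huniq (Spec.map (ψ ≫ φ) ≫ Y.fromSpecStalk q) (Spec.map ρ ≫ Y.fromSpecStalk q) (π ≫ φ)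
      (fun x hx => by
        show φ.hom (π.hom x) = 0
        rw [show π.hom x = 0 from Ideal.Quotient.eq_zero_iff_mem.2 hx, map_zero])
      (by rw [Spec.map_comp, Category.assoc (f := Spec.map φ), hψ, Category.assoc, hl, Spec.map_comp, Category.assoc])
      (by rw [Category.assoc, ← Scheme.SpecMap_stalkMap_fromSpecStalk fst (x := q), hφ, Spec.map_comp,
        Category.assoc])
    refine CommRingCat.hom_ext (Ideal.Quotient.ringHom_ext ?_)
    exact congrArg CommRingCat.Hom.hom (eq_of_fromSpecStalk this)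
  exact (⟨φ, ψ', h1, h2⟩ : C ≅ D).commRingCatIsoToRingEquiv.bijective

end Groth.Agent.ResSurf.CplStalk
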