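import Groth.Agent.ResSurf.NormStep
import Groth.Agent.ResSurf.Dominance
import Mathlib.RingTheory.UniqueFactorizationDomain.Basic

/-!
# Sequences of normalized blowings up in closed points dominate proper birational morphisms
-/

universe u

open CategoryTheory CategoryTheory.Limits AlgebraicGeometry IsLocalRing TopologicalSpace Polynomial

set_option backward.isDefEq.respectTransparency false
set_option backward.isDefEq.respectTransparency.types false
set_option linter.style.haveILetI false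

namespace Groth.Agent.ResSurf

open Groth.Agent

variable {X : Scheme.{u}} [IsIntegral X] [QuasiCompact (X.fromSpecStalk (genericPoint X))]
  [QuasiSeparated (X.fromSpecStalk (genericPoint X))] {Y : Scheme.{u}} [IsIntegral Y] {f : Y ⟶ X}

/-- The centre of `ξ` in the model is not a closed point. -/
def IsGood (M : Model X) (f : Y ⟶ X) (ξ : Y) : Prop :=
  ∀ ρ : Spec (Y.presheaf.stalk ξ) ⟶ M.Z, ρ ≫ M.c = Y.fromSpecStalk ξ ≫ f →
    ¬ IsClosed ({ρ (closedPoint _)} : Set M.Z)

omit [IsIntegral Y] in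
theorem IsGood.of_hom {M M' : Model X} (g : M'.Z ⟶ M.Z) (hg : g ≫ M.r = M'.r) [IsProper g] {ξ : Y}
    (h : IsGood M f ξ) : IsGood M' f ξ := fun ρ hρ hcl => by
  refine h (ρ ≫ g) ?_ ?_
  · rw [Category.assoc, ← hρ]
    simp only [Model.c, ← Category.assoc, hg]
  · rw [Scheme.Hom.comp_apply]
    have h2 := g.isClosedMap _ hcl
    rwa [Set.image_singleton] at h2

/-- Normalized blowings up make the centre of a divisorial point non-closed. -/
theorem exists_isGood [IsNoetherian X] (hX : FinNorm X) (hf : IsBirat f) [LocallyOfFiniteType f] (ξ : Y)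
    [ValuationRing (Y.presheaf.stalk ξ)] (hx : IsClosed ({f ξ} : Set X)) (hξ : ¬ IsClosed ({ξ} : Set Y))
    (M : Model X) :
    ∃ (M' : Model X) (g : M'.Z ⟶ M.Z), g ≫ M.r = M'.r ∧ IsProper g ∧ IsGood M' f ξ := by
  haveI : IsLocallyNoetherian Y := LocallyOfFiniteType.isLocallyNoetherian f
  obtain ⟨y, hy, hne⟩ := exists_specializes_of_not_isClosed hξ
  obtain ⟨u, hu, htr⟩ := exists_transcendental f hy hne
    (eq_of_specializes_closed hx (hy.map f.continuous)).symm
  let R := Y.presheaf.stalk ξ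
  suffices key : ∀ r : R, r ≠ 0 → ∀ (N : Model X) (z : N.Z) (φ : N.Z.presheaf.stalk z ⟶ R),
      IsLocalHom φ.hom → Spec.map φ ≫ N.Z.fromSpecStalk z ≫ N.c = Y.fromSpecStalk ξ ≫ f →
      ∀ a b, φ.hom b = r → φ.hom a = u * r →
      ∃ (M' : Model X) (g : M'.Z ⟶ N.Z), g ≫ N.r = M'.r ∧ IsProper g ∧ IsGood M' f ξ by
    obtain ⟨ρ, hρ⟩ := exists_lift (c := M.c) hf M.birat ξ
    obtain ⟨φ, hφl, hφ⟩ := exists_factor_fromSpecStalk ρ (z := ρ (closedPoint R)) rfl
    obtain ⟨e, he⟩ := exists_functionField_iso hf M.birat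
    have hcomp : φ ≫ CommRingCat.ofHom (algebraMap R Y.functionField) =
        CommRingCat.ofHom (algebraMap (M.Z.presheaf.stalk (ρ (closedPoint R))) M.Z.functionField) ≫ e.hom := by
      refine fromSpecStalk_hom_ext ?_
      rw [Spec.map_comp, Category.assoc, hφ, SpecMap_comp_lift hf M.birat e he ρ hρ, Spec.map_comp, Category.assoc,
        SpecMap_algebraMap_fromSpecStalk]
    obtain ⟨a, b, hb, hab⟩ := IsFractionRing.div_surjective
      (A := M.Z.presheaf.stalk (ρ (closedPoint R))) (e.inv.hom (algebraMap R Y.functionField u))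
    have hb0 : (algebraMap (M.Z.presheaf.stalk (ρ (closedPoint R))) M.Z.functionField b) ≠ 0 :=
      IsFractionRing.to_map_ne_zero_of_mem_nonZeroDivisors hb
    have h1 : ∀ c, algebraMap R Y.functionField (φ.hom c) =
        e.hom.hom (algebraMap (M.Z.presheaf.stalk (ρ (closedPoint R))) M.Z.functionField c) := fun c =>
      RingHom.congr_fun (congrArg CommRingCat.Hom.hom hcomp) c
    have he2 : e.hom.hom (e.inv.hom (algebraMap R Y.functionField u)) = algebraMap R Y.functionField u :=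
      RingHom.congr_fun (congrArg CommRingCat.Hom.hom e.inv_hom_id) _
    refine key (φ.hom b) ?_ M _ φ hφl (by rw [reassoc_of% hφ, hρ]) a b rfl ?_
    · intro h0
      have := h1 b
      rw [h0, map_zero] at this
      exact hb0 ((map_eq_zero_iff _ (RingHom.injective e.hom.hom)).1 this.symm)
    · refine IsFractionRing.injective R Y.functionField ?_
      rw [map_mul, h1, h1, ← he2, ← map_mul, ← hab, div_mul_cancel₀ _ hb0]
  intro r
  induction r using WellFounded.induction (wellFounded_dvdNotUnit (α := R)) with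
  | _ r ih =>
  intro hr N z φ hφ hρ a b hb ha
  by_cases hz : IsClosed ({z} : Set N.Z)
  swap
  · refine ⟨N, 𝟙 _, Category.id_comp _, inferInstance, fun ρ' hρ' => ?_⟩
    rw [lift_unique hf N.birat ρ' (Spec.map φ ≫ N.Z.fromSpecStalk z) hρ' (by rw [Category.assoc, hρ])]
    rw [Scheme.Hom.comp_apply, Spec_closedPoint, N.Z.fromSpecStalk_closedPoint]
    exact hz
  have hcz : N.c z = f ξ := by
    have h1 := congrArg (fun k : Spec R ⟶ X => k (closedPoint R)) hρ
    simp only [Scheme.Hom.comp_apply] at h1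
    rw [Spec_closedPoint, N.Z.fromSpecStalk_closedPoint, Y.fromSpecStalk_closedPoint] at h1
    exact h1
  have hbm : ¬ IsUnit b := by
    rintro hbu
    obtain ⟨v, rfl⟩ := hbu
    let e := a * ((v⁻¹ : (N.Z.presheaf.stalk z)ˣ) : N.Z.presheaf.stalk z)
    have he : φ.hom e = u := by
      simp only [e, map_mul, ha, ← hb]
      rw [mul_assoc, ← map_mul, Units.mul_inv, map_one, mul_one]
    obtain ⟨P, hP, hPe⟩ := exists_monic_eval_mem N.c hz e
    let cg := X.presheaf.stalkCongr (Inseparable.of_eq hcz)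
    have hcg : N.c.stalkMap z ≫ φ = cg.hom ≫ f.stalkMap ξ := by
      refine fromSpecStalk_hom_ext ?_
      rw [Spec.map_comp, Category.assoc, Scheme.SpecMap_stalkMap_fromSpecStalk, hρ, Spec.map_comp,
        Category.assoc]
      have hcongr : ∀ {x x' : X} (h : x = x'),
          Spec.map (X.presheaf.stalkCongr (Inseparable.of_eq h)).hom ≫ X.fromSpecStalk x = X.fromSpecStalk x' := by
        intro x x' h; subst h; simp
      rw [hcongr hcz, Scheme.SpecMap_stalkMap_fromSpecStalk]
    refine htr (P.map cg.hom.hom) (hP.map _) ?_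
    rw [Polynomial.eval₂_map, ← he,
      show (f.stalkMap ξ).hom.comp cg.hom.hom = φ.hom.comp (N.c.stalkMap z).hom from
        (congrArg CommRingCat.Hom.hom hcg).symm, ← Polynomial.hom_eval₂]
    exact (mem_maximalIdeal _).2 fun h => (mem_maximalIdeal _).1 hPe (isUnit_of_map_unit φ.hom _ h)
  have ham : ¬ IsUnit a := fun h => by
    have h2 := IsUnit.map φ.hom h
    rw [ha] at h2
    exact hbm (isUnit_of_map_unit φ.hom _ (hb ▸ isUnit_of_mul_isUnit_right h2))
  have hzgen : z ≠ genericPoint N.Z := by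
    rintro rfl
    have hb0 : b ≠ 0 := fun h => hr (by rw [← hb, h, map_zero])
    exact hbm (isUnit_iff_ne_zero.2 (hb0 : (b : N.Z.functionField) ≠ 0))
  obtain ⟨N', g, hg, hgp, hstep⟩ := N.exists_step hX hz hzgen
  haveI := hgp
  obtain ⟨ρ', hρ'⟩ := exists_lift (c := N'.c) hf N'.birat ξ
  have hρg : ρ' ≫ g = Spec.map φ ≫ N.Z.fromSpecStalk z := by
    refine lift_unique hf N.birat _ _ ?_ (by rw [Category.assoc, hρ])
    rw [Category.assoc, ← hρ']
    simp only [Model.c, ← Category.assoc, hg]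
  obtain ⟨φ', hφ'l, hφ'⟩ := exists_factor_fromSpecStalk ρ' (z := ρ' (closedPoint R)) rfl
  have hgz : g (ρ' (closedPoint R)) = z := by
    rw [← Scheme.Hom.comp_apply, hρg, Scheme.Hom.comp_apply, Spec_closedPoint, N.Z.fromSpecStalk_closedPoint]
  obtain ⟨t, ht, hdvd⟩ := hstep _ hgz
  subst hgz
  have hφeq : φ = g.stalkMap (ρ' (closedPoint R)) ≫ φ' := by
    refine fromSpecStalk_hom_ext ?_
    rw [Spec.map_comp, Category.assoc, Scheme.SpecMap_stalkMap_fromSpecStalk, reassoc_of% hφ', hρg]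
  obtain ⟨a', ha'⟩ := hdvd a ((mem_maximalIdeal _).2 ham)
  obtain ⟨b', hb'⟩ := hdvd b ((mem_maximalIdeal _).2 hbm)
  have hb2 : φ'.hom t * φ'.hom b' = r := by
    rw [← map_mul, ← hb', ← hb, hφeq]; rfl
  have ha2 : φ'.hom t * φ'.hom a' = u * r := by
    rw [← map_mul, ← ha', ← ha, hφeq]; rfl
  have hb'0 : φ'.hom b' ≠ 0 := fun h => hr (by rw [← hb2, h, mul_zero])
  have ht0 : φ'.hom t ≠ 0 := fun h => hr (by rw [← hb2, h, zero_mul])
  have hlt : DvdNotUnit (φ'.hom b') r :=
    ⟨hb'0, φ'.hom t, fun h => ht (isUnit_of_map_unit φ'.hom _ h), by rw [mul_comm, hb2]⟩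
  obtain ⟨M', g', hg', hg'p, hgood⟩ := ih (φ'.hom b') hlt hb'0 N' _ φ' hφ'l (by rw [reassoc_of% hφ', hρ'])
    a' b' rfl (mul_left_cancel₀ ht0 (by rw [ha2, ← hb2, mul_left_comm]))
  haveI := hg'p
  exact ⟨M', g' ≫ g, by rw [Category.assoc, hg, hg'], inferInstance, hgood⟩

/-- Some model makes the centres of finitely many divisorial points non-closed. -/
theorem exists_forall_isGood [IsNoetherian X] (hX : FinNorm X) (hf : IsBirat f) [LocallyOfFiniteType f]
    (S : Set Y) (hS : S.Finite) (hv : ∀ ξ ∈ S, ValuationRing (Y.presheaf.stalk ξ))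
    (hx : ∀ ξ ∈ S, IsClosed ({f ξ} : Set X)) (hξ : ∀ ξ ∈ S, ¬ IsClosed ({ξ} : Set Y)) :
    ∃ M : Model X, ∀ ξ ∈ S, IsGood M f ξ := by
  induction S, hS using Set.Finite.induction_on with
  | empty => exact ⟨(Model.nonempty hX).some, fun _ h => h.elim⟩
  | @insert a S' _ _ ih =>
    obtain ⟨M, hM⟩ := ih (fun ξ h => hv ξ (Set.mem_insert_of_mem _ h))
      (fun ξ h => hx ξ (Set.mem_insert_of_mem _ h)) fun ξ h => hξ ξ (Set.mem_insert_of_mem _ h)
    haveI := hv a (Set.mem_insert _ _)
    obtain ⟨M', g, hg, hgp, hgood⟩ := exists_isGood hX hf a (hx a (Set.mem_insert _ _)) (hξ a (Set.mem_insert _ _)) M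
    haveI := hgp
    refine ⟨M', fun ξ hξ' => ?_⟩
    rcases hξ' with rfl | hξ'
    · exact hgood
    · exact (hM ξ hξ').of_hom g hg

/-- **Normalized blowings up dominate proper birational morphisms from normal schemes.** -/
theorem exists_model_dominating [IsNoetherian X] (hX : FinNorm X) (hd : topologicalKrullDim X ≤ 2)
    [IsProper f] (hYn : Pi1.IsNormalScheme Y) (U : X.Opens) (hU : (U : Set X).Nonempty) [IsIso (f ∣_ U)] :
    ∃ (M : Model X) (h : M.Z ⟶ Y), h ≫ f = M.c := by
  have hf : IsBirat f := isBirat_of_isIso_restrict f U hU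
  haveI : IsLocallyNoetherian Y := LocallyOfFiniteType.isLocallyNoetherian f
  haveI : CompactSpace Y := QuasiCompact.compactSpace_of_compactSpace f
  haveI : IsNoetherian Y := ⟨⟩
  obtain ⟨M, hM⟩ := exists_forall_isGood (f := f) hX hf _ (finite_nonclosed f hf hd U hU)
    (fun ξ h => valuationRing_of_not_isClosed f hf hYn hd h.1) (fun ξ h => h.2) fun ξ h => h.1
  exact ⟨M, exists_hom_of_centres hd M.birat M.normal hf hYn fun ξ h1 h2 => hM ξ ⟨h1, h2⟩⟩

end Groth.Agent.ResSurf
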