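import Groth.Agent.ResSurf.Birat
import Groth.Agent.ResSurf.BlowInt
import Groth.Agent.BlowUpLib.Glue
import Groth.Agent.ModPairLib.Basic
import Groth.Agent.NormCurve.Normal
import Groth.Agent.NormCurve.Delta
import Groth.Prelude.Def_ResolveSeq

/-!
# Models obtained from the normalization by normalized blowings up in closed points
-/

universe u

open CategoryTheory CategoryTheory.Limits AlgebraicGeometry IsLocalRing TopologicalSpace

set_option backward.isDefEq.respectTransparency false
set_option backward.isDefEq.respectTransparency.types false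
set_option linter.style.haveILetI false

namespace Groth.Agent.ResSurf

open Groth.Agent

/-- The normalization of every proper birational model is finite. -/
def FinNorm (X : Scheme.{u}) [IsIntegral X] : Prop :=
  ∀ (Z : Scheme.{u}) [IsIntegral Z] [QuasiCompact (Z.fromSpecStalk (genericPoint Z))]
    [QuasiSeparated (Z.fromSpecStalk (genericPoint Z))] (c : Z ⟶ X) [IsProper c],
    IsBirat c → IsFinite (Curv2.normalizationι Z)

instance isIntegral_normalization (Z : Scheme.{u}) [IsIntegral Z]
    [QuasiCompact (Z.fromSpecStalk (genericPoint Z))] [QuasiSeparated (Z.fromSpecStalk (genericPoint Z))] :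
    IsIntegral (Curv2.normalization Z) :=
  haveI : IsDomain (Z.presheaf.stalk (genericPoint Z)) := inferInstanceAs (IsDomain Z.functionField)
  inferInstanceAs (IsIntegral (Z.fromSpecStalk (genericPoint Z)).normalization)

theorem isBirat_normalizationι (Z : Scheme.{u}) [IsIntegral Z]
    [QuasiCompact (Z.fromSpecStalk (genericPoint Z))] [QuasiSeparated (Z.fromSpecStalk (genericPoint Z))] :
    IsBirat (Curv2.normalizationι Z) := by
  refine isBirat_of_lift (Z.fromSpecStalk (genericPoint Z)).toNormalization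
    (Z.fromSpecStalk (genericPoint Z)).toNormalization_fromNormalization ?_
  let t := (Z.fromSpecStalk (genericPoint Z)).toNormalization
  have h : IsGenericPoint (t (closedPoint Z.functionField)) ⊤ := by
    show closure _ = Set.univ
    rw [← t.denseRange.closure_eq]
    congr 1
    refine Set.eq_of_subset_of_subset (Set.singleton_subset_iff.2 ⟨_, rfl⟩) ?_
    rintro _ ⟨p, rfl⟩
    haveI : Subsingleton (Spec Z.functionField) := inferInstanceAs (Subsingleton (PrimeSpectrum Z.functionField))
    rw [Subsingleton.elim p (closedPoint Z.functionField)]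
    rfl
  exact h.eq (genericPoint_spec _)

variable {X : Scheme.{u}} [IsIntegral X] [QuasiCompact (X.fromSpecStalk (genericPoint X))]
  [QuasiSeparated (X.fromSpecStalk (genericPoint X))]

/-- A model: a sequence of normalized blowings up over the normalization. -/
structure Model (X : Scheme.{u}) [IsIntegral X] [QuasiCompact (X.fromSpecStalk (genericPoint X))]
    [QuasiSeparated (X.fromSpecStalk (genericPoint X))] where
  /-- The underlying scheme. -/
  Z : Scheme.{u}
  [integral : IsIntegral Z]
  /-- The sequence. -/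
  r : Z ⟶ Curv2.normalization X
  seq : Resolve.IsNormPtBlowupSeq r
  proper : IsProper (r ≫ Curv2.normalizationι X)
  birat : IsBirat (r ≫ Curv2.normalizationι X)
  normal : Pi1.IsNormalScheme Z

attribute [instance] Model.integral Model.proper

/-- The structure morphism of a model. -/
noncomputable abbrev Model.c (M : Model X) : M.Z ⟶ X := M.r ≫ Curv2.normalizationι X

theorem Model.nonempty (hX : FinNorm X) : Nonempty (Model X) := by
  haveI : IsFinite (Curv2.normalizationι X) := hX X (𝟙 X) (isBirat_of_isIso (𝟙 X))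
  refine ⟨⟨Curv2.normalization X, 𝟙 _, Resolve.IsNormPtBlowupSeq.iso (Iso.refl _), ?_, ?_,
    NormCurve.isNormalScheme_normalization X⟩⟩
  · rw [Category.id_comp]; infer_instance
  · rw [Category.id_comp]; exact isBirat_normalizationι X

/-- A local equation of the exceptional divisor. -/
theorem exists_stalk_generator {Z Z' : Scheme.{u}} (b : Z' ⟶ Z) {C : Z.IdealSheafData}
    (hC : BlowUp.IsEffCartierIdeal (C.comap b)) {z' : Z'} (hz' : b z' ∈ C.support) :
    ∃ t : Z'.presheaf.stalk z', ¬ IsUnit t ∧ ∀ (U : Z.affineOpens) (h : b z' ∈ U.1), ∀ a ∈ C.ideal U,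
      t ∣ (b.stalkMap z').hom (Z.presheaf.germ U.1 (b z') h a) := by
  obtain ⟨V, hzV, f, -, hf⟩ := hC z'
  have hs : z' ∈ (C.comap b).support := by
    rw [Scheme.IdealSheafData.support_comap]; exact hz'
  have h1 := (Scheme.IdealSheafData.mem_support_iff_of_mem (U := V) hzV).1 hs
  rw [Scheme.mem_zeroLocus_iff] at h1
  refine ⟨Z'.presheaf.germ V.1 z' hzV f, fun hu => h1 f (by rw [hf]; exact Ideal.mem_span_singleton_self f)
    ((Z'.mem_basicOpen f z' hzV).2 hu), fun U h a ha => ?_⟩
  obtain ⟨g, hg, hzg⟩ := V.2.exists_basicOpen_le (V := b ⁻¹ᵁ U.1) ⟨z', h⟩ hzV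
  let W : Z'.affineOpens := Z'.affineBasicOpen g
  have hW : (C.comap b).ideal W = Ideal.span {Z'.presheaf.map (homOfLE (Z'.basicOpen_le g)).op f} := by
    rw [← (C.comap b).map_ideal_basicOpen V g, hf, Ideal.map_span, Set.image_singleton]
  have hmem : (b.appLE U.1 W.1 hg).hom a ∈ (C.comap b).ideal W := by
    rw [ModPairLib.ideal_comap C b U W hg]
    exact Ideal.mem_map_of_mem _ ha
  rw [hW, Ideal.mem_span_singleton] at hmem
  have h2 := map_dvd (Z'.presheaf.germ W.1 z' hzg).hom hmem
  have e1 : (Z'.presheaf.germ W.1 z' hzg).hom (Z'.presheaf.map (homOfLE (Z'.basicOpen_le g)).op f) =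
      Z'.presheaf.germ V.1 z' hzV f := Z'.presheaf.germ_res_apply _ z' hzg f
  have e2 : (Z'.presheaf.germ W.1 z' hzg).hom ((b.appLE U.1 W.1 hg).hom a) =
      (b.stalkMap z').hom (Z.presheaf.germ U.1 (b z') h a) := by
    show (Z'.presheaf.germ W.1 z' hzg) (Z'.presheaf.map (homOfLE hg).op (b.app U.1 a)) = _
    erw [Z'.presheaf.germ_res_apply]
    exact (b.germ_stalkMap_apply U.1 z' h a).symm
  rw [e1, e2] at h2
  exact h2

/-- The normalized blowing up of a model in a closed point. -/
theorem Model.exists_step [IsLocallyNoetherian X] (hX : FinNorm X) (M : Model X) {z : M.Z}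
    (hz : IsClosed ({z} : Set M.Z)) (hne : z ≠ genericPoint M.Z) :
    ∃ (M' : Model X) (g : M'.Z ⟶ M.Z), g ≫ M.r = M'.r ∧ IsProper g ∧
      ∀ z'' : M'.Z, g z'' = z → ∃ t : M'.Z.presheaf.stalk z'', ¬ IsUnit t ∧
        ∀ a ∈ maximalIdeal (M.Z.presheaf.stalk (g z'')), t ∣ (g.stalkMap z'').hom a := by
  haveI : IsLocallyNoetherian M.Z := LocallyOfFiniteType.isLocallyNoetherian M.c
  let C : M.Z.IdealSheafData := Scheme.IdealSheafData.vanishingIdeal ⟨{z}, hz⟩
  have hsupp : (C.support : Set M.Z) = {z} := Scheme.IdealSheafData.coe_support_vanishingIdeal _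
  have hgen : genericPoint M.Z ∉ C.support := fun h => hne (hsupp.le h).symm
  obtain ⟨Z', b, hb⟩ := BlowUpLib.exists_blowUp (C := C)
  haveI : IsProper b := BlowUpLib.isProper_of_isBlowUp C hb fun U => by
    have := IsLocallyNoetherian.component_noetherian U
    exact IsNoetherian.noetherian _
  haveI : IsLocallyNoetherian Z' := LocallyOfFiniteType.isLocallyNoetherian b
  haveI : IsIntegral Z' := BlowInt.isIntegral hb hgen
  haveI : QuasiCompact (Z'.fromSpecStalk (genericPoint Z')) := inferInstance
  haveI : QuasiSeparated (Z'.fromSpecStalk (genericPoint Z')) := inferInstance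
  let O : M.Z.Opens := ⟨({z} : Set M.Z)ᶜ, hz.isOpen_compl⟩
  haveI : IsIso (b ∣_ O) := BlowUpLib.isIso_restrict hb O (fun w hw hws => hw (hsupp.le hws))
  have hbb : IsBirat b := isBirat_of_isIso_restrict b O ⟨genericPoint M.Z, fun h => hne h.symm⟩
  haveI : IsFinite (Curv2.normalizationι Z') := hX Z' (b ≫ M.c) (hbb.comp M.birat)
  let g := Curv2.normalizationι Z' ≫ b
  haveI : IsProper g := inferInstance
  have hgb : IsBirat g := (isBirat_normalizationι Z').comp hbb
  refine ⟨⟨Curv2.normalization Z', g ≫ M.r, ?_, ?_, ?_, NormCurve.isNormalScheme_normalization Z'⟩, g, rfl,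
    inferInstance, fun z'' hz'' => ?_⟩
  · simp only [g, Category.assoc]
    exact Resolve.IsNormPtBlowupSeq.step b M.r z hz hb M.seq
  · rw [Category.assoc]; infer_instance
  · rw [Category.assoc]; exact hgb.comp M.birat
  have hz' : b (Curv2.normalizationι Z' z'') ∈ C.support := hsupp.ge hz''
  obtain ⟨t, ht, hdvd⟩ := exists_stalk_generator b hb.1 hz'
  refine ⟨((Curv2.normalizationι Z').stalkMap z'').hom t,
    fun hu => ht (isUnit_of_map_unit ((Curv2.normalizationι Z').stalkMap z'').hom t hu), fun a ha => ?_⟩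
  obtain ⟨U₀, hU, hzU, -⟩ := exists_isAffineOpen_mem_and_subset (x := g z'') (U := ⊤) trivial
  let U : M.Z.affineOpens := ⟨U₀, hU⟩
  letI := M.Z.presheaf.algebra_section_stalk (⟨g z'', hzU⟩ : U₀)
  haveI := hU.isLocalization_stalk ⟨g z'', hzU⟩
  let p := (hU.primeIdealOf ⟨g z'', hzU⟩).asIdeal
  obtain ⟨⟨a₀, s⟩, hs⟩ := IsLocalization.surj p.primeCompl a
  have hp : C.ideal U = p := by
    have hset : hU.fromSpec ⁻¹' ((⟨{z}, hz⟩ : Closeds M.Z) : Set M.Z) = {hU.primeIdealOf ⟨g z'', hzU⟩} := by
      ext q
      constructor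
      · intro hq
        refine hU.fromSpec.isOpenEmbedding.injective ?_
        rw [hU.fromSpec_primeIdealOf]
        exact (hq : hU.fromSpec q = z).trans hz''.symm
      · rintro rfl
        show hU.fromSpec (hU.primeIdealOf ⟨g z'', hzU⟩) = z
        rw [hU.fromSpec_primeIdealOf]
        exact hz''
    rw [Scheme.IdealSheafData.vanishingIdeal_ideal]
    exact (congrArg PrimeSpectrum.vanishingIdeal hset).trans (PrimeSpectrum.vanishingIdeal_singleton _)
  have ha₀ : a₀ ∈ C.ideal U := by
    rw [hp]
    refine (IsLocalization.AtPrime.to_map_mem_maximal_iff (M.Z.presheaf.stalk (g z'')) p a₀).1 ?_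
    rw [← hs]
    exact Ideal.mul_mem_right _ _ ha
  have h1 : ((Curv2.normalizationι Z').stalkMap z'').hom t ∣
      (g.stalkMap z'').hom (algebraMap Γ(M.Z, U₀) (M.Z.presheaf.stalk (g z'')) a₀) := by
    have := map_dvd ((Curv2.normalizationι Z').stalkMap z'').hom (hdvd U hzU a₀ ha₀)
    rw [show g.stalkMap z'' = b.stalkMap (Curv2.normalizationι Z' z'') ≫ (Curv2.normalizationι Z').stalkMap z''
      from Scheme.Hom.stalkMap_comp _ _ _]
    exact this
  rw [← hs, map_mul] at h1
  refine (IsUnit.dvd_mul_right ?_).1 h1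
  exact IsUnit.map _ (IsLocalization.map_units (M.Z.presheaf.stalk (g z'')) s)

end Groth.Agent.ResSurf
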