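import Groth.Agent.ResSurf.PointDominate
import Groth.Agent.ResSurf.RegularContraction
import Groth.Agent.ResSurf.RegularRational
import Groth.Agent.ResSurf.GraphClosure
import Groth.Agent.ResSurf.NormStep
import Groth.Agent.S1297
import Groth.Agent.Proj16.NormalExt
import Mathlib.AlgebraicGeometry.SpreadingOut

/-!
# Regular modifications above proper birational models of a resolvable surface
-/

universe u

open CategoryTheory CategoryTheory.Limits AlgebraicGeometry TopologicalSpace IsLocalRing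

set_option backward.isDefEq.respectTransparency false
set_option backward.isDefEq.respectTransparency.types false
set_option linter.style.haveILetI false
set_option maxHeartbeats 400000

namespace Groth.Agent.ResSurf.RegularOver

open Groth.Agent

/-- Point blow-ups of regular schemes are regular. -/
theorem regular_of_contractionSeq {Y X : Scheme.{u}} {g : Y ⟶ X} (h : Models.IsContractionSeq g) :
    IsLocallyNoetherian X → (∀ x : X, IsRegularLocalRing (X.presheaf.stalk x)) →
    ∀ y : Y, IsRegularLocalRing (Y.presheaf.stalk y) := by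
  induction h with
  | iso e =>
    intro _ hX y
    haveI := hX (e.hom y)
    exact IsRegularLocalRing.of_ringEquiv (asIso (e.hom.stalkMap y)).commRingCatIsoToRingEquiv
  | @step Y Z X E ι b r hι hE hb hr ih =>
    intro hXn hX y'
    haveI := hXn
    obtain ⟨-, hbp, y, hy, -, hreg, hdim, hbl⟩ := hb
    haveI := hbp
    haveI := isProper_of_contractionSeq hr
    haveI : IsLocallyNoetherian Z := LocallyOfFiniteType.isLocallyNoetherian r
    have hZ := ih hXn hX
    obtain ⟨U₀, hU₀, hyU, -⟩ := exists_isAffineOpen_mem_and_subset (x := y) (U := ⊤) trivial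
    obtain ⟨F, -, -⟩ := exists_pointFrame hy hreg hdim hU₀ hyU
    have hC := F.ideal_vanishingIdeal hy
    haveI : IsNoetherianRing Γ(Z, F.V) := IsLocallyNoetherian.component_noetherian ⟨F.V, F.isAffine⟩
    haveI := F.isMaximal
    by_cases hy' : b y' = y
    swap
    · let O : Z.Opens := ⟨({y} : Set Z)ᶜ, hy.isOpen_compl⟩
      haveI : IsIso (b ∣_ O) := BlowUpLib.isIso_restrict hbl O (fun w hw hws =>
        hw ((Scheme.IdealSheafData.coe_support_vanishingIdeal (⟨{y}, hy⟩ : Closeds Z)).le hws))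
      have hmem : b y' ∈ O := hy'
      haveI : IsIso (b.stalkMap y') := (MorphismProperty.arrow_mk_iso_iff (MorphismProperty.isomorphisms _)
        (morphismRestrictStalkMap b O ⟨y', hmem⟩)).mp (show IsIso ((b ∣_ O).stalkMap ⟨y', hmem⟩) by infer_instance)
      haveI := hZ (b y')
      exact IsRegularLocalRing.of_ringEquiv (asIso (b.stalkMap y')).commRingCatIsoToRingEquiv
    obtain ⟨U, hU, hUb, x, x', t, hyU', hch, -⟩ := exists_chart F hbl hC y' (hy' ▸ F.mem)
    letI := (b.appLE F.V U hUb).hom.toAlgebra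
    obtain ⟨hgen', hxt, hx0, hm, hmx, hq⟩ := hch
    haveI := isNoetherianRing_chart (R := Γ(Z, F.V)) (S := Γ(Y, U)) hgen'
    let q := hU.primeIdealOf ⟨y', hyU'⟩
    have hqm : q.asIdeal.comap (b.appLE F.V U hUb).hom = Ideal.span (Set.range F.r) := by
      refine (F.point (PrimeSpectrum.comap (b.appLE F.V U hUb).hom q)).1 ?_
      have h1 := congrArg (fun k : Spec Γ(Y, U) ⟶ Z => k q) (IsAffineOpen.SpecMap_appLE_fromSpec b F.isAffine hU hUb)
      simp only [Scheme.Hom.comp_apply] at h1
      rw [hU.fromSpec_primeIdealOf] at h1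
      exact h1.trans hy'
    obtain ⟨n, hn, hqn⟩ := q.asIdeal.exists_le_maximal q.isPrime.ne_top
    haveI := hn
    have hxn : algebraMap Γ(Z, F.V) Γ(Y, U) x ∈ n := hqn (by
      have : x ∈ Ideal.span (Set.range F.r) := hm ▸ Ideal.subset_span (Set.mem_insert _ _)
      rw [← hqm] at this
      exact this)
    obtain ⟨hnreg, -⟩ := isRegular_chart (S := Γ(Y, U)) (m := Ideal.span (Set.range F.r)) hgen' hmx hq hx0 n hxn
    haveI := q.isPrime
    haveI := RegLoc6.regular_of_le hqn hnreg
    letI := Y.presheaf.algebra_section_stalk (⟨y', hyU'⟩ : U)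
    haveI := hU.isLocalization_stalk ⟨y', hyU'⟩
    exact IsRegularLocalRing.of_ringEquiv (IsLocalization.algEquiv q.asIdeal.primeCompl
      (Y.presheaf.stalk y') (Localization.AtPrime q.asIdeal)).toRingEquiv.symm

theorem isNormalScheme_open {X : Scheme.{u}} (hX : Pi1.IsNormalScheme X) (O : X.Opens) :
    Pi1.IsNormalScheme (O : Scheme.{u}) := fun x => by
  haveI := (hX x.1).1
  haveI := (hX x.1).2
  let e : X.presheaf.stalk x.1 ≃+* (O : Scheme.{u}).presheaf.stalk x :=
    (O.stalkIso x).commRingCatIsoToRingEquiv.symm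
  exact ⟨e.symm.toMulEquiv.isDomain _, IsIntegrallyClosed.of_equiv e⟩

theorem isBirat_opensι {X : Scheme.{u}} [IsIntegral X] (O : X.Opens) [IsIntegral (O : Scheme.{u})] :
    IsBirat O.ι := by
  haveI : IsIso (O.ι ∣_ O) := by
    haveI : IsOpenImmersion (O.ι ∣_ O) := inferInstance
    haveI : Surjective (O.ι ∣_ O) := ⟨fun x => ⟨⟨⟨x.1, x.2⟩, x.2⟩, Subtype.ext (by
      rw [morphismRestrict_base_coe]; rfl)⟩⟩
    exact (isIso_iff_isOpenImmersion_and_surjective _).2 ⟨inferInstance, inferInstance⟩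
  exact isBirat_of_isIso_restrict O.ι O ⟨_, (genericPoint (O : Scheme.{u})).2⟩

/-- A proper birational morphism onto a normal surface is an isomorphism away from finitely many points
with positive-dimensional fibres. -/
theorem exists_bad {Y Z : Scheme.{u}} [IsIntegral Y] [IsIntegral Z] [IsNoetherian Z] (c : Y ⟶ Z) [IsProper c]
    (hc : IsBirat c) (hZ : Pi1.IsNormalScheme Z) (hd : topologicalKrullDim Z ≤ 2)
    (U : Z.Opens) (hU : (U : Set Z).Nonempty) [IsIso (c ∣_ U)] :
    ∃ (T : Set Z) (hT : IsClosed T), T.Finite ∧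
      (∀ w ∈ T, IsClosed ({w} : Set Z) ∧ ¬ (c ⁻¹' {w}).Finite) ∧
      IsIso (c ∣_ (⟨Tᶜ, hT.isOpen_compl⟩ : Z.Opens)) := by
  haveI : IsLocallyNoetherian Y := LocallyOfFiniteType.isLocallyNoetherian c
  haveI : CompactSpace Y := QuasiCompact.compactSpace_of_compactSpace c
  haveI : IsNoetherian Y := ⟨⟩
  let T : Set Z := {w | ¬ (c ⁻¹' {w}).Finite}
  have hcl : ∀ w ∈ T, IsClosed ({w} : Set Z) := by
    intro w hw
    by_contra hwc
    refine hw (Set.Subsingleton.finite fun a ha b hb => ?_)
    haveI : ValuationRing (Z.presheaf.stalk (c a)) := by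
      rw [show c a = w from ha]
      exact valuationRing_of_not_isClosed (𝟙 Z) (isBirat_of_isIso (𝟙 Z)) hZ hd hwc
    exact hc.eq_of_valuationRing ((ha : c a = w).trans (hb : c b = w).symm)
  have hsub : T ⊆ c '' RegularFactor.contracted c := by
    intro w hw
    by_contra hne
    refine hw (finite_of_forall_isClosed ((hcl w hw).preimage c.continuous) fun ξ hξ => ?_)
    by_contra hξc
    exact hne ⟨ξ, ⟨hξc, by rw [show c ξ = w from hξ]; exact hcl w hw⟩, hξ⟩
  have hTf : T.Finite := ((finite_nonclosed c hc hd U hU).image c).subset hsub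
  have hTc : IsClosed T := by
    rw [← Set.biUnion_of_singleton T]
    exact hTf.isClosed_biUnion hcl
  refine ⟨T, hTc, hTf, fun w hw => ⟨hcl w hw, hw⟩, ?_⟩
  let O : Z.Opens := ⟨Tᶜ, hTc.isOpen_compl⟩
  have hηO : genericPoint Z ∈ O := fun hη => hη (Set.Subsingleton.finite fun a ha b hb => by
    haveI : ValuationRing (Z.presheaf.stalk (c a)) := by
      rw [show c a = genericPoint Z from ha]; exact inferInstanceAs (ValuationRing Z.functionField)
    exact hc.eq_of_valuationRing ((ha : c a = genericPoint Z).trans (hb : c b = genericPoint Z).symm))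
  haveI : Nonempty (O : Scheme.{u}) := ⟨⟨_, hηO⟩⟩
  haveI : IsIntegral (O : Scheme.{u}) := isIntegral_of_isOpenImmersion O.ι
  haveI : Nonempty (c ⁻¹ᵁ O : Scheme.{u}) :=
    ⟨⟨genericPoint Y, show c (genericPoint Y) ∈ O from hc.apply_genericPoint.symm ▸ hηO⟩⟩
  haveI : IsIntegral (c ⁻¹ᵁ O : Scheme.{u}) := isIntegral_of_isOpenImmersion (c ⁻¹ᵁ O).ι
  haveI : IsProper (c ∣_ O) := IsZariskiLocalAtTarget.restrict (P := @IsProper) inferInstance _
  have hb : IsBirat (c ∣_ O) := by
    refine IsBirat.of_comp (c := O.ι) ?_ (isBirat_opensι O)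
    rw [morphismRestrict_ι]
    exact (isBirat_opensι (c ⁻¹ᵁ O)).comp hc
  refine RegularFactor.isIso_of_finite_fibres (c ∣_ O) hb (isNormalScheme_open hZ O) fun w => ?_
  have hfin : (c ⁻¹' {w.1}).Finite := not_not.1 w.2
  refine (hfin.preimage ((c ⁻¹ᵁ O).ι.isOpenEmbedding.injective.injOn)).subset fun v hv => ?_
  show c v.1 = w.1
  rw [← show (c ∣_ O) v = w from hv]
  exact (morphismRestrict_base_coe c O v).symm

theorem dim_eq_two_of_infinite_fibre {Y Z : Scheme.{u}} [IsIntegral Y] [IsIntegral Z] [IsLocallyNoetherian Z]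
    (c : Y ⟶ Z) [IsProper c] (hc : IsBirat c) (hd : topologicalKrullDim Z ≤ 2) {w : Z}
    (hreg : IsRegularLocalRing (Z.presheaf.stalk w)) (hw : ¬ (c ⁻¹' {w}).Finite) :
    ringKrullDim (Z.presheaf.stalk w) = 2 := by
  haveI := hreg
  haveI := RegLoc6.isDomain_of_isRegularLocalRing (Z.presheaf.stalk w)
  have h2 := codim_le_of_dim_le (d := 2) (by exact_mod_cast hd) w
  have h1 : ¬ DimFormula.codim w ≤ 1 := fun hle => by
    haveI := PointExtend.isPrincipalIdealRing_of_dim_le_one (Z.presheaf.stalk w) (by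
      rw [DimFormula.ringKrullDim_stalk]; exact_mod_cast hle)
    haveI hv : ValuationRing (Z.presheaf.stalk w) :=
      ValuationRing.iff_local_bezout_domain.2 ⟨inferInstance, inferInstance⟩
    refine hw (Set.Subsingleton.finite fun a ha b hb => ?_)
    haveI : ValuationRing (Z.presheaf.stalk (c a)) := by rw [show c a = w from ha]; exact hv
    exact hc.eq_of_valuationRing ((ha : c a = w).trans (hb : c b = w).symm)
  rw [DimFormula.ringKrullDim_stalk]
  exact_mod_cast (show DimFormula.codim w = 2 by omega)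

/-- A regular modification dominating a modification of a regular surface. -/
theorem exists_regular_above {G X₀ : Scheme.{u}} [IsIntegral G] [IsIntegral X₀] [IsNoetherian X₀]
    (hX₀ : ∀ x : X₀, IsRegularLocalRing (X₀.presheaf.stalk x)) (hd : topologicalKrullDim X₀ ≤ 2)
    (π : G ⟶ X₀) [IsProper π] (hπ : IsBirat π) (U : X₀.Opens) (hU : (U : Set X₀).Nonempty) [IsIso (π ∣_ U)] :
    ∃ (X' : Scheme.{u}) (_ : IsIntegral X') (k : X' ⟶ G), IsProper k ∧ IsBirat k ∧
      (∀ x : X', IsRegularLocalRing (X'.presheaf.stalk x)) ∧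
      ∃ V : X₀.Opens, (V : Set X₀).Nonempty ∧ IsIso ((k ≫ π) ∣_ V) := by
  obtain ⟨T, hT, hTf, hTp, hiso⟩ := exists_bad π hπ (RegularFactor.isNormalScheme_of_regular hX₀) hd U hU
  obtain ⟨X', g, hg, hgi, k, hk⟩ := PointDominate.exists_contractionSeq_dominating T hTf hT
    (fun w hw => ⟨(hTp w hw).1, hX₀ w,
      dim_eq_two_of_infinite_fibre π hπ hd (hX₀ w) (hTp w hw).2⟩) π hiso
  haveI := isProper_of_contractionSeq hg
  haveI : Nonempty ((⊤ : X₀.Opens) : Scheme.{u}) := ⟨⟨genericPoint X₀, trivial⟩⟩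
  haveI : IsIntegral ((⊤ : X₀.Opens) : Scheme.{u}) := isIntegral_of_isOpenImmersion X₀.topIso.hom
  obtain ⟨hi, -⟩ := PointDominate.exists_isIntegral_preimage hg ⊤
  haveI := hi
  haveI : IsIso (g ⁻¹ᵁ (⊤ : X₀.Opens)).ι := inferInstanceAs (IsIso X'.topIso.hom)
  haveI : Nonempty X' := ⟨(g ⁻¹ᵁ ⊤).ι (genericPoint (g ⁻¹ᵁ ⊤ : Scheme.{u}))⟩
  haveI : IsIntegral X' := isIntegral_of_isOpenImmersion (inv (g ⁻¹ᵁ (⊤ : X₀.Opens)).ι)
  let O : X₀.Opens := ⟨Tᶜ, hT.isOpen_compl⟩
  have hηO : genericPoint X₀ ∈ O := fun h => (hTp _ h).2 (Set.Subsingleton.finite fun a ha b hb => by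
    haveI : ValuationRing (X₀.presheaf.stalk (π a)) := by
      rw [show π a = genericPoint X₀ from ha]; exact inferInstanceAs (ValuationRing X₀.functionField)
    exact hπ.eq_of_valuationRing ((ha : π a = genericPoint X₀).trans (hb : π b = genericPoint X₀).symm))
  haveI : IsIso (g ∣_ O) := hgi
  have hgb : IsBirat g := isBirat_of_isIso_restrict g O ⟨_, hηO⟩
  haveI : IsProper (k ≫ π) := by rw [hk]; infer_instance
  refine ⟨X', inferInstance, k, IsProper.of_comp k π, (hk ▸ hgb : IsBirat (k ≫ π)).of_comp hπ,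
    regular_of_contractionSeq hg inferInstance hX₀, O, ⟨_, hηO⟩, ?_⟩
  rw [hk]
  exact hgi

/-- A morphism from a normal scheme lifts to the normalization. -/
theorem exists_lift_normalization {W Z : Scheme.{u}} [IsIntegral W] [IsIntegral Z]
    [QuasiCompact (Z.fromSpecStalk (genericPoint Z))] [QuasiSeparated (Z.fromSpecStalk (genericPoint Z))]
    (hW : Pi1.IsNormalScheme W) (k : W ⟶ Z) (hk : IsBirat k) :
    ∃ k' : W ⟶ Curv2.normalization Z, k' ≫ Curv2.normalizationι Z = k := by
  obtain ⟨ι, hι⟩ := hk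
  haveI : IsIntegralHom (Curv2.normalizationι Z) :=
    inferInstanceAs (IsIntegralHom (Z.fromSpecStalk (genericPoint Z)).fromNormalization)
  let t := (Z.fromSpecStalk (genericPoint Z)).toNormalization
  let σ : Spec W.functionField ⟶ pullback (Curv2.normalizationι Z) k :=
    pullback.lift (Spec.map ι.hom ≫ t) (W.fromSpecStalk (genericPoint W)) (by
      rw [Category.assoc]
      exact (congrArg (Spec.map ι.hom ≫ ·)
        (Z.fromSpecStalk (genericPoint Z)).toNormalization_fromNormalization).trans hι)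
  obtain ⟨s, hs, -⟩ := Proj16.exists_section_of_isIntegralHom hW (pullback.snd (Curv2.normalizationι Z) k) σ
    (pullback.lift_snd _ _ _)
  exact ⟨s ≫ pullback.fst _ _, by rw [Category.assoc, pullback.condition, ← Category.assoc, hs, Category.id_comp]⟩

/-- The normalization is finite below a proper birational morphism from a normal scheme. -/
theorem isFinite_normalizationι {W Z : Scheme.{u}} [IsIntegral W] [IsIntegral Z] [IsLocallyNoetherian Z]
    [QuasiCompact (Z.fromSpecStalk (genericPoint Z))] [QuasiSeparated (Z.fromSpecStalk (genericPoint Z))]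
    (hW : Pi1.IsNormalScheme W) (k : W ⟶ Z) [IsProper k] (hk : IsBirat k) :
    IsFinite (Curv2.normalizationι Z) := by
  obtain ⟨k', hk'⟩ := exists_lift_normalization hW k hk
  haveI : IsIntegralHom (Curv2.normalizationι Z) :=
    inferInstanceAs (IsIntegralHom (Z.fromSpecStalk (genericPoint Z)).fromNormalization)
  have hν : IsBirat (Curv2.normalizationι Z) := isBirat_normalizationι Z
  have hk'b : IsBirat k' := (hk'.symm ▸ hk : IsBirat (k' ≫ Curv2.normalizationι Z)).of_comp hν
  haveI : IsProper (k' ≫ Curv2.normalizationι Z) := by rw [hk']; infer_instance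
  haveI : IsProper k' := IsProper.of_comp k' (Curv2.normalizationι Z)
  have hbir : Function.Bijective ((Curv2.normalization Z).presheaf.stalkSpecializes
      (specializes_of_eq hk'b.apply_genericPoint) ≫ k'.stalkMap (genericPoint W)).hom := by
    haveI : ValuationRing ((Curv2.normalization Z).presheaf.stalk (k' (genericPoint W))) := by
      rw [hk'b.apply_genericPoint]; exact inferInstanceAs (ValuationRing (Curv2.normalization Z).functionField)
    haveI : IsIso (k'.stalkMap (genericPoint W)) :=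
      (ConcreteCategory.isIso_iff_bijective _).2 (hk'b.bijective_stalkMap _)
    haveI : IsIso ((Curv2.normalization Z).presheaf.stalkSpecializes (specializes_of_eq hk'b.apply_genericPoint)) :=
      (TopCat.Presheaf.stalkCongr (Curv2.normalization Z).presheaf
        (Inseparable.of_eq hk'b.apply_genericPoint.symm)).isIso_hom
    exact ConcreteCategory.bijective_of_isIso _
  refine ⟨fun U hU => ?_⟩
  haveI : IsNoetherianRing Γ(Z, U) := IsLocallyNoetherian.component_noetherian ⟨U, hU⟩
  let φ := ((Curv2.normalizationι Z).app U).hom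
  let ψ := (k'.app (Curv2.normalizationι Z ⁻¹ᵁ U)).hom
  have hbij := bijective_app_of_birational k' (NormCurve.isNormalScheme_normalization Z)
    hk'b.apply_genericPoint hbir (Curv2.normalizationι Z ⁻¹ᵁ U)
  have h2 : (ψ.comp φ).Finite := by
    have h := Groth.Agent.S1297.finite_app (k' ≫ Curv2.normalizationι Z) hU
    rw [Scheme.Hom.comp_app, CommRingCat.hom_comp] at h
    exact h
  have h3 : φ = (RingEquiv.ofBijective ψ hbij).symm.toRingHom.comp (ψ.comp φ) :=
    RingHom.ext fun a => ((RingEquiv.ofBijective ψ hbij).symm_apply_apply (φ a)).symm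
  show φ.Finite
  rw [h3]
  exact (RingHom.Finite.of_surjective (RingEquiv.ofBijective ψ hbij).symm.toRingHom
    (RingEquiv.surjective _)).comp h2

/-- A surface with a resolution has finite normalizations on all its models. -/
theorem finNorm_of_resolution {X X₀ : Scheme.{u}} [IsIntegral X] [IsIntegral X₀] [IsNoetherian X]
    (hd : topologicalKrullDim X ≤ 2) (f : X₀ ⟶ X) [IsProper f] (hf : IsBirat f)
    (hX₀ : ∀ x : X₀, IsRegularLocalRing (X₀.presheaf.stalk x)) : FinNorm X := by
  intro Z _ _ _ cZ _ hcZ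
  haveI : IsLocallyNoetherian Z := LocallyOfFiniteType.isLocallyNoetherian cZ
  haveI : IsLocallyNoetherian X₀ := LocallyOfFiniteType.isLocallyNoetherian f
  haveI : CompactSpace X₀ := QuasiCompact.compactSpace_of_compactSpace f
  haveI : IsNoetherian X₀ := ⟨⟩
  have hd₀ := RegularFactor.topologicalKrullDim_le_of_birat f hf hd
  obtain ⟨κ, hκ⟩ := hf
  obtain ⟨ι, hι⟩ := hcZ
  let φ : Spec (X₀.presheaf.stalk (genericPoint X₀)) ⟶ Z :=
    Spec.map κ.hom ≫ Spec.map ι.inv ≫ Z.fromSpecStalk (genericPoint Z)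
  have hφ : φ ≫ cZ = X₀.fromSpecStalk (genericPoint X₀) ≫ f := by
    simp only [φ, Category.assoc, ← hι]
    rw [← Spec.map_comp_assoc, ← Spec.map_comp_assoc]
    simpa using hκ
  obtain ⟨U, hηU, k, -, hk⟩ := spread_out_of_isGermInjective' f cZ φ hφ
  obtain ⟨G, π, χ, hG, hπp, hπi, hχ, -⟩ := exists_graph_closure f cZ U ⟨_, hηU⟩ k hk
  haveI := hG
  haveI := hπp
  haveI := hπi
  have hπ : IsBirat π := isBirat_of_isIso_restrict π U ⟨_, hηU⟩
  have hχb : IsBirat χ := by
    have h : IsBirat (χ ≫ cZ) := hχ ▸ hπ.comp ⟨κ, hκ⟩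
    exact h.of_comp ⟨ι, hι⟩
  haveI : IsProper (χ ≫ cZ) := by rw [hχ]; infer_instance
  haveI : IsProper χ := IsProper.of_comp χ cZ
  obtain ⟨X', _, k', hk'p, hk'b, hX', -⟩ := exists_regular_above hX₀ hd₀ π hπ U ⟨_, hηU⟩
  haveI := hk'p
  exact isFinite_normalizationι (RegularFactor.isNormalScheme_of_regular hX') (k' ≫ χ) (hk'b.comp hχb)

end Groth.Agent.ResSurf.RegularOver
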