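import Groth.Agent.ResSurf.RatPrincipal
import Groth.Agent.ResSurf.RegularOver
import Groth.Agent.ResSurf.NormDominate
import Mathlib.RingTheory.Ideal.KrullsHeightTheorem

/-!
# Resolution of surfaces by normalized blowings up, given a resolution
-/

universe u

open CategoryTheory CategoryTheory.Limits AlgebraicGeometry TopologicalSpace IsLocalRing

set_option backward.isDefEq.respectTransparency false
set_option backward.isDefEq.respectTransparency.types false
set_option linter.style.haveILetI false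
set_option maxHeartbeats 400000

namespace Groth.Agent.ResSurf.RegularModel

open Groth.Agent

/-- A proper birational morphism is an isomorphism over some nonempty open. -/
theorem exists_isIso_restrict {Z X : Scheme.{u}} [IsIntegral Z] [IsIntegral X] [IsLocallyNoetherian X]
    (h : Z ⟶ X) [IsProper h] (hh : IsBirat h) :
    ∃ U : X.Opens, (U : Set X).Nonempty ∧ IsIso (h ∣_ U) := by
  obtain ⟨ι, hι⟩ := hh
  let φ : Spec (X.presheaf.stalk (genericPoint X)) ⟶ Z := Spec.map ι.inv ≫ Z.fromSpecStalk (genericPoint Z)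
  have hφ : φ ≫ h = X.fromSpecStalk (genericPoint X) ≫ 𝟙 X := by
    simp only [φ, Category.assoc, ← hι, Category.comp_id]
    rw [← Spec.map_comp_assoc]
    simp
  obtain ⟨U, hηU, k, hk1, hk⟩ := spread_out_of_isGermInjective' (𝟙 X) h φ hφ
  rw [Category.comp_id] at hk
  refine ⟨U, ⟨_, hηU⟩, ?_⟩
  haveI : Nonempty (U : Scheme.{u}) := ⟨⟨_, hηU⟩⟩
  let ηU : (U : Scheme.{u}) := ⟨genericPoint X, hηU⟩
  have hkη : k ηU = genericPoint Z := by
    have h1 := congrArg (fun e : Spec (X.presheaf.stalk (genericPoint X)) ⟶ Z =>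
      e (closedPoint X.functionField)) hk1
    have h2 : (U.fromSpecStalkOfMem (genericPoint X) hηU) (closedPoint X.functionField) = ηU := by
      refine U.ι.isOpenEmbedding.injective ?_
      have h3 : (U.fromSpecStalkOfMem (genericPoint X) hηU ≫ U.ι) = X.fromSpecStalk (genericPoint X) := by
        simp
      rw [← Scheme.Hom.comp_apply, h3, X.fromSpecStalk_closedPoint]
      rfl
    simp only [φ, Scheme.Hom.comp_apply] at h1
    rw [h2] at h1
    rw [← h1]
    have h4 : (Spec.map ι.inv) (closedPoint X.functionField) = closedPoint Z.functionField := Spec_closedPoint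
    rw [h4, Z.fromSpecStalk_closedPoint]
  have hr : Set.range k ⊆ Set.range (h ⁻¹ᵁ U).ι := by
    rw [Scheme.Opens.range_ι]
    rintro _ ⟨w, rfl⟩
    show h (k w) ∈ U
    rw [← Scheme.Hom.comp_apply, hk]
    exact w.2
  let t := IsOpenImmersion.lift (h ⁻¹ᵁ U).ι k hr
  have htι : t ≫ (h ⁻¹ᵁ U).ι = k := IsOpenImmersion.lift_fac _ _ _
  have htπ : t ≫ (h ∣_ U) = 𝟙 _ := by
    rw [← cancel_mono U.ι, Category.assoc, morphismRestrict_ι, ← Category.assoc, htι, hk, Category.id_comp]
  haveI : IsClosedImmersion (t ≫ (h ∣_ U)) := by rw [htπ]; infer_instance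
  haveI : IsClosedImmersion t := IsClosedImmersion.of_comp t (h ∣_ U)
  haveI : Nonempty (h ⁻¹ᵁ U : Scheme.{u}) := ⟨t ηU⟩
  haveI : IsIntegral (h ⁻¹ᵁ U : Scheme.{u}) := isIntegral_of_isOpenImmersion (h ⁻¹ᵁ U).ι
  haveI : Surjective t := by
    refine ⟨fun w => ?_⟩
    have h5 : t ηU = genericPoint (h ⁻¹ᵁ U : Scheme.{u}) := by
      refine (h ⁻¹ᵁ U).ι.isOpenEmbedding.injective ?_
      rw [← Scheme.Hom.comp_apply, htι, hkη, genericPoint_eq_of_isOpenImmersion]
    exact (genericPoint_specializes w).mem_closed t.isClosedEmbedding.isClosed_range ⟨ηU, h5⟩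
  haveI : IsIso t := isIso_of_isClosedImmersion_of_surjective t
  have : h ∣_ U = inv t := IsIso.eq_inv_of_hom_inv_id htπ
  rw [this]; infer_instance

/-- The first factor of an isomorphism over an open, when the second is separated and the middle is reduced. -/
theorem isIso_restrict_of_comp {X Z Y : Scheme.{u}} [IsIntegral X] [IsIntegral Z] (c : X ⟶ Z) (h : Z ⟶ Y)
    [IsProper c] [IsSeparated h] (hc : IsBirat c) (U : Y.Opens) [IsIso ((c ≫ h) ∣_ U)] :
    IsIso (c ∣_ (h ⁻¹ᵁ U)) := by
  haveI : IsIso ((c ∣_ (h ⁻¹ᵁ U)) ≫ (h ∣_ U)) := by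
    rw [← morphismRestrict_comp]; infer_instance
  haveI : IsSeparated (h ∣_ U) := IsZariskiLocalAtTarget.restrict (P := @IsSeparated) inferInstance _
  haveI : IsClosedImmersion ((c ∣_ (h ⁻¹ᵁ U)) ≫ (h ∣_ U)) := inferInstance
  haveI : IsClosedImmersion (c ∣_ (h ⁻¹ᵁ U)) := IsClosedImmersion.of_comp _ (h ∣_ U)
  haveI : Surjective (c ∣_ (h ⁻¹ᵁ U)) := by
    refine ⟨fun w => ?_⟩
    obtain ⟨v, hv⟩ : w.1 ∈ Set.range c := (genericPoint_specializes w.1).mem_closed c.isClosedMap.isClosed_range
      ⟨_, hc.apply_genericPoint⟩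
    exact ⟨⟨v, show c v ∈ h ⁻¹ᵁ U from hv ▸ w.2⟩, Subtype.ext ((morphismRestrict_base_coe c _ _).trans hv)⟩
  exact isIso_of_isClosedImmersion_of_surjective _

/-- A prime ideal of a point as the sections of the reduced point. -/
theorem vanishingIdeal_point_ideal {Z : Scheme.{u}} {z : Z} (hz : IsClosed ({z} : Set Z)) (U : Z.affineOpens)
    (hzU : z ∈ U.1) :
    (Scheme.IdealSheafData.vanishingIdeal ⟨{z}, hz⟩).ideal U = (U.2.primeIdealOf ⟨z, hzU⟩).asIdeal := by
  have hset : U.2.fromSpec ⁻¹' ((⟨{z}, hz⟩ : Closeds Z) : Set Z) = {U.2.primeIdealOf ⟨z, hzU⟩} := by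
    ext q
    constructor
    · intro hq
      refine U.2.fromSpec.isOpenEmbedding.injective ?_
      rw [U.2.fromSpec_primeIdealOf]
      exact (hq : U.2.fromSpec q = z)
    · rintro rfl
      show U.2.fromSpec (U.2.primeIdealOf ⟨z, hzU⟩) = z
      rw [U.2.fromSpec_primeIdealOf]
  rw [Scheme.IdealSheafData.vanishingIdeal_ideal]
  exact (congrArg PrimeSpectrum.vanishingIdeal hset).trans (PrimeSpectrum.vanishingIdeal_singleton _)

/-- On a blowing up in a point the maximal ideal of the point generates a principal ideal. -/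
theorem exists_generator_maximalIdeal {Z' Z : Scheme.{u}} (b : Z' ⟶ Z) {z : Z} (hz : IsClosed ({z} : Set Z))
    (hC : BlowUp.IsEffCartierIdeal ((Scheme.IdealSheafData.vanishingIdeal ⟨{z}, hz⟩).comap b))
    (z' : Z') (hz' : b z' = z) :
    ∃ t : Z'.presheaf.stalk z', ¬ IsUnit t ∧
      ∀ a ∈ maximalIdeal (Z.presheaf.stalk (b z')), t ∣ (b.stalkMap z').hom a := by
  subst hz'
  obtain ⟨t, ht, hdvd⟩ := exists_stalk_generator b hC (z' := z')
    ((Scheme.IdealSheafData.coe_support_vanishingIdeal (⟨{b z'}, hz⟩ : Closeds Z)).ge rfl)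
  refine ⟨t, ht, fun a ha => ?_⟩
  obtain ⟨U₀, hU, hzU, -⟩ := exists_isAffineOpen_mem_and_subset (x := b z') (U := ⊤) trivial
  letI := Z.presheaf.algebra_section_stalk (⟨b z', hzU⟩ : U₀)
  haveI := hU.isLocalization_stalk ⟨b z', hzU⟩
  let p := (hU.primeIdealOf ⟨b z', hzU⟩).asIdeal
  obtain ⟨⟨a₀, s⟩, hs⟩ := IsLocalization.surj p.primeCompl a
  have ha₀ : a₀ ∈ (Scheme.IdealSheafData.vanishingIdeal ⟨{b z'}, hz⟩).ideal ⟨U₀, hU⟩ := by
    rw [vanishingIdeal_point_ideal hz ⟨U₀, hU⟩ hzU]
    refine (IsLocalization.AtPrime.to_map_mem_maximal_iff (Z.presheaf.stalk (b z')) p a₀).1 ?_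
    rw [← hs]
    exact Ideal.mul_mem_right _ _ ha
  have h1 : t ∣ (b.stalkMap z').hom (algebraMap Γ(Z, U₀) (Z.presheaf.stalk (b z')) a₀) :=
    hdvd ⟨U₀, hU⟩ hzU a₀ ha₀
  rw [← hs, map_mul] at h1
  exact (IsUnit.dvd_mul_right (IsUnit.map _ (IsLocalization.map_units (Z.presheaf.stalk (b z')) s))).1 h1

/-- A point whose maximal ideal becomes principal upstairs has effective Cartier inverse image. -/
theorem isEffCartier_comap_point {X Z : Scheme.{u}} [IsIntegral X] [IsLocallyNoetherian X] (c : X ⟶ Z) {z : Z}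
    (hz : IsClosed ({z} : Set Z)) (hgen : c (genericPoint X) ≠ z)
    (h : ∀ x : X, c x = z → ((maximalIdeal (Z.presheaf.stalk (c x))).map (c.stalkMap x).hom).IsPrincipal) :
    BlowUp.IsEffCartierIdeal ((Scheme.IdealSheafData.vanishingIdeal ⟨{z}, hz⟩).comap c) := by
  set C := Scheme.IdealSheafData.vanishingIdeal ⟨{z}, hz⟩
  have hsupp : (C.support : Set Z) = {z} := Scheme.IdealSheafData.coe_support_vanishingIdeal _
  refine BlowUpX.isEffCartier_of_reduced (fun x => ?_) fun x hx hxs => ?_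
  · by_cases hxz : c x = z
    swap
    · obtain ⟨W, hW, hxW, hWle⟩ := exists_isAffineOpen_mem_and_subset (x := x)
        (U := c ⁻¹ᵁ ⟨({z} : Set Z)ᶜ, hz.isOpen_compl⟩) hxz
      refine ⟨⟨W, hW⟩, hxW, 1, ?_⟩
      rw [BlowUpX.ideal_eq_top_of_disjoint _ ⟨W, hW⟩ (fun w hw hws => ?_), Ideal.span_singleton_one]
      rw [Scheme.IdealSheafData.support_comap] at hws
      exact hWle hw (hsupp.le hws)
    obtain ⟨U₀, hU, hzU, -⟩ := exists_isAffineOpen_mem_and_subset (x := c x) (U := ⊤) trivial
    let U : Z.affineOpens := ⟨U₀, hU⟩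
    obtain ⟨W, hW, hxW, hWU⟩ := exists_isAffineOpen_mem_and_subset (x := x) (U := c ⁻¹ᵁ U₀) hzU
    let W' : X.affineOpens := ⟨W, hW⟩
    have hJ : ((C.comap c).ideal W').map (X.presheaf.germ W x hxW).hom =
        (maximalIdeal (Z.presheaf.stalk (c x))).map (c.stalkMap x).hom := by
      have hp : C.ideal U = (hU.primeIdealOf ⟨c x, hzU⟩).asIdeal := by
        subst hxz
        exact vanishingIdeal_point_ideal hz U hzU
      rw [ModPairLib.ideal_comap C c U W' hWU, ← map_primeIdealOf hU hzU, hp, Ideal.map_map, Ideal.map_map]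
      refine congrArg (Ideal.map · _) (RingHom.ext fun a => ?_)
      show (X.presheaf.germ W x hxW) (X.presheaf.map (homOfLE hWU).op (c.app U₀ a)) = _
      erw [X.presheaf.germ_res_apply]
      exact (c.germ_stalkMap_apply U₀ x hzU a).symm
    obtain ⟨t, ht⟩ := (h x hxz).principal
    rw [Ideal.submodule_span_eq, ← hJ] at ht
    letI := X.presheaf.algebra_section_stalk (⟨x, hxW⟩ : W)
    haveI := hW.isLocalization_stalk ⟨x, hxW⟩
    let p := (hW.primeIdealOf ⟨x, hxW⟩).asIdeal
    obtain ⟨⟨t₀, s⟩, hts⟩ := IsLocalization.surj p.primeCompl t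
    have hspan : Ideal.span {(X.presheaf.germ W x hxW).hom t₀} = Ideal.span {t} := by
      refine Ideal.span_singleton_eq_span_singleton.2 ?_
      exact (associated_mul_unit_left t _ (IsLocalization.map_units (X.presheaf.stalk x) s)).symm.trans
        (Associated.of_eq hts) |>.symm
    haveI : IsNoetherianRing Γ(X, W) := IsLocallyNoetherian.component_noetherian W'
    obtain ⟨g, hxg, hg⟩ := PointExtend.exists_basicOpen_eq hW hxW (IsNoetherian.noetherian ((C.comap c).ideal W'))
      (IsNoetherian.noetherian (Ideal.span {t₀})) (by rw [Ideal.map_span, Set.image_singleton, hspan]; exact ht)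
    refine ⟨X.affineBasicOpen (U := W') g, hxg, X.presheaf.map (homOfLE (X.basicOpen_le g)).op t₀, ?_⟩
    rw [← (C.comap c).map_ideal_basicOpen W' g]
    exact hg.trans (by rw [Ideal.map_span, Set.image_singleton]; rfl)
  · obtain rfl := hx _ (genericPoint_specializes x)
    rw [Scheme.IdealSheafData.support_comap] at hxs
    exact hgen (hsupp.le hxs)

variable {X : Scheme.{u}} [IsIntegral X] [QuasiCompact (X.fromSpecStalk (genericPoint X))]
  [QuasiSeparated (X.fromSpecStalk (genericPoint X))]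

/-- A singular point of a model below a regular modification over a regular surface can be blown up. -/
theorem exists_better [IsNoetherian X] (hN : FinNorm X) {X₀ X' : Scheme.{u}} [IsIntegral X₀] [IsIntegral X']
    [IsNoetherian X₀] (hX₀ : ∀ x : X₀, IsRegularLocalRing (X₀.presheaf.stalk x))
    (hd : topologicalKrullDim X₀ ≤ 2) (hX' : ∀ x : X', IsRegularLocalRing (X'.presheaf.stalk x))
    (V : X₀.Opens) (hV : (V : Set X₀).Nonempty) (M : Model X) (h : M.Z ⟶ X₀) [IsProper h] (hh : IsBirat h)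
    (c : X' ⟶ M.Z) [IsProper c] (hc : IsBirat c) [IsIso ((c ≫ h) ∣_ V)]
    {z : M.Z} (hz : ¬ IsRegularLocalRing (M.Z.presheaf.stalk z)) :
    ∃ (M' : Model X) (g : M'.Z ⟶ M.Z) (c' : X' ⟶ M'.Z), IsProper g ∧ IsBirat g ∧ IsProper c' ∧ IsBirat c' ∧
      g ≫ M.r = M'.r ∧ c' ≫ g = c ∧ (RegularFactor.contracted c).Finite ∧
      (RegularFactor.contracted c').ncard < (RegularFactor.contracted c).ncard := by
  haveI : IsLocallyNoetherian M.Z := LocallyOfFiniteType.isLocallyNoetherian M.c
  haveI : CompactSpace M.Z := QuasiCompact.compactSpace_of_compactSpace h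
  haveI : IsNoetherian M.Z := ⟨⟩
  haveI : IsLocallyNoetherian X' := LocallyOfFiniteType.isLocallyNoetherian c
  haveI : CompactSpace X' := QuasiCompact.compactSpace_of_compactSpace c
  haveI : IsNoetherian X' := ⟨⟩
  have hdZ := RegularFactor.topologicalKrullDim_le_of_birat h hh hd
  let U : M.Z.Opens := h ⁻¹ᵁ V
  have hU : (U : Set M.Z).Nonempty := ⟨genericPoint M.Z, show h _ ∈ V from hh.apply_genericPoint.symm ▸
    ((genericPoint_spec X₀).mem_open_set_iff V.isOpen).2 (by simpa using hV)⟩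
  haveI : IsIso (c ∣_ U) := isIso_restrict_of_comp c h hc V
  obtain ⟨T, hT, hTf, hTp, hiso⟩ := RegularOver.exists_bad c hc M.normal hdZ U hU
  haveI := hiso
  have hzT : z ∈ T := by
    by_contra hzT
    obtain ⟨x, hx⟩ : z ∈ Set.range c := (genericPoint_specializes z).mem_closed c.isClosedMap.isClosed_range
      ⟨_, hc.apply_genericPoint⟩
    subst hx
    haveI := isIso_stalkMap_of_restrict c (⟨Tᶜ, hT.isOpen_compl⟩ : M.Z.Opens) hzT
    haveI := hX' x
    exact hz (IsRegularLocalRing.of_ringEquiv (asIso (c.stalkMap x)).commRingCatIsoToRingEquiv.symm)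
  have hzc : IsClosed ({z} : Set M.Z) := (hTp z hzT).1
  have hz2 : ringKrullDim (M.Z.presheaf.stalk z) = 2 := by
    have h2 := codim_le_of_dim_le (d := 2) (by exact_mod_cast hdZ) z
    have h1 : ¬ DimFormula.codim z ≤ 1 := fun hle => hz (by
      haveI := (M.normal z).1
      haveI := (M.normal z).2
      haveI : Ring.DimensionLEOne (M.Z.presheaf.stalk z) :=
        ⟨fun {p} hp hpp => Ring.krullDimLE_one_iff_of_noZeroDivisors.1
          (Ring.krullDimLE_iff.2 (by rw [DimFormula.ringKrullDim_stalk]; exact_mod_cast hle)) p hp hpp⟩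
      haveI : IsDedekindDomain (M.Z.presheaf.stalk z) := { }
      haveI : IsPrincipalIdealRing (M.Z.presheaf.stalk z) := by
        refine IsPrincipalIdealRing.of_finite_primes ?_
        exact Set.Finite.subset ((Set.finite_singleton (maximalIdeal _)).insert ⊥) fun P hP => by
          by_cases h0 : P = ⊥
          · exact Or.inl h0
          · exact Or.inr (eq_maximalIdeal (Ring.DimensionLEOne.maximalOfPrime h0 hP))
      infer_instance)
    rw [DimFormula.ringKrullDim_stalk]
    exact_mod_cast (show DimFormula.codim z = 2 by omega)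
  have hzne : z ≠ genericPoint M.Z := fun e => by
    rw [e] at hz2
    rw [show ringKrullDim M.Z.functionField = 0 from ringKrullDim_eq_zero_of_field _] at hz2
    exact absurd hz2 (by norm_num)
  -- the maximal ideal is principal upstairs
  have hcl : IsClosed (T \ {z}) := by
    rw [← Set.biUnion_of_singleton (T \ {z})]
    exact (hTf.subset Set.sdiff_subset).isClosed_biUnion fun w hw => (hTp w hw.1).1
  have hprin : ∀ x : X', c x = z →
      ((maximalIdeal (M.Z.presheaf.stalk (c x))).map (c.stalkMap x).hom).IsPrincipal := by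
    intro x hx
    obtain ⟨y, hy, hyx⟩ : ∃ y, c y = z ∧ y ≠ x := by
      by_contra hne
      push Not at hne
      exact (hTp z hzT).2 ((Set.finite_singleton x).subset fun y hy => hne y hy)
    exact isPrincipal_fibreIdeal c h hX' M.normal hX₀ hd hc hh V hV ⟨Tᶜ, hT.isOpen_compl⟩ z hzc hz2
      ⟨(T \ {z})ᶜ, hcl.isOpen_compl⟩ (fun hh => hh.2 rfl) (fun w hw hwz hwT => hw ⟨hwT, hwz⟩) x y hx hy hyx
  set C := Scheme.IdealSheafData.vanishingIdeal (X := M.Z) ⟨{z}, hzc⟩
  have hsupp : (C.support : Set M.Z) = {z} := Scheme.IdealSheafData.coe_support_vanishingIdeal _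
  have hcart : BlowUp.IsEffCartierIdeal (C.comap c) :=
    isEffCartier_comap_point c hzc (fun e => hzne (e.symm.trans hc.apply_genericPoint)) hprin
  have hgen : genericPoint M.Z ∉ C.support := fun h => hzne (hsupp.le h).symm
  obtain ⟨Z', b, hb⟩ := BlowUpLib.exists_blowUp (C := C)
  haveI : IsProper b := BlowUpLib.isProper_of_isBlowUp C hb fun U => by
    have := IsLocallyNoetherian.component_noetherian U
    exact IsNoetherian.noetherian _
  haveI : IsLocallyNoetherian Z' := LocallyOfFiniteType.isLocallyNoetherian b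
  haveI : IsIntegral Z' := BlowInt.isIntegral hb hgen
  haveI : QuasiCompact (Z'.fromSpecStalk (genericPoint Z')) := inferInstance
  haveI : QuasiSeparated (Z'.fromSpecStalk (genericPoint Z')) := inferInstance
  let O : M.Z.Opens := ⟨({z} : Set M.Z)ᶜ, hzc.isOpen_compl⟩
  haveI : IsIso (b ∣_ O) := BlowUpLib.isIso_restrict hb O (fun w hw hws => hw (hsupp.le hws))
  have hbb : IsBirat b := isBirat_of_isIso_restrict b O ⟨genericPoint M.Z, fun h => hzne h.symm⟩
  haveI : IsFinite (Curv2.normalizationι Z') := hN Z' (b ≫ M.c) (hbb.comp M.birat)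
  let g := Curv2.normalizationι Z' ≫ b
  haveI : IsProper g := inferInstance
  have hgb : IsBirat g := (isBirat_normalizationι Z').comp hbb
  obtain ⟨k, hk, -⟩ := hb.2 X' c hcart
  have hkb : IsBirat k := (hk.symm ▸ hc : IsBirat (k ≫ b)).of_comp hbb
  obtain ⟨c', hc'⟩ :=
    RegularOver.exists_lift_normalization (RegularFactor.isNormalScheme_of_regular hX') k hkb
  have hc'g : c' ≫ g = c := by rw [← hk, ← hc', Category.assoc]
  have hc'b : IsBirat c' := (hc'g.symm ▸ hc : IsBirat (c' ≫ g)).of_comp hgb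
  haveI : IsProper (c' ≫ g) := by rw [hc'g]; infer_instance
  haveI : IsProper c' := IsProper.of_comp c' g
  refine ⟨⟨Curv2.normalization Z', g ≫ M.r, ?_, ?_, ?_, NormCurve.isNormalScheme_normalization Z'⟩, g, c',
    inferInstance, hgb, inferInstance, hc'b, rfl, hc'g, finite_nonclosed c hc hdZ U hU, ?_⟩
  · simp only [g, Category.assoc]
    exact Resolve.IsNormPtBlowupSeq.step b M.r z hzc hb M.seq
  · rw [Category.assoc]; infer_instance
  · rw [Category.assoc]; exact hgb.comp M.birat
  have hsub : RegularFactor.contracted c' ⊆ RegularFactor.contracted c := fun ξ hξ => ⟨hξ.1, by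
    rw [← hc'g, Scheme.Hom.comp_apply]
    have := g.isClosedMap _ hξ.2
    rwa [Set.image_singleton] at this⟩
  refine Set.ncard_lt_ncard ⟨hsub, fun hsup => ?_⟩ (finite_nonclosed c hc hdZ U hU)
  haveI : IsLocallyNoetherian (Curv2.normalization Z') := LocallyOfFiniteType.isLocallyNoetherian g
  haveI : CompactSpace ↥(Curv2.normalization Z') := QuasiCompact.compactSpace_of_compactSpace g
  haveI : IsNoetherian (Curv2.normalization Z') := ⟨⟩
  haveI : IsIso g := by
    refine RegularFactor.isIso_of_finite_fibres g hgb M.normal fun w => ?_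
    by_cases hwc : IsClosed ({w} : Set M.Z)
    swap
    · refine Set.Subsingleton.finite fun a ha b' hb' => ?_
      haveI : ValuationRing (M.Z.presheaf.stalk (g a)) := by
        rw [show g a = w from ha]
        exact valuationRing_of_not_isClosed (𝟙 M.Z) (isBirat_of_isIso (𝟙 M.Z)) M.normal hdZ hwc
      exact hgb.eq_of_valuationRing ((ha : g a = w).trans (hb' : g b' = w).symm)
    refine finite_of_forall_isClosed (hwc.preimage g.continuous) fun ζ hζ => ?_
    by_contra hζc
    obtain ⟨ξ, hξ⟩ : ζ ∈ Set.range c' := (genericPoint_specializes ζ).mem_closed c'.isClosedMap.isClosed_range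
      ⟨_, hc'b.apply_genericPoint⟩
    subst hξ
    have hξc : ξ ∈ RegularFactor.contracted c := ⟨fun hcl => hζc (by
      have := c'.isClosedMap _ hcl
      rwa [Set.image_singleton] at this), by
      rw [← hc'g, Scheme.Hom.comp_apply, show g (c' ξ) = w from hζ]; exact hwc⟩
    exact hζc (hsup hξc).2
  obtain ⟨z'', hz''⟩ : ∃ z'', g z'' = z := ⟨(inv g) z, by rw [← Scheme.Hom.comp_apply, IsIso.inv_hom_id]; rfl⟩
  obtain ⟨t, ht, hdvd⟩ := exists_generator_maximalIdeal b hzc hb.1 (Curv2.normalizationι Z' z'') hz''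
  have hbij : Function.Bijective (g.stalkMap z'').hom := ConcreteCategory.bijective_of_isIso _
  obtain ⟨t₀, ht₀⟩ := hbij.2 (((Curv2.normalizationι Z').stalkMap z'').hom t)
  have hmax : maximalIdeal (M.Z.presheaf.stalk (g z'')) ≤ Ideal.span {t₀} := by
    intro a ha
    rw [Ideal.mem_span_singleton]
    have h1 : (g.stalkMap z'').hom t₀ ∣ (g.stalkMap z'').hom a := by
      rw [ht₀, show g.stalkMap z'' = b.stalkMap (Curv2.normalizationι Z' z'') ≫ (Curv2.normalizationι Z').stalkMap z''
        from Scheme.Hom.stalkMap_comp _ _ _]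
      exact map_dvd ((Curv2.normalizationι Z').stalkMap z'').hom (hdvd a ha)
    obtain ⟨q, hq⟩ := h1
    obtain ⟨q, rfl⟩ := hbij.2 q
    exact ⟨q, hbij.1 (by rw [hq, map_mul])⟩
  have ht₀m : Ideal.span {t₀} ≤ maximalIdeal (M.Z.presheaf.stalk (g z'')) :=
    (Ideal.span_singleton_le_iff_mem _).2 ((mem_maximalIdeal _).2 fun hu => ht
      (isUnit_of_map_unit ((Curv2.normalizationι Z').stalkMap z'').hom _ (ht₀ ▸ hu.map (g.stalkMap z'').hom)))
  haveI : IsNoetherianRing (M.Z.presheaf.stalk (g z'')) := inferInstance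
  have h1 := ringKrullDim_le_spanFinrank_maximalIdeal (M.Z.presheaf.stalk (g z''))
  rw [le_antisymm hmax ht₀m] at h1
  have h2 := Submodule.spanFinrank_span_le_ncard_of_finite (R := M.Z.presheaf.stalk (g z''))
    (s := ({t₀} : Set (M.Z.presheaf.stalk (g z'')))) (Set.finite_singleton _)
  rw [Set.ncard_singleton] at h2
  have h3 : ringKrullDim (M.Z.presheaf.stalk (g z'')) ≤ 1 := h1.trans (by exact_mod_cast h2)
  rw [hz'', hz2] at h3
  exact absurd h3 (by norm_num)

/-- Normalized blowings up resolve a resolvable surface. -/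
theorem exists_regular_model [IsNoetherian X] (hd : topologicalKrullDim X ≤ 2) {X₀ : Scheme.{u}} [IsIntegral X₀]
    (f : X₀ ⟶ X) [IsProper f] (U : X.Opens) (hU : (U : Set X).Nonempty) [IsIso (f ∣_ U)]
    (hX₀ : ∀ x : X₀, IsRegularLocalRing (X₀.presheaf.stalk x)) :
    ∃ M : Model X, ∀ z : M.Z, IsRegularLocalRing (M.Z.presheaf.stalk z) := by
  have hf : IsBirat f := isBirat_of_isIso_restrict f U hU
  haveI : IsLocallyNoetherian X₀ := LocallyOfFiniteType.isLocallyNoetherian f
  haveI : CompactSpace X₀ := QuasiCompact.compactSpace_of_compactSpace f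
  haveI : IsNoetherian X₀ := ⟨⟩
  have hd₀ := RegularFactor.topologicalKrullDim_le_of_birat f hf hd
  have hN := RegularOver.finNorm_of_resolution hd f hf hX₀
  obtain ⟨M₀, h₀, hh₀⟩ := exists_model_dominating (f := f) hN hd (RegularFactor.isNormalScheme_of_regular hX₀) U hU
  haveI : IsProper (h₀ ≫ f) := by rw [hh₀]; infer_instance
  haveI : IsProper h₀ := IsProper.of_comp h₀ f
  have hh₀b : IsBirat h₀ := (hh₀.symm ▸ M₀.birat : IsBirat (h₀ ≫ f)).of_comp hf
  obtain ⟨W, hW, _⟩ := exists_isIso_restrict h₀ hh₀b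
  obtain ⟨X', _, k, hkp, hkb, hX', V, hV, hVi⟩ := RegularOver.exists_regular_above hX₀ hd₀ h₀ hh₀b W hW
  suffices key : ∀ (n : ℕ) (M : Model X) (h : M.Z ⟶ X₀) (c : X' ⟶ M.Z), IsProper h → IsBirat h → IsProper c →
      IsBirat c → c ≫ h = k ≫ h₀ → (RegularFactor.contracted c).ncard < n →
      ∃ M : Model X, ∀ z : M.Z, IsRegularLocalRing (M.Z.presheaf.stalk z) from
    key _ M₀ h₀ k inferInstance hh₀b hkp hkb rfl (Nat.lt_succ_self _)
  intro n
  induction n with
  | zero => exact fun _ _ _ _ _ _ _ _ hlt => absurd hlt (Nat.not_lt_zero _)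
  | succ n ih =>
    intro M h c hhp hhb hcp hcb hch hlt
    by_cases hreg : ∀ z : M.Z, IsRegularLocalRing (M.Z.presheaf.stalk z)
    · exact ⟨M, hreg⟩
    push Not at hreg
    obtain ⟨z, hz⟩ := hreg
    haveI := hhp
    haveI := hcp
    haveI : IsIso ((c ≫ h) ∣_ V) := by rw [hch]; exact hVi
    obtain ⟨M', g, c', hgp, hgb, hc'p, hc'b, -, hc'g, -, hlt'⟩ :=
      exists_better hN hX₀ hd₀ hX' V hV M h hhb c hcb hz
    haveI := hgp
    exact ih M' (g ≫ h) c' inferInstance (hgb.comp hhb) hc'p hc'b (by rw [← Category.assoc, hc'g, hch])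
      (lt_of_lt_of_le hlt' (by omega))

end Groth.Agent.ResSurf.RegularModel
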