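import Groth.Agent.NormCurve.Scheme
import Groth.Agent.ResSurf.AlterNorm
import Groth.Agent.ResSurf.RegularModel
import Groth.Prelude.Def_ResolveSeq

/-!
# Resolving a curve with finite normalization by blowing up points
-/

universe u

open CategoryTheory CategoryTheory.Limits AlgebraicGeometry TopologicalSpace IsLocalRing

set_option autoImplicit false
set_option backward.isDefEq.respectTransparency false
set_option backward.isDefEq.respectTransparency.types false
set_option linter.style.haveILetI false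

namespace Groth.Agent.ResSurf.CurveBlowups

theorem dedekind_stalk_normalization (X : Scheme.{u}) [IsIntegral X] [IsLocallyNoetherian X]
    [QuasiCompact (X.fromSpecStalk (genericPoint X))] [QuasiSeparated (X.fromSpecStalk (genericPoint X))]
    (hdim : topologicalKrullDim X ≤ 1) (y : Curv2.normalization X) :
    IsDedekindDomain ((Curv2.normalization X).presheaf.stalk y) := by
  haveI := NormCurve.isLocallyNoetherian_normalization X hdim
  obtain ⟨_, ⟨V, hV, rfl⟩, hyV, -⟩ := (Curv2.normalization X).isBasis_affineOpens.exists_subset_of_mem_open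
    (Set.mem_univ y) isOpen_univ
  haveI := NormCurve.isDedekindDomain_affineOpen X hdim hV ⟨y, hyV⟩
  letI := (Curv2.normalization X).presheaf.algebra_section_stalk ⟨y, hyV⟩
  haveI := hV.isLocalization_stalk ⟨y, hyV⟩
  exact IsLocalization.isDedekindDomain Γ(Curv2.normalization X, V)
    (hV.primeIdealOf ⟨y, hyV⟩).asIdeal.primeCompl_le_nonZeroDivisors _

theorem regular_stalk_normalization (X : Scheme.{u}) [IsIntegral X] [IsLocallyNoetherian X]
    [QuasiCompact (X.fromSpecStalk (genericPoint X))] [QuasiSeparated (X.fromSpecStalk (genericPoint X))]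
    (hdim : topologicalKrullDim X ≤ 1) (y : Curv2.normalization X) :
    IsRegularLocalRing ((Curv2.normalization X).presheaf.stalk y) := by
  haveI := NormCurve.isLocallyNoetherian_normalization X hdim
  haveI := dedekind_stalk_normalization X hdim y
  infer_instance

theorem not_isClosed_genericPoint {X : Scheme.{u}} [IsIntegral X] (hdim : topologicalKrullDim X = 1) :
    ¬ IsClosed ({genericPoint X} : Set X) := fun h => by
  have h1 : (Set.univ : Set X) = {genericPoint X} := (genericPoint_spec X).def.symm.trans h.closure_eq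
  haveI : Subsingleton X := Set.subsingleton_univ_iff.1 (h1 ▸ Set.subsingleton_singleton)
  haveI : Subsingleton (IrreducibleCloseds X) :=
    (irreducibleSetEquivPoints (α := X)).toEquiv.subsingleton
  have h2 : Order.krullDim (IrreducibleCloseds X) ≤ 0 := Order.krullDim_nonpos_of_subsingleton
  rw [show topologicalKrullDim X = Order.krullDim (IrreducibleCloseds X) from rfl] at hdim
  rw [hdim] at h2
  exact absurd h2 (by decide)

/-- On an integral scheme of dimension at most one every point other than the generic one is closed. -/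
theorem isClosed_of_ne_genericPoint {X : Scheme.{u}} [IsIntegral X] (hdim : topologicalKrullDim X ≤ 1)
    {x : X} (hx : x ≠ genericPoint X) : IsClosed ({x} : Set X) := by
  rw [← closure_eq_iff_isClosed]
  refine Set.Subset.antisymm (fun y hy => ?_) subset_closure
  by_contra hne
  have hxy : x ⤳ y := specializes_iff_mem_closure.2 hy
  let f := (irreducibleSetEquivPoints (α := X)).symm
  have h1 : f y < f x := f.strictMono (show y < x from lt_of_le_not_ge (show y ≤ x from hxy) fun h' => hne (Inseparable.eq (Specializes.antisymm hxy h' : Inseparable x y)).symm)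
  have h2 : f x < f (genericPoint X) := f.strictMono (show x < genericPoint X from lt_of_le_not_ge (show x ≤ genericPoint X from genericPoint_specializes x) fun h' => hx (Inseparable.eq (Specializes.antisymm h' (genericPoint_specializes x) : Inseparable x (genericPoint X))))
  let l : LTSeries (IrreducibleCloseds X) :=
    ((RelSeries.singleton _ (f y)).snoc (f x) h1).snoc (f (genericPoint X)) (by simpa using h2)
  have h3 : ((2 : ℕ) : WithBot ℕ∞) ≤ 1 := (le_iSup (fun p : LTSeries (IrreducibleCloseds X) => (p.length : WithBot ℕ∞)) l).trans hdim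
  exact absurd h3 (by decide)

/-- A sequence of point blowups of an integral Noetherian scheme whose generic point is not closed is a
proper birational morphism from an integral scheme. -/
theorem ptSeq_facts {Y X : Scheme.{u}} {g : Y ⟶ X} (h : Resolve.IsPtBlowupSeq g) :
    ∀ [IsIntegral X] [IsLocallyNoetherian X], ¬ IsClosed ({genericPoint X} : Set X) →
      IsProper g ∧ ∃ _ : IsIntegral Y, IsBirat g := by
  induction h with
  | @iso Y X e =>
    intro _ _ _
    haveI : Nonempty Y := ⟨e.inv (genericPoint X)⟩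
    haveI : IsIntegral Y := isIntegral_of_isOpenImmersion e.hom
    exact ⟨inferInstance, inferInstance, isBirat_of_isIso e.hom⟩
  | @step Y Z X b r z hz hb hr ih =>
    intro _ _ hX
    obtain ⟨hp, _, hr'⟩ := ih hX
    haveI := hp
    haveI : IsLocallyNoetherian Z := LocallyOfFiniteType.isLocallyNoetherian r
    set C := Scheme.IdealSheafData.vanishingIdeal (X := Z) ⟨{z}, hz⟩
    have hsupp : (C.support : Set Z) = {z} := Scheme.IdealSheafData.coe_support_vanishingIdeal _
    have hne : genericPoint Z ≠ z := fun e => hX <| by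
      have := r.isClosedMap _ (e ▸ hz)
      rwa [Set.image_singleton, hr'.apply_genericPoint] at this
    haveI : IsProper b := BlowUpLib.isProper_of_isBlowUp C hb fun U => by
      haveI := IsLocallyNoetherian.component_noetherian U
      exact IsNoetherian.noetherian _
    haveI : IsIntegral Y := BlowInt.isIntegral hb fun h => hne (hsupp.le h)
    let O : Z.Opens := ⟨({z} : Set Z)ᶜ, hz.isOpen_compl⟩
    haveI : IsIso (b ∣_ O) := BlowUpLib.isIso_restrict hb O (fun w hw hws => hw (hsupp.le hws))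
    exact ⟨inferInstance, inferInstance, (isBirat_of_isIso_restrict b O ⟨genericPoint Z, hne⟩).comp hr'⟩

variable {Y N : Scheme.{u}} [IsIntegral N]

theorem appLE_injective {W Z : Scheme.{u}} [IsIntegral W] [IsIntegral Z] (k : W ⟶ Z) [IsDominant k]
    (U : Z.Opens) (V : W.Opens) (hV : V = k ⁻¹ᵁ U) : Function.Injective (k.appLE U V hV.le).hom := by
  subst hV
  rw [← Scheme.Hom.app_eq_appLE]
  exact AlterNorm.app_injective_of_isDominant k U

/-- The sections of `Z` over `U` inside those of `N`. -/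
def secRange (ν : N ⟶ Y) {Z : Scheme.{u}} (k : N ⟶ Z) (r : Z ⟶ Y) (hk : k ≫ r = ν) (U : Y.Opens) :
    letI := (ν.app U).hom.toAlgebra
    Submodule Γ(Y, U) Γ(N, ν ⁻¹ᵁ U) :=
  letI := (ν.app U).hom.toAlgebra
  { carrier := Set.range (k.appLE (r ⁻¹ᵁ U) (ν ⁻¹ᵁ U) (by subst hk; exact le_rfl)).hom
    add_mem' := by rintro _ _ ⟨a, rfl⟩ ⟨b, rfl⟩; exact ⟨a + b, map_add _ _ _⟩
    zero_mem' := ⟨0, map_zero _⟩
    smul_mem' := by
      rintro c _ ⟨a, rfl⟩
      refine ⟨(r.app U).hom c * a, ?_⟩
      subst hk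
      rw [map_mul, Algebra.smul_def]
      congr 1
      show (k.appLE (r ⁻¹ᵁ U) _ _).hom ((r.app U).hom c) = ((k ≫ r).app U).hom c
      exact (congrArg (fun φ => φ.hom ((r.app U).hom c)) (k.app_eq_appLE (U := r ⁻¹ᵁ U)).symm).trans rfl }

theorem exists_ptSeq_regular [IsIntegral Y] [IsNoetherian Y] (hdim : topologicalKrullDim Y = 1)
    (ν : N ⟶ Y) [IsFinite ν] (hν : IsBirat ν)
    (hpr : ∀ x : N, IsPrincipalIdealRing (N.presheaf.stalk x)) :
    ∃ (Z : Scheme.{u}) (r : Z ⟶ Y), Resolve.IsPtBlowupSeq r ∧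
      ∀ z : Z, IsRegularLocalRing (Z.presheaf.stalk z) := by
  haveI : IsLocallyNoetherian N := LocallyOfFiniteType.isLocallyNoetherian ν
  obtain ⟨s, hs, hsY⟩ : ∃ s : Set Y.affineOpens, s.Finite ∧ ∀ y : Y, ∃ U ∈ s, y ∈ U.1 := by
    have hc : ∀ y : Y, ∃ U : Y.affineOpens, y ∈ U.1 := fun y => by
      obtain ⟨U, hU, hy, -⟩ := exists_isAffineOpen_mem_and_subset (x := y) (U := ⊤) trivial
      exact ⟨⟨U, hU⟩, hy⟩
    choose U hU using hc
    obtain ⟨t, ht⟩ := isCompact_univ.elim_finite_subcover (fun y => ((U y).1 : Set Y)) (fun y => (U y).1.isOpen)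
      (fun y _ => Set.mem_iUnion.2 ⟨y, hU y⟩)
    refine ⟨U '' (t : Set Y), t.finite_toSet.image U, fun y => ?_⟩
    obtain ⟨i, hi, hyi⟩ := Set.mem_iUnion₂.1 (ht (Set.mem_univ y))
    exact ⟨U i, ⟨i, hi, rfl⟩, hyi⟩
  haveI := hs.to_subtype
  letI : ∀ U : Y.Opens, Algebra Γ(Y, U) Γ(N, ν ⁻¹ᵁ U) := fun U => (ν.app U).hom.toAlgebra
  haveI hnoe : ∀ i : s, _root_.IsNoetherian Γ(Y, i.1.1) Γ(N, ν ⁻¹ᵁ i.1.1) := fun i => by
    haveI : IsNoetherianRing Γ(Y, i.1.1) := IsLocallyNoetherian.component_noetherian i.1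
    haveI : Module.Finite Γ(Y, i.1.1) Γ(N, ν ⁻¹ᵁ i.1.1) := ν.finite_app _ i.1.2
    exact isNoetherian_of_isNoetherianRing_of_finite _ _
  let M := ∀ i : s, (Submodule Γ(Y, i.1.1) Γ(N, ν ⁻¹ᵁ i.1.1))ᵒᵈ
  haveI : WellFoundedLT M := Pi.wellFoundedLT
  suffices h : ∀ (m : M) (Z : Scheme.{u}) (r : Z ⟶ Y) (k : N ⟶ Z) (hk : k ≫ r = ν),
      (fun i : s => OrderDual.toDual (secRange ν k r hk i.1.1)) = m →
      Resolve.IsPtBlowupSeq r → ∃ (Z : Scheme.{u}) (r : Z ⟶ Y), Resolve.IsPtBlowupSeq r ∧
        ∀ z : Z, IsRegularLocalRing (Z.presheaf.stalk z) from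
    h _ Y (𝟙 Y) ν (Category.comp_id ν) rfl (Resolve.IsPtBlowupSeq.iso (Iso.refl Y))
  intro m
  induction m using WellFoundedLT.induction with
  | ind m IH =>
  intro Z r k hk hm hr
  by_cases hreg : ∀ z : Z, IsRegularLocalRing (Z.presheaf.stalk z)
  · exact ⟨Z, r, hr, hreg⟩
  push Not at hreg
  obtain ⟨z, hz⟩ := hreg
  obtain ⟨hrp, _, hrb⟩ := ptSeq_facts hr (not_isClosed_genericPoint hdim)
  haveI := hrp
  haveI : IsLocallyNoetherian Z := LocallyOfFiniteType.isLocallyNoetherian r
  have hkb : IsBirat k := (hk.symm ▸ hν : IsBirat (k ≫ r)).of_comp hrb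
  haveI : IsProper (k ≫ r) := by rw [hk]; infer_instance
  haveI : IsProper k := IsProper.of_comp k r
  have hksurj : ∀ w : Z, ∃ x, k x = w := fun w => by
    have hcl : IsClosed (Set.range k) := k.isClosedMap.isClosed_range
    have h1 : closure {genericPoint Z} ⊆ Set.range k :=
      hcl.closure_subset_iff.2 (Set.singleton_subset_iff.2 ⟨_, hkb.apply_genericPoint⟩)
    rw [(genericPoint_spec Z).def] at h1
    exact h1 (Set.mem_univ w)
  haveI : LocallyQuasiFinite r := locallyQuasiFinite_iff_finite_preimage_singleton.2 fun y => by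
    refine ((ν.finite_preimage_singleton y).image k).subset fun w hw => ?_
    obtain ⟨x, rfl⟩ := hksurj w
    exact ⟨x, by rw [Set.mem_preimage, ← hk, Scheme.Hom.comp_apply]; exact hw, rfl⟩
  haveI : IsFinite r := IsFinite.of_isProper_of_locallyQuasiFinite r
  have hzg : z ≠ genericPoint Z := by
    rintro rfl
    exact hz (by
      haveI : IsField (Z.presheaf.stalk (genericPoint Z)) → IsRegularLocalRing (Z.presheaf.stalk (genericPoint Z)) :=
        fun h => by letI := h.toField; infer_instance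
      exact this (Field.toIsField Z.functionField))
  have hzc : IsClosed ({z} : Set Z) := by
    have hc : IsClosed ({r z} : Set Y) := isClosed_of_ne_genericPoint hdim.le fun h => hzg (hrb.eq_genericPoint h)
    have hd : DiscreteTopology (r ⁻¹' {r z} : Set Z) :=
      isDiscrete_iff_discreteTopology.1 (r.isDiscrete_preimage_singleton (r z))
    have hcl : IsClosed (r ⁻¹' {r z} : Set Z) := hc.preimage r.continuous
    have := (hcl.isClosedEmbedding_subtypeVal.isClosed_iff_image_isClosed).1
      (isClosed_discrete ({⟨z, rfl⟩} : Set (r ⁻¹' {r z} : Set Z)))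
    rwa [Set.image_singleton] at this
  set C := Scheme.IdealSheafData.vanishingIdeal (X := Z) ⟨{z}, hzc⟩
  have hsupp : (C.support : Set Z) = {z} := Scheme.IdealSheafData.coe_support_vanishingIdeal _
  have hgen : genericPoint Z ∉ C.support := fun h => hzg (hsupp.le h).symm
  have hCk : BlowUp.IsEffCartierIdeal (C.comap k) :=
    RegularModel.isEffCartier_comap_point k hzc (by rw [hkb.apply_genericPoint]; exact hzg.symm)
      fun x _ => (hpr x).principal _
  obtain ⟨Z', b, hb⟩ := BlowUpLib.exists_blowUp (C := C)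
  obtain ⟨k', hk', -⟩ := hb.2 N k hCk
  have hr' : Resolve.IsPtBlowupSeq (b ≫ r) := Resolve.IsPtBlowupSeq.step b r z hzc hb hr
  have hk'r : k' ≫ b ≫ r = ν := by rw [← Category.assoc, hk', hk]
  refine IH (fun i : s => OrderDual.toDual (secRange ν k' (b ≫ r) hk'r i.1.1)) ?_ Z' (b ≫ r) k' hk'r rfl hr'
  obtain ⟨hr'p, _, hr'b⟩ := ptSeq_facts hr' (not_isClosed_genericPoint hdim)
  haveI := hr'p
  haveI : IsLocallyNoetherian Z' := LocallyOfFiniteType.isLocallyNoetherian (b ≫ r)
  have hk'b : IsBirat k' := (hk'r.symm ▸ hν : IsBirat (k' ≫ b ≫ r)).of_comp hr'b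
  haveI : IsProper (k' ≫ b ≫ r) := by rw [hk'r]; infer_instance
  haveI : IsProper k' := IsProper.of_comp k' (b ≫ r)
  haveI : IsDominant k' := ⟨by
    have : Dense ({genericPoint Z'} : Set Z') := dense_iff_closure_eq.2 (genericPoint_spec Z').def
    exact this.mono (Set.singleton_subset_iff.2 ⟨_, hk'b.apply_genericPoint⟩)⟩
  haveI : IsProper b := IsProper.of_comp b r
  have hk'surj : ∀ w : Z', ∃ x, k' x = w := fun w => by
    have hcl : IsClosed (Set.range k') := k'.isClosedMap.isClosed_range
    have h1 : closure {genericPoint Z'} ⊆ Set.range k' :=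
      hcl.closure_subset_iff.2 (Set.singleton_subset_iff.2 ⟨_, hk'b.apply_genericPoint⟩)
    rw [(genericPoint_spec Z').def] at h1
    exact h1 (Set.mem_univ w)
  haveI : LocallyQuasiFinite b := locallyQuasiFinite_iff_finite_preimage_singleton.2 fun w => by
    haveI : LocallyQuasiFinite k := by
      haveI : LocallyQuasiFinite (k ≫ r) := by rw [hk]; infer_instance
      exact LocallyQuasiFinite.of_comp k r
    refine ((k.finite_preimage_singleton w).image k').subset fun w' hw' => ?_
    obtain ⟨x, rfl⟩ := hk'surj w'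
    exact ⟨x, by rw [Set.mem_preimage, ← hk', Scheme.Hom.comp_apply]; exact hw', rfl⟩
  haveI : IsFinite b := IsFinite.of_isProper_of_locallyQuasiFinite b
  subst hm
  have hcomp : ∀ (U : Y.Opens) (a : Γ(Z, r ⁻¹ᵁ U)),
      (k.appLE (r ⁻¹ᵁ U) (ν ⁻¹ᵁ U) (by subst hk; exact le_rfl)).hom a =
        (k'.appLE ((b ≫ r) ⁻¹ᵁ U) (ν ⁻¹ᵁ U) (by subst hk'r; exact le_rfl)).hom ((b.app (r ⁻¹ᵁ U)).hom a) := by
    subst hk'
    intro U a
    rw [Scheme.Hom.comp_appLE]
    rfl
  refine lt_of_le_of_ne (fun i => ?_) fun heq => ?_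
  · rintro x ⟨a, rfl⟩
    exact ⟨(b.app (r ⁻¹ᵁ i.1.1)).hom a, (hcomp _ a).symm⟩
  · have hbiso : IsIso b := by
      refine (IsZariskiLocalAtTarget.iff_of_iSup_eq_top (P := MorphismProperty.isomorphisms Scheme)
        (fun i : s => r ⁻¹ᵁ i.1.1) ?_).2 fun i => ?_
      · refine top_le_iff.1 fun w _ => ?_
        obtain ⟨U, hUs, hwU⟩ := hsY (r w)
        exact Opens.mem_iSup.2 ⟨⟨U, hUs⟩, hwU⟩
      have hU : IsAffineOpen (r ⁻¹ᵁ i.1.1) := i.1.2.preimage r
      refine (isIso_morphismRestrict_iff_isIso_app (f := b) hU).2 ((ConcreteCategory.isIso_iff_bijective _).2 ?_)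
      have hinj : Function.Injective
          (k'.appLE ((b ≫ r) ⁻¹ᵁ i.1.1) (ν ⁻¹ᵁ i.1.1) (by subst hk'r; exact le_rfl)).hom := by
        exact appLE_injective k' _ _ (by rw [← hk'r]; rfl)
      refine ⟨fun a a' haa' => ?_, fun c => ?_⟩
      · haveI : IsDominant k := ⟨fun w => subset_closure (hksurj w)⟩
        have hkinj : Function.Injective (k.appLE (r ⁻¹ᵁ i.1.1) (ν ⁻¹ᵁ i.1.1) (by subst hk; exact le_rfl)).hom := by
          exact appLE_injective k _ _ (by rw [← hk]; rfl)
        refine hkinj ?_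
        rw [hcomp, hcomp, haa']
      · have h1 : (k'.appLE ((b ≫ r) ⁻¹ᵁ i.1.1) (ν ⁻¹ᵁ i.1.1) (by subst hk'r; exact le_rfl)).hom c ∈
            secRange ν k' (b ≫ r) hk'r i.1.1 := ⟨c, rfl⟩
        have h2 := congrArg OrderDual.ofDual (congrFun heq i)
        change secRange ν k' (b ≫ r) hk'r i.1.1 = secRange ν k r hk i.1.1 at h2
        rw [h2] at h1
        obtain ⟨a, ha⟩ := h1
        exact ⟨a, hinj ((hcomp _ a).symm.trans ha)⟩
    haveI := hbiso
    obtain ⟨z', hz'⟩ := (inferInstance : Surjective b).surj z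
    obtain ⟨t, htnu, hdvd⟩ := RegularModel.exists_generator_maximalIdeal b hzc hb.1 z' hz'
    haveI : IsIso (b.stalkMap z') := inferInstance
    subst hz'
    apply hz
    haveI : IsDomain (Z.presheaf.stalk (b z')) := inferInstance
    have hbij := ConcreteCategory.bijective_of_isIso (b.stalkMap z')
    obtain ⟨t', ht'⟩ := hbij.2 t
    have htu : ¬ IsUnit t' := fun h => htnu (ht' ▸ h.map _)
    have hmax : maximalIdeal (Z.presheaf.stalk (b z')) = Ideal.span {t'} := by
      refine le_antisymm (fun a ha => ?_) ((Ideal.span_singleton_le_iff_mem _).2 htu)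
      obtain ⟨q, hq⟩ := hdvd a ha
      obtain ⟨q', rfl⟩ := hbij.2 q
      refine Ideal.mem_span_singleton.2 ⟨q', hbij.1 ?_⟩
      rw [map_mul, ht']
      exact hq
    have hp : (maximalIdeal (Z.presheaf.stalk (b z'))).IsPrincipal := ⟨⟨t', hmax⟩⟩
    haveI : IsDedekindDomain (Z.presheaf.stalk (b z')) :=
      ((tfae_of_isNoetherianRing_of_isLocalRing_of_isDomain (Z.presheaf.stalk (b z'))).out 4 2).1 hp
    infer_instance

end Groth.Agent.ResSurf.CurveBlowups
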