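import Groth.Agent.ResSurf.BadPoints
import Groth.Agent.QGorRing.FibreVanish
import Groth.Agent.QcqsColim.FTSub

/-!
# Cohomological dimension of modifications of two-dimensional local rings
-/

universe u

open CategoryTheory CategoryTheory.Limits AlgebraicGeometry TopologicalSpace IsLocalRing

set_option autoImplicit false
set_option backward.isDefEq.respectTransparency false
set_option backward.isDefEq.respectTransparency.types false
set_option linter.style.haveILetI false

namespace Groth.Agent.ResSurf.ModifVanish

open Groth.Agent

variable {A : Type u} [CommRing A] [IsDomain A] [IsLocalRing A] [IsNoetherianRing A]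
  {X : Scheme.{u}} [IsIntegral X] (f : X ⟶ Spec (CommRingCat.of A)) [IsProper f]

/-- The closed fibre of a modification of a two-dimensional local domain is at most one-dimensional. -/
theorem dim_closedFibre_le_one (hdim : ringKrullDim A = 2) (hf : IsBirat f) :
    topologicalKrullDim ↥(f.base ⁻¹' {closedPoint A}) ≤ (1 : ℕ) := by
  haveI : IsLocallyNoetherian X := LocallyOfFiniteType.isLocallyNoetherian f
  have hd : topologicalKrullDim X ≤ 2 := BadPoints.topologicalKrullDim_le_of_birat f hf
    ((PrimeSpectrum.topologicalKrullDim_eq_ringKrullDim A).trans hdim).le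
  refine BadPoints.topologicalKrullDim_closed_le_one (fun w => ?_) _
    ((isClosed_singleton_closedPoint _).preimage f.continuous) fun h => ?_
  · rw [DimFormula.ringKrullDim_stalk]
    exact WithBot.coe_le_coe.2 (by exact_mod_cast codim_le_of_dim_le (d := 2) (by exact_mod_cast hd) w)
  · have h1 : genericPoint (Spec (CommRingCat.of A)) = closedPoint A := hf.apply_genericPoint.symm.trans h
    have h2 : maximalIdeal A = ⊥ := by
      rw [genericPoint_eq_bot_of_affine] at h1
      exact (congrArg PrimeSpectrum.asIdeal h1).symm
    rw [ringKrullDim_eq_zero_of_isField (isField_iff_maximalIdeal_eq.2 h2)] at hdim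
    exact absurd hdim (by decide)

/-- Quasi-coherent cohomology vanishes in degrees at least two on a modification. -/
theorem subsingleton_HH_two_le (hdim : ringKrullDim A = 2) (hf : IsBirat f) {F : X.Modules}
    (hF : Coh.IsQCoh F) {p : ℕ} (hp : 2 ≤ p) : Subsingleton (Coh.HH X F p) := by
  letI : X.Over (Spec (CommRingCat.of A)) := ⟨f⟩
  haveI : IsProper (X ↘ Spec (CommRingCat.of A)) := ‹IsProper f›
  haveI : CompactSpace X := QuasiCompact.compactSpace_of_compactSpace f
  haveI : IsLocallyNoetherian X := LocallyOfFiniteType.isLocallyNoetherian f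
  exact QcqsColim.subsingleton_HH_of_ftSub hF p fun N hN =>
    QGorRing.subsingleton_HH_of_closedFibre (A := A) ⟨QCoh.isQCoh_of_ftOn hF hN, QCoh.isFT_of_ftOn hF hN⟩
      (d := 1) (dim_closedFibre_le_one f hdim hf) hp

end Groth.Agent.ResSurf.ModifVanish
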