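import Groth.Agent.ResSurf.PowSections
import Groth.Agent.ResSurf.ModifVanish
import Groth.Agent.ResSurf.PointCoh
import Groth.Agent.MeroX.BlowSpec

/-!
# Powers of the fibre ideal on a modification of a rational singularity
-/

universe u

open CategoryTheory CategoryTheory.Limits AlgebraicGeometry TopologicalSpace Opposite IsLocalRing

set_option autoImplicit false
set_option backward.isDefEq.respectTransparency false
set_option backward.isDefEq.respectTransparency.types false
set_option linter.style.haveILetI false

namespace Groth.Agent.ResSurf.FibreIdealPow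

open Groth.Agent Groth.Agent.ResSurf.PowSections

theorem isNormalScheme_Spec (A : Type u) [CommRing A] [IsDomain A] [IsIntegrallyClosed A] :
    Pi1.IsNormalScheme (Spec (CommRingCat.of A)) := by
  intro x
  let e := (Spec.stalkIso (CommRingCat.of A) x).commRingCatIsoToRingEquiv
  have hle := x.asIdeal.primeCompl_le_nonZeroDivisors
  haveI : IsDomain (Localization.AtPrime x.asIdeal) :=
    IsLocalization.isDomain_of_le_nonZeroDivisors _ hle
  haveI : IsIntegrallyClosed (Localization.AtPrime x.asIdeal) :=
    isIntegrallyClosed_of_isLocalization (Localization.AtPrime x.asIdeal) _ hle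
  exact ⟨e.toMulEquiv.isDomain _, IsIntegrallyClosed.of_equiv e.symm⟩

variable {A : Type u} [CommRing A] {X : Scheme.{u}} (f : X ⟶ Spec (CommRingCat.of A))

/-- The ideal of the fibre on an affine open. -/
theorem comap_ideal (J : Ideal A) (U : X.affineOpens) :
    ((Curv2.idealSheaf A J).comap f).ideal U = J.map ((res (le_top : U.1 ≤ ⊤)).comp (Coh.toGlobal f)) :=
  MeroX.ideal_comap_idealSheaf J f U

theorem pow_ideal (J : Ideal A) (n : ℕ) (U : X.affineOpens) :
    (((Curv2.idealSheaf A J).comap f) ^ n).ideal U = (J ^ n).map ((res (le_top : U.1 ≤ ⊤)).comp (Coh.toGlobal f)) := by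
  rw [Scheme.IdealSheafData.ideal_pow, Pi.pow_apply, comap_ideal, Ideal.map_pow]

variable [IsDomain A] [IsLocalRing A] [IsNoetherianRing A] [IsIntegrallyClosed A]

theorem main (hdim : ringKrullDim A = 2) [IsProper f] [IsIntegral X] (hXn : Pi1.IsNormalScheme X)
    (hA : Curv2.IsRationalSing A) (U₀ : (Spec (CommRingCat.of A)).Opens)
    (hU₀ : (U₀ : Set (Spec (CommRingCat.of A))).Nonempty) [IsIso (f ∣_ U₀)]
    (hE : BlowUp.IsEffCartierIdeal ((Curv2.idealSheaf A (maximalIdeal A)).comap f)) (n : ℕ) :
    Subsingleton (Coh.HH X (ClSub.idealMod (((Curv2.idealSheaf A (maximalIdeal A)).comap f) ^ n)) 1) ∧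
      ∀ a : A, (∀ U : X.affineOpens,
          Coh.resTop X (op U.1) (Coh.toGlobal f a) ∈ (((Curv2.idealSheaf A (maximalIdeal A)).comap f) ^ n).ideal U) ↔
        a ∈ maximalIdeal A ^ n := by
  classical
  haveI : IsLocallyNoetherian X := LocallyOfFiniteType.isLocallyNoetherian f
  haveI : CompactSpace X := QuasiCompact.compactSpace_of_compactSpace f
  haveI : QuasiSeparatedSpace X := quasiSeparatedSpace_of_quasiSeparated f
  have hf : IsBirat f := isBirat_of_isIso_restrict f U₀ hU₀
  have hH1 := hA X f inferInstance inferInstance hXn ⟨U₀, hU₀, inferInstance⟩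
  have hH2 : ∀ N : X.Modules, Coh.IsQCoh N → Subsingleton (Coh.HH X N 2) := fun N hN =>
    ModifVanish.subsingleton_HH_two_le f hdim hf hN le_rfl
  have hglob : Function.Bijective (Coh.toGlobal f) := by
    have hbir : Function.Bijective ((Spec (CommRingCat.of A)).presheaf.stalkSpecializes
        (specializes_of_eq hf.apply_genericPoint) ≫ f.stalkMap (genericPoint X)).hom := by
      haveI : ValuationRing ((Spec (CommRingCat.of A)).presheaf.stalk (f (genericPoint X))) := by
        rw [hf.apply_genericPoint]; exact inferInstanceAs (ValuationRing (Spec (CommRingCat.of A)).functionField)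
      haveI : IsIso (f.stalkMap (genericPoint X)) :=
        (ConcreteCategory.isIso_iff_bijective _).2 (hf.bijective_stalkMap _)
      haveI : IsIso ((Spec (CommRingCat.of A)).presheaf.stalkSpecializes (specializes_of_eq hf.apply_genericPoint)) :=
        (TopCat.Presheaf.stalkCongr (Spec (CommRingCat.of A)).presheaf
          (Inseparable.of_eq hf.apply_genericPoint.symm)).isIso_hom
      exact ConcreteCategory.bijective_of_isIso _
    exact (bijective_app_of_birational f (isNormalScheme_Spec A) hf.apply_genericPoint hbir ⊤).comp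
      (Scheme.ΓSpecIso (CommRingCat.of A)).commRingCatIsoToRingEquiv.symm.bijective
  set I := (Curv2.idealSheaf A (maximalIdeal A)).comap f
  refine ⟨?_, fun a => ⟨?_, fun ha U => ?_⟩⟩
  · obtain ⟨s, hs⟩ := IsNoetherian.noetherian (maximalIdeal A ^ n)
    refine subsingleton_HH_one_idealMod_span hH1 (fun N hN => hH2 N hN.1) (I ^ n) (s.image (Coh.toGlobal f))
      fun U => ?_
    rw [pow_ideal, ← hs, Ideal.submodule_span_eq, Ideal.map_span, Finset.coe_image, ← Set.image_comp]
    rfl
  swap
  · show (res (le_top : U.1 ≤ ⊤)).comp (Coh.toGlobal f) a ∈ _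
    rw [pow_ideal]
    exact Ideal.mem_map_of_mem _ ha
  -- the main inclusion, by induction
  revert a
  induction n with
  | zero => intro a _; rw [pow_zero, Ideal.one_eq_top]; trivial
  | succ n ih =>
    rcases n with _ | n
    · intro a ha
      rw [pow_one]
      by_contra hau
      have hu : IsUnit a := not_not.1 fun h => hau ((mem_maximalIdeal a).2 h)
      obtain ⟨p, hp⟩ : ∃ p, f p = closedPoint A := by
        have h1 : IsClosed (Set.range f) := f.isClosedMap.isClosed_range
        exact (genericPoint_specializes (α := Spec (CommRingCat.of A)) (closedPoint A)).mem_closed h1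
          ⟨_, hf.apply_genericPoint⟩
      obtain ⟨U, hU, hpU, -⟩ := exists_isAffineOpen_mem_and_subset (x := p) (U := ⊤) trivial
      have hmem := ha ⟨U, hU⟩
      rw [pow_ideal, pow_one] at hmem
      have hle : (maximalIdeal A).map ((res (le_top : U ≤ ⊤)).comp (Coh.toGlobal f)) ≤
          (maximalIdeal (X.presheaf.stalk p)).comap (X.presheaf.germ U p hpU).hom := by
        rw [Ideal.map_le_iff_le_comap]
        intro t ht
        simp only [Ideal.mem_comap]
        refine (mem_maximalIdeal _).2 fun hut => ?_
        rw [show (X.presheaf.germ U p hpU).hom ((res (le_top : U ≤ ⊤)).comp (Coh.toGlobal f) t) =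
          (X.presheaf.germ ⊤ p trivial).hom (Coh.toGlobal f t) from X.presheaf.germ_res_apply _ p hpU _] at hut
        have h2 : p ∈ X.basicOpen (U := ⊤) (Coh.toGlobal f t : Γ(X, ⊤)) :=
          (X.mem_basicOpen (U := ⊤) (Coh.toGlobal f t : Γ(X, ⊤)) p trivial).2 hut
        rw [show (Coh.toGlobal f t : Γ(X, ⊤)) = f.appTop ((Scheme.ΓSpecIso _).inv t) from rfl,
          ← Scheme.preimage_basicOpen_top] at h2
        have h3 : f p ∈ PrimeSpectrum.basicOpen t := by
          have := basicOpen_eq_of_affine (R := CommRingCat.of A) t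
          exact this ▸ h2
        rw [hp] at h3
        exact h3 ht
      exact (mem_maximalIdeal _).1 (hle hmem) ((hu.map (Coh.toGlobal f)).map (res (le_top : U ≤ ⊤)) |>.map
        (X.presheaf.germ U p hpU).hom)
    · intro a ha
      obtain ⟨s, hs⟩ := IsNoetherian.noetherian (maximalIdeal A)
      obtain ⟨c, hc, hac⟩ := exists_combination (fun i : (s : Set A) => Coh.toGlobal f i.1) I
        (fun U => by
          rw [show I.ideal U = _ from comap_ideal f (maximalIdeal A) U, ← hs, Ideal.submodule_span_eq,
            Ideal.map_span]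
          refine congrArg Ideal.span ?_
          rw [Set.image_eq_range]
          rfl)
        hE hH1 hH2 n (Coh.toGlobal f a) fun U => ha U
      choose b hb using fun i => hglob.2 (c i)
      have hbm : ∀ i, b i ∈ maximalIdeal A ^ (n + 1) := fun i => ih (b i) fun U => by
        show res _ (Coh.toGlobal f (b i)) ∈ _
        rw [hb i]
        exact hc i U
      have ha' : a = ∑ i, i.1 * b i := hglob.1 <| by
        rw [map_sum, hac]
        exact Finset.sum_congr rfl fun i _ => by rw [map_mul, hb i]
      rw [ha', pow_succ']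
      exact Ideal.sum_mem _ fun i _ => Ideal.mul_mem_mul (hs ▸ Ideal.subset_span i.2) (hbm i)

end Groth.Agent.ResSurf.FibreIdealPow
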