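import Groth.Agent.PnCoh.Finite.SerreVanishing
import Groth.Agent.QcqsColim.FTSub
import Groth.Agent.ResSurf.GGSpan
import Groth.Agent.QCoh.Local
import Groth.Agent.QCoh.OpenSub
import Groth.Agent.RPSM.QCohCat

/-!
# `H¹` of globally generated quasi-coherent modules when `H¹(O) = 0` and `H² = 0`
-/

universe u

open CategoryTheory CategoryTheory.Limits AlgebraicGeometry TopologicalSpace Opposite
open CategoryTheory.Abelian

set_option autoImplicit false
set_option backward.isDefEq.respectTransparency false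
set_option backward.isDefEq.respectTransparency.types false
set_option linter.style.haveILetI false

namespace Groth.Agent.ResSurf.GGVanish

open Groth.Agent Groth.Agent.QCoh

variable {X : Scheme.{u}}

/-- Finite sums of the structure module have no `H¹` when it has none. -/
theorem subsingleton_HH_sigma {ι : Type u} [Finite ι] (n : ℕ)
    (h : Subsingleton (Coh.HH X (Coh.structureModule X) n)) :
    Subsingleton (Coh.HH X (∐ fun _ : ι => Coh.structureModule X) n) := by
  classical
  obtain ⟨b, ⟨e⟩⟩ := Finite.exists_equiv_fin ι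
  haveI := Abelian.hasFiniteBiproducts (C := X.Modules)
  let T : Fin b → X.Modules := fun _ => Coh.structureModule X
  refine QCoh.subsingleton_HH_of_iso
    (Sigma.whiskerEquiv (g := T) e fun _ => Iso.refl (Coh.structureModule X)).symm n ?_
  refine PnCoh.Finite.subsingleton_HH_of_decomposition T
    (fun j => (biproduct.isoCoproduct T).inv ≫ biproduct.π T j)
    (fun j => biproduct.ι T j ≫ (biproduct.isoCoproduct T).hom) ?_ n fun _ => h
  have : ∀ j, ((biproduct.isoCoproduct T).inv ≫ biproduct.π T j) ≫ biproduct.ι T j ≫ (biproduct.isoCoproduct T).hom =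
      (biproduct.isoCoproduct T).inv ≫ (biproduct.π T j ≫ biproduct.ι T j) ≫ (biproduct.isoCoproduct T).hom :=
    fun j => by simp only [Category.assoc]
  rw [Finset.sum_congr rfl fun j _ => this j, ← Preadditive.comp_sum, ← Preadditive.sum_comp,
    biproduct.total, Category.id_comp, Iso.inv_hom_id]

/-- A submodule of finite type of a globally generated module is killed by every morphism killing
suitable finitely many global sections. -/
theorem exists_finite_killing [CompactSpace X] {F : X.Modules} (hF : Coh.IsQCoh F)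
    (hgg : Curv2.IsGloballyGenerated F) (N : SubMod F) (hN : FTOn N ⊤) :
    ∃ S : Set Γ(F, ⊤), S.Finite ∧
      ∀ (Q : X.Modules) (π : F ⟶ Q), (∀ s ∈ S, π.app ⊤ s = 0) → N.ι ≫ π = 0 := by
  classical
  have hloc : ∀ x : X, ∃ (V : X.Opens) (S : Set Γ(F, ⊤)), x ∈ V ∧ S.Finite ∧ ∃ T : Set Γ(F, V), GenBy N V T ∧
      ∀ t ∈ T, t ∈ Submodule.span Γ(X, V) ((fun s => F.presheaf.map (homOfLE (le_top : V ≤ ⊤)).op s) '' S) := by
    intro x
    obtain ⟨V, hV, hxV, -, T, hT⟩ := hN x trivial
    have hsp : ∀ t : Γ(F, V), ∃ S : Set Γ(F, ⊤), S.Finite ∧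
        t ∈ Submodule.span Γ(X, V) ((fun s => F.presheaf.map (homOfLE (le_top : V ≤ ⊤)).op s) '' S) := by
      intro t
      have ht : t ∈ Submodule.span Γ(X, V)
          (Set.range fun s : Γ(F, ⊤) => F.presheaf.map (homOfLE (le_top : V ≤ ⊤)).op s) :=
        span_res_eq_top hF hgg hV ▸ trivial
      obtain ⟨T', hT', ht'⟩ := Submodule.mem_span_finite_of_mem_span ht
      obtain ⟨S, -, hSf, hS⟩ := (Set.exists_subset_image_finite_and (p := fun A => t ∈ Submodule.span Γ(X, V) A)
        (f := fun s : Γ(F, ⊤) => F.presheaf.map (homOfLE (le_top : V ≤ ⊤)).op s) (s := Set.univ)).1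
        ⟨(T' : Set Γ(F, V)), (by rw [Set.image_univ]; exact hT'), T'.finite_toSet, ht'⟩
      exact ⟨S, hSf, hS⟩
    choose S hS hS' using hsp
    refine ⟨V, ⋃ t ∈ T, S t, hxV, hT.fin.biUnion fun t _ => hS t, T, hT, fun t ht => ?_⟩
    exact Submodule.span_mono (Set.image_mono (Set.subset_biUnion_of_mem (u := fun t => S t) ht)) (hS' t)
  choose V S hxV hS T hT hTS using hloc
  obtain ⟨s, hs⟩ := isCompact_univ.elim_finite_subcover (fun x => (V x : Set X)) (fun x => (V x).isOpen)
    (fun x _ => Set.mem_iUnion.2 ⟨x, hxV x⟩)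
  refine ⟨⋃ x ∈ s, S x, s.finite_toSet.biUnion fun x _ => hS x, fun Q π hπ => ?_⟩
  refine Scheme.Modules.hom_ext _ _ fun O => ?_
  ext n
  show π.app O (N.ι.app O n) = 0
  refine eq_zero_of_locally O _ fun y hy => ?_
  obtain ⟨x, hxs, hyx⟩ := Set.mem_iUnion₂.1 (hs (Set.mem_univ y))
  let O' : X.Opens := O ⊓ V x
  obtain ⟨P, hP, hyP, hmem⟩ := (hT x).gen O' inf_le_right _ (N.map_mem inf_le_left (N.ι_app_mem O n)) y ⟨hy, hyx⟩
  refine ⟨P, homOfLE (hP.trans inf_le_left), hyP, ?_⟩
  rw [← map_app_comm]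
  change rs F hP (rs F _ (N.ι.app O n)) ∈ _ at hmem
  rw [rs_rs] at hmem
  change π.app P (rs F _ (N.ι.app O n)) = 0
  revert hmem
  generalize rs F _ (N.ι.app O n) = m
  intro hmem
  induction hmem using Submodule.span_induction with
  | mem m hm =>
    obtain ⟨t, ht, rfl⟩ := hm
    show π.app P (F.presheaf.map (homOfLE _).op t) = 0
    rw [map_app_comm]
    suffices h : π.app (V x) t = 0 by rw [h, map_zero]
    have ht' := hTS x t ht
    clear ht
    induction ht' using Submodule.span_induction with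
    | mem v hv =>
      obtain ⟨g, hg, rfl⟩ := hv
      show π.app (V x) (F.presheaf.map (homOfLE _).op g) = 0
      rw [map_app_comm, hπ g (Set.mem_biUnion hxs hg), map_zero]
    | zero => rw [map_zero]
    | add a b _ _ ha hb => rw [map_add, ha, hb, add_zero]
    | smul c a _ ha => rw [Scheme.Modules.Hom.app_smul, ha, smul_zero]
  | zero => rw [map_zero]
  | add a b _ _ ha hb => rw [map_add, ha, hb, add_zero]
  | smul c a _ ha => rw [Scheme.Modules.Hom.app_smul, ha, smul_zero]

/-- `H¹` vanishes for globally generated quasi-coherent modules. -/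
theorem subsingleton_HH_one [CompactSpace X] [QuasiSeparatedSpace X] {F : X.Modules} (hF : Coh.IsQCoh F)
    (hgg : Curv2.IsGloballyGenerated F) (h1 : Subsingleton (Coh.HH X (Coh.structureModule X) 1))
    (h2 : ∀ M : X.Modules, Coh.IsQCoh M → Subsingleton (Coh.HH X M 2)) :
    Subsingleton (Coh.HH X F 1) := by
  haveI := QcqsColim.isIso_desc hF
  haveI : CompactSpace (TopCat.of X) := inferInstanceAs (CompactSpace X)
  refine subsingleton_of_forall_eq 0 fun x => ?_
  obtain ⟨N, y, hy⟩ := QcqsColim.exists_stage (T := TopCat.of X) (QcqsColim.ftDiagram F) 1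
    (x.comp (Ext.mk₀ (inv (colimit.desc (QcqsColim.ftDiagram F) (QcqsColim.ftCocone F)))) (add_zero 1))
  have hx : x = y.comp (Ext.mk₀ ((QCoh.toAbFunctor X).map N.1.ι)) (add_zero 1) := by
    have hd : colimit.ι (QcqsColim.ftDiagram F) N ≫ colimit.desc (QcqsColim.ftDiagram F) (QcqsColim.ftCocone F) =
        (QCoh.toAbFunctor X).map N.1.ι := colimit.ι_desc _ _
    rw [← hd, ← Ext.mk₀_comp_mk₀, ← Ext.comp_assoc_of_second_deg_zero, hy, Ext.comp_assoc_of_second_deg_zero,
      Ext.mk₀_comp_mk₀, IsIso.inv_hom_id, Ext.comp_mk₀_id]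
  obtain ⟨S, hSf, hS⟩ := exists_finite_killing hF hgg N.1 N.2
  haveI := hSf.to_subtype
  let ψ : (∐ fun _ : S => Coh.structureModule X) ⟶ F := Sigma.desc fun s => QCoh.homOfTop s.1
  have hkill : N.1.ι ≫ cokernel.π ψ = 0 := hS _ _ fun s hs => by
    have h0 : QCoh.homOfTop s ≫ cokernel.π ψ = 0 := by
      rw [show QCoh.homOfTop s = Sigma.ι (fun _ : S => Coh.structureModule X) ⟨s, hs⟩ ≫ ψ from
        (Sigma.ι_desc (f := fun _ : S => Coh.structureModule X) (fun t : S => QCoh.homOfTop t.1) ⟨s, hs⟩).symm,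
        Category.assoc, cokernel.condition, comp_zero]
    have h' := congrArg (fun φ : Coh.structureModule X ⟶ cokernel ψ =>
      Scheme.Modules.Hom.app φ ⊤ (1 : Γ(X, ⊤))) h0
    change (cokernel.π ψ).app ⊤ ((QCoh.homOfTop s).app ⊤ (1 : Γ(X, ⊤))) = 0 at h'
    rw [QCoh.homOfTop_app, one_smul] at h'
    have ht : (F.presheaf.map (homOfLE (le_top : (⊤ : X.Opens) ≤ ⊤)).op s) = s :=
      ConcreteCategory.congr_hom (F.presheaf.map_id _) s
    rwa [ht] at h'
  let Im := Abelian.image ψ
  have hIm : Subsingleton (Coh.HH X Im 1) := by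
    let K : ShortComplex X.Modules :=
      ShortComplex.mk (kernel.ι (Abelian.factorThruImage ψ)) (Abelian.factorThruImage ψ) (kernel.condition _)
    have hK : K.ShortExact := { exact := ShortComplex.exact_of_f_is_kernel _ (kernelIsKernel _) }
    have hq : Coh.IsQCoh (∐ fun _ : S => Coh.structureModule X) :=
      RPSM.isQCoh_sigma (f := fun _ : S => Coh.structureModule X) (h := fun _ => QCoh.isQCoh_structureModule)
    haveI : Mono (Abelian.image.ι ψ) := inferInstance
    have hker : Coh.IsQCoh K.X₁ :=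
      (QCoh.isQCoh_iff_iso (kernelIsoOfEq (Abelian.image.fac ψ).symm ≪≫
        kernelCompMono (Abelian.factorThruImage ψ) (Abelian.image.ι ψ))).1 (QCoh.isQCoh_kernel hq hF ψ)
    exact PnCoh.Finite.subsingleton_HH_X₃ hK 1 (subsingleton_HH_sigma 1 h1) (h2 _ hker)
  have hfac : kernel.lift (cokernel.π ψ) N.1.ι hkill ≫ Abelian.image.ι ψ = N.1.ι := kernel.lift_ι _ _ _
  rw [hx, ← hfac, Functor.map_comp, ← Ext.mk₀_comp_mk₀, ← Ext.comp_assoc_of_second_deg_zero,
    (hIm.elim _ 0 : y.comp (Ext.mk₀ ((QCoh.toAbFunctor X).map (kernel.lift (cokernel.π ψ) N.1.ι hkill)))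
      (add_zero 1) = (0 : Coh.HH X Im 1))]
  exact Ext.zero_comp _ _ _ _ _

end Groth.Agent.ResSurf.GGVanish
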