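import Groth.Agent.ResSurf.H1Push
import Groth.Agent.QCoh.HHExact
import Groth.Agent.SiteBase.CechCtx

/-!
# Stalks of the first higher direct image when the source has no `H¹`

If `H¹(X, F) = 0` and `H²(Y, f_* F) = 0`, a stalk of `R¹ f_* F` at an isolated point of its support
vanishes.
-/

universe u

open CategoryTheory CategoryTheory.Limits TopologicalSpace Opposite

namespace Groth.Agent.ResSurf

open QCoh

variable {X Y : TopCat.{u}} (f : X ⟶ Y)

theorem isZero_stalk_Rpush_one {F : CohTop.Ab X} {G : CohTop.Ab Y} (e : G ≅ (CohTop.push f).obj F)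
    (hF : Subsingleton (CohTop.H F 1)) (hG : Subsingleton (CohTop.H G 2)) (y : Y)
    (hy : IsClosed ({y} : Set Y)) (W₀ : Opens Y) (hyW₀ : y ∈ W₀)
    (hloc : ∀ U : Opens Y, U ≤ W₀ → ∀ y' ∈ U, y' ≠ y → ∃ W : Opens Y, W ≤ U ∧ y' ∈ W ∧
      Subsingleton (CohTop.HU F 1 ((Opens.map f).obj W))) :
    IsZero (CohTop.stalk ((CohTop.Rpush f 1).obj F) y) := by
  let T := SiteBase.injectiveSES (J := Opens.grothendieckTopology X) F
  have hT : T.ShortExact := SiteBase.injectiveSES_shortExact F
  haveI := Ab.push_isRightAdjoint f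
  haveI := hT.mono_f
  haveI hi2 : Injective ((CohTop.push f).obj T.X₂) := SiteBase.injective_push f T.X₂
  let R : ShortComplex (CohTop.Ab Y) := T.map (CohTop.push f)
  haveI : Mono R.f := inferInstanceAs (Mono ((CohTop.push f).map T.f))
  have hR : R.Exact := ShortComplex.exact_of_f_is_kernel _
    (KernelFork.mapIsLimit _ hT.fIsKernel (CohTop.push f))
  let S : ShortComplex (CohTop.Ab Y) :=
    ShortComplex.mk R.f (cokernel.π R.f) (cokernel.condition R.f)
  have hS : S.ShortExact :=
    { exact := ShortComplex.exact_of_g_is_cokernel _ (cokernelIsCokernel R.f)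
      mono_f := inferInstanceAs (Mono R.f)
      epi_g := inferInstanceAs (Epi (cokernel.π R.f)) }
  let φ : S.X₃ ⟶ R.X₃ := cokernel.desc R.f R.g R.zero
  haveI : Mono φ := hR.mono_cokernelDesc
  have hπφ : cokernel.π R.f ≫ φ = R.g := cokernel.π_desc _ _ _
  let D : ShortComplex (CohTop.Ab Y) := ShortComplex.mk φ (cokernel.π φ) (cokernel.condition φ)
  have hD : D.ShortExact :=
    { exact := ShortComplex.exact_of_g_is_cokernel _ (cokernelIsCokernel φ)
      mono_f := inferInstanceAs (Mono φ)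
      epi_g := inferInstanceAs (Epi (cokernel.π φ)) }
  -- `H¹` of the image
  have hS3 : Subsingleton (CohTop.H S.X₃ 1) := by
    have h2 : ∀ n, Subsingleton (CohTop.H S.X₂ (n + 1)) := fun n =>
      show Subsingleton (CohTop.H ((CohTop.push f).obj T.X₂) (n + 1)) from inferInstance
    have hS1 : Subsingleton (CohTop.H S.X₁ 2) := subsingleton_H_of_iso e.symm 2 hG
    exact (Equiv.ofBijective _ (Ab.connecting_bijective hS 1 (h2 0) (h2 1))).subsingleton
  -- sections of the quotient lift near the point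
  have key : ∀ (W : Opens Y) (s : R.X₃.obj.obj (op W)), y ∈ W → W ≤ W₀ →
      ∃ (W' : Opens Y) (h : W' ≤ W), y ∈ W' ∧
        ∃ i : R.X₂.obj.obj (op W'), R.g.hom.app (op W') i = R.X₃.obj.map (homOfLE h).op s := by
    intro W s hyW hW
    let O : Opens Y := ⟨({y} : Set Y)ᶜ, hy.isOpen_compl⟩
    let U : Bool → Opens Y := fun b => cond b W O
    have hcov : (⊤ : Opens Y) ≤ iSup U := fun z _ => by
      by_cases hz : z = y
      · exact Opens.mem_iSup.2 ⟨true, hz ▸ hyW⟩
      · exact Opens.mem_iSup.2 ⟨false, hz⟩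
    let sec : ∀ b, D.X₃.obj.obj (op (U b)) := fun b => match b with
      | true => D.g.hom.app (op W) s
      | false => 0
    -- away from the point the class vanishes
    have hvan : D.X₃.obj.map (homOfLE (inf_le_left : W ⊓ O ≤ W)).op (D.g.hom.app (op W) s) = 0 := by
      refine TopCat.Sheaf.eq_of_locally_eq' D.X₃
        (fun p : {W' : Opens Y // W' ≤ W ⊓ O ∧ Subsingleton (CohTop.HU F 1 ((Opens.map f).obj W'))} => p.1)
        (W ⊓ O) (fun p => homOfLE p.2.1) ?_ _ 0 fun p => ?_
      · intro z hz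
        obtain ⟨W', hW', hzW', hH⟩ := hloc (W ⊓ O) (inf_le_left.trans hW) z hz hz.2
        exact Opens.mem_iSup.2 ⟨⟨W', hW', hH⟩, hzW'⟩
      · rw [map_zero]
        obtain ⟨i, hi⟩ := SiteBase.surjective_sections_of_HU_one hT ((Opens.map f).obj p.1) p.2.2
          (R.X₃.obj.map (homOfLE (p.2.1.trans inf_le_left)).op s)
        have h1 : R.g.hom.app (op p.1) i = R.X₃.obj.map (homOfLE (p.2.1.trans inf_le_left)).op s := hi
        have h2 : D.g.hom.app (op p.1) (R.g.hom.app (op p.1) i) = 0 := by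
          rw [← hπφ]
          show (D.f ≫ D.g).hom.app (op p.1) ((cokernel.π R.f).hom.app (op p.1) i) = 0
          rw [D.zero]
          rfl
        rw [h1] at h2
        rw [← h2]
        refine Eq.trans ?_ (congr($(D.g.hom.naturality (homOfLE (p.2.1.trans inf_le_left)).op) s)).symm
        exact (congr($(D.X₃.obj.map_comp (homOfLE (inf_le_left : W ⊓ O ≤ W)).op (homOfLE p.2.1).op)
          (D.g.hom.app (op W) s))).symm
    obtain ⟨d, hd, -⟩ := TopCat.Sheaf.existsUnique_gluing' D.X₃ U ⊤ (fun b => homOfLE le_top) hcov sec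
      (fun b b' => by
        cases b <;> cases b'
        · rfl
        · show D.X₃.obj.map _ (0 : D.X₃.obj.obj (op O)) = D.X₃.obj.map _ (D.g.hom.app (op W) s)
          rw [map_zero]
          have := congrArg (D.X₃.obj.map (homOfLE (le_inf inf_le_right inf_le_left : O ⊓ W ≤ W ⊓ O)).op) hvan
          rw [map_zero, ← ConcreteCategory.comp_apply, ← Functor.map_comp] at this
          exact this.symm
        · show D.X₃.obj.map _ (D.g.hom.app (op W) s) = D.X₃.obj.map _ (0 : D.X₃.obj.obj (op O))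
          rw [map_zero]
          exact hvan
        · rfl)
    obtain ⟨t, ht⟩ := SiteBase.surjective_sections_of_HU_one hD (⊤ : Opens Y)
      (subsingleton_HU_top_of_H _ 1 hS3) d
    obtain ⟨i, hi⟩ := SiteBase.surjective_sections_of_HU_one hT ((Opens.map f).obj (⊤ : Opens Y))
      (subsingleton_HU_top_of_H F 1 hF) t
    have h0 : D.g.hom.app (op W) s = 0 := by
      have h1 : D.X₃.obj.map (homOfLE (le_top : W ≤ ⊤)).op d = D.g.hom.app (op W) s := hd true
      rw [← h1, ← ht, show t = R.g.hom.app (op (⊤ : Opens Y)) i from hi.symm, ← hπφ]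
      show D.X₃.obj.map _ ((D.f ≫ D.g).hom.app (op (⊤ : Opens Y)) ((cokernel.π R.f).hom.app _ i)) = 0
      rw [D.zero]
      exact map_zero _
    obtain ⟨c, hc⟩ := SiteBase.sections_exact hD W s h0
    have hloc' : TopCat.Presheaf.IsLocallySurjective (cokernel.π R.f).hom :=
      (TopCat.Sheaf.isLocallySurjective_iff_epi _).2 hS.epi_g
    obtain ⟨W', hW', ⟨i', hi'⟩, hyW'⟩ := (TopCat.Presheaf.isLocallySurjective_iff _).1 hloc' W c y hyW
    refine ⟨W', hW', hyW', i', ?_⟩
    rw [← hπφ]
    show φ.hom.app (op W') ((cokernel.π R.f).hom.app (op W') i') = _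
    rw [hi']
    refine (congr($(φ.hom.naturality (homOfLE hW').op) c)).trans ?_
    exact congrArg _ hc
  -- the derived functor
  let : HasDerivedCategory.{u + 1} (CohTop.Ab X) := HasDerivedCategory.standard _
  let : HasDerivedCategory.{u + 1} (CohTop.Ab Y) := HasDerivedCategory.standard _
  obtain ⟨δ, w₁, w₂, w₃, -, -, h₃⟩ := TriCat.exists_rightDerived_ses (CohTop.push f) hT 0
  haveI := Ab.push_preservesFiniteLimits f
  haveI hδ : Epi δ := h₃.epi_f
    ((Functor.isZero_rightDerived_obj_injective_succ (CohTop.push f) 0 T.X₂).eq_of_tgt _ _)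
  let ε := (CohTop.push f).rightDerivedZeroIsoSelf
  let δ' : R.X₃ ⟶ (CohTop.Rpush f 1).obj F := (ε.app T.X₃).inv ≫ δ
  haveI hδ' : Epi δ' := @epi_comp _ _ _ _ _ (ε.app T.X₃).inv inferInstance δ hδ
  have hz : R.g ≫ δ' = 0 := by
    show (CohTop.push f).map T.g ≫ (ε.app T.X₃).inv ≫ δ = 0
    rw [Iso.app_inv]
    rw [← Category.assoc, ε.inv.naturality, Category.assoc, w₂, comp_zero]
  refine @AddCommGrpCat.isZero_of_subsingleton _ (subsingleton_of_forall_eq 0 fun x => ?_)
  obtain ⟨U, hyU, m, rfl⟩ := TopCat.Presheaf.exists_germ_eq ((CohTop.Rpush f 1).obj F).obj x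
  have hloc' : TopCat.Presheaf.IsLocallySurjective δ'.hom :=
    (TopCat.Sheaf.isLocallySurjective_iff_epi _).2 hδ'
  obtain ⟨W, hWU, ⟨s, hs⟩, hyW⟩ := (TopCat.Presheaf.isLocallySurjective_iff _).1 hloc' (U ⊓ W₀)
    (((CohTop.Rpush f 1).obj F).obj.map (homOfLE inf_le_left).op m) y ⟨hyU, hyW₀⟩
  obtain ⟨W', hW', hyW', i, hi⟩ := key W s hyW (hWU.trans inf_le_right)
  have h1 : δ'.hom.app (op W') (R.X₃.obj.map (homOfLE hW').op s) = 0 := by
    rw [← hi]
    show (R.g ≫ δ').hom.app (op W') i = 0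
    rw [hz]
    rfl
  let P : TopCat.Presheaf AddCommGrpCat.{u} Y := ((CohTop.Rpush f 1).obj F).obj
  have h2 := congrArg (fun v => P.germ W' y hyW' v)
    ((congr($(δ'.hom.naturality (homOfLE hW').op) s)).symm.trans h1)
  simp only [map_zero] at h2
  rw [← h2]
  refine Eq.trans ?_ (P.germ_res_apply (homOfLE hW') y hyW' _).symm
  refine Eq.trans ?_ (congrArg (fun v => P.germ W y hyW v) hs).symm
  exact ((P.germ_res_apply (homOfLE hWU) y hyW _).trans
    (P.germ_res_apply (homOfLE (inf_le_left : U ⊓ W₀ ≤ U)) y _ m)).symm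

end Groth.Agent.ResSurf
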