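import Groth.Agent.PnCoh.Finite.HHLin
import Mathlib.RingTheory.Length
import Groth.Agent.ResSurf.H1Push
import Groth.Agent.QCoh.RpushGod
import Groth.Agent.SiteBase.Top
import Groth.Agent.QCoh.PushLin
import Groth.Agent.QCoh.OpenSub
import Groth.Agent.TriCat.RightDerivedBridge
import Groth.Agent.SiteBase.CechCtx
import Groth.Agent.SpObjSS.Grothendieck

/-!
# The five-term sequence in degree one, as an equality of lengths
-/

universe u

open CategoryTheory CategoryTheory.Limits AlgebraicGeometry TopologicalSpace Opposite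
open CategoryTheory.Abelian
open Groth.Agent.PnCoh.Finite (mapLin deltaLin)

set_option autoImplicit false
set_option backward.isDefEq.respectTransparency false
set_option backward.isDefEq.respectTransparency.types false
set_option linter.style.haveILetI false

namespace Groth.Agent.ResSurf.LerayLength

open Groth.Agent

section Algebra

variable (A : Type u) [CommRing A]

/-- Two presentations of cokernels. -/
theorem length_add {M₂ S M₃ N H H' : Type u} [AddCommGroup M₂] [Module A M₂] [AddCommGroup S] [Module A S]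
    [AddCommGroup M₃] [Module A M₃] [AddCommGroup N] [Module A N] [AddCommGroup H] [Module A H]
    [AddCommGroup H'] [Module A H'] (p : M₂ →ₗ[A] S) (i : S →ₗ[A] M₃) (q : M₃ →ₗ[A] N) (δ : S →ₗ[A] H)
    (ψ : M₃ →ₗ[A] H') (hi : Function.Injective i) (hq : Function.Surjective q) (hiq : Function.Exact i q)
    (hδ : Function.Surjective δ) (hpδ : Function.Exact p δ) (hψ : Function.Surjective ψ)
    (hψp : Function.Exact (i.comp p) ψ) :
    Module.length A H' = Module.length A H + Module.length A N := by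
  have h1 : LinearMap.ker ψ = LinearMap.range (i.comp p) := LinearMap.exact_iff.1 hψp
  have h2 : LinearMap.ker δ = LinearMap.range p := LinearMap.exact_iff.1 hpδ
  have h3 : LinearMap.ker q = LinearMap.range i := LinearMap.exact_iff.1 hiq
  let eH := δ.quotKerEquivOfSurjective hδ
  let e' := ψ.quotKerEquivOfSurjective hψ
  let f : (S ⧸ LinearMap.ker δ) →ₗ[A] (M₃ ⧸ LinearMap.ker ψ) := Submodule.mapQ _ _ i (by
    rw [h2, h1]
    rintro _ ⟨y, rfl⟩
    exact ⟨y, rfl⟩)
  let g : (M₃ ⧸ LinearMap.ker ψ) →ₗ[A] N := Submodule.liftQ _ q (by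
    rw [h1, h3]
    exact LinearMap.range_comp_le_range _ _)
  rw [← e'.length_eq, ← eH.length_eq]
  refine Module.length_eq_add_of_exact f g ?_ ?_ ?_
  · rw [← LinearMap.ker_eq_bot]
    refine le_bot_iff.1 fun z hz => ?_
    obtain ⟨s, rfl⟩ := Submodule.mkQ_surjective _ z
    have h4 : i s ∈ LinearMap.ker ψ := (Submodule.Quotient.mk_eq_zero _).1 (LinearMap.mem_ker.1 hz)
    rw [h1] at h4
    obtain ⟨y, hy⟩ := h4
    rw [Submodule.mem_bot]
    refine (Submodule.Quotient.mk_eq_zero _).2 ?_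
    rw [h2]
    exact ⟨y, hi hy⟩
  · intro n
    obtain ⟨m, rfl⟩ := hq n
    exact ⟨Submodule.Quotient.mk m, rfl⟩
  · refine LinearMap.exact_iff.2 (le_antisymm (fun z hz => ?_) ?_)
    · obtain ⟨m, rfl⟩ := Submodule.mkQ_surjective _ z
      have h4 : m ∈ LinearMap.ker q := LinearMap.mem_ker.1 hz
      rw [h3] at h4
      obtain ⟨s, rfl⟩ := h4
      exact ⟨Submodule.Quotient.mk s, rfl⟩
    · rintro _ ⟨z, rfl⟩
      obtain ⟨s, rfl⟩ := Submodule.mkQ_surjective _ z
      rw [LinearMap.mem_ker]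
      exact (hiq (i s)).2 ⟨s, rfl⟩

end Algebra

section Site

variable {C : Type u} [Category.{u} C] {J : GrothendieckTopology C} [HasSheafify J AddCommGrpCat.{u}]
  [HasExt.{u} (Sheaf J AddCommGrpCat.{u})] {F G K : Sheaf J AddCommGrpCat.{u}}

theorem site_map_injective_zero (f : F ⟶ G) [Mono f] : Function.Injective (Sheaf.H.map f 0) :=
  Ext.postcomp_mk₀_injective_of_mono _ f

theorem site_exact_map_map {T : ShortComplex (Sheaf J AddCommGrpCat.{u})} (hT : T.ShortExact) (n : ℕ) :
    Function.Exact (Sheaf.H.map T.f n) (Sheaf.H.map T.g n) := fun x =>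
  ⟨fun hx => Ext.covariant_sequence_exact₂ _ hT x hx, by
    rintro ⟨y, rfl⟩
    rw [← Sheaf.H.map_comp_apply, T.zero]
    show ((Sheaf.functorH _ n).map 0).hom y = _
    rw [Functor.map_zero]
    rfl⟩

theorem site_map_map {f : F ⟶ G} {g : G ⟶ K} {e : F ⟶ K} (h : f ≫ g = e) (n : ℕ) (x : Sheaf.H F n) :
    Sheaf.H.map g n (Sheaf.H.map f n x) = Sheaf.H.map e n x := by
  rw [← Sheaf.H.map_comp_apply, h]

theorem site_map_inv (e : F ≅ G) (n : ℕ) (x : Sheaf.H G n) :
    Sheaf.H.map e.hom n (Sheaf.H.map e.inv n x) = x :=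
  (site_map_map e.inv_hom_id n x).trans (Sheaf.H.map_id_apply x)

theorem site_inv_map (e : F ≅ G) (n : ℕ) (x : Sheaf.H F n) :
    Sheaf.H.map e.inv n (Sheaf.H.map e.hom n x) = x :=
  (site_map_map e.hom_inv_id n x).trans (Sheaf.H.map_id_apply x)

variable {C' : Type u} [Category.{u} C'] {J' : GrothendieckTopology C'} [HasSheafify J' AddCommGrpCat.{u}]
  [HasExt.{u} (Sheaf J' AddCommGrpCat.{u})] {F' G' : Sheaf J' AddCommGrpCat.{u}}
  {T₀ : C} (hT₀ : IsTerminal T₀) {T₀' : C'} (hT₀' : IsTerminal T₀')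

/-- Degree zero cohomology on two sites with the same global sections. -/
noncomputable def zeroTrans (ψ : F.obj.obj (op T₀) ≃+ F'.obj.obj (op T₀')) : Sheaf.H F 0 ≃+ Sheaf.H F' 0 :=
  (Sheaf.H.equiv₀ F hT₀).trans (ψ.trans (Sheaf.H.equiv₀ F' hT₀').symm)

theorem zeroTrans_map (φ : F ⟶ G) (φ' : F' ⟶ G') (ψ : F.obj.obj (op T₀) ≃+ F'.obj.obj (op T₀'))
    (χ : G.obj.obj (op T₀) ≃+ G'.obj.obj (op T₀')) (h : ∀ s, χ (φ.hom.app (op T₀) s) = φ'.hom.app (op T₀') (ψ s))
    (x : Sheaf.H F 0) :
    zeroTrans hT₀ hT₀' χ (Sheaf.H.map φ 0 x) = Sheaf.H.map φ' 0 (zeroTrans hT₀ hT₀' ψ x) := by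
  simp only [zeroTrans, AddEquiv.trans_apply]
  rw [← Sheaf.H.equiv₀_naturality, h, Sheaf.H.equiv₀_symm_naturality]

end Site

variable (A : Type u) [CommRing A] {X : Scheme.{u}} [X.Over (Spec (CommRingCat.of A))]
  {S : ShortComplex X.Modules}

theorem exact_mapLin_deltaLin (hS : S.ShortExact) (n : ℕ) :
    Function.Exact (mapLin A S.g n) (deltaLin A hS n) :=
  fun x => QCoh.Ab.connecting_eq_zero_iff (X := X.toPresheafedSpace.carrier) (QCoh.toAb_shortExact hS) n x

theorem deltaLin_surjective (hS : S.ShortExact) (n : ℕ) (h : Subsingleton (Coh.HH X S.X₂ (n + 1))) :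
    Function.Surjective (deltaLin A hS n) :=
  QCoh.Ab.connecting_surjective (X := X.toPresheafedSpace.carrier) (QCoh.toAb_shortExact hS) n h

theorem mapLin_g_surjective (hS : S.ShortExact) (n : ℕ) (h : Subsingleton (Coh.HH X S.X₁ (n + 1))) :
    Function.Surjective (mapLin A S.g n) := fun x =>
  (exact_mapLin_deltaLin A hS n x).1 (h.elim _ _)

theorem exact_mapLin_mapLin (hS : S.ShortExact) (n : ℕ) :
    Function.Exact (mapLin A S.f n) (mapLin A S.g n) :=
  site_exact_map_map (T := S.map (QCoh.toAbFunctor X)) (QCoh.toAb_shortExact hS) n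

theorem mapLin_f_injective_zero (hS : S.ShortExact) : Function.Injective (mapLin A S.f 0) :=
  haveI : Mono ((QCoh.toAbFunctor X).map S.f) := (QCoh.toAb_shortExact hS).mono_f
  site_map_injective_zero ((QCoh.toAbFunctor X).map S.f)

/-- An isomorphism of modules on cohomology, linearly. -/
noncomputable def hhEquiv {M N : X.Modules} (e : M ≅ N) (n : ℕ) : Coh.HH X M n ≃ₗ[A] Coh.HH X N n :=
  LinearEquiv.ofLinearMap (mapLin A e.hom n) (mapLin A e.inv n)
    (LinearMap.ext fun x => site_map_inv ((QCoh.toAbFunctor X).mapIso e) n x)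
    (LinearMap.ext fun x => site_inv_map ((QCoh.toAbFunctor X).mapIso e) n x)

variable {X' : Scheme.{u}} [X'.Over (Spec (CommRingCat.of A))] (g : X' ⟶ X)
  (hg : g ≫ (X ↘ Spec (CommRingCat.of A)) = X' ↘ Spec (CommRingCat.of A))

/-- The global sections of a direct image are the global sections. -/
noncomputable def topEquiv (M : X'.Modules) :
    (Coh.toAb M).obj.obj (op ⊤) ≃+ (Coh.toAb ((Coh.push g).obj M)).obj.obj (op ⊤) :=
  AddEquiv.refl _

include hg in
/-- Global sections of a direct image, linearly. -/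
noncomputable def pushZero (M : X'.Modules) : Coh.HH X' M 0 ≃ₗ[A] Coh.HH X ((Coh.push g).obj M) 0 :=
  AddEquiv.toLinearEquiv (zeroTrans isTerminalTop isTerminalTop (topEquiv g M)) fun a x =>
    zeroTrans_map isTerminalTop isTerminalTop
      (Coh.smulAb M (Coh.toGlobal (X' ↘ Spec (CommRingCat.of A)) a))
      (Coh.smulAb ((Coh.push g).obj M) (Coh.toGlobal (X ↘ Spec (CommRingCat.of A)) a))
      (topEquiv g M) (topEquiv g M) (fun s => by
        have hr : Coh.toGlobal (X' ↘ Spec (CommRingCat.of A)) a =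
            g.appTop (Coh.toGlobal (X ↘ Spec (CommRingCat.of A)) a) := by
          rw [← hg]
          rfl
        rw [hr]
        exact congrArg (fun φ => φ.hom.app (op ⊤) s)
          (QCoh.smulAb_push g M (Coh.toGlobal (X ↘ Spec (CommRingCat.of A)) a))) x

theorem pushZero_natural {M N : X'.Modules} (φ : M ⟶ N) (x : Coh.HH X' M 0) :
    pushZero A g hg N (mapLin A φ 0 x) = mapLin A ((Coh.push g).map φ) 0 (pushZero A g hg M x) :=
  zeroTrans_map isTerminalTop isTerminalTop ((QCoh.toAbFunctor X').map φ)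
    ((QCoh.toAbFunctor X).map ((Coh.push g).map φ)) (topEquiv g M) (topEquiv g N) (fun _ => rfl) x

variable [HasInjectiveResolutions X'.Modules]

/-- The first higher direct image as a quotient of the direct image of a cosyzygy. -/
theorem exists_presentation (F : X'.Modules) :
    ∃ (T : ShortComplex X'.Modules) (_ : T.ShortExact) (_ : Injective T.X₂) (_ : F = T.X₁)
      (δ : (Coh.push g).obj T.X₃ ⟶ (Coh.Rpush g 1).obj F) (w : (Coh.push g).map T.g ≫ δ = 0),
      Epi δ ∧ (ShortComplex.mk _ _ w).Exact ∧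
      Mono ((Coh.push g).map T.f) ∧ (T.map (Coh.push g)).Exact := by
  haveI := SpObjSS.enoughInjectives_of_hasInjectiveResolutions (C := X'.Modules)
  haveI : (Coh.push g).IsRightAdjoint := (Scheme.Modules.pullbackPushforwardAdjunction g).isRightAdjoint
  haveI : PreservesFiniteLimits (Coh.push g) := inferInstance
  let T : ShortComplex X'.Modules :=
    ShortComplex.mk (Injective.ι F) (cokernel.π (Injective.ι F)) (cokernel.condition _)
  have hT : T.ShortExact :=
    { exact := ShortComplex.exact_of_g_is_cokernel _ (cokernelIsCokernel _)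
      mono_f := inferInstanceAs (Mono (Injective.ι F))
      epi_g := inferInstanceAs (Epi (cokernel.π _)) }
  haveI : Injective T.X₂ := inferInstanceAs (Injective (Injective.under F))
  let : HasDerivedCategory.{u + 1} X'.Modules := HasDerivedCategory.standard _
  let : HasDerivedCategory.{u + 1} X.Modules := HasDerivedCategory.standard _
  obtain ⟨δ, w₁, w₂, w₃, -, h₂, h₃⟩ := TriCat.exists_rightDerived_ses (Coh.push g) hT 0
  haveI hδ : Epi δ := h₃.epi_f
    ((Functor.isZero_rightDerived_obj_injective_succ (Coh.push g) 0 T.X₂).eq_of_tgt _ _)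
  let ε := (Coh.push g).rightDerivedZeroIsoSelf
  let δ' : (Coh.push g).obj T.X₃ ⟶ (Coh.Rpush g 1).obj F := (ε.app T.X₃).inv ≫ δ
  haveI : Epi δ' := @epi_comp _ _ _ _ _ (ε.app T.X₃).inv inferInstance δ hδ
  have hz : (Coh.push g).map T.g ≫ δ' = 0 := by
    show (Coh.push g).map T.g ≫ (ε.app T.X₃).inv ≫ δ = 0
    rw [Iso.app_inv, ← Category.assoc, ε.inv.naturality, Category.assoc, w₂, comp_zero]
  refine ⟨T, hT, inferInstance, rfl, δ', hz, inferInstance, ?_, ?_, ?_⟩
  · refine ShortComplex.exact_of_iso ?_ h₂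
    refine ShortComplex.isoMk (ε.app T.X₂) (ε.app T.X₃) (Iso.refl _) ?_ ?_
    · exact (ε.hom.naturality T.g).symm
    · show (ε.app T.X₃).hom ≫ (ε.app T.X₃).inv ≫ δ = δ ≫ 𝟙 _
      rw [Iso.hom_inv_id_assoc, Category.comp_id]
  · haveI := hT.mono_f
    exact inferInstanceAs (Mono ((Coh.push g).map T.f))
  · exact ShortComplex.exact_of_f_is_kernel _ (KernelFork.mapIsLimit _ hT.fIsKernel (Coh.push g))

include hg in
/-- The five-term exact sequence without `H²`, on lengths. -/
theorem length_HH_one (F : X'.Modules) (h2 : Subsingleton (Coh.HH X ((Coh.push g).obj F) 2)) :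
    Module.length A (Coh.HH X' F 1) = Module.length A (Coh.HH X ((Coh.push g).obj F) 1) +
      Module.length A (Coh.HH X ((Coh.Rpush g 1).obj F) 0) := by
  obtain ⟨T, hT, hI, rfl, δ, w, hδ, hex, hmono, hR⟩ := exists_presentation g F
  haveI := hI
  haveI := hmono
  haveI := hδ
  let R : ShortComplex X.Modules := T.map (Coh.push g)
  haveI : Mono R.f := hmono
  let S : ShortComplex X.Modules := ShortComplex.mk R.f (cokernel.π R.f) (cokernel.condition R.f)
  have hS : S.ShortExact :=
    { exact := ShortComplex.exact_of_g_is_cokernel _ (cokernelIsCokernel R.f)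
      mono_f := inferInstanceAs (Mono R.f)
      epi_g := inferInstanceAs (Epi (cokernel.π R.f)) }
  let φ : S.X₃ ⟶ R.X₃ := cokernel.desc R.f R.g R.zero
  haveI : Mono φ := hR.mono_cokernelDesc
  have hπφ : cokernel.π R.f ≫ φ = R.g := cokernel.π_desc _ _ _
  have hφδ : φ ≫ δ = 0 := by
    rw [← cancel_epi (cokernel.π R.f), ← Category.assoc, hπφ, comp_zero]
    exact w
  let D : ShortComplex X.Modules := ShortComplex.mk φ δ hφδ
  have hD : D.ShortExact :=
    { exact := by
        let ψ : ShortComplex.mk _ _ w ⟶ D :=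
          { τ₁ := cokernel.π R.f
            τ₂ := 𝟙 _
            τ₃ := 𝟙 _
            comm₁₂ := by
              show cokernel.π R.f ≫ φ = R.g ≫ 𝟙 _
              rw [hπφ, Category.comp_id]
            comm₂₃ := by simp [D] }
        haveI : Epi ψ.τ₁ := inferInstanceAs (Epi (cokernel.π R.f))
        haveI : IsIso ψ.τ₂ := inferInstanceAs (IsIso (𝟙 _))
        haveI : Mono ψ.τ₃ := inferInstanceAs (Mono (𝟙 _))
        exact (ShortComplex.exact_iff_of_epi_of_isIso_of_mono ψ).1 hex
      mono_f := inferInstanceAs (Mono φ)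
      epi_g := hδ }
  haveI hfl : QCoh.IsFlasqueMod T.X₂ := QCoh.isFlasqueMod_of_injective T.X₂
  have hI2 : ∀ n, Subsingleton (Coh.HH X' T.X₂ (n + 1)) := fun n =>
    SiteBase.subsingleton_H_of_isFlasque (X := X'.toPresheafedSpace.carrier) (QCoh.abSheaf T.X₂) n
  -- the pushforward of an injective is flasque
  haveI : QCoh.IsFlasqueMod R.X₂ := ⟨fun i => hfl.epi ((Opens.map g.base).op.map i)⟩
  have hR2 : ∀ n, Subsingleton (Coh.HH X R.X₂ (n + 1)) := fun n =>
    SiteBase.subsingleton_H_of_isFlasque (X := X.toPresheafedSpace.carrier) (QCoh.abSheaf R.X₂) n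
  have hS3 : Subsingleton (Coh.HH X S.X₃ 1) := by
    have h2' : Subsingleton (Coh.HH X S.X₁ 2) := h2
    exact subsingleton_of_forall_eq 0 fun x => by
      obtain ⟨y, hy⟩ := (exact_mapLin_deltaLin A hS 1 x).1 (h2'.elim _ _)
      rw [← hy, (hR2 0).elim y 0, map_zero]
  have h := length_add A (mapLin A S.g 0) (mapLin A D.f 0) (mapLin A D.g 0) (deltaLin A hS 0)
    ((deltaLin A hT 0).comp (pushZero A g hg T.X₃).symm.toLinearMap)
    (mapLin_f_injective_zero A hD) (mapLin_g_surjective A hD 0 hS3) (exact_mapLin_mapLin A hD 0)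
    (deltaLin_surjective A hS 0 (hR2 0)) (exact_mapLin_deltaLin A hS 0)
    ((deltaLin_surjective A hT 0 (hI2 0)).comp (pushZero A g hg T.X₃).symm.surjective) ?_
  · exact h
  · intro m
    have hcomp : ∀ y : Coh.HH X' T.X₂ 0, (mapLin A D.f 0).comp (mapLin A S.g 0) (pushZero A g hg T.X₂ y) =
        pushZero A g hg T.X₃ (mapLin A T.g 0 y) := fun y => by
      rw [pushZero_natural]
      exact site_map_map
        (((QCoh.toAbFunctor X).map_comp _ _).symm.trans (congrArg _ hπφ)) 0 _
    constructor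
    · intro hm
      obtain ⟨y, hy⟩ := (exact_mapLin_deltaLin A hT 0 _).1 hm
      exact ⟨pushZero A g hg T.X₂ y, (hcomp y).trans (by rw [hy]; exact LinearEquiv.apply_symm_apply _ _)⟩
    · rintro ⟨y, rfl⟩
      obtain ⟨y', rfl⟩ := (pushZero A g hg T.X₂).surjective y
      rw [hcomp]
      show deltaLin A hT 0 ((pushZero A g hg T.X₃).symm _) = 0
      rw [LinearEquiv.symm_apply_apply]
      exact (exact_mapLin_deltaLin A hT 0 _).2 ⟨y', rfl⟩

omit [X.Over (Spec (CommRingCat.of A))] [X'.Over (Spec (CommRingCat.of A))] in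
/-- `R¹g_*` vanishes over opens whose preimage has no `H¹`. -/
theorem subsingleton_stalk (F : X'.Modules) {x : X}
    (h : ∀ U : X.Opens, x ∈ U → ∃ W : X.Opens, W ≤ U ∧ x ∈ W ∧
      Subsingleton (CohTop.HU (QCoh.abSheaf F) 1 (g ⁻¹ᵁ W))) :
    Subsingleton (((Coh.Rpush g 1).obj F).presheaf.stalk x) := by
  obtain ⟨T, hT, hI, rfl, δ, w, hδ, -, -, -⟩ := exists_presentation g F
  haveI := hδ
  refine subsingleton_of_forall_eq 0 fun s => ?_
  obtain ⟨U, hxU, m, rfl⟩ := TopCat.Presheaf.exists_germ_eq ((Coh.Rpush g 1).obj T.X₁).presheaf s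
  have hloc : TopCat.Presheaf.IsLocallySurjective ((QCoh.toAbFunctor X).map δ).hom :=
    (TopCat.Sheaf.isLocallySurjective_iff_epi _).2 (QCoh.toSheaf_map_epi X.ringCatSheaf δ)
  obtain ⟨U', hU', ⟨t, ht⟩, hxU'⟩ := (TopCat.Presheaf.isLocallySurjective_iff _).1 hloc U m x hxU
  obtain ⟨W, hW, hxW, hH⟩ := h U' hxU'
  have hTab := QCoh.toAb_shortExact hT
  let T' : ShortComplex (CohTop.Ab X'.toPresheafedSpace.carrier) := T.map (QCoh.toAbFunctor X')
  have hH' : Subsingleton (CohTop.HU T'.X₁ 1 (g ⁻¹ᵁ W)) := hH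
  obtain ⟨i, hi⟩ := SiteBase.surjective_sections_of_HU_one (S := T') hTab (g ⁻¹ᵁ W) hH'
    (((Coh.push g).obj T.X₃).presheaf.map (homOfLE hW).op t)
  have h0 : ((QCoh.toAbFunctor X).map δ).hom.app (op W) (((Coh.push g).obj T.X₃).presheaf.map (homOfLE hW).op t) = 0 := by
    rw [← hi]
    show ((QCoh.toAbFunctor X).map ((Coh.push g).map T.g ≫ δ)).hom.app (op W) i = 0
    rw [w, Functor.map_zero]
    rfl
  have h1 : ((Coh.Rpush g 1).obj T.X₁).presheaf.map (homOfLE (hW.trans hU')).op m = 0 := by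
    rw [← h0]
    refine Eq.trans ?_ (congr($(((QCoh.toAbFunctor X).map δ).hom.naturality (homOfLE hW).op) t)).symm
    refine Eq.trans ?_ (congrArg (((Coh.Rpush g 1).obj T.X₁).presheaf.map (homOfLE hW).op) ht).symm
    exact ConcreteCategory.congr_hom
      (((Coh.Rpush g 1).obj T.X₁).presheaf.map_comp (homOfLE hU').op (homOfLE hW).op) m
  have h2 := congrArg (((Coh.Rpush g 1).obj T.X₁).presheaf.germ W x hxW) h1
  rw [map_zero] at h2
  exact ((TopCat.Presheaf.germ_res_apply ((Coh.Rpush g 1).obj T.X₁).presheaf (homOfLE (hW.trans hU')) x hxW m).symm).trans h2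

end Groth.Agent.ResSurf.LerayLength
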