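import Groth.Agent.OmegaLib.IdealMod
import Groth.Agent.InvX.Tensor
import Groth.Agent.KZ.CohClass
import Groth.Agent.QCoh.DevissageP
import Groth.Agent.QCoh.VanIdeal
import Groth.Agent.QCoh.HHExact
import Groth.Prelude.Def_Omega4
import Mathlib.AlgebraicGeometry.IdealSheaf.Subscheme

/-!
# Lifting local functions modulo an ideal generated by global functions
-/

universe u

open CategoryTheory CategoryTheory.Limits AlgebraicGeometry TopologicalSpace Opposite

set_option backward.isDefEq.respectTransparency false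
set_option backward.isDefEq.respectTransparency.types false
set_option linter.style.haveILetI false

namespace Groth.Agent.ResSurf

open Groth.Agent

variable {X : Scheme.{u}}

theorem hom_ext_affineOpens {M N : X.Modules} {φ ψ : M ⟶ N}
    (h : ∀ (V : X.affineOpens) (s : Γ(M, V.1)), φ.app V.1 s = ψ.app V.1 s) : φ = ψ := by
  refine Scheme.Modules.hom_ext _ _ fun U => ?_
  ext s
  rw [← sub_eq_zero]
  refine QCoh.eq_zero_of_locally U _ fun p hp => ?_
  obtain ⟨_, ⟨V, hV, rfl⟩, hpV, hVU⟩ := X.isBasis_affineOpens.exists_subset_of_mem_open hp U.2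
  refine ⟨V, homOfLE hVU, hpV, ?_⟩
  rw [map_sub, ← QCoh.map_app_comm, ← QCoh.map_app_comm]
  exact sub_eq_zero.2 (h ⟨V, hV⟩ _)

theorem subsingleton_HH_X₃ {S : ShortComplex X.Modules} (hS : S.ShortExact) (n : ℕ)
    (h₂ : Subsingleton (Coh.HH X S.X₂ n)) (h₁ : Subsingleton (Coh.HH X S.X₁ (n + 1))) :
    Subsingleton (Coh.HH X S.X₃ n) := by
  have hT := QCoh.toAb_shortExact hS
  refine subsingleton_of_forall_eq 0 fun x => ?_
  obtain ⟨y, rfl⟩ := Abelian.Ext.covariant_sequence_exact₃ _ hT x rfl (h₁.elim _ _)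
  rw [h₂.elim y 0]
  exact Abelian.Ext.zero_comp _ _ _ _ _

/-- A function on an open, congruent to zero on the other open, is congruent to a global function. -/
theorem exists_function_of_HH_one_idealMod (J : X.IdealSheafData)
    (hH : Subsingleton (Coh.HH X (ClSub.idealMod J) 1)) (V O : X.Opens) (hcov : ⊤ ≤ V ⊔ O)
    (d : Γ(X, V)) (hd : J.subschemeι.app (V ⊓ O) (X.presheaf.map (homOfLE inf_le_left).op d) = 0) :
    ∃ f : Γ(X, ⊤), J.subschemeι.app V (X.presheaf.map (homOfLE le_top).op f - d) = 0 ∧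
      J.subschemeι.app O (X.presheaf.map (homOfLE le_top).op f) = 0 := by
  haveI : Mono (ClSub.idealModι J) := inferInstanceAs (Mono (kernel.ι _))
  let S : ShortComplex X.Modules :=
    ShortComplex.mk (ClSub.idealModι J) (cokernel.π (ClSub.idealModι J)) (cokernel.condition _)
  have hS : S.ShortExact :=
    { exact := ShortComplex.exact_of_g_is_cokernel _ (cokernelIsCokernel (ClSub.idealModι J))
      mono_f := inferInstanceAs (Mono (ClSub.idealModι J))
      epi_g := inferInstanceAs (Epi (cokernel.π (ClSub.idealModι J))) }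
  let C : TopCat.Sheaf Ab.{u} X.toPresheafedSpace.carrier := ⟨S.X₃.presheaf, S.X₃.isSheaf⟩
  let U : Bool → X.Opens := fun b => cond b V O
  let sec : ∀ b, Γ(S.X₃, U b) := fun b => match b with
    | true => S.g.app V (OmegaSh.strSect X V d)
    | false => 0
  have hvan : S.X₃.presheaf.map (homOfLE (inf_le_left : V ⊓ O ≤ V)).op (S.g.app V (OmegaSh.strSect X V d)) = 0 := by
    obtain ⟨k, hk⟩ := OmegaLib.exists_idealSect_eq J (V ⊓ O) _ hd
    rw [← QCoh.map_app_comm]
    refine Eq.trans ?_ (QCoh.app_g_f (S := S) (V ⊓ O) k)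
    refine congrArg (S.g.app (V ⊓ O)) ?_
    exact hk.symm
  obtain ⟨c, hc, -⟩ := TopCat.Sheaf.existsUnique_gluing' C U ⊤ (fun b => homOfLE le_top)
    (fun x _ => by
      rcases hcov (show x ∈ (⊤ : X.Opens) from trivial) with h | h
      · exact Opens.mem_iSup.2 ⟨true, h⟩
      · exact Opens.mem_iSup.2 ⟨false, h⟩) sec (fun b b' => by
      cases b <;> cases b'
      · rfl
      · show S.X₃.presheaf.map _ (0 : Γ(S.X₃, O)) = S.X₃.presheaf.map _ (S.g.app V (OmegaSh.strSect X V d))
        rw [map_zero]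
        have h := congrArg (S.X₃.presheaf.map (homOfLE (le_inf inf_le_right inf_le_left : O ⊓ V ≤ V ⊓ O)).op) hvan
        rw [map_zero, ← ConcreteCategory.comp_apply, ← Functor.map_comp] at h
        exact h.symm
      · show S.X₃.presheaf.map _ (S.g.app V (OmegaSh.strSect X V d)) = S.X₃.presheaf.map _ (0 : Γ(S.X₃, O))
        rw [map_zero]
        exact hvan
      · rfl)
  obtain ⟨f, hf⟩ := QCoh.app_top_surjective_of_HH_one hS hH c
  refine ⟨f, ?_, ?_⟩
  · have h1 : S.g.app V (OmegaSh.strSect X V (X.presheaf.map (homOfLE le_top).op f) - OmegaSh.strSect X V d) = 0 := by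
      rw [map_sub, OmegaSh.strSect_map, QCoh.map_app_comm]
      erw [hf]
      exact sub_eq_zero.2 (hc true)
    obtain ⟨k, hk⟩ := QCoh.exists_app_f_eq hS V _ h1
    have := OmegaLib.subschemeι_app_idealSect J V k
    rwa [show OmegaSh.idealSect J V k = X.presheaf.map (homOfLE le_top).op f - d from hk] at this
  · have h1 : S.g.app O (OmegaSh.strSect X O (X.presheaf.map (homOfLE le_top).op f)) = 0 := by
      rw [OmegaSh.strSect_map, QCoh.map_app_comm]
      erw [hf]
      exact hc false
    obtain ⟨k, hk⟩ := QCoh.exists_app_f_eq hS O _ h1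
    have := OmegaLib.subschemeι_app_idealSect J O k
    rwa [show OmegaSh.idealSect J O k = X.presheaf.map (homOfLE le_top).op f from hk] at this

/-- An ideal generated by global functions has no `H¹` when functions have none and `H²` vanishes on
coherent modules. -/
theorem subsingleton_HH_one_idealMod_span [IsLocallyNoetherian X]
    (hH1 : Subsingleton (Coh.HH X (Coh.structureModule X) 1))
    (hH2 : ∀ M : X.Modules, Coh.IsCoh M → Subsingleton (Coh.HH X M 2))
    (J : X.IdealSheafData) (s : Finset Γ(X, ⊤))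
    (hJ : ∀ U : X.affineOpens, J.ideal U =
      Ideal.span ((fun a => X.presheaf.map (homOfLE le_top).op a) '' (s : Set Γ(X, ⊤)))) :
    Subsingleton (Coh.HH X (ClSub.idealMod J) 1) := by
  classical
  haveI : Mono (ClSub.idealModι J) := inferInstanceAs (Mono (kernel.ι _))
  have hO := QCoh.isCoh_structureModule' (X := X)
  have hI : Coh.IsCoh (ClSub.idealMod J) := QCoh.isCoh_of_mono (ClSub.idealModι J) hO
    (QCoh.isQCoh_kernel hO.1 (QCoh.isQCoh_pushforward J.subschemeι QCoh.isQCoh_structureModule) _)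
  have hsec : ∀ a ∈ s, J.subschemeι.app ⊤ a = 0 := by
    intro a ha
    refine TopCat.Sheaf.eq_of_locally_eq' J.subscheme.sheaf (fun W : X.affineOpens => J.subschemeι ⁻¹ᵁ W.1)
      (J.subschemeι ⁻¹ᵁ ⊤) (fun W => homOfLE le_top) (fun x _ => ?_) _ _ fun W => ?_
    · obtain ⟨W, hW, hxW, -⟩ := exists_isAffineOpen_mem_and_subset (x := J.subschemeι x) (U := ⊤) trivial
      exact Opens.mem_iSup.2 ⟨⟨W, hW⟩, hxW⟩
    · rw [map_zero]
      refine ((congr($(J.subschemeι.naturality (homOfLE (le_top : W.1 ≤ ⊤)).op) a)).symm.trans ?_)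
      show J.subschemeι.app W.1 (X.presheaf.map (homOfLE le_top).op a) = 0
      rw [← RingHom.mem_ker, J.ker_subschemeι_app, hJ]
      exact Ideal.subset_span ⟨a, ha, rfl⟩
  suffices key : ∀ t : Finset Γ(X, ⊤), t ⊆ s → ∃ (P : X.Modules) (ψ : P ⟶ ClSub.idealMod J),
      Coh.IsCoh P ∧ Subsingleton (Coh.HH X P 1) ∧ ∀ a ∈ t, ∀ U : X.Opens, ∃ p : Γ(P, U),
        OmegaSh.idealSect J U (ψ.app U p) = X.presheaf.map (homOfLE le_top).op a by
    obtain ⟨P, ψ, hP, hPH, hgen⟩ := key s subset_rfl
    haveI : Epi ψ := by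
      refine Preadditive.epi_of_cancel_zero _ fun {Z} g hg => hom_ext_affineOpens fun V k => ?_
      show g.app V.1 k = 0
      have hk := OmegaLib.idealSect_mem J V k
      rw [hJ] at hk
      suffices h : ∀ x ∈ Ideal.span ((fun a => X.presheaf.map (homOfLE (le_top : V.1 ≤ ⊤)).op a) '' (s : Set Γ(X, ⊤))),
          ∃ k' : Γ(ClSub.idealMod J, V.1), OmegaSh.idealSect J V.1 k' = x ∧ g.app V.1 k' = 0 by
        obtain ⟨k', hk', hg'⟩ := h _ hk
        rwa [OmegaLib.idealSect_injective J V.1 hk'] at hg'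
      intro x hx
      induction hx using Submodule.span_induction with
      | mem y hy =>
        obtain ⟨a, ha, rfl⟩ := hy
        obtain ⟨p, hp⟩ := hgen a ha V.1
        refine ⟨ψ.app V.1 p, hp, ?_⟩
        show (ψ ≫ g).app V.1 p = 0
        rw [hg]
        rfl
      | zero => exact ⟨0, map_zero _, map_zero _⟩
      | add y z _ _ hy hz =>
        obtain ⟨y', hy', hgy⟩ := hy
        obtain ⟨z', hz', hgz⟩ := hz
        exact ⟨y' + z', by rw [map_add, hy', hz'], by rw [map_add, hgy, hgz, add_zero]⟩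
      | smul r y _ hy =>
        obtain ⟨y', hy', hgy⟩ := hy
        refine ⟨r • y', by rw [OmegaLib.idealSect_smul, hy']; rfl, ?_⟩
        rw [Scheme.Modules.Hom.app_smul, hgy, smul_zero]
    let S : ShortComplex X.Modules := ShortComplex.mk (kernel.ι ψ) ψ (kernel.condition ψ)
    have hS : S.ShortExact :=
      { exact := ShortComplex.exact_kernel ψ, mono_f := inferInstance, epi_g := inferInstance }
    exact subsingleton_HH_X₃ hS 1 hPH (hH2 _ (QCoh.isCoh_kernel hP hI ψ))
  intro t
  induction t using Finset.induction_on with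
  | empty => exact fun _ => ⟨Coh.structureModule X, 0, hO, hH1, fun a ha => absurd ha (Finset.notMem_empty a)⟩
  | insert b t hbt ih =>
    intro hsub
    obtain ⟨hb, hts⟩ := Finset.insert_subset_iff.1 hsub
    obtain ⟨P, ψ, hP, hPH, hgen⟩ := ih hts
    obtain ⟨k, hk⟩ := OmegaLib.exists_idealSect_eq J ⊤ b (hsec b hb)
    let φ : Coh.structureModule X ⊞ P ⟶ ClSub.idealMod J := biprod.desc (InvX.ofSect k) ψ
    have hT := (ShortComplex.Splitting.ofHasBinaryBiproduct (Coh.structureModule X) P).shortExact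
    refine ⟨_, φ, KZ.isCoh_X₂ hT hO hP, QCoh.subsingleton_HH_X₂ hT 1 hH1 hPH, fun a ha U => ?_⟩
    rcases Finset.mem_insert.1 ha with rfl | ha
    · refine ⟨(biprod.inl : Coh.structureModule X ⟶ _).app U (OmegaSh.strSect X U 1), ?_⟩
      rw [show φ.app U ((biprod.inl : Coh.structureModule X ⟶ _).app U (OmegaSh.strSect X U 1)) =
        (InvX.ofSect k).app U (OmegaSh.strSect X U 1) from
          congr(($(biprod.inl_desc (InvX.ofSect k) ψ)).app U (OmegaSh.strSect X U 1))]
      refine (congrArg (OmegaSh.idealSect J U) ((InvX.app_eq_smul (InvX.ofSect k) (1 : Γ(X, U))).trans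
        (one_smul _ _))).trans ?_
      rw [InvX.one_ofSect]
      erw [OmegaLib.idealSect_map]
      rw [hk]
    · obtain ⟨p, hp⟩ := hgen a ha U
      refine ⟨(biprod.inr : P ⟶ _).app U p, ?_⟩
      rw [show φ.app U ((biprod.inr : P ⟶ _).app U p) = ψ.app U p from
          congr(($(biprod.inr_desc (InvX.ofSect k) ψ)).app U p)]
      exact hp

end Groth.Agent.ResSurf
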