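import Groth.Agent.ResSurf.Principal
import Groth.Agent.ResSurf.BlowInt
import Groth.Agent.RegDimTwo.Basic
import Groth.Agent.RegLoc6.Normal
import Groth.Agent.ModPairLib.Basic
import Groth.Agent.ModPairLib.BlowUp
import Mathlib.AlgebraicGeometry.SpreadingOut
import Mathlib.RingTheory.DedekindDomain.PID

/-!
# Ideals near a regular point of dimension two: principal part and point-supported part
-/

universe u

open CategoryTheory CategoryTheory.Limits AlgebraicGeometry TopologicalSpace IsLocalRing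

set_option backward.isDefEq.respectTransparency false
set_option backward.isDefEq.respectTransparency.types false
set_option linter.style.haveILetI false

namespace Groth.Agent.ResSurf.PointExtend

open Groth.Agent

section Algebra

variable {A : Type u} [CommRing A] [IsDomain A] [UniqueFactorizationMonoid A]

theorem exists_factor (J : Ideal A) (hJ : J ≠ ⊥) :
    ∃ (d : A) (J' : Ideal A), d ≠ 0 ∧ J' ≠ ⊥ ∧ J = Ideal.span {d} * J' ∧
      ∀ π : A, Prime π → ∃ b ∈ J', ¬ π ∣ b := by
  obtain ⟨a, haJ, ha⟩ := Submodule.exists_mem_ne_zero_of_ne_bot hJ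
  clear hJ
  induction a using WellFounded.induction (wellFounded_dvdNotUnit (α := A)) generalizing J with
  | _ a ih =>
  by_cases h : ∀ π : A, Prime π → ∃ b ∈ J, ¬ π ∣ b
  · exact ⟨1, J, one_ne_zero, fun h0 => ha (by simpa [h0] using haJ), by simp, h⟩
  push Not at h
  obtain ⟨π, hπ, hall⟩ := h
  obtain ⟨c, rfl⟩ := hall a haJ
  let K : Ideal A := Submodule.colon J {π}
  have hJK : J = Ideal.span {π} * K := by
    refine le_antisymm (fun b hb => ?_) ?_
    · obtain ⟨b', rfl⟩ := hall b hb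
      exact Ideal.mul_mem_mul (Ideal.mem_span_singleton_self π)
        (Submodule.mem_colon_singleton.2 (by rwa [smul_eq_mul, mul_comm]))
    · rw [Ideal.mul_le]
      intro r hr b hb
      obtain ⟨t, rfl⟩ := Ideal.mem_span_singleton'.1 hr
      have h1 := Submodule.mem_colon_singleton.1 hb
      rw [smul_eq_mul] at h1
      rw [mul_assoc, mul_comm π b]
      exact J.mul_mem_left _ h1
  have hc : c ≠ 0 := fun h => ha (by rw [h, mul_zero])
  obtain ⟨d, J', hd, hJ', hK, hpr⟩ := ih c ⟨hc, π, hπ.not_isUnit, mul_comm _ _⟩ K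
    (Submodule.mem_colon_singleton.2 (by rwa [smul_eq_mul, mul_comm])) hc
  exact ⟨π * d, J', mul_ne_zero hπ.ne_zero hd, hJ',
    by rw [hJK, hK, ← mul_assoc, Ideal.span_singleton_mul_span_singleton], hpr⟩

end Algebra

theorem exists_pow_le (A : Type u) [CommRing A] [IsRegularLocalRing A] (hA : ringKrullDim A = 2)
    (J : Ideal A) (hJ : J ≠ ⊥) (h : ∀ π : A, Prime π → ∃ b ∈ J, ¬ π ∣ b) :
    ∃ n : ℕ, maximalIdeal A ^ n ≤ J := by
  obtain ⟨_, _⟩ := RegDimTwo.ufd A hA
  refine Ideal.exists_pow_le_of_le_radical_of_fg ?_ (IsNoetherian.noetherian _)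
  rw [Ideal.radical_eq_sInf]
  refine le_sInf fun P ⟨hJP, hP⟩ => ?_
  haveI := hP
  obtain ⟨π, hπP, hπ⟩ := Ideal.IsPrime.exists_mem_prime_of_ne_bot hP
    (fun h0 => hJ (le_bot_iff.1 (h0 ▸ hJP)))
  obtain ⟨b, hbJ, hb⟩ := h π hπ
  exact (eq_maximalIdeal (isMaximal hπ hb P hπP (hJP hbJ))).ge
where
  isMaximal {π b : A} (hπ : Prime π) (hb : ¬ π ∣ b) (P : Ideal A) [P.IsPrime] (hπP : π ∈ P) (hbP : b ∈ P) :
      P.IsMaximal := by
    obtain ⟨_, _⟩ := RegDimTwo.ufd A hA
    haveI : (Ideal.span {π}).IsPrime := (Ideal.span_singleton_prime hπ.ne_zero).2 hπ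
    have hlt : Ideal.span {π} < P := lt_of_le_of_ne ((Ideal.span_singleton_le_iff_mem P).2 hπP)
      (fun h => hb (Ideal.mem_span_singleton.1 (h ▸ hbP)))
    have h1 : 1 ≤ (Ideal.span {π}).height :=
      Ideal.one_le_height_span_singleton_of_mem_nonZeroDivisors (mem_nonZeroDivisors_of_ne_zero hπ.ne_zero)
    have h2 : (2 : ℕ∞) ≤ P.height := by
      rw [show (2 : ℕ∞) = 1 + 1 from one_add_one_eq_two.symm]
      exact (add_le_add_left h1 1).trans
        (Order.add_one_le_of_lt (Ideal.height_strict_mono_of_isPrime_of_isPrime hlt))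
    refine Ideal.isMaximal_of_height_eq_ringKrullDim (le_antisymm Ideal.height_le_ringKrullDim_of_isPrime ?_)
    rw [hA]
    exact WithBot.coe_le_coe.2 h2

theorem isPrincipalIdealRing_of_dim_le_one (A : Type u) [CommRing A] [IsRegularLocalRing A] [IsDomain A]
    (hA : ringKrullDim A ≤ 1) : IsPrincipalIdealRing A := by
  haveI := RegLoc6.isIntegrallyClosed_of_isRegularLocalRing A
  haveI : Ring.DimensionLEOne A :=
    ⟨fun {p} hp hpp => Ring.krullDimLE_one_iff_of_noZeroDivisors.1
      ((Ring.krullDimLE_iff).2 (by exact_mod_cast hA)) p hp hpp⟩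
  haveI : IsDedekindDomain A := { }
  refine IsPrincipalIdealRing.of_finite_primes ?_
  exact Set.Finite.subset ((Set.finite_singleton (maximalIdeal _)).insert ⊥) fun P hP => by
    by_cases h0 : P = ⊥
    · exact Or.inl h0
    · exact Or.inr (eq_maximalIdeal (Ring.DimensionLEOne.maximalOfPrime h0 hP))

variable {X : Scheme.{u}}

/-- Two finitely generated ideals with the same germ at a point agree on a basic neighbourhood. -/
theorem exists_basicOpen_eq {V : X.Opens} (hV : IsAffineOpen V) {x : X} (hx : x ∈ V)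
    {I₁ I₂ : Ideal Γ(X, V)} (h₁ : I₁.FG) (h₂ : I₂.FG)
    (h : I₁.map (X.presheaf.germ V x hx).hom = I₂.map (X.presheaf.germ V x hx).hom) :
    ∃ g : Γ(X, V), x ∈ X.basicOpen g ∧ I₁.map (X.presheaf.map (homOfLE (X.basicOpen_le g)).op).hom =
      I₂.map (X.presheaf.map (homOfLE (X.basicOpen_le g)).op).hom := by
  classical
  letI := X.presheaf.algebra_section_stalk (⟨x, hx⟩ : V)
  haveI := hV.isLocalization_stalk ⟨x, hx⟩
  let p := (hV.primeIdealOf ⟨x, hx⟩).asIdeal
  have key : ∀ (J J' : Ideal Γ(X, V)), J.FG →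
      J.map (X.presheaf.germ V x hx).hom ≤ J'.map (X.presheaf.germ V x hx).hom →
      ∃ g : Γ(X, V), g ∈ p.primeCompl ∧ ∀ a ∈ J, g * a ∈ J' := by
    intro J J' hJ hle
    obtain ⟨S, rfl⟩ := hJ
    have : ∀ a ∈ S, ∃ g ∈ p.primeCompl, g * a ∈ J' := fun a ha =>
      (IsLocalization.algebraMap_mem_map_algebraMap_iff p.primeCompl (X.presheaf.stalk x) J' a).1
        (hle (Ideal.mem_map_of_mem _ (Ideal.subset_span ha)))
    choose g hg hga using this
    refine ⟨∏ a ∈ S.attach, g a.1 a.2, Submonoid.prod_mem _ fun a _ => hg a.1 a.2, fun a ha => ?_⟩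
    induction ha using Submodule.span_induction with
    | mem a ha =>
      rw [← Finset.prod_erase_mul _ _ (Finset.mem_attach S ⟨a, ha⟩), mul_assoc]
      exact Ideal.mul_mem_left _ _ (hga a ha)
    | zero => rw [mul_zero]; exact zero_mem _
    | add a b _ _ iha ihb => rw [mul_add]; exact add_mem iha ihb
    | smul r a _ iha => rw [smul_eq_mul, mul_left_comm]; exact Ideal.mul_mem_left _ _ iha
  obtain ⟨g₁, hg₁, hg₁'⟩ := key I₁ I₂ h₁ h.le
  obtain ⟨g₂, hg₂, hg₂'⟩ := key I₂ I₁ h₂ h.ge
  let ρ := (X.presheaf.map (homOfLE (X.basicOpen_le (g₁ * g₂))).op).hom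
  refine ⟨g₁ * g₂, ?_, ?_⟩
  · rw [X.mem_basicOpen _ _ hx, map_mul, IsUnit.mul_iff]
    exact ⟨IsLocalization.map_units (X.presheaf.stalk x) (⟨g₁, hg₁⟩ : p.primeCompl),
      IsLocalization.map_units (X.presheaf.stalk x) (⟨g₂, hg₂⟩ : p.primeCompl)⟩
  have hu : IsUnit (ρ g₁ * ρ g₂) := by
    rw [← map_mul]; exact X.toRingedSpace.isUnit_res_basicOpen _
  refine le_antisymm (Ideal.map_le_iff_le_comap.2 fun a ha => ?_) (Ideal.map_le_iff_le_comap.2 fun a ha => ?_)
  · refine ((Ideal.map ρ I₂).unit_mul_mem_iff_mem (isUnit_of_mul_isUnit_left hu)).1 ?_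
    rw [← map_mul]
    exact Ideal.mem_map_of_mem _ (hg₁' a ha)
  · refine ((Ideal.map ρ I₁).unit_mul_mem_iff_mem (isUnit_of_mul_isUnit_right hu)).1 ?_
    rw [← map_mul]
    exact Ideal.mem_map_of_mem _ (hg₂' a ha)

/-- An ideal of the local ring at a closed point, of finite colength, extended to an ideal sheaf. -/
theorem exists_pointIdeal {x : X} (hx : IsClosed ({x} : Set X)) (J : Ideal (X.presheaf.stalk x)) {n : ℕ}
    (hn : maximalIdeal (X.presheaf.stalk x) ^ n ≤ J) :
    ∃ 𝓙 : X.IdealSheafData, (𝓙.support : Set X) ⊆ {x} ∧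
      ∀ (V : X.affineOpens) (hxV : x ∈ V.1), (𝓙.ideal V).map (X.presheaf.germ V.1 x hxV).hom = J := by
  let A := X.presheaf.stalk x
  let j : Spec (CommRingCat.of (A ⧸ J)) ⟶ Spec A := Spec.map (CommRingCat.ofHom (Ideal.Quotient.mk J))
  haveI : IsClosedImmersion j := IsClosedImmersion.spec_of_surjective _ Ideal.Quotient.mk_surjective
  let i := j ≫ X.fromSpecStalk x
  have hrange : Set.range i ⊆ {x} := by
    rintro _ ⟨t, rfl⟩
    have hle : J ≤ (j t).asIdeal := fun a ha => by
      show (Ideal.Quotient.mk J) a ∈ t.asIdeal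
      rw [Ideal.Quotient.eq_zero_iff_mem.2 ha]
      exact zero_mem _
    have hm : maximalIdeal A ≤ (j t).asIdeal := fun a ha =>
      (j t).isPrime.mem_of_pow_mem n (hle (hn (Ideal.pow_mem_pow ha n)))
    have he : j t = closedPoint A := PrimeSpectrum.ext
      (((maximalIdeal.isMaximal A).eq_of_le (j t).isPrime.ne_top hm).symm)
    show X.fromSpecStalk x (j t) = x
    rw [he]
    exact X.fromSpecStalk_closedPoint
  haveI : IsClosedImmersion i := by
    refine IsClosedImmersion.of_isPreimmersion i ?_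
    rcases Set.subset_singleton_iff_eq.1 hrange with h | h
    · rw [h]; exact isClosed_empty
    · rw [h]; exact hx
  refine ⟨i.ker, ?_, fun V hxV => ?_⟩
  · rw [Scheme.Hom.support_ker]
    exact closure_minimal hrange hx
  · have hker : i.ker.comap (X.fromSpecStalk x) = j.ker := by
      rw [← Scheme.IdealSheafData.ker_fst_of_isClosedImmersion]
      let e : pullback (X.fromSpecStalk x) i ⟶ Spec (CommRingCat.of (A ⧸ J)) := pullback.snd _ _
      haveI : IsIso e := by
        refine ⟨⟨pullback.lift j (𝟙 _) (by simp [i]), ?_, by simp [e]⟩⟩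
        refine pullback.hom_ext ?_ (by simp [e])
        rw [Category.assoc, pullback.lift_fst, ← cancel_mono (X.fromSpecStalk x), Category.assoc,
          Category.id_comp, pullback.condition]
      have hfst : pullback.fst (X.fromSpecStalk x) i = e ≫ j := by
        rw [← cancel_mono (X.fromSpecStalk x), Category.assoc, pullback.condition]
      rw [hfst, Scheme.Hom.ker_comp_of_isIso]
    have h1 := ModPairLib.ideal_comap i.ker (X.fromSpecStalk x) V ⟨⊤, isAffineOpen_top _⟩
      (fun t _ => by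
        show X.fromSpecStalk x t ∈ V.1
        exact ((specializes_closedPoint t).map (X.fromSpecStalk x).continuous).mem_open V.1.2
          (X.fromSpecStalk_closedPoint.symm ▸ hxV))
    rw [hker, Scheme.Hom.ker_apply, Scheme.Hom.appLE, Scheme.fromSpecStalk_app hxV, Category.assoc, Category.assoc,
      ← Functor.map_comp] at h1
    erw [(Spec A).presheaf.map_id, Category.comp_id] at h1
    rw [CommRingCat.hom_comp, ← Ideal.map_map] at h1
    have hbij := ConcreteCategory.bijective_of_isIso (Scheme.ΓSpecIso A).inv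
    have h2 := congrArg (Ideal.comap (Scheme.ΓSpecIso A).inv.hom) h1
    rw [Ideal.comap_map_of_bijective _ hbij] at h2
    rw [← h2]
    have hnat : (Scheme.ΓSpecIso A).inv ≫ j.app ⊤ =
        CommRingCat.ofHom (Ideal.Quotient.mk J) ≫ (Scheme.ΓSpecIso _).inv :=
      (Scheme.ΓSpecIso_inv_naturality _).symm
    ext a
    rw [Ideal.mem_comap, RingHom.mem_ker]
    have h3 := RingHom.congr_fun (congrArg CommRingCat.Hom.hom hnat) a
    simp only [CommRingCat.hom_comp, RingHom.comp_apply, CommRingCat.hom_ofHom] at h3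
    rw [h3]
    exact (map_eq_zero_iff (Scheme.ΓSpecIso (CommRingCat.of (A ⧸ J))).inv.hom
      (ConcreteCategory.bijective_of_isIso (Scheme.ΓSpecIso (CommRingCat.of (A ⧸ J))).inv).1).trans
      Ideal.Quotient.eq_zero_iff_mem

/-- A neighbourhood of a point with a domain as local ring which is integral. -/
theorem exists_integral_nhd [IsLocallyNoetherian X] {x : X} [IsDomain (X.presheaf.stalk x)] {W : X.Opens}
    (hxW : x ∈ W) :
    ∃ V : X.affineOpens, x ∈ V.1 ∧ V.1 ≤ W ∧ IsDomain Γ(X, V.1) := by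
  obtain ⟨U, hxU, hU, hinj⟩ := X.exists_germ_injective x
  obtain ⟨g, hgW, hxg⟩ := hU.exists_basicOpen_le ⟨x, hxW⟩ hxU
  exact ⟨⟨_, hU.basicOpen g⟩, hxg, hgW,
    Function.Injective.isDomain _ (injective_germ_basicOpen U hU x hxU g hxg hinj)⟩

/-- Near a regular closed point of dimension two an ideal is a principal ideal times a point-supported one. -/
theorem exists_decomposition [IsLocallyNoetherian X] {x : X} (hx : IsClosed ({x} : Set X))
    [IsRegularLocalRing (X.presheaf.stalk x)] (hdim : ringKrullDim (X.presheaf.stalk x) = 2)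
    (V : X.affineOpens) (hxV : x ∈ V.1) [IsDomain Γ(X, V.1)] (J : Ideal Γ(X, V.1)) (hJ : J ≠ ⊥) :
    ∃ (𝓙 : X.IdealSheafData) (g d : Γ(X, V.1)), (𝓙.support : Set X) ⊆ {x} ∧ x ∈ X.basicOpen g ∧
      (X.presheaf.map (homOfLE (X.basicOpen_le g)).op).hom d ≠ 0 ∧
      J.map (X.presheaf.map (homOfLE (X.basicOpen_le g)).op).hom =
        Ideal.span {(X.presheaf.map (homOfLE (X.basicOpen_le g)).op).hom d} *
          (𝓙.ideal V).map (X.presheaf.map (homOfLE (X.basicOpen_le g)).op).hom := by
  obtain ⟨_, _⟩ := RegDimTwo.ufd _ hdim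
  letI := X.presheaf.algebra_section_stalk (⟨x, hxV⟩ : V.1)
  haveI := V.2.isLocalization_stalk ⟨x, hxV⟩
  let p := (V.2.primeIdealOf ⟨x, hxV⟩).asIdeal
  have hinj : Function.Injective (X.presheaf.germ V.1 x hxV).hom :=
    IsLocalization.injective (X.presheaf.stalk x) p.primeCompl_le_nonZeroDivisors
  obtain ⟨d₁, J', hd₁, hJ', hJd, hpr⟩ := exists_factor (J.map (X.presheaf.germ V.1 x hxV).hom)
    (fun h => hJ ((Ideal.map_eq_bot_iff_of_injective hinj).1 h))
  obtain ⟨n, hn⟩ := exists_pow_le _ hdim J' hJ' hpr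
  obtain ⟨𝓙, hsupp, hgerm⟩ := exists_pointIdeal hx J' hn
  obtain ⟨⟨d, s⟩, hds⟩ := IsLocalization.surj p.primeCompl d₁
  have hspan : Ideal.span {(X.presheaf.germ V.1 x hxV).hom d} = Ideal.span {d₁} := by
    refine Ideal.span_singleton_eq_span_singleton.2 ?_
    exact (associated_mul_unit_left d₁ _ (IsLocalization.map_units (X.presheaf.stalk x) s)).symm.trans
      (Associated.of_eq hds) |>.symm
  haveI : IsNoetherianRing Γ(X, V.1) := IsLocallyNoetherian.component_noetherian V
  obtain ⟨g, hxg, hg⟩ := exists_basicOpen_eq V.2 hxV (IsNoetherian.noetherian J)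
    (IsNoetherian.noetherian (Ideal.span {d} * 𝓙.ideal V))
    (by rw [Ideal.map_mul, Ideal.map_span, Set.image_singleton, hspan, hgerm V hxV, ← hJd])
  refine ⟨𝓙, g, d, hsupp, hxg, fun h0 => ?_, ?_⟩
  · have hd : (X.presheaf.germ V.1 x hxV).hom d ≠ 0 := fun h => hd₁ (by
      have := Ideal.mem_span_singleton_self d₁
      rw [← hspan, h, Ideal.span_singleton_eq_bot.2 rfl] at this
      exact this)
    apply hd
    have h1 : X.presheaf.germ (X.basicOpen g) x hxg (X.presheaf.map (homOfLE (X.basicOpen_le g)).op d) = 0 := by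
      erw [h0]; exact map_zero _
    rw [X.presheaf.germ_res_apply] at h1
    exact h1
  · rw [hg, Ideal.map_mul, Ideal.map_span, Set.image_singleton]


end Groth.Agent.ResSurf.PointExtend
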