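import Groth.Agent.ResSurf.LiftSection
import Groth.Agent.ResSurf.PointExtend
import Groth.Agent.BlowUpX.Basic
import Groth.Agent.DimFormula.Codim

/-!
# The maximal ideal of a rational singularity becomes principal on a regular modification
-/

universe u

open CategoryTheory CategoryTheory.Limits AlgebraicGeometry TopologicalSpace Opposite IsLocalRing

set_option backward.isDefEq.respectTransparency false
set_option backward.isDefEq.respectTransparency.types false
set_option linter.style.haveILetI false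
set_option maxHeartbeats 400000

namespace Groth.Agent.ResSurf

open Groth.Agent

/-- A point of maximal stalk dimension is closed. -/
theorem isClosed_of_dim_eq_two {X : Scheme.{u}} [IsIntegral X] [IsLocallyNoetherian X]
    (hd : ∀ x : X, ringKrullDim (X.presheaf.stalk x) ≤ 2) {x : X}
    (hx : ringKrullDim (X.presheaf.stalk x) = 2) : IsClosed ({x} : Set X) := by
  rw [← closure_eq_iff_isClosed]
  refine subset_antisymm (fun y hy => ?_) subset_closure
  have hxy : x ⤳ y := specializes_iff_mem_closure.2 hy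
  by_contra hne
  have h1 : 1 ≤ DimFormula.cd x y :=
    Nat.one_le_iff_ne_zero.2 fun h0 => hne ((DimFormula.cd_eq_zero_iff hxy).1 h0).symm
  have h2 := DimFormula.cd_add_cd_le hxy (genericPoint_specializes x)
  rw [DimFormula.cd_eq_codim_of_irreducible, DimFormula.cd_eq_codim_of_irreducible] at h2
  have h3 := hd y
  rw [DimFormula.ringKrullDim_stalk] at h3 hx
  have h4 : DimFormula.codim x = 2 := by exact_mod_cast hx
  have h5 : DimFormula.codim y ≤ 2 := by exact_mod_cast h3
  omega

/-- **The maximal ideal becomes principal.** -/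
theorem isPrincipal_map_maximalIdeal {B : Type u} [CommRing B] [IsLocalRing B] [IsNoetherianRing B]
    {X : Scheme.{u}} [IsIntegral X] [IsLocallyNoetherian X]
    (hreg : ∀ x : X, IsRegularLocalRing (X.presheaf.stalk x))
    (hd : ∀ x : X, ringKrullDim (X.presheaf.stalk x) ≤ 2)
    (φ : B →+* Γ(X, ⊤)) (hΓ : Function.Surjective φ)
    (hH1 : Subsingleton (Coh.HH X (Coh.structureModule X) 1))
    (hH2 : ∀ M : X.Modules, Coh.IsCoh M → Subsingleton (Coh.HH X M 2))
    (x y : X) (hy : ∀ a ∈ maximalIdeal B, ¬ IsUnit (X.presheaf.germ ⊤ y trivial (φ a))) (hxy : y ≠ x) :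
    (((maximalIdeal B).map (φ)).map (X.presheaf.germ ⊤ x trivial).hom).IsPrincipal := by
  classical
  haveI := hreg x
  haveI := RegLoc6.isDomain_of_isRegularLocalRing (X.presheaf.stalk x)
  by_cases hx1 : ringKrullDim (X.presheaf.stalk x) ≤ 1
  · haveI := PointExtend.isPrincipalIdealRing_of_dim_le_one (X.presheaf.stalk x) hx1
    exact IsPrincipalIdealRing.principal _
  have hx2 : ringKrullDim (X.presheaf.stalk x) = 2 := by
    have h := hd x
    rw [DimFormula.ringKrullDim_stalk] at h hx1 ⊢
    have h1 : DimFormula.codim x ≤ 2 := by exact_mod_cast h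
    have h2 : ¬ DimFormula.codim x ≤ 1 := fun h => hx1 (by exact_mod_cast h)
    exact_mod_cast (show DimFormula.codim x = 2 by omega)
  have hxc := isClosed_of_dim_eq_two hd hx2
  obtain ⟨s, hs⟩ := (Ideal.FG.map (IsNoetherian.noetherian (maximalIdeal B)) (φ) :
    ((maximalIdeal B).map (φ)).FG)
  let I : Ideal Γ(X, ⊤) := (maximalIdeal B).map (φ)
  let J : X.IdealSheafData := Scheme.IdealSheafData.ofIdealTop I
  have hJ : ∀ U : X.affineOpens, J.ideal U = I.map (X.presheaf.map (homOfLE (le_top : U.1 ≤ ⊤)).op).hom :=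
    fun U => rfl
  have hJs : ∀ U : X.affineOpens, J.ideal U =
      Ideal.span ((fun a => X.presheaf.map (homOfLE le_top).op a) '' (s : Set Γ(X, ⊤))) := fun U => by
    rw [hJ, show I = Ideal.span (s : Set Γ(X, ⊤)) from hs.symm, Ideal.map_span]
  have hJmap : ∀ {U V : X.affineOpens} (h : U.1 ≤ V.1),
      (J.ideal V).map (X.presheaf.map (homOfLE h).op).hom = J.ideal U := fun h => J.map_ideal h
  obtain ⟨V₀, hV, hxV, -⟩ := exists_isAffineOpen_mem_and_subset (x := x) (U := ⊤) trivial
  let V : X.affineOpens := ⟨V₀, hV⟩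
  haveI : Nonempty (V.1 : Scheme.{u}) := ⟨⟨_, hxV⟩⟩
  haveI : IsDomain Γ(X, V.1) := IsIntegral.component_integral _
  have hgerm : ∀ (U : X.affineOpens) (hxU : x ∈ U.1),
      I.map (X.presheaf.germ ⊤ x trivial).hom = (J.ideal U).map (X.presheaf.germ U.1 x hxU).hom := fun U hxU => by
    rw [hJ]
    generalize I = I'
    rw [Ideal.map_map, ← CommRingCat.hom_comp, TopCat.Presheaf.germ_res]
  by_cases hJ0 : J.ideal V = ⊥
  · show (I.map _).IsPrincipal
    rw [hgerm V hxV, hJ0, Ideal.map_bot]
    exact bot_isPrincipal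
  obtain ⟨𝓙, g, d₀, hsupp, hxg, -, hdec⟩ :=
    PointExtend.exists_decomposition hxc hx2 V hxV (J.ideal V) hJ0
  let D : X.affineOpens := X.affineBasicOpen (U := V) g
  set d : Γ(X, D.1) := X.presheaf.map (homOfLE (X.basicOpen_le g)).op d₀
  have hdD : J.ideal D = Ideal.span {d} * 𝓙.ideal D := by
    rw [← hJmap (U := D) (V := V) (X.basicOpen_le g), ← 𝓙.map_ideal (U := D) (V := V) (X.basicOpen_le g)]
    exact hdec
  let O : X.Opens := ⟨({x} : Set X)ᶜ, hxc.isOpen_compl⟩
  have hvan : J.subschemeι.app (D.1 ⊓ O) (X.presheaf.map (homOfLE inf_le_left).op d) = 0 := by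
    refine TopCat.Sheaf.eq_of_locally_eq' J.subscheme.sheaf
      (fun W : {W : X.affineOpens // W.1 ≤ D.1 ⊓ O} => J.subschemeι ⁻¹ᵁ W.1.1)
      (J.subschemeι ⁻¹ᵁ (D.1 ⊓ O)) (fun W => homOfLE (J.subschemeι.preimage_mono W.2)) (fun z hz => ?_) _ _
      fun W => ?_
    · obtain ⟨W, hW, hzW, hle⟩ := exists_isAffineOpen_mem_and_subset (x := J.subschemeι z) (U := D.1 ⊓ O) hz
      exact Opens.mem_iSup.2 ⟨⟨⟨W, hW⟩, hle⟩, hzW⟩
    · rw [map_zero]
      refine ((congr($(J.subschemeι.naturality (homOfLE W.2).op)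
        (X.presheaf.map (homOfLE inf_le_left).op d))).symm.trans ?_)
      show J.subschemeι.app W.1.1 (X.presheaf.map (homOfLE W.2).op (X.presheaf.map (homOfLE inf_le_left).op d)) = 0
      erw [← ConcreteCategory.comp_apply (X.presheaf.map _) (X.presheaf.map _)]
      rw [← Functor.map_comp, ← RingHom.mem_ker, J.ker_subschemeι_app,
        ← hJmap (U := W.1) (V := D) (W.2.trans inf_le_left), hdD, Ideal.map_mul]
      rw [show (𝓙.ideal D).map (X.presheaf.map (homOfLE (W.2.trans inf_le_left : W.1.1 ≤ D.1)).op).hom = ⊤ from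
        (𝓙.map_ideal (U := W.1) (V := D) (W.2.trans inf_le_left)).trans
          (BlowUpX.ideal_eq_top_of_disjoint 𝓙 W.1 (fun z hz hzs => (W.2 hz).2 (hsupp hzs))), Ideal.mul_top]
      exact Ideal.mem_map_of_mem _ (Ideal.mem_span_singleton_self d)
  obtain ⟨f, hfD, hfO⟩ := exists_function_of_HH_one_idealMod J
    (subsingleton_HH_one_idealMod_span hH1 hH2 J s hJs) D.1 O
    (fun z _ => by
      by_cases hz : z = x
      · exact Or.inl (hz ▸ hxg)
      · exact Or.inr hz) d hvan
  obtain ⟨b, rfl⟩ := hΓ f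
  -- the lift lies in the maximal ideal
  have hb : b ∈ maximalIdeal B := by
    by_contra hb
    have hu : IsUnit (φ b) := (not_not.1 fun h => hb ((mem_maximalIdeal _).2 h) : IsUnit b).map _
    obtain ⟨W, hW, hyW, hWO⟩ := exists_isAffineOpen_mem_and_subset (x := y) (U := O) hxy
    let W' : X.affineOpens := ⟨W, hW⟩
    have h1 : X.presheaf.map (homOfLE (le_top : W ≤ ⊤)).op (φ b) ∈ J.ideal W' := by
      rw [← J.ker_subschemeι_app, RingHom.mem_ker]
      have h := congrArg (J.subscheme.presheaf.map (homOfLE (J.subschemeι.preimage_mono hWO)).op) hfO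
      rw [map_zero] at h
      rw [← h]
      refine Eq.trans ?_ (congr($(J.subschemeι.naturality (homOfLE hWO).op)
        (X.presheaf.map (homOfLE le_top).op (φ b))))
      show J.subschemeι.app W _ = J.subschemeι.app W (X.presheaf.map (homOfLE hWO).op _)
      rw [← ConcreteCategory.comp_apply (X.presheaf.map _) (X.presheaf.map _), ← Functor.map_comp]
      rfl
    have hle : ((maximalIdeal B).map φ).map (X.presheaf.germ ⊤ y trivial).hom ≤
        maximalIdeal (X.presheaf.stalk y) := by
      rw [Ideal.map_map, Ideal.map_le_iff_le_comap]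
      exact fun a ha => (mem_maximalIdeal _).2 (hy a ha)
    refine (mem_maximalIdeal _).1 (hle ?_) (hu.map (X.presheaf.germ ⊤ y trivial).hom)
    have h2 := Ideal.mem_map_of_mem (X.presheaf.germ W y hyW).hom h1
    rw [hJ, Ideal.map_map, ← CommRingCat.hom_comp, TopCat.Presheaf.germ_res] at h2
    rwa [← X.presheaf.germ_res_apply (homOfLE le_top) y hyW (φ b)] at ⊢
  -- hence the equation generates
  have hdJ : d ∈ J.ideal D := by
    have h1 : X.presheaf.map (homOfLE (le_top : D.1 ≤ ⊤)).op (φ b) - d ∈ J.ideal D := by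
      rw [← J.ker_subschemeι_app, RingHom.mem_ker]; exact hfD
    have h2 : X.presheaf.map (homOfLE (le_top : D.1 ≤ ⊤)).op (φ b) ∈ J.ideal D := by
      rw [hJ]; exact Ideal.mem_map_of_mem _ (Ideal.mem_map_of_mem _ hb)
    simpa using sub_mem h2 h1
  refine ⟨X.presheaf.germ D.1 x hxg d, ?_⟩
  show I.map _ = Ideal.span {X.presheaf.germ D.1 x hxg d}
  rw [hgerm D hxg, show J.ideal D = Ideal.span {d} from le_antisymm (hdD.le.trans Ideal.mul_le_left)
    ((Ideal.span_singleton_le_iff_mem _).2 hdJ), Ideal.map_span, Set.image_singleton]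

end Groth.Agent.ResSurf
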