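import Mathlib.Topology.Sober
import Mathlib.Topology.Inseparable

/-! # Maximal points and generic points of irreducible components -/

namespace Groth.Agent.ResSurf

variable {T : Type*} [TopologicalSpace T]

theorem mem_genericPoints_of_maximal [QuasiSober T] {y : T} (hy : ∀ z, z ⤳ y → z = y) : y ∈ genericPoints T := by
  refine ⟨isIrreducible_singleton.closure, fun s hs hle => ?_⟩
  have hg := hs.isGenericPoint_genericPoint_closure
  have h1 : hs.genericPoint ⤳ y := by
    rw [specializes_iff_mem_closure, hg.def]
    exact subset_closure (hle (subset_closure rfl))
  rw [← hy _ h1, hg.def]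
  exact subset_closure

theorem eq_of_specializes_genericPoints [T0Space T] {y z : T} (hy : y ∈ genericPoints T) (hz : z ⤳ y) : z = y := by
  have h1 : closure ({y} : Set T) ⊆ closure {z} :=
    closure_minimal (Set.singleton_subset_iff.2 (specializes_iff_mem_closure.1 hz)) isClosed_closure
  exact (hz.antisymm (specializes_iff_mem_closure.2 (hy.2 isIrreducible_singleton.closure h1 (subset_closure rfl)))).eq

end Groth.Agent.ResSurf
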