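import Groth.Agent.QCoh.Devissage
import Groth.Prelude.Def_Curv2

/-!
# Modules supported at finitely many closed points are globally generated
-/

universe u

open CategoryTheory CategoryTheory.Limits AlgebraicGeometry TopologicalSpace Opposite

set_option autoImplicit false
set_option backward.isDefEq.respectTransparency false
set_option backward.isDefEq.respectTransparency.types false
set_option linter.style.haveILetI false

namespace Groth.Agent.ResSurf.SkyGG

variable {X : Scheme.{u}}

/-- A germ at a point of a finite discrete support is the germ of a global section. -/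
theorem exists_section (M : X.Modules) (T : Set X) (hT : T.Finite) (hTc : ∀ x ∈ T, IsClosed ({x} : Set X))
    (h : ∀ x, x ∉ T → Subsingleton (M.presheaf.stalk x)) (x : X) (hx : x ∈ T) (U : X.Opens) (hxU : x ∈ U)
    (s : Γ(M, U)) : ∃ t : Γ(M, ⊤), M.presheaf.germ ⊤ x trivial t = M.presheaf.germ U x hxU s := by
  have hR : IsClosed (T \ {x}) := by
    rw [← Set.biUnion_of_singleton (T \ {x})]
    exact hT.sdiff.isClosed_biUnion fun y hy => hTc y hy.1
  let W : X.Opens := U ⊓ ⟨(T \ {x})ᶜ, hR.isOpen_compl⟩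
  let O : X.Opens := ⟨({x} : Set X)ᶜ, (hTc x hx).isOpen_compl⟩
  have hxW : x ∈ W := ⟨hxU, fun hx' => hx'.2 rfl⟩
  let F : TopCat.Sheaf Ab X.toTopCat := ⟨M.presheaf, M.isSheaf⟩
  let s' : Γ(M, W) := M.presheaf.map (homOfLE inf_le_left).op s
  have hvan : M.presheaf.map (homOfLE (inf_le_left : W ⊓ O ≤ W)).op s' = 0 := by
    refine TopCat.Presheaf.section_ext F (W ⊓ O) _ _ fun y hy => ?_
    have hyT : y ∉ T := fun hyT => hy.1.2 ⟨hyT, hy.2⟩
    exact (h y hyT).elim _ _
  let V : Bool → X.Opens := fun b => cond b W O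
  have hcov : (⊤ : X.Opens) ≤ iSup V := fun z _ => by
    by_cases hz : z = x
    · exact Opens.mem_iSup.2 ⟨true, hz ▸ hxW⟩
    · exact Opens.mem_iSup.2 ⟨false, hz⟩
  let sec : ∀ b, M.presheaf.obj (op (V b)) := fun b => match b with
    | true => s'
    | false => 0
  obtain ⟨d, hd, -⟩ := TopCat.Sheaf.existsUnique_gluing' F V ⊤ (fun b => homOfLE le_top) hcov sec
    (fun b b' => by
      cases b <;> cases b'
      · rfl
      · show M.presheaf.map _ (0 : M.presheaf.obj (op O)) = M.presheaf.map _ s'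
        rw [map_zero]
        have := congrArg (M.presheaf.map (homOfLE (le_inf inf_le_right inf_le_left : O ⊓ W ≤ W ⊓ O)).op) hvan
        rw [map_zero, ← ConcreteCategory.comp_apply, ← Functor.map_comp] at this
        exact this.symm
      · show M.presheaf.map _ s' = M.presheaf.map _ (0 : M.presheaf.obj (op O))
        rw [map_zero]
        exact hvan
      · rfl)
  refine ⟨d, ?_⟩
  have h1 : M.presheaf.map (homOfLE (le_top : W ≤ ⊤)).op d = s' := hd true
  exact (TopCat.Presheaf.germ_res_apply M.presheaf (homOfLE (le_top : W ≤ ⊤)) x hxW d).symm.trans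
    ((congrArg (M.presheaf.germ W x hxW) h1).trans (TopCat.Presheaf.germ_res_apply M.presheaf _ x hxW s))

/-- A module supported at finitely many closed points is globally generated. -/
theorem isGloballyGenerated (M : X.Modules) (T : Set X) (hT : T.Finite) (hTc : ∀ x ∈ T, IsClosed ({x} : Set X))
    (h : ∀ x, x ∉ T → Subsingleton (M.presheaf.stalk x)) : Curv2.IsGloballyGenerated M := by
  suffices key : ∀ (N : X.Modules) (g : M ⟶ N),
      (∀ t : Γ(M, ⊤), QCoh.homOfTop t ≫ g = 0) → g = 0 from
    ⟨Γ(M, ⊤), Sigma.desc fun t : Γ(M, ⊤) => QCoh.homOfTop t, Preadditive.epi_of_cancel_zero _ fun {N} g hg =>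
      key N g fun t => by
        have h1 := congrArg (fun φ => Sigma.ι (fun _ : Γ(M, ⊤) => Coh.structureModule X) t ≫ φ) hg
        simp only [comp_zero] at h1
        rw [← Category.assoc, Sigma.ι_desc] at h1
        exact h1⟩
  intro N g hg
  have hglob : ∀ t : Γ(M, ⊤), g.app ⊤ t = 0 := fun t => by
    have h1 := hg t
    have h2 := congrArg (fun φ : Coh.structureModule X ⟶ N => Scheme.Modules.Hom.app φ ⊤ (1 : Γ(X, ⊤))) h1
    change g.app ⊤ ((QCoh.homOfTop t).app ⊤ (1 : Γ(X, ⊤))) = 0 at h2
    rw [QCoh.homOfTop_app, one_smul] at h2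
    have ht : (M.presheaf.map (homOfLE (le_top : (⊤ : X.Opens) ≤ ⊤)).op t) = t :=
      ConcreteCategory.congr_hom (M.presheaf.map_id _) t
    rwa [ht] at h2
  refine Scheme.Modules.hom_ext _ _ fun U => ?_
  ext s
  refine TopCat.Presheaf.section_ext ⟨N.presheaf, N.isSheaf⟩ U _ _ fun x hx => ?_
  change N.presheaf.germ U x hx (g.app U s) = N.presheaf.germ U x hx 0
  rw [map_zero]
  have hnat : ∀ (V : X.Opens) (hV : x ∈ V) (v : Γ(M, V)), N.presheaf.germ V x hV (g.app V v) =
      (TopCat.Presheaf.stalkFunctor Ab x).map ((Scheme.Modules.toPresheaf X).map g) (M.presheaf.germ V x hV v) :=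
    fun V hV v => (TopCat.Presheaf.stalkFunctor_map_germ_apply V x hV ((Scheme.Modules.toPresheaf X).map g) v).symm
  obtain ⟨t, ht⟩ : ∃ t : Γ(M, ⊤), M.presheaf.germ ⊤ x trivial t = M.presheaf.germ U x hx s := by
    by_cases hxT : x ∈ T
    · exact exists_section M T hT hTc h x hxT U hx s
    · exact ⟨0, (h x hxT).elim _ _⟩
  rw [hnat, ← ht, ← hnat, hglob, map_zero]

end Groth.Agent.ResSurf.SkyGG
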