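import Groth.Agent.ResSurf.BadPoints
import Groth.Agent.ResSurf.LerayLength
import Groth.Agent.ResSurf.SkyGG
import Groth.Agent.ResSurf.PointCoh
import Groth.Agent.QGorRing.FibreVanish

/-!
# Higher direct images between modifications of a normal surface singularity
-/

universe u

open CategoryTheory CategoryTheory.Limits AlgebraicGeometry TopologicalSpace Opposite IsLocalRing

set_option autoImplicit false
set_option backward.isDefEq.respectTransparency false
set_option backward.isDefEq.respectTransparency.types false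
set_option linter.style.haveILetI false

namespace Groth.Agent.ResSurf.ModifPush

open Groth.Agent

theorem isIso_restrict_mono {X Y : Scheme.{u}} (g : X ⟶ Y) {U V : Y.Opens} (h : V ≤ U) [IsIso (g ∣_ U)] :
    IsIso (g ∣_ V) := by
  let V' : (U : Scheme.{u}).Opens := U.ι ⁻¹ᵁ V
  have hV : U.ι ''ᵁ V' = V := by
    rw [Scheme.Hom.image_preimage_eq_opensRange_inf, Scheme.Opens.opensRange_ι, inf_eq_right.2 h]
  have h1 : IsIso (g ∣_ U ∣_ V') := inferInstance
  have h2 := (MorphismProperty.isomorphisms Scheme.{u}).arrow_mk_iso_iff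
    (morphismRestrictRestrict g U V' ≪≫ eqToIso (by rw [hV]))
  exact h2.1 h1

/-- The comparison `O_X → g_* O_{X'}` is invertible when `g` is bijective on functions. -/
theorem nonempty_push_structure {X' X : Scheme.{u}} (g : X' ⟶ X) (h : ∀ W : X.Opens, Function.Bijective (g.app W)) :
    Nonempty (Coh.structureModule X ≅ (Coh.push g).obj (Coh.structureModule X')) := by
  let φ : Coh.structureModule X ⟶ (Coh.push g).obj (Coh.structureModule X') :=
    QCoh.homOfTop (show Γ((Coh.push g).obj (Coh.structureModule X'), ⊤) from (1 : Γ(X', g ⁻¹ᵁ ⊤)))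
  haveI : IsIso φ := Scheme.Modules.Hom.isIso_iff_isIso_app.2 fun W => by
    refine (ConcreteCategory.isIso_iff_bijective _).2 ?_
    have he : ∀ a : Γ(X, W), φ.app W a = g.app W a := fun a => by
      refine (QCoh.homOfTop_app _ a).trans ?_
      refine (QCoh.pushforward_smul g W a _).trans ?_
      show g.app W a * X'.presheaf.map _ (1 : Γ(X', g ⁻¹ᵁ ⊤)) = _
      rw [map_one, mul_one]
    exact ⟨fun a b hab => (h W).1 ((he a).symm.trans (hab.trans (he b))),
      fun c => ((h W).2 c).imp fun a ha => (he a).trans ha⟩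
  exact ⟨asIso φ⟩

variable (A : Type u) [CommRing A] [IsDomain A] [IsLocalRing A] [IsNoetherianRing A]

/-- The statement of the comparison of two modifications. -/
theorem main (hdim : ringKrullDim A = 2) (X X' : Scheme.{u}) [X.Over (Spec (CommRingCat.of A))]
    [X'.Over (Spec (CommRingCat.of A))] [IsProper (X ↘ Spec (CommRingCat.of A))]
    [IsProper (X' ↘ Spec (CommRingCat.of A))] [IsIntegral X] [IsIntegral X']
    (U : (Spec (CommRingCat.of A)).Opens) (hU : (U : Set (Spec (CommRingCat.of A))).Nonempty)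
    [IsIso ((X ↘ Spec (CommRingCat.of A)) ∣_ U)]
    (U' : (Spec (CommRingCat.of A)).Opens) (hU' : (U' : Set (Spec (CommRingCat.of A))).Nonempty)
    [IsIso ((X' ↘ Spec (CommRingCat.of A)) ∣_ U')]
    (hXn : Pi1.IsNormalScheme X) (g : X' ⟶ X)
    (hg : g ≫ (X ↘ Spec (CommRingCat.of A)) = X' ↘ Spec (CommRingCat.of A))
    [HasInjectiveResolutions X'.Modules] :
    Curv2.IsGloballyGenerated ((Coh.Rpush g 1).obj (Coh.structureModule X')) ∧
      {x : X | Nontrivial (((Coh.Rpush g 1).obj (Coh.structureModule X')).presheaf.stalk x)}.Finite ∧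
      (∀ x : X, Nontrivial (((Coh.Rpush g 1).obj (Coh.structureModule X')).presheaf.stalk x) → IsClosed ({x} : Set X)) ∧
      Module.length A (Coh.HH X' (Coh.structureModule X') 1) =
        Module.length A (Coh.HH X (Coh.structureModule X) 1) +
          Module.length A (Coh.HH X ((Coh.Rpush g 1).obj (Coh.structureModule X')) 0) := by
  let S := Spec (CommRingCat.of A)
  let π := X ↘ S
  let π' := X' ↘ S
  haveI : IsLocallyNoetherian X := LocallyOfFiniteType.isLocallyNoetherian π
  haveI : CompactSpace X := QuasiCompact.compactSpace_of_compactSpace π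
  haveI : IsNoetherian X := ⟨⟩
  have hπb : IsBirat π := isBirat_of_isIso_restrict π U hU
  have hπ'b : IsBirat π' := isBirat_of_isIso_restrict π' U' hU'
  have hgb : IsBirat g := (hg.symm ▸ hπ'b : IsBirat (g ≫ π)).of_comp hπb
  haveI : IsProper (g ≫ π) := by rw [hg]; infer_instance
  haveI : IsProper g := IsProper.of_comp g π
  have hdS : topologicalKrullDim S ≤ 2 :=
    ((PrimeSpectrum.topologicalKrullDim_eq_ringKrullDim A).trans hdim).le
  have hd : topologicalKrullDim X ≤ 2 := BadPoints.topologicalKrullDim_le_of_birat π hπb hdS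
  -- an open over which `g` is an isomorphism
  let V : S.Opens := U ⊓ U'
  have hη : genericPoint S ∈ V :=
    ⟨((genericPoint_spec S).mem_open_set_iff U.isOpen).2 (by simpa using hU),
      ((genericPoint_spec S).mem_open_set_iff U'.isOpen).2 (by simpa using hU')⟩
  haveI : IsIso (π ∣_ V) := isIso_restrict_mono π inf_le_left
  haveI : IsIso ((g ≫ π) ∣_ V) := by rw [hg]; exact isIso_restrict_mono π' inf_le_right
  haveI : IsIso (g ∣_ (π ⁻¹ᵁ V)) := by
    haveI : IsIso ((g ∣_ (π ⁻¹ᵁ V)) ≫ (π ∣_ V)) := by rw [← morphismRestrict_comp]; infer_instance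
    exact IsIso.of_isIso_comp_right _ (π ∣_ V)
  have hVne : ((π ⁻¹ᵁ V : X.Opens) : Set X).Nonempty :=
    ⟨genericPoint X, show π (genericPoint X) ∈ V from hπb.apply_genericPoint.symm ▸ hη⟩
  obtain ⟨T, hTc, hTf, hTp, hiso⟩ := BadPoints.exists_bad g hgb hXn hd (π ⁻¹ᵁ V) hVne
  let O : X.Opens := ⟨Tᶜ, hTc.isOpen_compl⟩
  haveI : IsIso (g ∣_ O) := hiso
  have hstalk : ∀ x, x ∉ T →
      Subsingleton (((Coh.Rpush g 1).obj (Coh.structureModule X')).presheaf.stalk x) := fun x hx =>
    LerayLength.subsingleton_stalk g _ fun W₀ hxW₀ => by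
      obtain ⟨W, hW, hxW, hWle⟩ := exists_isAffineOpen_mem_and_subset (x := x) (U := W₀ ⊓ O) ⟨hxW₀, hx⟩
      haveI : IsIso (g ∣_ W) := isIso_restrict_mono g (le_trans hWle inf_le_right)
      haveI : IsAffine (W : Scheme.{u}) := hW
      have hWa : IsAffineOpen (g ⁻¹ᵁ W) := IsAffine.of_isIso (g ∣_ W)
      refine ⟨W, le_trans hWle inf_le_left, hxW, ?_⟩
      have h := subsingleton_HU_one_structure (g ⁻¹ᵁ W) (g ⁻¹ᵁ W) hWa hWa fun a =>
        ⟨X'.presheaf.map (homOfLE (le_inf le_rfl le_rfl : g ⁻¹ᵁ W ≤ g ⁻¹ᵁ W ⊓ g ⁻¹ᵁ W)).op a, 0, by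
          rw [map_zero, add_zero, ← ConcreteCategory.comp_apply, ← Functor.map_comp,
            show (homOfLE (le_inf le_rfl le_rfl : g ⁻¹ᵁ W ≤ g ⁻¹ᵁ W ⊓ g ⁻¹ᵁ W)).op ≫ (homOfLE inf_le_left).op = 𝟙 _
              from Subsingleton.elim _ _, X'.presheaf.map_id]
          rfl⟩
      rw [sup_idem] at h
      exact h
  have hmem : ∀ x, Nontrivial (((Coh.Rpush g 1).obj (Coh.structureModule X')).presheaf.stalk x) → x ∈ T :=
    fun x hx => by
      by_contra hxT
      exact not_subsingleton _ (hstalk x hxT)
  refine ⟨SkyGG.isGloballyGenerated _ T hTf (fun x hx => (hTp x hx).1) hstalk, hTf.subset hmem,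
    fun x hx => (hTp x (hmem x hx)).1, ?_⟩
  -- functions
  have hbir : Function.Bijective (X.presheaf.stalkSpecializes (specializes_of_eq hgb.apply_genericPoint) ≫
      g.stalkMap (genericPoint X')).hom := by
    haveI : ValuationRing (X.presheaf.stalk (g (genericPoint X'))) := by
      rw [hgb.apply_genericPoint]; exact inferInstanceAs (ValuationRing X.functionField)
    haveI : IsIso (g.stalkMap (genericPoint X')) :=
      (ConcreteCategory.isIso_iff_bijective _).2 (hgb.bijective_stalkMap _)
    haveI : IsIso (X.presheaf.stalkSpecializes (specializes_of_eq hgb.apply_genericPoint)) :=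
      (TopCat.Presheaf.stalkCongr X.presheaf (Inseparable.of_eq hgb.apply_genericPoint.symm)).isIso_hom
    exact ConcreteCategory.bijective_of_isIso _
  obtain ⟨e⟩ := nonempty_push_structure g (bijective_app_of_birational g hXn hgb.apply_genericPoint hbir)
  have hH2 : Subsingleton (Coh.HH X (Coh.structureModule X) 2) := by
    refine QGorRing.subsingleton_HH_of_closedFibre (A := A) QCoh.isCoh_structureModule' (d := 1) ?_ one_lt_two
    refine BadPoints.topologicalKrullDim_closed_le_one (fun w => ?_) _
      ((isClosed_singleton_closedPoint _).preimage π.continuous) fun h => ?_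
    · rw [DimFormula.ringKrullDim_stalk]
      exact WithBot.coe_le_coe.2 (by exact_mod_cast codim_le_of_dim_le (d := 2) (by exact_mod_cast hd) w)
    · have h1 : genericPoint S = closedPoint A := hπb.apply_genericPoint.symm.trans h
      have h2 : maximalIdeal A = ⊥ := by
        rw [genericPoint_eq_bot_of_affine] at h1
        exact (congrArg PrimeSpectrum.asIdeal h1).symm
      have h3 : IsField A := isField_iff_maximalIdeal_eq.2 h2
      rw [ringKrullDim_eq_zero_of_isField h3] at hdim
      exact absurd hdim (by decide)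
  have h2 : Subsingleton (Coh.HH X ((Coh.push g).obj (Coh.structureModule X')) 2) :=
    QCoh.subsingleton_HH_of_iso e 2 hH2
  rw [LerayLength.length_HH_one A g hg (Coh.structureModule X') h2, (LerayLength.hhEquiv A e 1).length_eq]

end Groth.Agent.ResSurf.ModifPush
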