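import Groth.Agent.ResSurf.NormDominate
import Groth.Agent.ResSurf.Modif

/-!
# Normalized blowings up dominate modifications of Nagata surfaces
-/

universe u

open CategoryTheory CategoryTheory.Limits AlgebraicGeometry TopologicalSpace

namespace Groth.Agent.ResSurf

open Groth.Agent

variable {X : Scheme.{u}} [IsIntegral X]

theorem finNorm_of_nagata (hN : ∀ U : X.affineOpens, CAlg.IsNagata Γ(X, U.1)) : FinNorm X := by
  intro Z _ _ _ c _ _
  exact NormCurve.isFinite_normalizationι Z (nagata_of_lft c hN)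

theorem exists_seq_dominating [IsNoetherian X] [QuasiCompact (X.fromSpecStalk (genericPoint X))]
    [QuasiSeparated (X.fromSpecStalk (genericPoint X))]
    (hN : ∀ U : X.affineOpens, CAlg.IsNagata Γ(X, U.1)) (hd : topologicalKrullDim X ≤ 2)
    {Y : Scheme.{u}} [IsIntegral Y] (f : Y ⟶ X) [IsProper f]
    (hbir : ∃ U : X.Opens, (U : Set X).Nonempty ∧ IsIso (f ∣_ U)) :
    ∃ (Xn : Scheme.{u}) (g : Xn ⟶ Curv2.normalization X), Resolve.IsNormPtBlowupSeq g ∧
      ∃ h : Xn ⟶ Y, h ≫ f = g ≫ Curv2.normalizationι X := by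
  obtain ⟨U, hU, hiso⟩ := hbir
  obtain ⟨W, ν, hν, hWi, hWn, V, hV, hVi⟩ := exists_normal_modification hN f U hU
  haveI : IsProper (ν ≫ f) := inferInstance
  obtain ⟨M, h, hh⟩ := exists_model_dominating (f := ν ≫ f) (finNorm_of_nagata hN) hd hWn V hV
  exact ⟨M.Z, M.r, M.seq, h ≫ ν, by rw [Category.assoc]; exact hh⟩

end Groth.Agent.ResSurf
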