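import Groth.Agent.ResSurf.NormStep
import Groth.Agent.Proj16.NormalExt

/-!
# Elementary facts on sequences of normalized blowings up
-/

universe u

open CategoryTheory CategoryTheory.Limits AlgebraicGeometry TopologicalSpace IsLocalRing

set_option backward.isDefEq.respectTransparency false
set_option backward.isDefEq.respectTransparency.types false
set_option linter.style.haveILetI false

namespace Groth.Agent.ResSurf

open Groth.Agent

theorem normSeq_comp_iso {Y X : Scheme.{u}} {g : Y ⟶ X} (h : Resolve.IsNormPtBlowupSeq g) :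
    ∀ {X' : Scheme.{u}} (e : X ≅ X'), Resolve.IsNormPtBlowupSeq (g ≫ e.hom) := by
  induction h with
  | iso e₀ => exact fun e => Resolve.IsNormPtBlowupSeq.iso (e₀ ≪≫ e)
  | step b r z hz hb hr ih =>
    intro X' e
    simp only [Category.assoc]
    exact Resolve.IsNormPtBlowupSeq.step b (r ≫ e.hom) z hz hb (ih e)

theorem normSeq_isBirat {Y X : Scheme.{u}} {g : Y ⟶ X} (h : Resolve.IsNormPtBlowupSeq g) :
    ∀ [IsIntegral X], ∃ _ : IsIntegral Y, IsBirat g := by
  induction h with
  | @iso Y X e =>
    intro _
    haveI : Nonempty Y := ⟨e.inv (genericPoint X)⟩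
    haveI : IsIntegral Y := isIntegral_of_isOpenImmersion e.hom
    exact ⟨inferInstance, isBirat_of_isIso e.hom⟩
  | @step Z' Z X _ _ _ b r z hz hb hr ih =>
    intro _
    obtain ⟨_, hr'⟩ := ih
    refine ⟨inferInstance, (isBirat_normalizationι Z').comp (IsBirat.comp ?_ hr')⟩
    set C := Scheme.IdealSheafData.vanishingIdeal (X := Z) ⟨{z}, hz⟩
    have hsupp : (C.support : Set Z) = {z} := Scheme.IdealSheafData.coe_support_vanishingIdeal _
    have hne : genericPoint Z ≠ z := by
      intro e
      obtain ⟨V, hV, f, hf, hfC⟩ := hb.1 (genericPoint Z')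
      have hs : genericPoint Z' ∈ (C.comap b).support := by
        rw [Scheme.IdealSheafData.support_comap]
        refine hsupp.ge ?_
        have h1 : b (genericPoint Z') ∈ closure ({z} : Set Z) :=
          specializes_iff_mem_closure.1 (e ▸ genericPoint_specializes _)
        rwa [hz.closure_eq] at h1
      have h2 := (Scheme.IdealSheafData.mem_support_iff_of_mem (U := V) hV).1 hs
      rw [Scheme.mem_zeroLocus_iff] at h2
      refine h2 f (by rw [hfC]; exact Ideal.mem_span_singleton_self f) ?_
      rw [Z'.mem_basicOpen f _ hV]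
      haveI : Nonempty (V.1 : Scheme.{u}) := ⟨⟨_, hV⟩⟩
      haveI : IsDomain Γ(Z', V.1) := IsIntegral.component_integral _
      exact (isUnit_iff_ne_zero (G₀ := Z'.functionField)).2 fun h0 => nonZeroDivisors.ne_zero hf
        (germ_injective_of_isIntegral (X := Z') (genericPoint Z') hV (h0.trans (map_zero _).symm))
    let O : Z.Opens := ⟨({z} : Set Z)ᶜ, hz.isOpen_compl⟩
    haveI : IsIso (b ∣_ O) := BlowUpLib.isIso_restrict hb O (fun w hw hws => hw (hsupp.le hws))
    exact isBirat_of_isIso_restrict b O ⟨genericPoint Z, hne⟩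

theorem isIso_normalizationι_of_normal (X : Scheme.{u}) [IsIntegral X]
    [QuasiCompact (X.fromSpecStalk (genericPoint X))] [QuasiSeparated (X.fromSpecStalk (genericPoint X))]
    (hX : Pi1.IsNormalScheme X) : IsIso (Curv2.normalizationι X) := by
  haveI : IsIntegralHom (Curv2.normalizationι X) :=
    inferInstanceAs (IsIntegralHom (X.fromSpecStalk (genericPoint X)).fromNormalization)
  exact Proj16.isIso_of_isIntegralHom hX (Curv2.normalizationι X) (X.fromSpecStalk (genericPoint X)).toNormalization
    (X.fromSpecStalk (genericPoint X)).toNormalization_fromNormalization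

end Groth.Agent.ResSurf
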