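import Groth.Agent.SchTop.Closed
import Groth.Prelude.Def_Pi1
import Mathlib.AlgebraicGeometry.Noetherian
import Mathlib.AlgebraicGeometry.Properties

/-! # Connected normal schemes (light-weight versions of lemmas of `CurveEmbed.Equiv` and `H23.GeomConnGamma`) -/

universe u

open CategoryTheory AlgebraicGeometry TopologicalSpace Opposite

namespace Groth.Agent.ResSurf

set_option backward.isDefEq.respectTransparency false
set_option backward.isDefEq.respectTransparency.types false

/-- A connected noetherian normal scheme is integral. -/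
theorem isIntegral_of_normal_connected {X : Scheme.{u}} [IsNoetherian X] [ConnectedSpace X]
    (hN : Pi1.IsNormalScheme X) : IsIntegral X := by
  haveI : ∀ x : X, _root_.IsReduced (X.presheaf.stalk x) := fun x => by
    haveI := (hN x).1
    infer_instance
  haveI : IsReduced X := isReduced_of_isReduced_stalk X
  obtain ⟨y⟩ := (inferInstance : Nonempty X)
  obtain ⟨Z, hZ, -⟩ := exists_mem_irreducibleComponents_subset_of_isIrreducible _
    (isIrreducible_singleton (x := y))
  have hop := SchTop.isOpen_component_of_finite (X := X)
    TopologicalSpace.NoetherianSpace.finite_irreducibleComponents (fun x => (hN x).1) hZ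
  have hu : Z = Set.univ :=
    IsClopen.eq_univ ⟨isClosed_of_mem_irreducibleComponents Z hZ, hop⟩ hZ.1.nonempty
  haveI : IrreducibleSpace X := by
    rw [irreducibleSpace_def, Set.top_eq_univ, ← hu]
    exact hZ.1
  exact isIntegral_of_irreducibleSpace_of_isReduced X

/-- Trivial idempotents give connectedness. -/
theorem connectedSpace_of_idem {W : Scheme.{u}} [Nontrivial Γ(W, ⊤)]
    (h : ∀ e : Γ(W, ⊤), IsIdempotentElem e → e = 0 ∨ e = 1) : ConnectedSpace W := by
  have hne : Nonempty W := by
    by_contra hn
    rw [not_nonempty_iff] at hn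
    have e : (⊤ : W.Opens) = ⊥ := Subsingleton.elim _ _
    have : Subsingleton Γ(W, ⊤) := by rw [e]; infer_instance
    exact false_of_nontrivial_of_subsingleton Γ(W, ⊤)
  haveI : PreconnectedSpace W := by
    rw [preconnectedSpace_iff_clopen]
    intro s hs
    let U : Bool → W.Opens := fun b => if b then ⟨s, hs.2⟩ else ⟨sᶜ, hs.1.isOpen_compl⟩
    have hcov : ⊤ ≤ iSup U := fun x _ => Opens.mem_iSup.mpr (by
      by_cases hx : x ∈ s
      · exact ⟨true, hx⟩
      · exact ⟨false, hx⟩)
    have hemp : U true ⊓ U false = ⊥ := by ext x; simp [U]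
    have hemp' : U false ⊓ U true = ⊥ := by rw [inf_comm, hemp]
    obtain ⟨e, he, -⟩ := W.sheaf.existsUnique_gluing' U ⊤ (fun i => homOfLE le_top) hcov
      (fun b => if b then 1 else 0) (fun i j => by
        cases i <;> cases j
        · rfl
        · haveI : Subsingleton Γ(W, U false ⊓ U true) := by rw [hemp']; infer_instance
          exact @Subsingleton.elim Γ(W, U false ⊓ U true) _ _ _
        · haveI : Subsingleton Γ(W, U true ⊓ U false) := by rw [hemp]; infer_instance
          exact @Subsingleton.elim Γ(W, U true ⊓ U false) _ _ _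
        · rfl)
    have het : W.presheaf.map (homOfLE (le_top : U true ≤ ⊤)).op e = 1 := he true
    have hef : W.presheaf.map (homOfLE (le_top : U false ≤ ⊤)).op e = 0 := he false
    have hie : IsIdempotentElem e := W.sheaf.eq_of_locally_eq' U ⊤ (fun i => homOfLE le_top) hcov _ _ fun i => by
      cases i
      · refine (map_mul (W.presheaf.map (homOfLE (le_top : U false ≤ ⊤)).op).hom e e).trans ?_
        exact ((congrArg₂ (· * ·) hef hef).trans (mul_zero 0)).trans hef.symm
      · refine (map_mul (W.presheaf.map (homOfLE (le_top : U true ≤ ⊤)).op).hom e e).trans ?_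
        exact ((congrArg₂ (· * ·) het het).trans (mul_one 1)).trans het.symm
    have hsub : ∀ b : Bool, (U b : Set W).Nonempty → Nontrivial Γ(W, U b) := fun b ⟨x, hx⟩ =>
      (W.presheaf.germ (U b) x hx).hom.domain_nontrivial
    rcases h e hie with rfl | rfl
    · refine Or.inl (Set.not_nonempty_iff_eq_empty.mp fun hne' => ?_)
      haveI := hsub true hne'
      rw [map_zero] at het
      exact zero_ne_one het
    · refine Or.inr (Set.compl_empty_iff.mp (Set.not_nonempty_iff_eq_empty.mp fun hne' => ?_))
      haveI := hsub false hne'
      rw [map_one] at hef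
      exact one_ne_zero hef
  exact ⟨hne⟩

end Groth.Agent.ResSurf
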