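import Groth.Agent.ResSurf.PointFrame
import Groth.Agent.CIntLib.BlowExc
import Groth.Agent.BlowUpLib.Glue
import Mathlib.RingTheory.Adjoin.Polynomial.Basic

/-!
# Affine charts of the blowing up of a point
-/

universe u

open CategoryTheory AlgebraicGeometry TopologicalSpace

set_option maxHeartbeats 400000
set_option backward.isDefEq.respectTransparency false

namespace Groth.Agent.ResSurf

open Groth.Agent

/-- The properties of a chart of the blowing up of a pair, for an arbitrary presentation. -/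
def IsPairChart {R S : Type u} [CommRing R] [CommRing S] (φ : R →+* S) (m : Ideal R) (x y : R) (t : S) :
    Prop :=
  letI := φ.toAlgebra
  Algebra.adjoin R {t} = ⊤ ∧ φ x * t = φ y ∧ φ x ∈ nonZeroDivisors S ∧
    m = Ideal.span {x, y} ∧ (∀ a ∈ m, φ a ∈ Ideal.span {φ x}) ∧
    ∀ P : Polynomial R, Polynomial.aeval t P ∈ Ideal.span {φ x} → ∀ k, P.coeff k ∈ m

theorem algebraMap_mem_nonZeroDivisors {R : Type u} [CommRing R] (I : Ideal R) (a : R) :
    algebraMap R (BlowUp.affineAlgebra R I a) a ∈ nonZeroDivisors _ := by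
  refine mem_nonZeroDivisors_iff_right.2 fun z hz => Subtype.ext ?_
  have h := congrArg Subtype.val hz
  have hu : IsUnit (algebraMap R (Localization.Away a) a) := IsLocalization.Away.algebraMap_isUnit a
  exact hu.mul_left_eq_zero.1 h

theorem isPairChart_affineAlgebra {R : Type u} [CommRing R] (r : Fin 2 → R)
    (hr : ∀ (d : ℕ) (P : MvPolynomial (Fin 2) R), P.IsHomogeneous d →
      MvPolynomial.eval r P ∈ Ideal.span (Set.range r) ^ (d + 1) →
        ∀ e, P.coeff e ∈ Ideal.span (Set.range r)) (j i : Fin 2) (hij : i ≠ j) :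
    IsPairChart (algebraMap R (BlowUp.affineAlgebra R (Ideal.span (Set.range r)) (r j)))
      (Ideal.span (Set.range r)) (r j) (r i) (CIntLib.ratio r j i) := by
  classical
  have hcases : ∀ k : Fin 2, k = j ∨ k = i := fun k => by omega
  have hrange : Set.range r = {r j, r i} := by
    ext w
    refine ⟨fun ⟨k, hk⟩ => ?_, ?_⟩
    · rcases hcases k with rfl | rfl
      · exact Or.inl hk.symm
      · exact Or.inr hk.symm
    · rintro (rfl | rfl)
      exacts [⟨j, rfl⟩, ⟨i, rfl⟩]
  have ht := CIntLib.algebraMap_mul_ratio r j i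
  refine ⟨?_, ht, algebraMap_mem_nonZeroDivisors _ _, congrArg Ideal.span hrange, fun a ha => ?_, fun P hP => ?_⟩
  · have h : ∀ (S : Subalgebra R (BlowUp.affineAlgebra R (Ideal.span (Set.range r)) (r j))),
        CIntLib.ratio r j i ∈ S → S = ⊤ := fun S hS => by
      rw [eq_top_iff]
      rintro s -
      obtain ⟨P, rfl⟩ := CIntLib.ratioHom_surjective r j s
      induction P using MvPolynomial.induction_on with
      | C a => rw [CIntLib.ratioHom, MvPolynomial.aeval_C]; exact S.algebraMap_mem a
      | add p q hp hq => rw [map_add]; exact add_mem hp hq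
      | mul_X p k hp =>
        rw [map_mul, CIntLib.ratioHom, MvPolynomial.aeval_X]
        refine mul_mem hp ?_
        rw [(hcases k.1).resolve_left k.2]
        exact hS
    rw [show (algebraMap R (BlowUp.affineAlgebra R (Ideal.span (Set.range r)) (r j))).toAlgebra =
      (inferInstance : Algebra R (BlowUp.affineAlgebra R (Ideal.span (Set.range r)) (r j))) from
      Algebra.algebra_ext _ _ fun _ => rfl]
    exact h _ (Algebra.subset_adjoin (Set.mem_singleton _))
  · have h := Ideal.mem_map_of_mem (algebraMap R (BlowUp.affineAlgebra R (Ideal.span (Set.range r)) (r j))) ha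
    refine (?_ : (Ideal.span (Set.range r)).map _ ≤ Ideal.span {_}) h
    rw [Ideal.map_le_iff_le_comap, Ideal.span_le]
    rintro _ ⟨k, rfl⟩
    exact Ideal.mem_span_singleton'.2
      ⟨CIntLib.ratio r j k, (mul_comm _ _).trans (CIntLib.algebraMap_mul_ratio r j k)⟩
  · let v : {k : Fin 2 // k ≠ j} := ⟨i, hij⟩
    let τ : Polynomial R →ₐ[R] MvPolynomial {k : Fin 2 // k ≠ j} R := Polynomial.aeval (MvPolynomial.X v)
    let σ : MvPolynomial {k : Fin 2 // k ≠ j} R →ₐ[R] Polynomial R := MvPolynomial.aeval fun _ => Polynomial.X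
    have hτ : (CIntLib.ratioHom r j).comp τ = Polynomial.aeval (CIntLib.ratio r j i) :=
      Polynomial.algHom_ext (by simp [τ, CIntLib.ratioHom, v])
    have hστ : σ (τ P) = P := by
      have h : σ.comp τ = AlgHom.id R _ := Polynomial.algHom_ext (by simp [σ, τ])
      exact congr($h P)
    have hmem := CIntLib.mem_map_C_of_ratioHom_mem r j hr (P := τ P)
      ((congr($hτ P) : CIntLib.ratioHom r j (τ P) = Polynomial.aeval (CIntLib.ratio r j i) P) ▸ hP)
    have h2 : σ (τ P) ∈ (Ideal.span (Set.range r)).map Polynomial.C := by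
      have h := Ideal.mem_map_of_mem σ.toRingHom hmem
      rw [Ideal.map_map] at h
      convert h using 2
      · exact RingHom.ext fun a => (σ.commutes a).symm
      · rfl
    rw [hστ] at h2
    exact Ideal.mem_map_C_iff.1 h2

theorem IsPairChart.of_ringEquiv {R S S' : Type u} [CommRing R] [CommRing S] [CommRing S'] {φ : R →+* S}
    {φ' : R →+* S'} {m : Ideal R} {x y : R} {t : S} (h : IsPairChart φ m x y t) (e : S ≃+* S')
    (he : ∀ a, e (φ a) = φ' a) : IsPairChart φ' m x y (e t) := by
  obtain ⟨h1, h2, h3, h4, h5, h6⟩ := h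
  letI := φ.toAlgebra
  letI := φ'.toAlgebra
  let E : S ≃ₐ[R] S' := AlgEquiv.ofRingEquiv (f := e) he
  have hspan : ∀ w : S, w ∈ Ideal.span {φ x} ↔ e w ∈ Ideal.span {φ' x} := fun w => by
    rw [Ideal.mem_span_singleton, Ideal.mem_span_singleton, ← he, map_dvd_iff]
  refine ⟨?_, by rw [← he, ← he, ← map_mul, h2], ?_, h4, fun a ha => by simpa only [he] using (hspan (φ a)).1 (h5 a ha),
    fun P hP k => h6 P ((hspan _).2 ?_) k⟩
  · rw [eq_top_iff]
    intro w _
    have hw : E.symm w ∈ Algebra.adjoin R {t} := h1 ▸ Algebra.mem_top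
    have := Subalgebra.mem_map.2 ⟨_, hw, (rfl : E.toAlgHom (E.symm w) = _)⟩
    rw [AlgHom.map_adjoin, Set.image_singleton] at this
    simpa [E] using this
  · rw [← he]
    exact mem_nonZeroDivisors_iff_right.2 fun z hz => by
      have := mem_nonZeroDivisors_iff_right.1 h3 (e.symm z) (e.injective (by simpa using hz))
      simpa using congrArg e this
  · have : e (Polynomial.aeval t P) = Polynomial.aeval (e t) P :=
      (Polynomial.aeval_algHom_apply E.toAlgHom t P).symm
    rw [this]
    exact hP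

/-- Every point over `p` of the blowing up in `p` lies in an affine chart. -/
theorem exists_chart {X X' : Scheme.{u}} {p : X} {C : X.IdealSheafData} (F : PointFrame X p)
    {b : X' ⟶ X} (hb : BlowUp.IsBlowUp b C) (hC : C.ideal ⟨F.V, F.isAffine⟩ = Ideal.span (Set.range F.r))
    (x' : X') (hx' : b x' ∈ F.V) :
    ∃ (U : X'.Opens) (_ : IsAffineOpen U) (h : U ≤ b ⁻¹ᵁ F.V) (x y : Γ(X, F.V)) (t : Γ(X', U)),
      x' ∈ U ∧ IsPairChart (b.appLE F.V U h).hom (Ideal.span (Set.range F.r)) x y t ∧
        (IsDomain Γ(X, F.V) → IsDomain Γ(X', U)) := by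
  obtain ⟨j, k, _, hxk, hkb⟩ := CIntLib.exists_chart_of_blowUp hb F.r F.isAffine.fromSpec
    ((BlowUpLib.comap_fromSpec C ⟨F.V, F.isAffine⟩).trans (congrArg _ hC)) x'
    (F.isAffine.range_fromSpec.symm ▸ hx')
  let S := BlowUp.affineAlgebra Γ(X, F.V) (Ideal.span (Set.range F.r)) (F.r j)
  let U : X'.Opens := k.opensRange
  have hU : IsAffineOpen U := isAffineOpen_opensRange k
  have hUb : U ≤ b ⁻¹ᵁ F.V := by
    rintro _ ⟨s, rfl⟩
    show b (k s) ∈ F.V
    rw [← Scheme.Hom.comp_apply, hkb, Scheme.Hom.comp_apply]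
    exact F.isAffine.range_fromSpec.le ⟨_, rfl⟩
  let iso : Spec (CommRingCat.of S) ≅ Spec Γ(X', U) :=
    IsOpenImmersion.isoOfRangeEq k hU.fromSpec (hU.range_fromSpec).symm
  let e : Γ(X', U) ≅ CommRingCat.of S :=
    { hom := Spec.preimage iso.hom
      inv := Spec.preimage iso.inv
      hom_inv_id := Spec.map_injective (by simp)
      inv_hom_id := Spec.map_injective (by simp) }
  have hcomp : b.appLE F.V U hUb ≫ e.hom = CommRingCat.ofHom (algebraMap Γ(X, F.V) S) := by
    apply Spec.map_injective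
    rw [← cancel_mono F.isAffine.fromSpec, ← hkb, Spec.map_comp, Category.assoc,
      IsAffineOpen.SpecMap_appLE_fromSpec b F.isAffine hU hUb]
    simp only [e, Spec.map_preimage]
    rw [← Category.assoc, IsOpenImmersion.isoOfRangeEq_hom_fac]
  obtain ⟨i, hij⟩ : ∃ i : Fin 2, i ≠ j := ⟨j + 1, by omega⟩
  refine ⟨U, hU, hUb, F.r j, F.r i, e.commRingCatIsoToRingEquiv.symm (CIntLib.ratio F.r j i), hxk,
    (isPairChart_affineAlgebra F.r F.qreg j i hij).of_ringEquiv e.commRingCatIsoToRingEquiv.symm fun a => ?_,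
    fun hdom => ?_⟩
  · apply e.commRingCatIsoToRingEquiv.injective
    rw [RingEquiv.apply_symm_apply]
    exact (congr($hcomp a)).symm
  · haveI := hdom
    have hne : F.r j ≠ 0 := fun h0 => by
      have h1 := F.qreg 1 (MvPolynomial.X j) (MvPolynomial.isHomogeneous_X _ j)
        (by rw [MvPolynomial.eval_X, h0]; exact zero_mem _) (Finsupp.single j 1)
      rw [MvPolynomial.coeff_X, if_pos rfl] at h1
      exact F.isMaximal.ne_top ((Ideal.eq_top_iff_one _).2 h1)
    haveI : IsDomain (Localization.Away (F.r j)) :=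
      IsLocalization.isDomain_localization (M := Submonoid.powers (F.r j))
        (powers_le_nonZeroDivisors_of_noZeroDivisors hne)
    haveI : IsDomain S := inferInstanceAs (IsDomain (BlowUp.affineAlgebra _ _ _))
    exact e.commRingCatIsoToRingEquiv.toMulEquiv.isDomain _

end Groth.Agent.ResSurf
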