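import Groth.Agent.ResSurf.Colength
import Groth.Agent.ResSurf.ChartRing
import Groth.Agent.ResSurf.ColonSheaf
import Groth.Agent.ResSurf.PointChart
import Groth.Agent.BlowUpX.Basic
import Groth.Agent.ModPairLib.Quot
import Groth.Agent.FComplLib.IdealComap

/-!
# The weak transform of an ideal with finite support under the blowing up of a point
-/

universe u

open CategoryTheory AlgebraicGeometry TopologicalSpace

set_option maxHeartbeats 400000
set_option backward.isDefEq.respectTransparency false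

namespace Groth.Agent.ResSurf

open Groth.Agent

variable {X : Scheme.{u}}

/-- The ideal sheaf vanishes only at finitely many closed points with regular two-dimensional local rings. -/
def IsPointSupported (I : X.IdealSheafData) : Prop :=
  (I.support : Set X).Finite ∧ ∀ x ∈ (I.support : Set X), IsClosed ({x} : Set X) ∧
    IsRegularLocalRing (X.presheaf.stalk x) ∧ ringKrullDim (X.presheaf.stalk x) = 2

/-- An affine open isolates `x` in the zero set of `I`, with colength at most `n`. -/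
def HasColengthLE (I : X.IdealSheafData) (x : X) (n : ℕ) : Prop :=
  ∃ U : X.affineOpens, x ∈ U.1 ∧ (∀ y ∈ U.1, y ∈ (I.support : Set X) → y = x) ∧
    Module.length Γ(X, U.1) (Γ(X, U.1) ⧸ I.ideal U) ≤ n

theorem fromSpec_mem_support_iff (I : X.IdealSheafData) (U : X.affineOpens)
    (q : PrimeSpectrum Γ(X, U.1)) :
    U.2.fromSpec q ∈ (I.support : Set X) ↔ I.ideal U ≤ q.asIdeal := by
  have hq : U.2.fromSpec q ∈ U.1 := U.2.range_fromSpec.le ⟨q, rfl⟩
  refine (Scheme.IdealSheafData.mem_support_iff_of_mem (U := U) hq).trans ?_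
  show q ∈ U.2.fromSpec ⁻¹' (X.zeroLocus (U := U.1) (I.ideal U)) ↔ _
  rw [U.2.fromSpec_preimage_zeroLocus]
  exact PrimeSpectrum.mem_zeroLocus q _

theorem length_quotient_basicOpen_le (I : X.IdealSheafData) (U : X.affineOpens) (g : Γ(X, U.1)) :
    Module.length Γ(X, (X.affineBasicOpen g).1)
        (Γ(X, (X.affineBasicOpen g).1) ⧸ I.ideal (X.affineBasicOpen g)) ≤
      Module.length Γ(X, U.1) (Γ(X, U.1) ⧸ I.ideal U) := by
  refine length_quotient_le_of_fractions (X.presheaf.map (homOfLE (X.basicOpen_le g)).op).hom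
    (fun s => ?_) (I.map_ideal_basicOpen U g).le
  letI := (X.presheaf.map (homOfLE (X.basicOpen_le g)).op).hom.toAlgebra
  haveI : IsLocalization.Away g Γ(X, X.basicOpen g) := U.2.isLocalization_basicOpen g
  obtain ⟨⟨a, u⟩, h⟩ := IsLocalization.surj (Submonoid.powers g) s
  exact ⟨a, u, IsLocalization.map_units Γ(X, X.basicOpen g) u, h⟩

theorem HasColengthLE.shrink {I : X.IdealSheafData} {x : X} {n : ℕ} (h : HasColengthLE I x n)
    {W : X.Opens} (hx : x ∈ W) : ∃ U : X.affineOpens, x ∈ U.1 ∧ U.1 ≤ W ∧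
      (∀ y ∈ U.1, y ∈ (I.support : Set X) → y = x) ∧ Module.length Γ(X, U.1) (Γ(X, U.1) ⧸ I.ideal U) ≤ n := by
  obtain ⟨U, hxU, hiso, hlen⟩ := h
  obtain ⟨g, hgW, hxg⟩ := U.2.exists_basicOpen_le ⟨x, hx⟩ hxU
  exact ⟨X.affineBasicOpen g, hxg, hgW, fun y hy => hiso y (X.basicOpen_le g hy),
    (length_quotient_basicOpen_le I U g).trans hlen⟩

/-- Colengths are finite. -/
theorem exists_hasColengthLE [IsLocallyNoetherian X] {I : X.IdealSheafData} (hI : IsPointSupported I)
    {x : X} (hx : x ∈ (I.support : Set X)) : ∃ n, HasColengthLE I x n := by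
  have hcl : IsClosed ((I.support : Set X) \ {x}) := by
    rw [← Set.biUnion_of_singleton ((I.support : Set X) \ {x})]
    exact (hI.1.subset Set.diff_subset).isClosed_biUnion fun y hy => (hI.2 y hy.1).1
  obtain ⟨_, ⟨U, hU, rfl⟩, hxU, hUW⟩ := X.isBasis_affineOpens.exists_subset_of_mem_open
    (show x ∈ ((I.support : Set X) \ {x})ᶜ from fun h => h.2 rfl) hcl.isOpen_compl
  have hiso : ∀ y ∈ U, y ∈ (I.support : Set X) → y = x := fun y hy hys =>
    by_contra fun hne => hUW hy ⟨hys, hne⟩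
  haveI : IsNoetherianRing Γ(X, U) := IsLocallyNoetherian.component_noetherian ⟨U, hU⟩
  haveI : Ring.KrullDimLE 0 (Γ(X, U) ⧸ I.ideal ⟨U, hU⟩) := by
    refine Ring.KrullDimLE.mk₀ fun P hP => ?_
    let q : PrimeSpectrum Γ(X, U) := ⟨P.comap (Ideal.Quotient.mk _), inferInstance⟩
    have hq : hU.fromSpec q = x := hiso _ (hU.range_fromSpec.le ⟨q, rfl⟩)
      ((fromSpec_mem_support_iff I ⟨U, hU⟩ q).2 fun a ha => by
        rw [Ideal.mem_comap, Ideal.Quotient.eq_zero_iff_mem.2 ha]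
        exact zero_mem _)
    have hm : (P.comap (Ideal.Quotient.mk (I.ideal ⟨U, hU⟩))).IsMaximal := by
      rw [show P.comap (Ideal.Quotient.mk (I.ideal ⟨U, hU⟩)) = (hU.primeIdealOf ⟨x, hxU⟩).asIdeal from
        (fromSpec_eq_iff hU hxU q).1 hq]
      exact hU.primeIdealOf_isMaximal_of_isClosed ⟨x, hxU⟩ (hI.2 x hx).1
    rw [← Ideal.map_comap_of_surjective (Ideal.Quotient.mk (I.ideal ⟨U, hU⟩)) Ideal.Quotient.mk_surjective P]
    haveI := hm
    exact Ideal.IsMaximal.map_of_surjective_of_ker_le (f := Ideal.Quotient.mk (I.ideal ⟨U, hU⟩))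
      Ideal.Quotient.mk_surjective (Ideal.comap_mono bot_le)
  haveI : IsArtinianRing (Γ(X, U) ⧸ I.ideal ⟨U, hU⟩) :=
    isArtinianRing_iff_isNoetherianRing_krullDimLE_zero.2 ⟨inferInstance, inferInstance⟩
  haveI : IsArtinian Γ(X, U) (Γ(X, U) ⧸ I.ideal ⟨U, hU⟩) :=
    isArtinian_of_surjective_algebraMap (R := Γ(X, U) ⧸ I.ideal ⟨U, hU⟩) (S := Γ(X, U))
      (Ideal.Quotient.mk_surjective (I := I.ideal ⟨U, hU⟩))
  obtain ⟨n, hn⟩ := ENat.ne_top_iff_exists.1
    (Module.length_ne_top (R := Γ(X, U)) (M := Γ(X, U) ⧸ I.ideal ⟨U, hU⟩))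
  exact ⟨n, ⟨U, hU⟩, hxU, hiso, hn.symm.le⟩

theorem notMem_support_of_hasColengthLE_zero {I : X.IdealSheafData} {x : X}
    (h : HasColengthLE I x 0) : x ∉ (I.support : Set X) := by
  intro hx
  obtain ⟨U, hxU, -, hlen⟩ := h
  have htop : I.ideal U = ⊤ := by
    rw [← Submodule.Quotient.subsingleton_iff, ← Module.length_eq_zero_iff (R := Γ(X, U.1))]
    exact le_antisymm (by simpa using hlen) bot_le
  have h1 := (fromSpec_mem_support_iff I U (U.2.primeIdealOf ⟨x, hxU⟩)).1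
    (by rw [U.2.fromSpec_primeIdealOf]; exact hx)
  rw [htop] at h1
  exact (U.2.primeIdealOf ⟨x, hxU⟩).2.ne_top (top_le_iff.1 h1)

/-- Off the centre a blow-up induces isomorphisms of local rings. -/
theorem isIso_stalkMap_blowUp {X' : Scheme.{u}} {b : X' ⟶ X} {C : X.IdealSheafData}
    (hb : BlowUp.IsBlowUp b C) {x' : X'} (hx : b x' ∉ C.support) : IsIso (b.stalkMap x') := by
  have := BlowUpLib.isIso_restrict hb (ModPair.interior C) le_rfl
  let p : (b ⁻¹ᵁ ModPair.interior C).toScheme := ⟨x', hx⟩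
  have h : IsIso ((b ∣_ ModPair.interior C).stalkMap p) := inferInstance
  exact (MorphismProperty.arrow_mk_iso_iff (MorphismProperty.isomorphisms _)
    (morphismRestrictStalkMap b (ModPair.interior C) p)).mp h

/-- A morphism which is an isomorphism over an open is one over each smaller open. -/
theorem isIso_restrict_of_le' {X' : Scheme.{u}} (g : X' ⟶ X) {U V : X.Opens} (h : V ≤ U)
    [IsIso (g ∣_ U)] : IsIso (g ∣_ V) := by
  have hV : U.ι ''ᵁ (U.ι ⁻¹ᵁ V) = V := by
    rw [Scheme.Hom.image_preimage_eq_opensRange_inf, Scheme.Opens.opensRange_ι, inf_eq_right.2 h]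
  have h1 : IsIso (g ∣_ U ∣_ (U.ι ⁻¹ᵁ V)) := inferInstance
  exact ((MorphismProperty.isomorphisms Scheme.{u}).arrow_mk_iso_iff
    (morphismRestrictRestrict g U (U.ι ⁻¹ᵁ V) ≪≫ eqToIso (by rw [hV]))).1 h1

/-- The data of the blowing up of a point in the support of an ideal. -/
structure WeakTransform (I : X.IdealSheafData) (p : X) (n : ℕ) {X' : Scheme.{u}} (b : X' ⟶ X)
    [IsLocallyNoetherian X'] where
  F : PointFrame X p
  C : X.IdealSheafData
  isBlowUp : BlowUp.IsBlowUp b C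
  support_C : (C.support : Set X) = {p}
  ideal_C : C.ideal ⟨F.V, F.isAffine⟩ = Ideal.span (Set.range F.r)
  d : ℕ
  d_pos : 0 < d
  le_pow : I ≤ C ^ d
  not_le : ¬ I.ideal ⟨F.V, F.isAffine⟩ ≤ Ideal.span (Set.range F.r) ^ (d + 1)
  le_pow_V : I.ideal ⟨F.V, F.isAffine⟩ ≤ Ideal.span (Set.range F.r) ^ d
  N : ℕ
  pow_le : Ideal.span (Set.range F.r) ^ N ≤ I.ideal ⟨F.V, F.isAffine⟩
  length_le : Module.length Γ(X, F.V) (Γ(X, F.V) ⧸ I.ideal ⟨F.V, F.isAffine⟩) ≤ (n + 1 : ℕ)

namespace WeakTransform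

variable {I : X.IdealSheafData} {p : X} {n : ℕ} {X' : Scheme.{u}} {b : X' ⟶ X} [IsLocallyNoetherian X']

/-- The power of the exceptional ideal. -/
noncomputable def excPow (W : WeakTransform I p n b) : X'.IdealSheafData := BlowUp.exceptional b W.C ^ W.d

/-- The weak transform. -/
noncomputable def ideal' (W : WeakTransform I p n b) : X'.IdealSheafData := colonSheaf (I.comap b) W.excPow

theorem isEffCartier_excPow (W : WeakTransform I p n b) : BlowUp.IsEffCartierIdeal W.excPow := by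
  unfold excPow
  induction W.d with
  | zero => rw [pow_zero, Scheme.IdealSheafData.one_eq_top]; exact BlowUpX.isEffCartier_top
  | succ k ih => rw [pow_succ]; exact ModPairLib.isEffCartier_mul ih W.isBlowUp.1

theorem comap_eq (W : WeakTransform I p n b) : I.comap b = W.excPow * W.ideal' := by
  refine eq_mul_colonSheaf W.isEffCartier_excPow ?_
  rw [excPow, BlowUp.exceptional, ← FComplLib.comap_pow]
  exact Scheme.IdealSheafData.comap_mono b W.le_pow

theorem mem_support_of_mem (W : WeakTransform I p n b) {x' : X'}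
    (hx : x' ∈ (W.ideal'.support : Set X')) : b x' ∈ (I.support : Set X) := by
  have h : x' ∈ (I.comap b).support := Scheme.IdealSheafData.support_antitone (le_colonSheaf _ _) hx
  rwa [Scheme.IdealSheafData.support_comap] at h

theorem isIso_restrict (W : WeakTransform I p n b) (hp : IsClosed ({p} : Set X)) :
    IsIso (b ∣_ ⟨{p}ᶜ, hp.isOpen_compl⟩) := by
  have h : W.C.support.compl = (⟨{p}ᶜ, hp.isOpen_compl⟩ : X.Opens) :=
    Opens.ext (congrArg compl W.support_C)
  exact h ▸ BlowUpX.isIso_restrict W.isBlowUp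

theorem eq_of_ne (W : WeakTransform I p n b) (hp : IsClosed ({p} : Set X)) {x y : X'}
    (h : b x = b y) (hx : b x ≠ p) : x = y := by
  haveI := W.isIso_restrict hp
  let O : X.Opens := ⟨{p}ᶜ, hp.isOpen_compl⟩
  have hinj : Function.Injective (b ∣_ O) := (b ∣_ O).homeomorph.injective
  have := @hinj ⟨x, hx⟩ ⟨y, show b y ≠ p from h ▸ hx⟩ (Subtype.ext (by
    rw [morphismRestrict_base_coe, morphismRestrict_base_coe]; exact h))
  exact congrArg Subtype.val this

/-- Away from the centre nothing changes. -/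
theorem off_point (W : WeakTransform I p n b) (hp : IsClosed ({p} : Set X)) (hI : IsPointSupported I)
    {x' : X'} (hx' : x' ∈ (W.ideal'.support : Set X')) (hne : b x' ≠ p) :
    (IsClosed ({x'} : Set X') ∧ IsRegularLocalRing (X'.presheaf.stalk x') ∧
      ringKrullDim (X'.presheaf.stalk x') = 2) ∧
    ∀ k, HasColengthLE I (b x') k → HasColengthLE W.ideal' x' k := by
  obtain ⟨hcl, hreg, hdim⟩ := hI.2 _ (W.mem_support_of_mem hx')
  refine ⟨⟨?_, ?_⟩, fun k hk => ?_⟩
  · have h : b ⁻¹' {b x'} = {x'} :=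
      Set.ext fun y => ⟨fun h => (W.eq_of_ne hp (Eq.symm h) hne).symm, fun h => congrArg b h⟩
    exact h ▸ hcl.preimage b.continuous
  · have hnot : b x' ∉ W.C.support := fun h => hne (W.support_C.le h)
    haveI := isIso_stalkMap_blowUp W.isBlowUp hnot
    let e := (asIso (b.stalkMap x')).commRingCatIsoToRingEquiv
    haveI := hreg
    exact ⟨IsRegularLocalRing.of_ringEquiv e, by rw [← ringKrullDim_eq_of_ringEquiv e, hdim]⟩
  · let O : X.Opens := ⟨{p}ᶜ, hp.isOpen_compl⟩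
    obtain ⟨U, hxU, hUO, hiso, hlen⟩ := hk.shrink (W := O) hne
    haveI : IsIso (b ∣_ O) := W.isIso_restrict hp
    haveI : IsIso (b ∣_ U.1) := isIso_restrict_of_le' b hUO
    have hU' : IsAffineOpen (b ⁻¹ᵁ U.1) :=
      haveI : IsAffine (U.1 : Scheme.{u}) := U.2
      IsAffine.of_isIso (b ∣_ U.1)
    have hbij : IsIso (b.app U.1) := by
      have h1 := morphismRestrict_app b U.1 (⊤ : (U.1 : Scheme.{u}).Opens)
      have h0 : IsIso ((b ∣_ U.1).app (⊤ : (U.1 : Scheme.{u}).Opens)) := inferInstance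
      rw [h1] at h0
      have h2 : IsIso (b.app (U.1.ι ''ᵁ ⊤)) :=
        (isIso_comp_right_iff _ _).1 h0
      exact U.1.ι_image_top ▸ h2
    refine ⟨⟨b ⁻¹ᵁ U.1, hU'⟩, hxU, fun y hy hys => ?_, ?_⟩
    · exact (W.eq_of_ne hp (hiso _ hy (W.mem_support_of_mem hys)).symm hne).symm
    refine (length_quotient_le_of_fractions (b.app U.1).hom (fun s => ?_) ?_).trans hlen
    · obtain ⟨a, rfl⟩ := ((ConcreteCategory.isIso_iff_bijective _).1 hbij).2 s
      exact ⟨a, 1, by simp, by simp⟩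
    · refine le_trans ?_ (le_colonSheaf (I.comap b) W.excPow ⟨b ⁻¹ᵁ U.1, hU'⟩)
      rw [ModPairLib.ideal_comap I b U ⟨b ⁻¹ᵁ U.1, hU'⟩ le_rfl, Scheme.Hom.app_eq_appLE]

/-- Over the centre the colength drops. -/
theorem over_point (W : WeakTransform I p n b) [IsLocallyNoetherian X] (hp : IsClosed ({p} : Set X))
    {x' : X'} (hx' : x' ∈ (W.ideal'.support : Set X')) (he : b x' = p) :
    (IsClosed ({x'} : Set X') ∧ IsRegularLocalRing (X'.presheaf.stalk x') ∧
      ringKrullDim (X'.presheaf.stalk x') = 2) ∧ HasColengthLE W.ideal' x' n := by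
  classical
  let R := Γ(X, W.F.V)
  let m : Ideal R := Ideal.span (Set.range W.F.r)
  haveI : IsNoetherianRing R := IsLocallyNoetherian.component_noetherian ⟨W.F.V, W.F.isAffine⟩
  haveI := W.F.isMaximal
  have key : ∀ z : X', z ∈ (W.ideal'.support : Set X') → b z = p →
      ∃ (U : X'.affineOpens) (_ : z ∈ U.1),
        (∀ P : Ideal Γ(X', U.1), P.IsPrime → W.ideal'.ideal U ≤ P → P.IsMaximal) ∧
        {P : Ideal Γ(X', U.1) | P.IsPrime ∧ W.ideal'.ideal U ≤ P}.Finite ∧
        Module.length Γ(X', U.1) (Γ(X', U.1) ⧸ W.ideal'.ideal U) ≤ n ∧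
        ∀ P : Ideal Γ(X', U.1), ∀ (_ : P.IsMaximal), W.ideal'.ideal U ≤ P →
          IsRegularLocalRing (Localization.AtPrime P) ∧ ringKrullDim (Localization.AtPrime P) = 2 := by
    intro z hz hbz
    obtain ⟨U, hU, hUV, x, y, t, hzU, hchart, -⟩ :=
      exists_chart W.F W.isBlowUp W.ideal_C z (hbz ▸ W.F.mem)
    let φ := (b.appLE W.F.V U hUV).hom
    letI : Algebra R Γ(X', U) := φ.toAlgebra
    obtain ⟨hgen, ht, hx, hxy, hmem, hq⟩ := hchart
    have hE : (BlowUp.exceptional b W.C).ideal ⟨U, hU⟩ = Ideal.span {φ x} := by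
      show (W.C.comap b).ideal ⟨U, hU⟩ = _
      rw [ModPairLib.ideal_comap W.C b ⟨W.F.V, W.F.isAffine⟩ ⟨U, hU⟩ hUV, W.ideal_C, hxy]
      exact map_span_pair_eq ht
    have hD : W.excPow.ideal ⟨U, hU⟩ = Ideal.span {φ x ^ W.d} := by
      rw [excPow, Scheme.IdealSheafData.ideal_pow, Pi.pow_apply, hE, Ideal.span_singleton_pow]
    have hJ : ∀ s, s ∈ W.ideal'.ideal ⟨U, hU⟩ ↔
        s * φ x ^ W.d ∈ (I.ideal ⟨W.F.V, W.F.isAffine⟩).map φ := fun s => by
      rw [ideal', mem_colonSheaf_of_span hD,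
        ModPairLib.ideal_comap I b ⟨W.F.V, W.F.isAffine⟩ ⟨U, hU⟩ hUV]
    haveI : (Ideal.span {x, y}).IsMaximal := hxy ▸ W.F.isMaximal
    have hfin : Module.length R (R ⧸ I.ideal ⟨W.F.V, W.F.isAffine⟩) ≠ ⊤ :=
      ne_top_of_le_ne_top (ENat.natCast_ne_top (n + 1)) W.length_le
    have hlt : Module.length Γ(X', U) (Γ(X', U) ⧸ W.ideal'.ideal ⟨U, hU⟩) <
        Module.length R (R ⧸ I.ideal ⟨W.F.V, W.F.isAffine⟩) :=
      length_weakTransform_lt hgen ht hx (N := W.N) (hxy ▸ W.pow_le) hfin W.d_pos (hxy ▸ W.le_pow_V)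
        (hxy ▸ W.not_le) _ hJ
    have hle : Module.length Γ(X', U) (Γ(X', U) ⧸ W.ideal'.ideal ⟨U, hU⟩) ≤ n := by
      have h := hlt.trans_le W.length_le
      rw [Nat.cast_add, Nat.cast_one] at h
      exact (ENat.lt_add_one_iff (ENat.natCast_ne_top n)).1 h
    obtain ⟨hfinite, hmax⟩ := primes_of_finiteLength (ne_top_of_le_ne_top (ENat.natCast_ne_top n) hle)
    refine ⟨⟨U, hU⟩, hzU, hmax, hfinite, hle, fun P hP hJP => ?_⟩
    refine isRegular_chart hgen hmem hq hx P ?_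
    have h1 : φ (x ^ W.N) ∈ P := hJP ((hJ _).2 (Ideal.mul_mem_right _ _
      (Ideal.mem_map_of_mem φ (W.pow_le (Ideal.pow_mem_pow
        (hxy.symm ▸ Ideal.subset_span (Set.mem_insert x {y})) W.N)))))
    rw [map_pow] at h1
    exact hP.isPrime.mem_of_pow_mem _ h1
  obtain ⟨U, hxU, hmax, hfinite, hlen, hregP⟩ := key x' hx' he
  let q := U.2.primeIdealOf ⟨x', hxU⟩
  have hqx : U.2.fromSpec q = x' := U.2.fromSpec_primeIdealOf ⟨x', hxU⟩
  have hJq : W.ideal'.ideal U ≤ q.asIdeal :=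
    (fromSpec_mem_support_iff _ U q).1 (hqx.symm ▸ hx')
  have hqm : q.asIdeal.IsMaximal := hmax _ q.2 hJq
  refine ⟨⟨?_, ?_⟩, ?_⟩
  · refine isClosed_of_closure_subset fun z hz => ?_
    have hspec : x' ⤳ z := specializes_iff_mem_closure.2 hz
    have hzs : z ∈ (W.ideal'.support : Set X') :=
      hspec.mem_closed W.ideal'.support.isClosed hx'
    have hbz : b z = p := by
      have h : b x' ⤳ b z := hspec.map b.continuous
      exact h.mem_closed hp (by rw [he]; rfl)
    obtain ⟨U₂, hzU₂, hmax₂, -⟩ := key z hzs hbz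
    have hx₂ : x' ∈ U₂.1 := hspec.mem_open U₂.1.isOpen hzU₂
    let a := U₂.2.primeIdealOf ⟨x', hx₂⟩
    let c := U₂.2.primeIdealOf ⟨z, hzU₂⟩
    have ha : U₂.2.fromSpec a = x' := U₂.2.fromSpec_primeIdealOf ⟨x', hx₂⟩
    have hc : U₂.2.fromSpec c = z := U₂.2.fromSpec_primeIdealOf ⟨z, hzU₂⟩
    have hac : a ⤳ c := U₂.2.fromSpec.isOpenEmbedding.isEmbedding.isInducing.specializes_iff.1
      (by rw [ha, hc]; exact hspec)
    have hle : a ≤ c := (PrimeSpectrum.le_iff_specializes a c).2 hac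
    have ham : a.asIdeal.IsMaximal := hmax₂ _ a.2
      ((fromSpec_mem_support_iff _ U₂ a).1 (ha.symm ▸ hx'))
    rw [Set.mem_singleton_iff, ← ha, ← hc,
      PrimeSpectrum.ext (ham.eq_of_le c.2.ne_top hle)]
  · letI := TopCat.Presheaf.algebra_section_stalk X'.presheaf (⟨x', hxU⟩ : U.1)
    haveI : IsLocalization.AtPrime (X'.presheaf.stalk x') q.asIdeal := U.2.isLocalization_stalk ⟨x', hxU⟩
    let e : Localization.AtPrime q.asIdeal ≃+* X'.presheaf.stalk x' :=
      (IsLocalization.algEquiv q.asIdeal.primeCompl (Localization.AtPrime q.asIdeal)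
        (X'.presheaf.stalk x')).toRingEquiv
    obtain ⟨h1, h2⟩ := hregP _ hqm hJq
    haveI := h1
    exact ⟨IsRegularLocalRing.of_ringEquiv e, by rw [← ringKrullDim_eq_of_ringEquiv e, h2]⟩
  · obtain ⟨g, hgP, hgq⟩ : ∃ g, (∀ P ∈ {P : Ideal Γ(X', U.1) | P.IsPrime ∧ W.ideal'.ideal U ≤ P},
        P ≠ q.asIdeal → g ∈ P) ∧ g ∉ q.asIdeal := by
      have hex : ∀ P ∈ hfinite.toFinset.erase q.asIdeal, ∃ g, g ∈ P ∧ g ∉ q.asIdeal := fun P hP => by
        obtain ⟨hne, hP⟩ := Finset.mem_erase.1 hP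
        obtain ⟨hP, hJP⟩ := hfinite.mem_toFinset.1 hP
        exact SetLike.not_le_iff_exists.1 fun h =>
          hne ((hmax P hP hJP).eq_of_le q.2.ne_top h)
      choose g hgP hgq using hex
      refine ⟨∏ P ∈ (hfinite.toFinset.erase q.asIdeal).attach, g P.1 P.2, fun P hP hne => ?_, fun h => ?_⟩
      · have hmemP : P ∈ hfinite.toFinset.erase q.asIdeal :=
          Finset.mem_erase.2 ⟨hne, hfinite.mem_toFinset.2 hP⟩
        exact Ideal.mem_of_dvd _ (Finset.dvd_prod_of_mem (fun P => g P.1 P.2)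
          (Finset.mem_attach _ ⟨P, hmemP⟩)) (hgP P hmemP)
      · obtain ⟨P, -, hP⟩ := (Ideal.IsPrime.prod_mem_iff (p := q.asIdeal)).1 h
        exact hgq P.1 P.2 hP
    refine ⟨X'.affineBasicOpen g, ?_, fun y hy hys => ?_,
      (length_quotient_basicOpen_le _ U g).trans hlen⟩
    · show x' ∈ X'.basicOpen g
      have h : q ∈ U.2.fromSpec ⁻¹ᵁ X'.basicOpen g :=
        (SetLike.ext_iff.1 (U.2.fromSpec_preimage_basicOpen g) q).2 hgq
      exact hqx ▸ h
    · have hyU : y ∈ U.1 := X'.basicOpen_le g hy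
      let a := U.2.primeIdealOf ⟨y, hyU⟩
      have ha : U.2.fromSpec a = y := U.2.fromSpec_primeIdealOf ⟨y, hyU⟩
      have hga : g ∉ a.asIdeal :=
        (SetLike.ext_iff.1 (U.2.fromSpec_preimage_basicOpen g) a).1
          (show U.2.fromSpec a ∈ X'.basicOpen g by rw [ha]; exact hy)
      have haP : W.ideal'.ideal U ≤ a.asIdeal := (fromSpec_mem_support_iff _ U a).1 (ha.symm ▸ hys)
      have haq : a.asIdeal = q.asIdeal := by_contra fun hne => hga (hgP _ ⟨a.2, haP⟩ hne)
      rw [← ha, PrimeSpectrum.ext haq, hqx]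

end WeakTransform

end Groth.Agent.ResSurf
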