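import Groth.Agent.ResSurf.PointFrame
import Groth.Agent.ResSurf.BlowP1
import Groth.Agent.ResSurf.PullIdeal
import Groth.Agent.CIntLib.BlowExc
import Groth.Agent.Proj16.RelDomain

/-!
# The exceptional curve of the blowing up of a regular point of a surface
-/

universe u

open CategoryTheory CategoryTheory.Limits AlgebraicGeometry TopologicalSpace

set_option maxHeartbeats 400000
set_option backward.isDefEq.respectTransparency false

namespace Groth.Agent.ResSurf

open Groth.Agent

theorem isExcCurve_of_equiv {E Y : Scheme.{u}} (ι : E ⟶ Y) (hE : BlowUp.IsEffCartierIdeal ι.ker)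
    (R : Type u) [c : CommRing R] (F : Field R) (h : F.toCommRing = c) (e : CohB1.ProjSpace 1 R ≅ E)
    (he : Nonempty ((Scheme.Modules.pullback (e.hom ≫ ι)).obj (ClSub.idealMod ι.ker) ≅
      Twist.twistProjSpace 1 R 1)) : Models.IsExcCurve ι := by
  subst h
  exact ⟨hE, R, F, e, he⟩

theorem nonempty_projLine (k : Type u) [CommRing k] [IsDomain k] : Nonempty (CohB1.ProjSpace 1 k) := by
  haveI : IsIntegral (CohB1.ProjSpace 1 k) := by
    refine Proj16.isIntegral_proj_of_isDomain (CohB1.polyGrading 1 k) fun h => ?_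
    have hm : MvPolynomial.X 0 ∈ (HomogeneousIdeal.irrelevant (CohB1.polyGrading 1 k)).toIdeal :=
      HomogeneousIdeal.mem_irrelevant_of_mem _ Nat.one_pos (MvPolynomial.isHomogeneous_X k 0)
    rw [h, Ideal.mem_bot] at hm
    exact MvPolynomial.X_ne_zero 0 hm
  exact IsIntegral.nonempty

/-- The exceptional divisor of the blowing up in `p` is an exceptional curve of the first kind over `p`. -/
theorem isExcCurve_exceptional {X X' : Scheme.{u}} {p : X} {C : X.IdealSheafData} (F : PointFrame X p)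
    {b : X' ⟶ X} (hb : BlowUp.IsBlowUp b C) (hC : C.ideal ⟨F.V, F.isAffine⟩ = Ideal.span (Set.range F.r))
    (hsupp : (C.support : Set X) = {p}) :
    Models.IsExcCurve (BlowUp.exceptional b C).subschemeι ∧
      Set.range ((BlowUp.exceptional b C).subschemeι ≫ b).base = {p} := by
  let q := F.isAffine.fromSpec
  let T := pullback b q
  let bT : T ⟶ Spec Γ(X, F.V) := pullback.snd b q
  let j : T ⟶ X' := pullback.fst b q
  have hb' := BlowUpLib.isBlowUp_of_isPullback (IsPullback.of_hasPullback b q).flip hb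
  rw [show C.comap q = BlowUpLib.centre (seqIdeal F.r) from
    (BlowUpLib.comap_fromSpec C ⟨F.V, F.isAffine⟩).trans (congrArg _ hC)] at hb'
  obtain ⟨σ, hσ⟩ := BlowUpLib.exists_iso hb' (BlowUpLib.isBlowUp_local _)
  obtain ⟨e, he⟩ := exists_iso_exceptional (x := F.r) F.qreg bT σ.hom hσ hb'.1
  let E := BlowUp.exceptional b C
  let ET := BlowUp.exceptional bT (BlowUpLib.centre (seqIdeal F.r))
  have hcomap : E.comap j = ET := by
    rw [show E = C.comap b from rfl, ← Scheme.IdealSheafData.comap_comp, show j ≫ b = bT ≫ q from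
      pullback.condition, Scheme.IdealSheafData.comap_comp,
      show C.comap q = BlowUpLib.centre (seqIdeal F.r) from
        (BlowUpLib.comap_fromSpec C ⟨F.V, F.isAffine⟩).trans (congrArg _ hC)]
  obtain ⟨l, _, hl, hlr⟩ := CIntLib.exists_lift_openImmersion ET.subschemeι j E.subschemeι (by
    rw [Scheme.IdealSheafData.ker_subschemeι, Scheme.IdealSheafData.ker_subschemeι, hcomap])
  have hbE : ∀ z, b (E.subschemeι z) = p := fun z => by
    have h : E.subschemeι z ∈ E.support := E.range_subschemeι.le ⟨z, rfl⟩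
    change E.subschemeι z ∈ (C.comap b).support at h
    rw [Scheme.IdealSheafData.support_comap] at h
    exact hsupp.le h
  haveI : Surjective l := ⟨fun z => hlr z (by
    rw [Scheme.Pullback.range_fst]
    show b (E.subschemeι z) ∈ Set.range q
    rw [hbE, F.isAffine.range_fromSpec]
    exact F.mem)⟩
  haveI : IsIso l := (isIso_iff_isOpenImmersion_and_epi_base l).2
    ⟨inferInstance, (TopCat.epi_iff_surjective _).2 Surjective.surj⟩
  have hEcart : BlowUp.IsEffCartierIdeal E.subschemeι.ker := by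
    rw [Scheme.IdealSheafData.ker_subschemeι]; exact hb.1
  let e' : CohB1.ProjSpace 1 (Γ(X, F.V) ⧸ seqIdeal F.r) ≅ E.subscheme := e ≪≫ asIso l
  have hfac : e'.hom ≫ E.subschemeι = (e.hom ≫ ET.subschemeι) ≫ j := by
    simp only [e', Iso.trans_hom, asIso_hom, Category.assoc, hl]
  haveI : (seqIdeal F.r).IsMaximal := F.isMaximal
  have hexc : Models.IsExcCurve E.subschemeι := by
    refine isExcCurve_of_equiv _ hEcart (Γ(X, F.V) ⧸ seqIdeal F.r)
      (Ideal.Quotient.field (seqIdeal F.r)) (by with_unfolding_all rfl) e' ?_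
    rw [Scheme.IdealSheafData.ker_subschemeι, hfac]
    obtain ⟨i1⟩ := PullIdeal.nonempty_pullback_idealMod j E hb.1 (hcomap ▸ hb'.1)
    obtain ⟨i2⟩ := he
    exact ⟨(Scheme.Modules.pullbackComp (e.hom ≫ ET.subschemeι) j).symm.app _ ≪≫
      (Scheme.Modules.pullback (e.hom ≫ ET.subschemeι)).mapIso (i1 ≪≫ eqToIso (congrArg ClSub.idealMod hcomap)) ≪≫ i2⟩
  refine ⟨hexc, Set.Subset.antisymm ?_ ?_⟩
  · rintro _ ⟨z, rfl⟩
    exact (Scheme.Hom.comp_apply _ _ _).trans (hbE z)
  · rintro _ rfl
    haveI : IsDomain (Γ(X, F.V) ⧸ seqIdeal F.r) := Ideal.Quotient.isDomain _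
    obtain ⟨z⟩ := nonempty_projLine (Γ(X, F.V) ⧸ seqIdeal F.r)
    exact ⟨e'.hom z, (Scheme.Hom.comp_apply _ _ _).trans (hbE _)⟩

end Groth.Agent.ResSurf
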