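import Groth.Agent.ResSurf.ReesPoly
import Groth.Agent.CIntLib.BlowExcAlg
import Groth.Agent.RegLoc6.Normal
import Mathlib.AlgebraicGeometry.AffineScheme
import Mathlib.AlgebraicGeometry.Noetherian
import Mathlib.AlgebraicGeometry.Stalk

/-!
# An affine neighbourhood of a regular point of dimension two in which its ideal has two generators
-/

universe u

open CategoryTheory AlgebraicGeometry TopologicalSpace

set_option maxHeartbeats 400000

namespace Groth.Agent.ResSurf

open Groth.Agent

/-- The prime of a point in an affine open is the preimage of the maximal ideal of the stalk. -/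
theorem primeIdealOf_eq_comap {X : Scheme.{u}} {U : X.Opens} (hU : IsAffineOpen U) {p : X} (hp : p ∈ U) :
    (hU.primeIdealOf ⟨p, hp⟩).asIdeal =
      (IsLocalRing.maximalIdeal (X.presheaf.stalk p)).comap (X.presheaf.germ U p hp).hom := by
  rw [IsAffineOpen.primeIdealOf_eq_map_closedPoint]
  rfl

/-- Germs at a point generate the maximal ideal. -/
theorem map_primeIdealOf {X : Scheme.{u}} {U : X.Opens} (hU : IsAffineOpen U) {p : X} (hp : p ∈ U) :
    (hU.primeIdealOf ⟨p, hp⟩).asIdeal.map (X.presheaf.germ U p hp).hom =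
      IsLocalRing.maximalIdeal (X.presheaf.stalk p) := by
  letI := TopCat.Presheaf.algebra_section_stalk X.presheaf (⟨p, hp⟩ : U)
  haveI : IsLocalization.AtPrime (X.presheaf.stalk p) (hU.primeIdealOf ⟨p, hp⟩).asIdeal :=
    hU.isLocalization_stalk ⟨p, hp⟩
  exact IsLocalization.AtPrime.map_eq_maximalIdeal (hU.primeIdealOf ⟨p, hp⟩).asIdeal (X.presheaf.stalk p)

theorem fromSpec_eq_iff {X : Scheme.{u}} {U : X.Opens} (hU : IsAffineOpen U) {p : X} (hp : p ∈ U)
    (q : PrimeSpectrum Γ(X, U)) : hU.fromSpec q = p ↔ q.asIdeal = (hU.primeIdealOf ⟨p, hp⟩).asIdeal := by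
  refine ⟨fun h => ?_, fun h => ?_⟩
  · exact congrArg PrimeSpectrum.asIdeal
      (hU.fromSpec.isOpenEmbedding.injective (h.trans (hU.fromSpec_primeIdealOf ⟨p, hp⟩).symm))
  · rw [PrimeSpectrum.ext h]
    exact hU.fromSpec_primeIdealOf ⟨p, hp⟩

/-- In a regular local ring of dimension two the powers of the maximal ideal decrease strictly. -/
theorem maximalIdeal_pow_succ_lt (R : Type u) [CommRing R] [IsRegularLocalRing R]
    (hR : ringKrullDim R = 2) (N : ℕ) :
    ¬ IsLocalRing.maximalIdeal R ^ N ≤ IsLocalRing.maximalIdeal R ^ (N + 1) := by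
  intro h
  haveI := RegLoc6.isDomain_of_isRegularLocalRing R
  have h0 : IsLocalRing.maximalIdeal R ^ N = ⊥ := by
    refine Submodule.eq_bot_of_le_smul_of_le_jacobson_bot (IsLocalRing.maximalIdeal R) _
      (IsNoetherian.noetherian _) ?_ (IsLocalRing.jacobson_eq_maximalIdeal ⊥ bot_ne_top).ge
    rw [smul_eq_mul, ← pow_succ']
    exact h
  have h1 : IsLocalRing.maximalIdeal R = ⊥ := eq_zero_of_pow_eq_zero h0
  rw [ringKrullDim_eq_zero_of_isField (IsLocalRing.isField_iff_maximalIdeal_eq.2 h1)] at hR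
  exact two_ne_zero hR.symm

/-- An affine neighbourhood of `p` in which the prime of `p` is generated by a quasi-regular pair. -/
structure PointFrame (X : Scheme.{u}) (p : X) where
  V : X.Opens
  isAffine : IsAffineOpen V
  mem : p ∈ V
  r : Fin 2 → Γ(X, V)
  isMaximal : (Ideal.span (Set.range r)).IsMaximal
  point : ∀ q : PrimeSpectrum Γ(X, V), isAffine.fromSpec q = p ↔ q.asIdeal = Ideal.span (Set.range r)
  qreg : ∀ (d : ℕ) (P : MvPolynomial (Fin 2) Γ(X, V)), P.IsHomogeneous d →
    MvPolynomial.eval r P ∈ Ideal.span (Set.range r) ^ (d + 1) →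
      ∀ e, P.coeff e ∈ Ideal.span (Set.range r)
  pow_not_le : ∀ N : ℕ, ¬ Ideal.span (Set.range r) ^ N ≤ Ideal.span (Set.range r) ^ (N + 1)

/-- Frames exist inside every affine neighbourhood, as basic opens. -/
theorem exists_pointFrame {X : Scheme.{u}} [IsLocallyNoetherian X] {p : X} (hp : IsClosed ({p} : Set X))
    (hreg : IsRegularLocalRing (X.presheaf.stalk p)) (hdim : ringKrullDim (X.presheaf.stalk p) = 2)
    {U : X.Opens} (hU : IsAffineOpen U) (hpU : p ∈ U) :
    ∃ (F : PointFrame X p) (g : Γ(X, U)), F.V = X.basicOpen g := by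
  classical
  let R := X.presheaf.stalk p
  haveI : IsRegularLocalRing R := hreg
  haveI : IsNoetherianRing Γ(X, U) := IsLocallyNoetherian.component_noetherian ⟨U, hU⟩
  letI := TopCat.Presheaf.algebra_section_stalk X.presheaf (⟨p, hpU⟩ : U)
  let mU := (hU.primeIdealOf ⟨p, hpU⟩).asIdeal
  haveI : IsLocalization.AtPrime R mU := hU.isLocalization_stalk ⟨p, hpU⟩
  obtain ⟨z, hzq, hzm⟩ := exists_isQuasiReg_pair R hdim
  obtain ⟨s, hs⟩ := IsLocalization.exist_integer_multiples_of_finite mU.primeCompl z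
  choose b hb using hs
  let γ : Γ(X, U) →+* R := (X.presheaf.germ U p hpU).hom
  have hsu : IsUnit (γ s) := IsLocalization.map_units R s
  have hb' : ∀ i, γ (b i) = γ s * z i := fun i => (hb i).trans (Algebra.smul_def _ _)
  have hmR : Ideal.span (Set.range fun i => γ (b i)) = IsLocalRing.maximalIdeal R := by
    refine le_antisymm ?_ ?_ <;> rw [← hzm, seqIdeal, Ideal.span_le] <;> rintro _ ⟨i, rfl⟩
    · show γ (b i) ∈ _
      rw [hb']
      exact Ideal.mul_mem_left _ _ (Ideal.subset_span ⟨i, rfl⟩)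
    · exact (Ideal.unit_mul_mem_iff_mem _ hsu).1 (hb' i ▸ Ideal.subset_span ⟨i, rfl⟩)
  -- a denominator bringing `mU` into the span of the `b i`
  have hkey : ∀ a ∈ mU, ∃ w : mU.primeCompl, w.1 * a ∈ Ideal.span (Set.range b) := by
    intro a ha
    have h : γ a ∈ (Ideal.span (Set.range b)).map γ := by
      rw [Ideal.map_span, ← Set.range_comp, Function.comp_def, hmR, ← map_primeIdealOf hU hpU]
      exact Ideal.mem_map_of_mem _ ha
    obtain ⟨w, hw, hw'⟩ := (IsLocalization.algebraMap_mem_map_algebraMap_iff mU.primeCompl R _ _).1 h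
    exact ⟨⟨w, hw⟩, hw'⟩
  obtain ⟨T, hT⟩ := IsNoetherian.noetherian (mU : Ideal Γ(X, U))
  choose w hw using hkey
  let g : mU.primeCompl := ∏ a ∈ T.attach, w a.1 (hT ▸ Submodule.subset_span a.2)
  have hg : ∀ a ∈ mU, g.1 * a ∈ Ideal.span (Set.range b) := by
    suffices mU ≤ Submodule.colon (Ideal.span (Set.range b)) {g.1} from fun a ha => by
      simpa [mul_comm] using Submodule.mem_colon_singleton.1 (this ha)
    conv_lhs => rw [← hT]
    rw [Submodule.span_le]
    intro a ha
    obtain ⟨c, hc⟩ : w a (hT ▸ Submodule.subset_span ha) ∣ g :=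
      Finset.dvd_prod_of_mem (fun a : ↥T => w a.1 (hT ▸ Submodule.subset_span a.2)) (Finset.mem_attach T ⟨a, ha⟩)
    refine Submodule.mem_colon_singleton.2 ?_
    rw [smul_eq_mul, hc, Submonoid.coe_mul]
    have := Ideal.mul_mem_left _ (c : Γ(X, U)) (hw a (hT ▸ Submodule.subset_span ha))
    convert this using 1
    ring
  have hgu : IsUnit (γ g.1) := IsLocalization.map_units R g
  let V := X.basicOpen g.1
  have hpV : p ∈ V := (X.mem_basicOpen g.1 p hpU).2 hgu
  have hV : IsAffineOpen V := hU.basicOpen g.1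
  let ρ := (X.presheaf.map (homOfLE (X.basicOpen_le g.1)).op).hom
  let δ := (X.presheaf.germ V p hpV).hom
  have hδρ : ∀ a, δ (ρ a) = γ a := fun a => X.presheaf.germ_res_apply _ p hpV a
  let r : Fin 2 → Γ(X, V) := fun i => ρ (b i)
  have hm : Ideal.span (Set.range r) = (hV.primeIdealOf ⟨p, hpV⟩).asIdeal := by
    rw [primeIdealOf_eq_comap hV hpV]
    refine le_antisymm ?_ ?_
    · rw [Ideal.span_le]
      rintro _ ⟨i, rfl⟩
      rw [SetLike.mem_coe, Ideal.mem_comap]
      show δ (ρ (b i)) ∈ _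
      rw [hδρ, ← hmR]
      exact Ideal.subset_span ⟨i, rfl⟩
    · intro a ha
      letI : Algebra Γ(X, U) Γ(X, V) := ρ.toAlgebra
      haveI : IsLocalization.Away g.1 Γ(X, V) := hU.isLocalization_basicOpen g.1
      obtain ⟨⟨c, k⟩, hc⟩ := IsLocalization.surj (Submonoid.powers g.1) a
      have hk : IsUnit (ρ k) := IsLocalization.map_units Γ(X, V) k
      have hcm : c ∈ mU := by
        show c ∈ (hU.primeIdealOf ⟨p, hpU⟩).asIdeal
        rw [primeIdealOf_eq_comap hU hpU, Ideal.mem_comap]
        show γ c ∈ _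
        rw [← hδρ, show ρ c = a * ρ k from hc.symm, map_mul]
        exact Ideal.mul_mem_right _ _ ha
      have hg' : IsUnit (ρ g.1) := IsLocalization.Away.algebraMap_isUnit g.1
      refine (Ideal.mul_unit_mem_iff_mem _ hk).1 ?_
      rw [show a * ρ k = ρ c from hc]
      refine (Ideal.unit_mul_mem_iff_mem _ hg').1 ?_
      rw [← map_mul]
      have h := Ideal.mem_map_of_mem ρ (hg c hcm)
      rwa [Ideal.map_span, ← Set.range_comp] at h
  refine ⟨⟨V, hV, hpV, r, hm ▸ hV.primeIdealOf_isMaximal_of_isClosed ⟨p, hpV⟩ hp, fun q => ?_, ?_, ?_⟩,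
    g.1, rfl⟩
  · rw [hm]
    exact fromSpec_eq_iff hV hpV q
  · intro d P hP he e
    rw [hm, primeIdealOf_eq_comap hV hpV, Ideal.mem_comap]
    have hmapm : (Ideal.span (Set.range r)).map δ = IsLocalRing.maximalIdeal R :=
      hm ▸ map_primeIdealOf hV hpV
    let Q := P.map δ
    have hQ : MvPolynomial.eval z Q ∈ seqIdeal z ^ (d + 1) := by
      have h1 : MvPolynomial.eval (fun i => δ (r i)) Q ∈ IsLocalRing.maximalIdeal R ^ (d + 1) := by
        have h := Ideal.mem_map_of_mem δ he
        rw [Ideal.map_pow, hmapm] at h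
        rw [MvPolynomial.eval_map]
        convert h using 1
        rw [← MvPolynomial.eval₂_id (g := r), MvPolynomial.eval₂_comp_left]
        rfl
      have h2 : MvPolynomial.eval (fun i => δ (r i)) Q = γ s ^ d * MvPolynomial.eval z Q := by
        have h := CIntLib.aeval_const_mul (A := R) (S := R) (hP.map δ) (γ s) z
        rw [show (fun i => δ (r i)) = fun i => γ s * z i from
          funext fun i => (hδρ (b i)).trans (hb' i)]
        simpa [MvPolynomial.aeval_eq_eval, Q, MvPolynomial.eval_map] using h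
      rw [h2] at h1
      rw [hzm]
      exact (Ideal.unit_mul_mem_iff_mem _ (hsu.pow d)).1 h1
    have h3 := hzq d Q (hP.map δ) hQ e
    rw [hzm] at h3
    rwa [MvPolynomial.coeff_map] at h3
  · intro N h
    refine maximalIdeal_pow_succ_lt R hdim N ?_
    rw [← map_primeIdealOf hV hpV, ← hm, ← Ideal.map_pow, ← Ideal.map_pow]
    exact Ideal.map_mono h

end Groth.Agent.ResSurf
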