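import Groth.Agent.ResSurf.GGVanish
import Groth.Agent.ResSurf.LiftSection
import Groth.Agent.QCoh.DevissageSum
import Groth.Agent.QCoh.Extension
import Groth.Prelude.Def_BlowUp2

/-!
# Sections of powers of an invertible ideal generated by global functions

If `H¹(O) = 0` and `H² = 0` on quasi-coherent modules, a global section of `I ^ (n + 2)` is a
combination of the generators of `I` with coefficients global sections of `I ^ (n + 1)`.
-/

universe u

open CategoryTheory CategoryTheory.Limits AlgebraicGeometry TopologicalSpace Opposite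

set_option autoImplicit false
set_option backward.isDefEq.respectTransparency false
set_option backward.isDefEq.respectTransparency.types false
set_option linter.style.haveILetI false

namespace Groth.Agent.ResSurf.PowSections

open Groth.Agent

variable {X : Scheme.{u}}

/-- Restriction of a function. -/
noncomputable abbrev res {U V : X.Opens} (h : V ≤ U) : Γ(X, U) →+* Γ(X, V) := (X.presheaf.map (homOfLE h).op).hom

theorem res_self {U : X.Opens} {h : U ≤ U} (a : Γ(X, U)) : res h a = a := by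
  show X.presheaf.map (homOfLE h).op a = a
  rw [show (homOfLE h).op = 𝟙 (op U) from Subsingleton.elim _ _, CategoryTheory.Functor.map_id]
  rfl

theorem res_res {U V W : X.Opens} (h : V ≤ U) (h' : W ≤ V) (a : Γ(X, U)) :
    res h' (res h a) = res (h'.trans h) a := by
  show (X.presheaf.map (homOfLE h).op ≫ X.presheaf.map (homOfLE h').op) a = _
  rw [← Functor.map_comp]
  rfl

/-- A function lying in an ideal on all affine opens is a section of the ideal. -/
theorem exists_idealSect_of_mem (J : X.IdealSheafData) (a : Γ(X, ⊤))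
    (h : ∀ U : X.affineOpens, res (le_top : U.1 ≤ ⊤) a ∈ J.ideal U) :
    ∃ k, OmegaSh.idealSect J ⊤ k = a := by
  refine OmegaLib.exists_idealSect_eq J ⊤ a ?_
  refine TopCat.Sheaf.eq_of_locally_eq' J.subscheme.sheaf (fun W : X.affineOpens => J.subschemeι ⁻¹ᵁ W.1)
    (J.subschemeι ⁻¹ᵁ ⊤) (fun W => homOfLE le_top) (fun x _ => ?_) _ _ fun W => ?_
  · obtain ⟨W, hW, hxW, -⟩ := exists_isAffineOpen_mem_and_subset (x := J.subschemeι x) (U := ⊤) trivial
    exact Opens.mem_iSup.2 ⟨⟨W, hW⟩, hxW⟩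
  · rw [map_zero]
    refine ((congr($(J.subschemeι.naturality (homOfLE (le_top : W.1 ≤ ⊤)).op) a)).symm.trans ?_)
    show J.subschemeι.app W.1 (res le_top a) = 0
    rw [← RingHom.mem_ker, J.ker_subschemeι_app]
    exact h W

attribute [local instance] Abelian.hasFiniteBiproducts

variable {ι : Type u} [Fintype ι] (x : ι → Γ(X, ⊤)) (I : X.IdealSheafData)

/-- `n + 1`-st power sections, one for each generator. -/
noncomputable abbrev Mp (n : ℕ) : X.Modules := ⨁ fun _ : ι => ClSub.idealMod (I ^ (n + 1))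

/-- The coordinate of a section. -/
noncomputable def coord {n : ℕ} (l : ι) (U : X.Opens) (s : Γ(Mp (ι := ι) I n, U)) : Γ(X, U) :=
  OmegaSh.idealSect (I ^ (n + 1)) U ((biproduct.π (fun _ : ι => ClSub.idealMod (I ^ (n + 1))) l).app U s)

/-- The combination map. -/
noncomputable def ψ (n : ℕ) : Mp (ι := ι) I n ⟶ Coh.structureModule X :=
  biproduct.desc fun l => ClSub.idealModι (I ^ (n + 1)) ≫
    QCoh.homOfTop (show Γ(Coh.structureModule X, ⊤) from x l)

theorem coord_ι {n : ℕ} [DecidableEq ι] (l l' : ι) (U : X.Opens) (k : Γ(ClSub.idealMod (I ^ (n + 1)), U)) :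
    coord (ι := ι) I l U ((biproduct.ι (fun _ : ι => ClSub.idealMod (I ^ (n + 1))) l').app U k) =
      if l' = l then OmegaSh.idealSect (I ^ (n + 1)) U k else 0 := by
  rcases eq_or_ne l' l with h | h
  · subst h
    rw [if_pos rfl]
    refine congrArg (OmegaSh.idealSect (I ^ (n + 1)) U) ?_
    exact congr(($(biproduct.ι_π_self (fun _ : ι => ClSub.idealMod (I ^ (n + 1))) l')).app U k)
  · rw [if_neg h]
    refine (congrArg (OmegaSh.idealSect (I ^ (n + 1)) U) ?_).trans (map_zero _)
    exact congr(($(biproduct.ι_π_ne (fun _ : ι => ClSub.idealMod (I ^ (n + 1))) h)).app U k)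

theorem decomp {n : ℕ} (U : X.Opens) (s : Γ(Mp (ι := ι) I n, U)) :
    s = ∑ l, (biproduct.ι (fun _ : ι => ClSub.idealMod (I ^ (n + 1))) l).app U
      ((biproduct.π (fun _ : ι => ClSub.idealMod (I ^ (n + 1))) l).app U s) := by
  have h := congr(($(QCoh.biproduct_total' (fun _ : ι => ClSub.idealMod (I ^ (n + 1))))).app U s)
  rw [QCoh.app_sum] at h
  exact h.symm

theorem coord_ext {n : ℕ} (U : X.Opens) {s t : Γ(Mp (ι := ι) I n, U)}
    (h : ∀ l, coord I l U s = coord I l U t) : s = t := by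
  rw [decomp I U s, decomp I U t]
  exact Finset.sum_congr rfl fun l _ => congrArg _ (OmegaLib.idealSect_injective _ U (h l))

theorem ψ_app {n : ℕ} (U : X.Opens) (s : Γ(Mp (ι := ι) I n, U)) :
    (ψ x I n).app U s = ∑ l, res (le_top : U ≤ ⊤) (x l) * coord I l U s := by
  conv_lhs => rw [decomp I U s]
  rw [map_sum]
  refine Finset.sum_congr rfl fun l _ => ?_
  have h1 : ∀ k, (ψ x I n).app U ((biproduct.ι (fun _ : ι => ClSub.idealMod (I ^ (n + 1))) l).app U k) =
      res (le_top : U ≤ ⊤) (x l) * OmegaSh.idealSect (I ^ (n + 1)) U k := fun k => by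
    refine (congr(($(biproduct.ι_desc (fun l => ClSub.idealModι (I ^ (n + 1)) ≫
      QCoh.homOfTop (show Γ(Coh.structureModule X, ⊤) from x l)) l)).app U k)).trans ?_
    refine (QCoh.homOfTop_app (P := Coh.structureModule X) _ _).trans ?_
    show OmegaSh.idealSect (I ^ (n + 1)) U k * res (le_top : U ≤ ⊤) (x l) = _
    exact mul_comm _ _
  exact h1 _

theorem coord_smul {n : ℕ} (l : ι) (U : X.Opens) (r : Γ(X, U)) (s : Γ(Mp (ι := ι) I n, U)) :
    coord I l U (r • s) = r * coord I l U s := by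
  unfold coord
  rw [Scheme.Modules.Hom.app_smul, OmegaLib.idealSect_smul]

theorem coord_sum {n : ℕ} (l : ι) (U : X.Opens) {β : Type*} (t : Finset β) (s : β → Γ(Mp (ι := ι) I n, U)) :
    coord I l U (∑ b ∈ t, s b) = ∑ b ∈ t, coord I l U (s b) := by
  unfold coord
  rw [map_sum, map_sum]

theorem coord_map {n : ℕ} (l : ι) {U V : X.Opens} (h : V ≤ U) (s : Γ(Mp (ι := ι) I n, U)) :
    coord I l V ((Mp (ι := ι) I n).presheaf.map (homOfLE h).op s) = res h (coord I l U s) := by
  unfold coord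
  rw [QCoh.map_app_comm]
  exact OmegaLib.idealSect_map _ h _

/-- Near each point the ideal is generated by one of the given generators. -/
theorem exists_principal [IsIntegral X]
    (hI : ∀ U : X.affineOpens, I.ideal U = Ideal.span (Set.range fun i => res (le_top : U.1 ≤ ⊤) (x i)))
    (hC : BlowUp.IsEffCartierIdeal I) (p : X) (O : X.Opens) (hp : p ∈ O) :
    ∃ (W : X.affineOpens) (j : ι), p ∈ W.1 ∧ W.1 ≤ O ∧ res (le_top : W.1 ≤ ⊤) (x j) ≠ 0 ∧
      I.ideal W = Ideal.span {res (le_top : W.1 ≤ ⊤) (x j)} := by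
  obtain ⟨V, hpV, f, hf, hfI⟩ := hC p
  haveI : Nonempty (V.1 : Scheme.{u}) := ⟨⟨p, hpV⟩⟩
  haveI : IsDomain Γ(X, V.1) := IsIntegral.component_integral _
  have hf0 : f ≠ 0 := nonZeroDivisors.ne_zero hf
  have h1 : ∀ i, ∃ a, res (le_top : V.1 ≤ ⊤) (x i) = a * f := fun i => by
    have : res (le_top : V.1 ≤ ⊤) (x i) ∈ Ideal.span {f} := by
      rw [← hfI, hI]; exact Ideal.subset_span ⟨i, rfl⟩
    obtain ⟨a, ha⟩ := Ideal.mem_span_singleton'.1 this
    exact ⟨a, ha.symm⟩
  choose a ha using h1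
  have h2 : f ∈ Ideal.span (Set.range fun i => res (le_top : V.1 ≤ ⊤) (x i)) := by
    rw [← hI, hfI]; exact Ideal.mem_span_singleton_self f
  obtain ⟨c, hc⟩ := Ideal.mem_span_range_iff_exists_fun.1 h2
  have h3 : ∑ i, c i * a i = 1 := by
    refine mul_right_cancel₀ hf0 ?_
    rw [one_mul, Finset.sum_mul]
    refine (Finset.sum_congr rfl fun i _ => ?_).trans hc
    rw [ha i, mul_assoc]
  obtain ⟨j, hj⟩ : ∃ j, IsUnit (X.presheaf.germ V.1 p hpV (a j)) := by
    by_contra hne
    have hmem : X.presheaf.germ V.1 p hpV (∑ i, c i * a i) ∈ IsLocalRing.maximalIdeal (X.presheaf.stalk p) := by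
      rw [map_sum]
      refine Ideal.sum_mem _ fun i _ => ?_
      rw [map_mul]
      exact Ideal.mul_mem_left _ _ ((IsLocalRing.mem_maximalIdeal _).2 fun hu => hne ⟨i, hu⟩)
    rw [h3, map_one] at hmem
    exact (IsLocalRing.mem_maximalIdeal _).1 hmem isUnit_one
  have hpD : p ∈ X.basicOpen (a j) := (X.mem_basicOpen (a j) p hpV).2 hj
  obtain ⟨g, hg, hpg⟩ := V.2.exists_basicOpen_le (V := O ⊓ X.basicOpen (a j)) ⟨p, hp, hpD⟩ hpV
  let W : X.affineOpens := X.affineBasicOpen g
  have hWV : W.1 ≤ V.1 := X.basicOpen_le g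
  have hW : I.ideal W = Ideal.span {res hWV f} := by
    rw [← I.map_ideal_basicOpen V g, hfI, Ideal.map_span, Set.image_singleton]
    rfl
  have hu : IsUnit (res hWV (a j)) := by
    have h4 := (RingedSpace.isUnit_res_basicOpen X.toRingedSpace (a j)).map (res (hg.trans inf_le_right))
    exact (res_res (X.basicOpen_le (a j)) (hg.trans inf_le_right) (a j)) ▸ h4
  have hxj : res (le_top : W.1 ≤ ⊤) (x j) = res hWV (a j) * res hWV f := by
    rw [← map_mul, ← ha j, res_res]
  refine ⟨W, j, hpg, hg.trans inf_le_left, ?_, ?_⟩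
  · rw [hxj]
    haveI : Nonempty (W.1 : Scheme.{u}) := ⟨⟨p, hpg⟩⟩
    haveI : IsDomain Γ(X, W.1) := IsIntegral.component_integral _
    refine mul_ne_zero hu.ne_zero fun h0 => hf0 ?_
    refine germ_injective_of_isIntegral (X := X) p hpV ?_
    rw [map_zero, ← (X.presheaf.germ_res_apply (homOfLE hWV) p hpg f)]
    show X.presheaf.germ W.1 p hpg (res hWV f) = 0
    rw [h0, map_zero]
  · rw [hW, hxj]
    exact (Ideal.span_singleton_mul_left_unit hu _).symm

/-- Surjectivity onto the sections of the next power. -/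
theorem exists_combination [IsIntegral X] [CompactSpace X] [QuasiSeparatedSpace X] [IsLocallyNoetherian X]
    (hI : ∀ U : X.affineOpens, I.ideal U = Ideal.span (Set.range fun i => res (le_top : U.1 ≤ ⊤) (x i)))
    (hC : BlowUp.IsEffCartierIdeal I) (hH1 : Subsingleton (Coh.HH X (Coh.structureModule X) 1))
    (hH2 : ∀ N : X.Modules, Coh.IsQCoh N → Subsingleton (Coh.HH X N 2)) (n : ℕ) (a : Γ(X, ⊤))
    (ha : ∀ U : X.affineOpens, res (le_top : U.1 ≤ ⊤) a ∈ (I ^ (n + 2)).ideal U) :
    ∃ c : ι → Γ(X, ⊤), (∀ i (U : X.affineOpens), res (le_top : U.1 ≤ ⊤) (c i) ∈ (I ^ (n + 1)).ideal U) ∧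
      a = ∑ i, x i * c i := by
  classical
  let J := I ^ (n + 1)
  let φ := ψ x I n
  let T₂ : ShortComplex X.Modules :=
    ShortComplex.mk (Abelian.image.ι φ) (cokernel.π φ) (kernel.condition _)
  have hT₂ : T₂.ShortExact :=
    { exact := ShortComplex.exact_of_f_is_kernel _ (kernelIsKernel (cokernel.π φ))
      mono_f := inferInstanceAs (Mono (Abelian.image.ι φ))
      epi_g := inferInstanceAs (Epi (cokernel.π φ)) }
  let T₁ : ShortComplex X.Modules :=
    ShortComplex.mk (kernel.ι (Abelian.factorThruImage φ)) (Abelian.factorThruImage φ) (kernel.condition _)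
  have hT₁ : T₁.ShortExact :=
    { exact := ShortComplex.exact_of_f_is_kernel _ (kernelIsKernel _)
      mono_f := inferInstanceAs (Mono (kernel.ι _))
      epi_g := inferInstanceAs (Epi (Abelian.factorThruImage φ)) }
  have hfac : ∀ (U : X.Opens) (s : Γ(Mp (ι := ι) I n, U)), T₂.f.app U (T₁.g.app U s) = φ.app U s := fun U s =>
    congr(($(Abelian.image.fac φ)).app U s)
  -- local generators of the ideal and its powers
  have hpow : ∀ (W : X.affineOpens) (t : Γ(X, W.1)) (m : ℕ), I.ideal W = Ideal.span {t} →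
      (I ^ m).ideal W = Ideal.span {t ^ m} := fun W t m h => by
    rw [Scheme.IdealSheafData.ideal_pow, Pi.pow_apply, h, Ideal.span_singleton_pow]
  have hmemI : ∀ (i : ι) (U : X.affineOpens), res (le_top : U.1 ≤ ⊤) (x i) ∈ I.ideal U := fun i U => by
    rw [hI]; exact Ideal.subset_span ⟨i, rfl⟩
  -- the global relations
  have hw : ∀ i j : ι, ∃ w : Γ(T₁.X₁, ⊤), ∀ l, coord I l ⊤ (T₁.f.app ⊤ w) =
      x j ^ n * ((if i = l then x j else 0) - (if j = l then x i else 0)) := by
    intro i j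
    have hmem : ∀ (b : Γ(X, ⊤)) (U : X.affineOpens), (∃ i', b = x i') →
        res (le_top : U.1 ≤ ⊤) (x j ^ n * b) ∈ J.ideal U := by
      rintro b U ⟨i', rfl⟩
      rw [Scheme.IdealSheafData.ideal_pow, Pi.pow_apply, pow_succ, map_mul, map_pow]
      exact Ideal.mul_mem_mul (Ideal.pow_mem_pow (hmemI j U) n) (hmemI i' U)
    obtain ⟨k₁, hk₁⟩ := exists_idealSect_of_mem J (x j ^ n * x j) fun U => hmem _ U ⟨j, rfl⟩
    obtain ⟨k₂, hk₂⟩ := exists_idealSect_of_mem J (x j ^ n * x i) fun U => hmem _ U ⟨i, rfl⟩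
    let s : Γ(Mp (ι := ι) I n, ⊤) :=
      (biproduct.ι (fun _ : ι => ClSub.idealMod (I ^ (n + 1))) i).app ⊤ k₁ -
        (biproduct.ι (fun _ : ι => ClSub.idealMod (I ^ (n + 1))) j).app ⊤ k₂
    have hs : ∀ l, coord I l ⊤ s =
        x j ^ n * ((if i = l then x j else 0) - (if j = l then x i else 0)) := by
      intro l
      show coord I l ⊤ (_ - _) = _
      unfold coord
      rw [map_sub, map_sub]
      show coord I l ⊤ _ - coord I l ⊤ _ = _
      rw [coord_ι, coord_ι, hk₁, hk₂, mul_sub]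
      congr 1 <;> split <;> simp
    have hs' : φ.app ⊤ s = 0 := by
      rw [ψ_app]
      simp only [res_self, hs, mul_sub, mul_ite, mul_zero, Finset.sum_sub_distrib, Finset.sum_ite_eq,
        Finset.mem_univ, if_true]
      ring
    obtain ⟨w, hw⟩ := QCoh.exists_app_f_eq hT₁ ⊤ s (QCoh.app_f_injective hT₂ ⊤
      ((hfac ⊤ s).trans (hs'.trans (map_zero _).symm)))
    refine ⟨w, fun l => ?_⟩
    rw [hw, hs]
  choose w hw using hw
  -- the kernel is generated by the relations
  let p : (∐ fun _ : ι × ι => Coh.structureModule X) ⟶ T₁.X₁ := Sigma.desc fun q => QCoh.homOfTop (w q.1 q.2)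
  have hp : Epi p := Preadditive.epi_of_cancel_zero (C := X.Modules) _ fun {Z} (g : T₁.X₁ ⟶ Z) hg => by
    have hgw : ∀ i j, g.app ⊤ (w i j) = 0 := fun i j => by
      have h1 : QCoh.homOfTop (w i j) ≫ g = 0 := by
        have := congrArg (fun φ => Sigma.ι (fun _ : ι × ι => Coh.structureModule X) (i, j) ≫ φ) hg
        simp only [comp_zero] at this
        rwa [← Category.assoc, Sigma.ι_desc] at this
      have h2 := congrArg (fun φ : Coh.structureModule X ⟶ Z => Scheme.Modules.Hom.app φ ⊤ (1 : Γ(X, ⊤))) h1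
      change g.app ⊤ ((QCoh.homOfTop (w i j)).app ⊤ (1 : Γ(X, ⊤))) = 0 at h2
      rw [QCoh.homOfTop_app, one_smul] at h2
      have ht : (T₁.X₁.presheaf.map (homOfLE (le_top : (⊤ : X.Opens) ≤ ⊤)).op (w i j)) = w i j :=
        ConcreteCategory.congr_hom (T₁.X₁.presheaf.map_id _) (w i j)
      rwa [ht] at h2
    refine Scheme.Modules.hom_ext _ _ fun U => ?_
    ext k
    show g.app U k = 0
    refine QCoh.eq_zero_of_locally U _ fun q hq => ?_
    obtain ⟨W, j, hqW, hWU, hne, hgen⟩ := exists_principal x I hI hC q U hq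
    refine ⟨W.1, homOfLE hWU, hqW, ?_⟩
    rw [← QCoh.map_app_comm]
    generalize T₁.X₁.presheaf.map (homOfLE hWU).op k = k'
    haveI : Nonempty (W.1 : Scheme.{u}) := ⟨⟨q, hqW⟩⟩
    haveI : IsDomain Γ(X, W.1) := IsIntegral.component_integral _
    let t := res (le_top : W.1 ≤ ⊤) (x j)
    have hb : ∀ l, ∃ b, coord I l W.1 (T₁.f.app W.1 k') = b * t ^ (n + 1) := fun l => by
      have h1 : coord I l W.1 (T₁.f.app W.1 k') ∈ J.ideal W := OmegaLib.idealSect_mem J W _
      rw [hpow W t (n + 1) hgen] at h1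
      obtain ⟨b, hb⟩ := Ideal.mem_span_singleton'.1 h1
      exact ⟨b, hb.symm⟩
    choose b hb using hb
    have hrel : ∑ l, res (le_top : W.1 ≤ ⊤) (x l) * b l = 0 := by
      have h1 : ∑ l, res (le_top : W.1 ≤ ⊤) (x l) * coord I l W.1 (T₁.f.app W.1 k') = 0 := by
        rw [← ψ_app, ← hfac, QCoh.app_g_f, map_zero]
      simp only [hb, ← mul_assoc, ← Finset.sum_mul] at h1
      exact (mul_eq_zero.1 h1).resolve_right (pow_ne_zero _ hne)
    have hk : k' = ∑ i, b i • T₁.X₁.presheaf.map (homOfLE (le_top : W.1 ≤ ⊤)).op (w i j) := by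
      refine QCoh.app_f_injective hT₁ W.1 (coord_ext I W.1 fun l => ?_)
      rw [map_sum, coord_sum]
      have h1 : ∀ i, coord I l W.1 (T₁.f.app W.1 (b i • T₁.X₁.presheaf.map (homOfLE (le_top : W.1 ≤ ⊤)).op (w i j))) =
          b i * (t ^ n * ((if i = l then t else 0) - (if j = l then res (le_top : W.1 ≤ ⊤) (x i) else 0))) := by
        intro i
        rw [Scheme.Modules.Hom.app_smul, coord_smul, QCoh.map_app_comm, coord_map, hw]
        simp only [map_mul, map_pow, map_sub, apply_ite (res (le_top : W.1 ≤ ⊤)), map_zero, t]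
      simp only [h1, hb, mul_sub, Finset.sum_sub_distrib, mul_ite, mul_zero, Finset.sum_ite_eq',
        Finset.mem_univ, if_true]
      by_cases hjl : j = l
      · simp only [if_pos hjl]
        have h2 : ∑ i, b i * (t ^ n * res (le_top : W.1 ≤ ⊤) (x i)) =
            t ^ n * ∑ i, res (le_top : W.1 ≤ ⊤) (x i) * b i := by
          rw [Finset.mul_sum]
          exact Finset.sum_congr rfl fun i _ => by ring
        rw [h2, hrel]
        ring
      · simp only [if_neg hjl, Finset.sum_const_zero]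
        ring
    rw [hk, map_sum]
    refine Finset.sum_eq_zero fun i _ => ?_
    rw [Scheme.Modules.Hom.app_smul, QCoh.map_app_comm, hgw, map_zero, smul_zero]
  have hJc : Coh.IsCoh (ClSub.idealMod J) := by
    haveI : Mono (ClSub.idealModι J) := inferInstanceAs (Mono (kernel.ι _))
    have hO := QCoh.isCoh_structureModule' (X := X)
    exact QCoh.isCoh_of_mono (ClSub.idealModι J) hO
      (QCoh.isQCoh_kernel hO.1 (QCoh.isQCoh_pushforward J.subschemeι QCoh.isQCoh_structureModule) _)
  have hK : Coh.IsQCoh T₁.X₁ := by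
    refine (QCoh.isQCoh_iff_iso (kernelIsoOfEq (Abelian.image.fac φ).symm ≪≫
      kernelCompMono (Abelian.factorThruImage φ) (Abelian.image.ι φ))).1 ?_
    exact QCoh.isQCoh_kernel (QCoh.isCoh_biproduct _ fun _ => hJc).1 QCoh.isQCoh_structureModule φ
  have hK1 : Subsingleton (Coh.HH X T₁.X₁ 1) := GGVanish.subsingleton_HH_one hK ⟨_, p, hp⟩ hH1 hH2
  -- the section
  have hπ : T₂.g.app ⊤ (show Γ(Coh.structureModule X, ⊤) from a) = 0 := by
    refine QCoh.eq_zero_of_locally ⊤ _ fun q _ => ?_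
    obtain ⟨W, j, hqW, -, -, hgen⟩ := exists_principal x I hI hC q ⊤ trivial
    refine ⟨W.1, homOfLE le_top, hqW, ?_⟩
    rw [← QCoh.map_app_comm]
    let t := res (le_top : W.1 ≤ ⊤) (x j)
    have h1 := ha W
    rw [hpow W t (n + 2) hgen] at h1
    obtain ⟨c, hc⟩ := Ideal.mem_span_singleton'.1 h1
    obtain ⟨k, hk⟩ := OmegaLib.exists_of_mem J W (c * t ^ (n + 1))
      (by rw [hpow W t (n + 1) hgen]; exact Ideal.mem_span_singleton'.2 ⟨c, rfl⟩)
    let m : Γ(Mp (ι := ι) I n, W.1) := (biproduct.ι (fun _ : ι => ClSub.idealMod (I ^ (n + 1))) j).app W.1 k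
    have hm : φ.app W.1 m = res (le_top : W.1 ≤ ⊤) a := by
      rw [ψ_app, Finset.sum_eq_single j]
      · rw [coord_ι, if_pos rfl, hk, ← hc]
        simp only [t]
        ring
      · intro l _ hl
        rw [coord_ι, if_neg (Ne.symm hl), mul_zero]
      · exact fun h => absurd (Finset.mem_univ j) h
    show T₂.g.app W.1 (show Γ(Coh.structureModule X, W.1) from res (le_top : W.1 ≤ ⊤) a) = 0
    rw [← hm, ← hfac]
    exact QCoh.app_g_f W.1 _
  obtain ⟨e, he⟩ := QCoh.exists_app_f_eq hT₂ ⊤ _ hπ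
  obtain ⟨m, hm⟩ := QCoh.app_top_surjective_of_HH_one hT₁ hK1 e
  refine ⟨fun i => coord I i ⊤ m, fun i U => ?_, ?_⟩
  · show res _ (OmegaSh.idealSect J ⊤ _) ∈ J.ideal U
    rw [← OmegaLib.idealSect_map]
    exact OmegaLib.idealSect_mem J U _
  · have h2 : φ.app ⊤ m = a := by
      rw [← hfac, hm]
      exact he
    rw [← h2, ψ_app]
    simp only [res_self]

end Groth.Agent.ResSurf.PowSections
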