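import Groth.Agent.ResSurf.PointColength
import Groth.Agent.ResSurf.PointExc
import Groth.Agent.BlowUpLib.Glue

/-!
# Principalization of an ideal with finite support by blowing up points of a surface
-/

universe u

open CategoryTheory CategoryTheory.Limits AlgebraicGeometry TopologicalSpace

set_option maxHeartbeats 400000
set_option backward.isDefEq.respectTransparency false

namespace Groth.Agent.ResSurf

open Groth.Agent

variable {X : Scheme.{u}}

theorem isLocallyNoetherian_blowUp' [IsLocallyNoetherian X] {X' : Scheme.{u}} {b : X' ⟶ X}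
    {C : X.IdealSheafData} (hb : BlowUp.IsBlowUp b C) : IsProper b ∧ IsLocallyNoetherian X' := by
  haveI hp : IsProper b := BlowUpLib.isProper_of_isBlowUp C hb fun U => by
    have := IsLocallyNoetherian.component_noetherian U
    exact IsNoetherian.noetherian _
  exact ⟨hp, LocallyOfFiniteType.isLocallyNoetherian b⟩

theorem length_le_of_eq (I : X.IdealSheafData) {U₁ U₂ : X.affineOpens} (h : U₁ = U₂) {k : ℕ∞}
    (h₂ : Module.length Γ(X, U₂.1) (Γ(X, U₂.1) ⧸ I.ideal U₂) ≤ k) :
    Module.length Γ(X, U₁.1) (Γ(X, U₁.1) ⧸ I.ideal U₁) ≤ k := by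
  subst h; exact h₂

theorem support_finite_of_isolated [CompactSpace X] (I : X.IdealSheafData)
    (h : ∀ x ∈ (I.support : Set X), ∃ U : X.Opens, x ∈ U ∧ ∀ y ∈ U, y ∈ (I.support : Set X) → y = x) :
    (I.support : Set X).Finite := by
  choose U hxU hU using h
  obtain ⟨t, ht⟩ := I.support.isClosed.isCompact.elim_finite_subcover
    (fun x : (I.support : Set X) => (U x.1 x.2 : Set X)) (fun x => (U x.1 x.2).isOpen)
    fun x hx => Set.mem_iUnion.2 ⟨⟨x, hx⟩, hxU x hx⟩
  refine (t.finite_toSet.image Subtype.val).subset fun y hy => ?_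
  obtain ⟨x, hx, hyx⟩ := Set.mem_iUnion₂.1 (ht hy)
  exact ⟨x, hx, (hU x.1 x.2 y hyx hy).symm⟩

/-- One blowing up of a point in the support. -/
theorem exists_step [IsNoetherian X] {I : X.IdealSheafData} (hI : IsPointSupported I) {p : X}
    (hp : p ∈ (I.support : Set X)) {n : ℕ} (hn : HasColengthLE I p (n + 1)) :
    ∃ (X' : Scheme.{u}) (_ : IsNoetherian X') (E : Scheme.{u}) (ι : E ⟶ X') (b : X' ⟶ X)
      (W : WeakTransform I p n b),
      IsClosedImmersion ι ∧ Models.IsExcCurve ι ∧ Models.IsContractionOf ι b ∧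
        IsPointSupported W.ideal' := by
  classical
  obtain ⟨hcl, hreg, hdim⟩ := hI.2 p hp
  obtain ⟨U, hpU, hiso, hlen⟩ := hn
  obtain ⟨F, g, hFV⟩ := exists_pointFrame hcl hreg hdim U.2 hpU
  let C : X.IdealSheafData := Scheme.IdealSheafData.vanishingIdeal ⟨{p}, hcl⟩
  have hsupp : (C.support : Set X) = {p} := Scheme.IdealSheafData.coe_support_vanishingIdeal _
  let V : X.affineOpens := ⟨F.V, F.isAffine⟩
  let m : Ideal Γ(X, F.V) := Ideal.span (Set.range F.r)
  haveI : m.IsMaximal := F.isMaximal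
  let q₀ : PrimeSpectrum Γ(X, F.V) := ⟨m, inferInstance⟩
  have hq₀ : F.isAffine.fromSpec q₀ = p := (F.point q₀).2 rfl
  have hC : C.ideal V = m := by
    rw [Scheme.IdealSheafData.vanishingIdeal_ideal, show
      F.isAffine.fromSpec ⁻¹' ((⟨{p}, hcl⟩ : Closeds X) : Set X) = {q₀} from
      Set.ext fun q => (F.point q).trans ⟨fun h => PrimeSpectrum.ext h, fun h => congrArg _ h⟩,
      PrimeSpectrum.vanishingIdeal_singleton]
  have hVU : F.V ≤ U.1 := hFV ▸ X.basicOpen_le g
  have hIm : I.ideal V ≤ m := (fromSpec_mem_support_iff I V q₀).1 (by rw [hq₀]; exact hp)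
  haveI : IsNoetherianRing Γ(X, F.V) := IsLocallyNoetherian.component_noetherian V
  obtain ⟨N, hN⟩ : ∃ N, m ^ N ≤ I.ideal V := by
    refine Ideal.exists_pow_le_of_le_radical_of_fg ?_ (IsNoetherian.noetherian _)
    rw [Ideal.radical_eq_sInf]
    refine le_sInf fun P ⟨hIP, hP⟩ => ?_
    have h := hiso _ (hVU (F.isAffine.range_fromSpec.le ⟨⟨P, hP⟩, rfl⟩))
      ((fromSpec_mem_support_iff I V ⟨P, hP⟩).2 hIP)
    exact ((F.point ⟨P, hP⟩).1 h).ge
  have hex : ∃ k, ¬ I.ideal V ≤ m ^ (k + 1) := ⟨N, fun h => F.pow_not_le N (hN.trans h)⟩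
  let d := Nat.find hex
  have hd : 0 < d := Nat.pos_of_ne_zero fun h => Nat.find_spec hex (by
    rw [show Nat.find hex = 0 from h, zero_add, pow_one]; exact hIm)
  have hle : I.ideal V ≤ m ^ d := by
    obtain ⟨k, hk⟩ : ∃ k, d = k + 1 := ⟨d - 1, by omega⟩
    rw [hk]
    exact not_not.1 (Nat.find_min hex (show k < Nat.find hex by omega))
  have hglob : I ≤ C ^ d := by
    refine Scheme.IdealSheafData.le_of_iSup_eq_top
      (fun o : Option {U : X.affineOpens // p ∉ U.1} => o.elim V Subtype.val)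
      (eq_top_iff.2 fun x _ => ?_) fun o => ?_
    · by_cases hx : x = p
      · exact Opens.mem_iSup.2 ⟨none, hx ▸ F.mem⟩
      · obtain ⟨_, ⟨U', hU', rfl⟩, hxU', hU'p⟩ := X.isBasis_affineOpens.exists_subset_of_mem_open
          (show x ∈ ({p} : Set X)ᶜ from hx) hcl.isOpen_compl
        exact Opens.mem_iSup.2 ⟨some ⟨⟨U', hU'⟩, fun h => hU'p h rfl⟩, hxU'⟩
    · rw [Scheme.IdealSheafData.ideal_pow, Pi.pow_apply]
      cases o with
      | none => exact hle.trans_eq (congrArg (fun J => J ^ d) hC.symm)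
      | some U' =>
        rw [show C.ideal (Option.elim (some U') V Subtype.val) = ⊤ from
          BlowUpX.ideal_eq_top_of_disjoint C U'.1 fun x hx hxs => U'.2 (hsupp.le hxs ▸ hx),
          Ideal.top_pow]
        exact le_top
  obtain ⟨X', b, hb⟩ := BlowUpLib.exists_blowUp (C := C)
  obtain ⟨hprop, hLN⟩ := isLocallyNoetherian_blowUp' hb
  haveI := hLN
  haveI : CompactSpace X' := QuasiCompact.compactSpace_of_compactSpace b
  haveI : IsNoetherian X' := ⟨⟩
  have hlenV : Module.length Γ(X, F.V) (Γ(X, F.V) ⧸ I.ideal V) ≤ (n + 1 : ℕ) :=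
    length_le_of_eq I (U₁ := V) (U₂ := X.affineBasicOpen g) (Subtype.ext hFV)
      ((length_quotient_basicOpen_le I U g).trans hlen)
  let W : WeakTransform I p n b :=
    ⟨F, C, hb, hsupp, hC, d, hd, hglob, Nat.find_spec hex, hle, N, hN, hlenV⟩
  obtain ⟨hexc, hrange⟩ := isExcCurve_exceptional F hb hC hsupp
  refine ⟨X', inferInstance, _, (BlowUp.exceptional b C).subschemeι, b, W, inferInstance, hexc,
    ⟨inferInstance, hprop, p, hcl, hrange, hreg, hdim, hb⟩, ?_⟩
  refine ⟨support_finite_of_isolated _ fun x' hx' => ?_, fun x' hx' => ?_⟩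
  · by_cases he : b x' = p
    · obtain ⟨U', hxU', hiso', -⟩ := (W.over_point hcl hx' he).2
      exact ⟨U'.1, hxU', hiso'⟩
    · obtain ⟨k, hk⟩ := exists_hasColengthLE hI (W.mem_support_of_mem hx')
      obtain ⟨U', hxU', hiso', -⟩ := (W.off_point hcl hI hx' he).2 k hk
      exact ⟨U'.1, hxU', hiso'⟩
  · by_cases he : b x' = p
    · exact (W.over_point hcl hx' he).1
    · exact (W.off_point hcl hI hx' he).1

/-- `I` becomes invertible after a sequence of point blow-ups which is an isomorphism off its support. -/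
def IsPrincipalizable (I : X.IdealSheafData) : Prop :=
  ∀ (Y : Scheme.{u}) (c : X ⟶ Y), Models.IsContractionSeq c →
    ∃ (X' : Scheme.{u}) (g : X' ⟶ X), Models.IsContractionSeq (g ≫ c) ∧
      (∀ D : X.IdealSheafData, BlowUp.IsEffCartierIdeal D → BlowUp.IsEffCartierIdeal (D.comap g)) ∧
      (∀ O : X.Opens, (∀ x ∈ O, x ∉ (I.support : Set X)) → IsIso (g ∣_ O)) ∧
      BlowUp.IsEffCartierIdeal (I.comap g)

theorem isPrincipalizable_of_forall {n : ℕ} :
    ∀ (X : Scheme.{u}) [IsNoetherian X] (I : X.IdealSheafData), IsPointSupported I →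
      (∀ x ∈ (I.support : Set X), HasColengthLE I x n) → IsPrincipalizable I := by
  classical
  induction n with
  | zero =>
    intro X _ I _ h
    have hs : ∀ x, x ∉ (I.support : Set X) := fun x hx => notMem_support_of_hasColengthLE_zero (h x hx) hx
    intro Y c hc
    exact ⟨X, 𝟙 X, by rwa [Category.id_comp],
      fun D hD => BlowUpLib.isEffCartier_comap_flat (𝟙 X) hD,
      fun O _ => inferInstance, BlowUpX.isEffCartier_comap_of_avoid I _ fun y => hs _⟩
  | succ n ih =>
    suffices ∀ (k : ℕ) (X : Scheme.{u}) [IsNoetherian X] (I : X.IdealSheafData), IsPointSupported I →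
        (∀ x ∈ (I.support : Set X), HasColengthLE I x (n + 1)) → ∀ B : Finset X, B.card ≤ k →
        (∀ x ∈ (I.support : Set X), x ∉ B → HasColengthLE I x n) → IsPrincipalizable I by
      intro X _ I hI h
      exact this _ X I hI h hI.1.toFinset le_rfl fun x hx hxB => absurd (hI.1.mem_toFinset.2 hx) hxB
    intro k
    induction k with
    | zero =>
      intro X _ I hI _ B hB hn
      exact ih X I hI fun x hx => hn x hx (by simp [Finset.card_eq_zero.1 (Nat.le_zero.1 hB)])
    | succ k ihk =>
      intro X _ I hI hn1 B hB hn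
      by_cases hp : ∃ p ∈ B, p ∈ (I.support : Set X)
      swap
      · exact ih X I hI fun x hx => hn x hx fun hxB => hp ⟨x, hxB, hx⟩
      obtain ⟨p, hpB, hp⟩ := hp
      obtain ⟨X', _, E, ι, b, W, hι, hexc, hcontr, hI'⟩ := exists_step hI hp (hn1 p hp)
      have hcl := (hI.2 p hp).1
      have hn' : ∀ x' ∈ (W.ideal'.support : Set X'), HasColengthLE W.ideal' x' (n + 1) := fun x' hx' => by
        by_cases he : b x' = p
        · obtain ⟨U', h1, h2, h3⟩ := (W.over_point hcl hx' he).2
          exact ⟨U', h1, h2, h3.trans (by exact_mod_cast Nat.le_succ n)⟩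
        · exact (W.off_point hcl hI hx' he).2 _ (hn1 _ (W.mem_support_of_mem hx'))
      let B' : Finset X' := hI'.1.toFinset.filter fun x' => b x' ∈ B.erase p
      have hB' : B'.card ≤ k := by
        refine le_trans (Finset.card_le_card_of_injOn (fun x' => b x')
          (fun x' hx' => (Finset.mem_filter.1 hx').2) fun x hx y _ h => ?_)
          (by rw [Finset.card_erase_of_mem hpB]; omega)
        exact W.eq_of_ne hcl h (Finset.mem_erase.1 (Finset.mem_filter.1 hx).2).1
      have hn'' : ∀ x' ∈ (W.ideal'.support : Set X'), x' ∉ B' → HasColengthLE W.ideal' x' n :=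
        fun x' hx' hB'' => by
          by_cases he : b x' = p
          · exact (W.over_point hcl hx' he).2
          · refine (W.off_point hcl hI hx' he).2 _ (hn _ (W.mem_support_of_mem hx') fun h => hB'' ?_)
            exact Finset.mem_filter.2 ⟨hI'.1.mem_toFinset.2 hx', Finset.mem_erase.2 ⟨he, h⟩⟩
      intro Y c hc
      obtain ⟨X'', r, hr, hrD, hriso, hrc⟩ :=
        ihk X' W.ideal' hI' hn' B' hB' hn'' Y (b ≫ c) (.step ι b c hι hexc hcontr hc)
      refine ⟨X'', r ≫ b, by rwa [Category.assoc], fun D hD => ?_, fun O hO => ?_, ?_⟩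
      · rw [Scheme.IdealSheafData.comap_comp]
        exact hrD _ (ModPairLib.isEffCartier_comap_blowUp W.isBlowUp hD)
      · haveI : IsIso (b ∣_ O) :=
          haveI := W.isIso_restrict hcl
          isIso_restrict_of_le' b (U := ⟨{p}ᶜ, hcl.isOpen_compl⟩)
            fun x hx (h : x = p) => hO x hx (h ▸ hp)
        rw [morphismRestrict_comp]
        exact IsIso.comp_isIso' (hriso _ fun y hy hys => hO _ hy (W.mem_support_of_mem hys)) inferInstance
      · rw [Scheme.IdealSheafData.comap_comp, W.comap_eq, ModPairLib.ideal_comap_mul]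
        exact ModPairLib.isEffCartier_mul (hrD _ W.isEffCartier_excPow) hrc

/-- An ideal with finite support at regular closed points of dimension two is principalized by point blow-ups. -/
theorem isPrincipalizable [IsNoetherian X] {I : X.IdealSheafData} (hI : IsPointSupported I) :
    IsPrincipalizable I := by
  classical
  choose n hn using fun x : (I.support : Set X) => exists_hasColengthLE hI x.2
  haveI := hI.1.fintype
  refine isPrincipalizable_of_forall (n := Finset.univ.sup n) X I hI fun x hx => ?_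
  obtain ⟨U, h1, h2, h3⟩ := hn ⟨x, hx⟩
  exact ⟨U, h1, h2, h3.trans (by exact_mod_cast Finset.le_sup (f := n) (Finset.mem_univ ⟨x, hx⟩))⟩

end Groth.Agent.ResSurf
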