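import Groth.Agent.ResSurf.LerayEdge
import Groth.Agent.ResSurf.LocalPrincipal
import Groth.Agent.ResSurf.LocalChange
import Groth.Agent.QGorRing.FibreVanish
import Groth.Agent.PicClLib.Basic

/-!
# Rational singularities below a regular modification: the fibre ideal is invertible
-/

universe u

open CategoryTheory CategoryTheory.Limits AlgebraicGeometry TopologicalSpace Opposite IsLocalRing

set_option backward.isDefEq.respectTransparency false
set_option backward.isDefEq.respectTransparency.types false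
set_option linter.style.haveILetI false
set_option maxHeartbeats 400000

namespace Groth.Agent.ResSurf

open Groth.Agent

/-- A closed subset of a surface missing the generic point has dimension at most one. -/
theorem topologicalKrullDim_closed_le_one {X : Scheme.{u}} [IsIntegral X] [IsLocallyNoetherian X]
    (hd : ∀ x : X, ringKrullDim (X.presheaf.stalk x) ≤ 2) (S : Set X) (hS : IsClosed S)
    (hη : genericPoint X ∉ S) : topologicalKrullDim S ≤ 1 := by
  haveI : QuasiSober S := hS.isClosedEmbedding_subtypeVal.quasiSober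
  let P : Preorder S := (specializationOrder S).toPreorder
  have h1 : topologicalKrullDim S = @Order.krullDim S P :=
    @Order.krullDim_eq_of_orderIso _ _ _ P irreducibleSetEquivPoints
  rw [h1, Order.krullDim]
  refine iSup_le fun l => ?_
  by_contra hl
  have hlen : 2 ≤ l.length := by
    by_contra h
    exact hl (by exact_mod_cast (show l.length ≤ 1 by omega))
  have hsp : ∀ {a b : S}, P.lt a b → (b.1 ⤳ a.1) ∧ b.1 ≠ a.1 := fun {a b} h =>
    ⟨(@le_of_lt _ P _ _ h : b ⤳ a).map continuous_subtype_val,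
      fun e => @ne_of_lt _ P _ _ h (Subtype.ext e.symm)⟩
  obtain ⟨h01, hne01⟩ := hsp (l.strictMono (show (⟨0, by omega⟩ : Fin (l.length + 1)) < ⟨1, by omega⟩ from
    Fin.mk_lt_mk.2 (by omega)))
  obtain ⟨h12, hne12⟩ := hsp (l.strictMono (show (⟨1, by omega⟩ : Fin (l.length + 1)) < ⟨2, by omega⟩ from
    Fin.mk_lt_mk.2 (by omega)))
  set a := (l ⟨0, by omega⟩).1
  set b := (l ⟨1, by omega⟩).1
  set c := (l ⟨2, by omega⟩).1
  have hc : 1 ≤ DimFormula.codim c := by
    rw [← DimFormula.cd_eq_codim_of_irreducible]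
    exact Nat.one_le_iff_ne_zero.2 fun h0 =>
      hη (((DimFormula.cd_eq_zero_iff (genericPoint_specializes c)).1 h0).symm ▸ (l ⟨2, by omega⟩).2)
  have hb1 : 1 ≤ DimFormula.cd c b :=
    Nat.one_le_iff_ne_zero.2 fun h0 => hne12 ((DimFormula.cd_eq_zero_iff h12).1 h0)
  have ha1 : 1 ≤ DimFormula.cd b a :=
    Nat.one_le_iff_ne_zero.2 fun h0 => hne01 ((DimFormula.cd_eq_zero_iff h01).1 h0)
  have e1 := DimFormula.cd_add_cd_le h12 (genericPoint_specializes c)
  have e2 := DimFormula.cd_add_cd_le h01 (genericPoint_specializes b)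
  rw [DimFormula.cd_eq_codim_of_irreducible, DimFormula.cd_eq_codim_of_irreducible] at e1 e2
  have h3 := hd a
  rw [DimFormula.ringKrullDim_stalk] at h3
  have h5 : DimFormula.codim a ≤ 2 := by exact_mod_cast h3
  omega

theorem isIso_restrict_of_isPullback {P X Y Z : Scheme.{u}} {fst : P ⟶ X} {snd : P ⟶ Y} {f : X ⟶ Z}
    {g : Y ⟶ Z} (h : IsPullback fst snd f g) (U : Z.Opens) [IsIso (f ∣_ U)] :
    IsIso (snd ∣_ (g ⁻¹ᵁ U)) := by
  have h1 : IsPullback ((snd ⁻¹ᵁ (g ⁻¹ᵁ U)).ι ≫ fst) (snd ∣_ (g ⁻¹ᵁ U)) f ((g ⁻¹ᵁ U).ι ≫ g) :=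
    (isPullback_morphismRestrict snd (g ⁻¹ᵁ U)).flip.paste_horiz h
  rw [← morphismRestrict_ι] at h1
  let t : (snd ⁻¹ᵁ (g ⁻¹ᵁ U) : Scheme.{u}) ⟶ (f ⁻¹ᵁ U : Scheme.{u}) :=
    (isPullback_morphismRestrict f U).lift ((snd ∣_ (g ⁻¹ᵁ U)) ≫ (g ∣_ U))
      ((snd ⁻¹ᵁ (g ⁻¹ᵁ U)).ι ≫ fst) (by rw [Category.assoc]; exact h1.w.symm)
  have ht1 : t ≫ (f ⁻¹ᵁ U).ι = (snd ⁻¹ᵁ (g ⁻¹ᵁ U)).ι ≫ fst :=
    (isPullback_morphismRestrict f U).lift_snd _ _ _
  have ht2 : t ≫ (f ∣_ U) = (snd ∣_ (g ⁻¹ᵁ U)) ≫ (g ∣_ U) := (isPullback_morphismRestrict f U).lift_fst _ _ _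
  rw [← ht1] at h1
  exact MorphismProperty.of_isPullback (P := MorphismProperty.isomorphisms Scheme.{u})
    (IsPullback.of_right h1 ht2 (isPullback_morphismRestrict f U).flip) (inferInstanceAs (IsIso (f ∣_ U)))

/-- An isomorphism over an open is an isomorphism over each smaller open. -/
theorem isIso_restrict_mono {X Y : Scheme.{u}} (g : X ⟶ Y) {U V : Y.Opens} (h : V ≤ U) [IsIso (g ∣_ U)] :
    IsIso (g ∣_ V) := by
  let V' : (U : Scheme.{u}).Opens := U.ι ⁻¹ᵁ V
  have hV : U.ι ''ᵁ V' = V := by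
    rw [Scheme.Hom.image_preimage_eq_opensRange_inf, Scheme.Opens.opensRange_ι, inf_eq_right.2 h]
  have h1 : IsIso (g ∣_ U ∣_ V') := inferInstance
  have h2 := (MorphismProperty.isomorphisms Scheme.{u}).arrow_mk_iso_iff
    (morphismRestrictRestrict g U V' ≪≫ eqToIso (by rw [hV]))
  exact h2.1 h1

/-- Stalks of `R¹c_*O` vanish below a modification without `H¹`. -/
theorem isZero_stalk_RpushAb_one {X Z : Scheme.{u}} [IsIntegral X] [IsIntegral Z] (c : X ⟶ Z) [IsProper c]
    (hc : IsBirat c) (hZ : Pi1.IsNormalScheme Z) (hX : Subsingleton (Coh.HH X (Coh.structureModule X) 1))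
    (hH2 : Subsingleton (Coh.HH Z (Coh.structureModule Z) 2))
    (z : Z) (hz : IsClosed ({z} : Set Z)) (O : Z.Opens) [IsIso (c ∣_ O)] (W₀ : Z.Opens) (hzW : z ∈ W₀)
    (hW₀ : ∀ w ∈ W₀, w ≠ z → w ∈ O) :
    IsZero (TopCat.Presheaf.stalk ((Coh.RpushAb c 1).obj (Coh.toAb (Coh.structureModule X))).obj z) := by
  have hbir : Function.Bijective (Z.presheaf.stalkSpecializes (specializes_of_eq hc.apply_genericPoint) ≫
      c.stalkMap (genericPoint X)).hom := by
    haveI : ValuationRing (Z.presheaf.stalk (c (genericPoint X))) := by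
      rw [hc.apply_genericPoint]; exact inferInstanceAs (ValuationRing Z.functionField)
    haveI : IsIso (c.stalkMap (genericPoint X)) :=
      (ConcreteCategory.isIso_iff_bijective _).2 (hc.bijective_stalkMap _)
    haveI : IsIso (Z.presheaf.stalkSpecializes (specializes_of_eq hc.apply_genericPoint)) :=
      (TopCat.Presheaf.stalkCongr Z.presheaf (Inseparable.of_eq hc.apply_genericPoint.symm)).isIso_hom
    exact ConcreteCategory.bijective_of_isIso _
  obtain ⟨e⟩ := exists_iso_push_structure c (bijective_app_of_birational c hZ hc.apply_genericPoint hbir)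
  refine isZero_stalk_Rpush_one c.base e hX hH2 z hz W₀ hzW fun U hU w hw hwz => ?_
  obtain ⟨W, hW, hwW, hWle⟩ := exists_isAffineOpen_mem_and_subset (x := w)
    (U := (U : Z.Opens) ⊓ O) ⟨hw, hW₀ w (hU hw) hwz⟩
  haveI : IsIso (c ∣_ W) := isIso_restrict_mono c (le_trans hWle inf_le_right)
  haveI : IsAffine (W : Scheme.{u}) := hW
  have hWa : IsAffineOpen (c ⁻¹ᵁ W) := IsAffine.of_isIso (c ∣_ W)
  refine ⟨W, le_trans hWle inf_le_left, hwW, ?_⟩
  have h := subsingleton_HU_one_structure (c ⁻¹ᵁ W) (c ⁻¹ᵁ W) hWa hWa fun a =>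
    ⟨X.presheaf.map (homOfLE (le_inf le_rfl le_rfl : c ⁻¹ᵁ W ≤ c ⁻¹ᵁ W ⊓ c ⁻¹ᵁ W)).op a, 0, by
      rw [map_zero, add_zero, ← ConcreteCategory.comp_apply, ← Functor.map_comp,
        show (homOfLE (le_inf le_rfl le_rfl : c ⁻¹ᵁ W ≤ c ⁻¹ᵁ W ⊓ c ⁻¹ᵁ W)).op ≫ (homOfLE inf_le_left).op = 𝟙 _
          from Subsingleton.elim _ _, X.presheaf.map_id]
      rfl⟩
  rw [sup_idem] at h
  exact h

open LocalChange in
/-- The functions on the local model have no first cohomology. -/
theorem subsingleton_HH_one_loc {X Z : Scheme.{u}} (c : X ⟶ Z) [IsProper c] (z : Z)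
    (h : IsZero (TopCat.Presheaf.stalk ((Coh.RpushAb c 1).obj (Coh.toAb (Coh.structureModule X))).obj z)) :
    Subsingleton (Coh.HH (loc c z) (Coh.structureModule (loc c z)) 1) := by
  haveI := KFlatLib.hasInjectiveResolutions_modules (X := X)
  obtain ⟨e₁⟩ := QCoh.nonempty_RpushAb_iso c (Coh.structureModule X) 0
  obtain ⟨e₂⟩ := QCoh.nonempty_Rpush_iso c (Coh.structureModule X) 0
  letI : (loc c z).Over (Spec (CommRingCat.of (Z.presheaf.stalk z))) := ⟨str c z⟩
  have hsq : IsPullback (incl c z) ((loc c z) ↘ Spec (CommRingCat.of (Z.presheaf.stalk z))) c (Z.fromSpecStalk z) :=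
    IsPullback.of_hasPullback _ _
  let eF : (Coh.RpushAb c 1).obj (Coh.toAb (Coh.structureModule X)) ≅
      Coh.toAb ((Coh.Rpush c 1).obj (Coh.structureModule X)) :=
    e₁ ≪≫ (QCoh.toAbFunctor Z).mapIso e₂.symm
  have h0 : IsZero (TopCat.Presheaf.stalk (Coh.toAb ((Coh.Rpush c 1).obj (Coh.structureModule X))).obj z) :=
    h.of_iso ((TopCat.Presheaf.stalkFunctor AddCommGrpCat z).mapIso ((sheafToPresheaf _ _).mapIso eF)).symm
  haveI hsub : Subsingleton ↑(((Coh.Rpush c 1).obj (Coh.structureModule X)).presheaf.stalk z) :=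
    AddCommGrpCat.subsingleton_of_isZero h0
  obtain ⟨e₃⟩ := QCoh.nonempty_stalk_HH c QCoh.isQCoh_structureModule z 1 (loc c z) (incl c z) hsq
  obtain ⟨i⟩ := PicClLib.nonempty_pullback_structureModule (incl c z)
  exact QCoh.subsingleton_HH_of_iso i 1 e₃.symm.toEquiv.subsingleton

end Groth.Agent.ResSurf
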