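import Groth.Agent.ResSurf.FibreIdealPow
import Groth.Agent.ResSurf.Modif
import Groth.Agent.ResSurf.BlowInt
import Groth.Agent.BlowUpLib.Glue

/-!
# The blowing up of a rational singularity in its closed point is normal
-/

universe u

open CategoryTheory CategoryTheory.Limits AlgebraicGeometry TopologicalSpace Opposite IsLocalRing

set_option autoImplicit false
set_option backward.isDefEq.respectTransparency false
set_option backward.isDefEq.respectTransparency.types false
set_option linter.style.haveILetI false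

namespace Groth.Agent.ResSurf.RatBlowup

open Groth.Agent Groth.Agent.ResSurf.PowSections

/-- Normality can be checked on an open cover. -/
theorem isNormalScheme_of_cover {X : Scheme.{u}}
    (h : ∀ x : X, ∃ (U : Scheme.{u}) (j : U ⟶ X), IsOpenImmersion j ∧ x ∈ Set.range j ∧ Pi1.IsNormalScheme U) :
    Pi1.IsNormalScheme X := by
  intro x
  obtain ⟨U, j, hj, ⟨z, rfl⟩, hU⟩ := h x
  let e := (asIso (j.stalkMap z)).commRingCatIsoToRingEquiv
  haveI := (hU z).1
  haveI := (hU z).2
  exact ⟨e.toMulEquiv.isDomain _, IsIntegrallyClosed.of_equiv e.symm⟩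

/-- Membership in an ideal sheaf can be checked on an affine cover. -/
theorem mem_of_cover {X : Scheme.{u}} (J : X.IdealSheafData) (c : Γ(X, ⊤)) {κ : Type u} (W : κ → X.affineOpens)
    (hW : ∀ p : X, ∃ i, p ∈ (W i).1) (h : ∀ i, res (le_top : (W i).1 ≤ ⊤) c ∈ J.ideal (W i)) (U : X.affineOpens) :
    res (le_top : U.1 ≤ ⊤) c ∈ J.ideal U := by
  have h0 : J.subschemeι.app ⊤ c = 0 := by
    refine TopCat.Sheaf.eq_of_locally_eq' J.subscheme.sheaf (fun i => J.subschemeι ⁻¹ᵁ (W i).1)
      (J.subschemeι ⁻¹ᵁ ⊤) (fun i => homOfLE le_top) (fun x _ => ?_) _ _ fun i => ?_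
    · obtain ⟨i, hi⟩ := hW (J.subschemeι x)
      exact Opens.mem_iSup.2 ⟨i, hi⟩
    · rw [map_zero]
      refine ((congr($(J.subschemeι.naturality (homOfLE (le_top : (W i).1 ≤ ⊤)).op) c)).symm.trans ?_)
      show J.subschemeι.app (W i).1 (res le_top c) = 0
      rw [← RingHom.mem_ker, J.ker_subschemeι_app]
      exact h i
  rw [← J.ker_subschemeι_app U, RingHom.mem_ker]
  show J.subschemeι.app U.1 (X.presheaf.map (homOfLE (le_top : U.1 ≤ ⊤)).op c) = 0
  rw [← ConcreteCategory.comp_apply, Scheme.Hom.naturality, ConcreteCategory.comp_apply, h0, map_zero]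

variable {A : Type u} [CommRing A] [IsDomain A] [IsLocalRing A] [IsNoetherianRing A] [IsIntegrallyClosed A]
  {X : Scheme.{u}} (f : X ⟶ Spec (CommRingCat.of A))

/-- A modification of a normal affine scheme has no other global functions. -/
theorem bijective_toGlobal [IsProper f] [IsIntegral X] (hf : IsBirat f) :
    Function.Bijective (Coh.toGlobal f) := by
  have hbir : Function.Bijective ((Spec (CommRingCat.of A)).presheaf.stalkSpecializes
      (specializes_of_eq hf.apply_genericPoint) ≫ f.stalkMap (genericPoint X)).hom := by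
    haveI : ValuationRing ((Spec (CommRingCat.of A)).presheaf.stalk (f (genericPoint X))) := by
      rw [hf.apply_genericPoint]; exact inferInstanceAs (ValuationRing (Spec (CommRingCat.of A)).functionField)
    haveI : IsIso (f.stalkMap (genericPoint X)) :=
      (ConcreteCategory.isIso_iff_bijective _).2 (hf.bijective_stalkMap _)
    haveI : IsIso ((Spec (CommRingCat.of A)).presheaf.stalkSpecializes (specializes_of_eq hf.apply_genericPoint)) :=
      (TopCat.Presheaf.stalkCongr (Spec (CommRingCat.of A)).presheaf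
        (Inseparable.of_eq hf.apply_genericPoint.symm)).isIso_hom
    exact ConcreteCategory.bijective_of_isIso _
  exact (bijective_app_of_birational f (FibreIdealPow.isNormalScheme_Spec A) hf.apply_genericPoint hbir ⊤).comp
    (Scheme.ΓSpecIso (CommRingCat.of A)).commRingCatIsoToRingEquiv.symm.bijective

/-- A fraction integral over an affine blowing up algebra of the maximal ideal is, after clearing
denominators, given by an element of a power of the maximal ideal. -/
theorem exists_mem_pow (hdim : ringKrullDim A = 2) [IsProper f] [IsIntegral X] (hXn : Pi1.IsNormalScheme X)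
    (hA : Curv2.IsRationalSing A) (U₀ : (Spec (CommRingCat.of A)).Opens)
    (hU₀ : (U₀ : Set (Spec (CommRingCat.of A))).Nonempty) [IsIso (f ∣_ U₀)]
    (hE : BlowUp.IsEffCartierIdeal ((Curv2.idealSheaf A (maximalIdeal A)).comap f))
    (a : maximalIdeal A) (ha : (a : A) ≠ 0) (y : A) (k : ℕ) (l : Localization.Away (a : A))
    (hl : l * algebraMap A _ (a : A) ^ k = algebraMap A _ y)
    (hint : IsIntegral (BlowUp.affineAlgebra A (maximalIdeal A) (a : A)) l) :
    ∃ (n : ℕ) (c : A), c ∈ maximalIdeal A ^ n ∧ y * (a : A) ^ n = (a : A) ^ k * c := by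
  classical
  haveI : CompactSpace X := QuasiCompact.compactSpace_of_compactSpace f
  have hglob := bijective_toGlobal f (isBirat_of_isIso_restrict f U₀ hU₀)
  set I := (Curv2.idealSheaf A (maximalIdeal A)).comap f with hIdef
  let τ := fun U : X.Opens => (res (le_top : U ≤ ⊤)).comp (Coh.toGlobal f)
  obtain ⟨s, hs⟩ := IsNoetherian.noetherian (maximalIdeal A)
  have hgen : ∀ U : X.affineOpens, I.ideal U =
      Ideal.span (Set.range fun i : (s : Set A) => res (le_top : U.1 ≤ ⊤) (Coh.toGlobal f i.1)) := fun U => by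
    rw [show I.ideal U = _ from FibreIdealPow.comap_ideal f (maximalIdeal A) U, ← hs, Ideal.submodule_span_eq,
      Ideal.map_span]
    refine congrArg Ideal.span ?_
    rw [Set.image_eq_range]
    rfl
  choose W j hpW hWO hj0 hWI using fun p : X =>
    exists_principal (fun i : (s : Set A) => Coh.toGlobal f i.1) I hgen hE p ⊤ trivial
  have hne : ∀ p, Nonempty ((W p).1 : Scheme.{u}) := fun p => ⟨⟨p, hpW p⟩⟩
  have hτ0 : ∀ (U : X.Opens) [Nonempty (U : Scheme.{u})] (b : A), b ≠ 0 → τ U b ≠ 0 := fun U _ b hb h => by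
    refine hb (hglob.1 (map_injective_of_isIntegral X (homOfLE (le_top : U ≤ ⊤)) ?_))
    rw [map_zero, map_zero]
    exact h
  -- the relation on each member of the cover
  have key : ∀ p, ∃ N : ℕ, ∀ n, N ≤ n → ∃ c ∈ (I ^ n).ideal (W p),
      τ (W p).1 (y * (a : A) ^ n) = τ (W p).1 (a : A) ^ k * c := by
    intro p
    haveI := hne p
    haveI : IsDomain Γ(X, (W p).1) := IsIntegral.component_integral _
    set t := res (le_top : (W p).1 ≤ ⊤) (Coh.toGlobal f (j p).1) with ht
    obtain ⟨u, hu⟩ : ∃ u, u * t = τ (W p).1 (a : A) := by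
      rw [← Ideal.mem_span_singleton', ← hWI p, show I.ideal (W p) = _ from FibreIdealPow.comap_ideal f _ (W p)]
      exact Ideal.mem_map_of_mem _ a.2
    have hu0 : u ≠ 0 := fun h => hτ0 (W p).1 (a : A) ha (by rw [← hu, h, zero_mul])
    let D : X.Opens := X.basicOpen u
    have hDW : D ≤ (W p).1 := X.basicOpen_le u
    haveI : Nonempty (D : Scheme.{u}) := by
      obtain ⟨x, hx⟩ := Opens.ne_bot_iff_nonempty _ |>.1 (fun h => hu0 ((basicOpen_eq_bot_iff u).1 h))
      exact ⟨⟨x, hx⟩⟩
    haveI : IsDomain Γ(X, D) := IsIntegral.component_integral _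
    haveI := isIntegrallyClosed_affine' hXn ((W p).2.basicOpen u)
    letI : Algebra Γ(X, (W p).1) Γ(X, D) := (res hDW).toAlgebra
    haveI : IsLocalization.Away u Γ(X, D) := (W p).2.isLocalization_basicOpen u
    let φ : A →+* Γ(X, D) := (res hDW).comp (τ (W p).1)
    have hu' : IsUnit (res hDW u) := IsLocalization.Away.algebraMap_isUnit (S := Γ(X, D)) u
    have hφa0 : φ (a : A) ≠ 0 := fun h => hτ0 (W p).1 (a : A) ha
      (map_injective_of_isIntegral X (homOfLE hDW) (h.trans (map_zero _).symm))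
    have hφI : (maximalIdeal A).map φ ≤ Ideal.span {φ (a : A)} := by
      rw [← Ideal.map_map, ← show I.ideal (W p) = _ from FibreIdealPow.comap_ideal f _ (W p), hWI p, Ideal.map_span,
        Set.image_singleton, Ideal.span_singleton_le_iff_mem,
        show φ (a : A) = res hDW u * res hDW t by rw [← map_mul, hu]; rfl,
        Ideal.span_singleton_mul_left_unit hu']
      exact Ideal.mem_span_singleton_self _
    obtain ⟨ψ, hψ⟩ := BlowUpLib.exists_hom_affineAlgebra (maximalIdeal A) a φ
      (mem_nonZeroDivisors_iff_ne_zero.2 hφa0) hφI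
    let K := FractionRing Γ(X, D)
    have hKa : IsUnit (((algebraMap Γ(X, D) K).comp φ) (a : A)) :=
      isUnit_iff_ne_zero.2 fun h => hφa0 (IsFractionRing.injective Γ(X, D) K (h.trans (map_zero _).symm))
    let lA : Localization.Away (a : A) →+* K := IsLocalization.Away.lift (a : A) hKa
    have hlA : ∀ r : A, lA (algebraMap A _ r) = algebraMap Γ(X, D) K (φ r) :=
      fun r => IsLocalization.Away.lift_eq (a : A) _ r
    have hcomp : (algebraMap Γ(X, D) K).comp ψ = lA.comp
        (algebraMap (BlowUp.affineAlgebra A (maximalIdeal A) (a : A)) (Localization.Away (a : A))) :=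
      BlowUpLib.hom_ext_affineAlgebra (maximalIdeal A) a (φ := (algebraMap Γ(X, D) K).comp φ)
        (by rw [RingHom.comp_assoc, hψ]) (RingHom.ext fun r => hlA r) hKa.mem_nonZeroDivisors
    obtain ⟨w, hw⟩ := IsIntegrallyClosed.isIntegral_iff.1 (hint.map_of_comp_eq ψ lA hcomp)
    have hwy : w * φ (a : A) ^ k = φ y := IsFractionRing.injective Γ(X, D) K (by
      rw [map_mul, map_pow, hw, ← hlA, ← hlA, ← map_pow, ← map_mul, hl])
    obtain ⟨N, w', hw'⟩ := IsLocalization.Away.surj u w
    have hrel : u ^ N * τ (W p).1 y = w' * τ (W p).1 (a : A) ^ k :=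
      map_injective_of_isIntegral X (homOfLE hDW) (by
        show res hDW _ = res hDW _
        rw [map_mul, map_mul, map_pow, map_pow, show res hDW (τ (W p).1 y) = φ y from rfl,
          show res hDW (τ (W p).1 (a : A)) = φ (a : A) from rfl, ← hwy,
          show res hDW w' = _ from hw'.symm]
        show _ = w * res hDW u ^ N * _
        ring)
    refine ⟨N, fun n hn => ⟨t ^ n * (u ^ (n - N) * w'), ?_, ?_⟩⟩
    · rw [Scheme.IdealSheafData.ideal_pow, Pi.pow_apply, hWI p, Ideal.span_singleton_pow]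
      exact Ideal.mem_span_singleton'.2 ⟨_, mul_comm _ _⟩
    · rw [map_mul, map_pow, ← hu, mul_pow]
      rw [← hu] at hrel
      conv_lhs => rw [show u ^ n = u ^ (n - N) * u ^ N by rw [← pow_add, Nat.sub_add_cancel hn]]
      linear_combination t ^ n * u ^ (n - N) * hrel
  choose N hN using key
  obtain ⟨T, hT⟩ := isCompact_univ.elim_finite_subcover (fun p : X => ((W p).1 : Set X))
    (fun p => (W p).1.isOpen) fun p _ => Set.mem_iUnion.2 ⟨p, hpW p⟩
  have hcov : ∀ q : X, ∃ i : T, q ∈ (W i.1).1 := fun q => by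
    obtain ⟨i, hi, hq⟩ := Set.mem_iUnion₂.1 (hT (Set.mem_univ q))
    exact ⟨⟨i, hi⟩, hq⟩
  refine ⟨T.sup N, ?_⟩
  choose c hc hck using fun i : T => hN i.1 (T.sup N) (Finset.le_sup i.2)
  have hcompat : ∀ i i' : T, res (inf_le_left : (W i.1).1 ⊓ (W i'.1).1 ≤ (W i.1).1) (c i) =
      res (inf_le_right : (W i.1).1 ⊓ (W i'.1).1 ≤ (W i'.1).1) (c i') := fun i i' => by
    rcases isEmpty_or_nonempty (((W i.1).1 ⊓ (W i'.1).1 : X.Opens) : Scheme.{u}) with hV | hV
    · haveI : Subsingleton Γ(X, (W i.1).1 ⊓ (W i'.1).1) := by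
        rw [show (W i.1).1 ⊓ (W i'.1).1 = ⊥ from eq_bot_iff.2 fun x hx => (hV.false ⟨x, hx⟩).elim]
        infer_instance
      exact Subsingleton.elim _ _
    · haveI : IsDomain Γ(X, (W i.1).1 ⊓ (W i'.1).1) := IsIntegral.component_integral _
      have h1 := congrArg (res (inf_le_left : (W i.1).1 ⊓ (W i'.1).1 ≤ (W i.1).1)) (hck i)
      have h2 := congrArg (res (inf_le_right : (W i.1).1 ⊓ (W i'.1).1 ≤ (W i'.1).1)) (hck i')
      simp only [τ, RingHom.comp_apply, map_mul, map_pow, res_res] at h1 h2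
      exact mul_left_cancel₀ (pow_ne_zero k (hτ0 _ (a : A) ha)) (h1.symm.trans h2)
  obtain ⟨g, hg, -⟩ := X.sheaf.existsUnique_gluing' (fun i : T => (W i.1).1) ⊤ (fun i => homOfLE le_top)
    (fun q _ => Opens.mem_iSup.2 (hcov q)) c hcompat
  obtain ⟨c₀, rfl⟩ := hglob.2 g
  refine ⟨c₀, ((FibreIdealPow.main f hdim hXn hA U₀ hU₀ hE (T.sup N)).2 c₀).1 fun U => ?_, ?_⟩
  · refine mem_of_cover _ (Coh.toGlobal f c₀) (fun i : T => W i.1) hcov (fun i => ?_) U
    show res (le_top : (W i.1).1 ≤ ⊤) (Coh.toGlobal f c₀) ∈ _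
    rw [show res (le_top : (W i.1).1 ≤ ⊤) (Coh.toGlobal f c₀) = c i from hg i]
    exact hc i
  · obtain ⟨p, -⟩ : ∃ p : X, True := ⟨genericPoint X, trivial⟩
    obtain ⟨i, hi⟩ := hcov p
    haveI : Nonempty ((W i.1).1 : Scheme.{u}) := ⟨⟨p, hi⟩⟩
    refine hglob.1 (map_injective_of_isIntegral X (homOfLE (le_top : (W i.1).1 ≤ ⊤)) ?_)
    show τ (W i.1).1 _ = τ (W i.1).1 _
    rw [hck i, map_mul (τ (W i.1).1), map_pow (τ (W i.1).1) (a : A)]
    exact congrArg _ (hg i).symm

/-- The affine blowing up algebras of the maximal ideal of a rational singularity are normal. -/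
theorem isIntegrallyClosed_affineAlgebra (hdim : ringKrullDim A = 2) [IsProper f] [IsIntegral X]
    (hXn : Pi1.IsNormalScheme X) (hA : Curv2.IsRationalSing A) (U₀ : (Spec (CommRingCat.of A)).Opens)
    (hU₀ : (U₀ : Set (Spec (CommRingCat.of A))).Nonempty) [IsIso (f ∣_ U₀)]
    (hE : BlowUp.IsEffCartierIdeal ((Curv2.idealSheaf A (maximalIdeal A)).comap f))
    (a : maximalIdeal A) (ha : (a : A) ≠ 0) :
    IsDomain (BlowUp.affineAlgebra A (maximalIdeal A) (a : A)) ∧
      IsIntegrallyClosed (BlowUp.affineAlgebra A (maximalIdeal A) (a : A)) := by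
  let L := Localization.Away (a : A)
  let R := BlowUp.affineAlgebra A (maximalIdeal A) (a : A)
  have hle : Submonoid.powers (a : A) ≤ nonZeroDivisors A :=
    Submonoid.powers_le.2 (mem_nonZeroDivisors_iff_ne_zero.2 ha)
  haveI : IsDomain L := IsLocalization.isDomain_of_le_nonZeroDivisors _ hle
  haveI : IsIntegrallyClosed L := isIntegrallyClosed_of_isLocalization L _ hle
  refine ⟨inferInstanceAs (IsDomain R), ?_⟩
  let K := FractionRing L
  haveI : FaithfulSMul R K := (faithfulSMul_iff_algebraMap_injective R K).2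
    ((IsFractionRing.injective L K).comp Subtype.val_injective)
  haveI : IsFractionRing R K := IsFractionRing.of_field R K fun z => by
    obtain ⟨l₁, l₂, -, rfl⟩ := IsFractionRing.div_surjective L z
    obtain ⟨n₁, x₁, h₁⟩ := IsLocalization.Away.surj (a : A) l₁
    obtain ⟨n₂, x₂, h₂⟩ := IsLocalization.Away.surj (a : A) l₂
    refine ⟨algebraMap A R (x₁ * (a : A) ^ n₂), algebraMap A R (x₂ * (a : A) ^ n₁), ?_⟩
    have hu : algebraMap L K (algebraMap A L (a : A)) ≠ 0 :=
      ((IsLocalization.Away.algebraMap_isUnit (S := L) (a : A)).map (algebraMap L K)).ne_zero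
    have e : ∀ x, algebraMap R K (algebraMap A R x) = algebraMap L K (algebraMap A L x) := fun _ => rfl
    simp only [e, map_mul, map_pow, ← h₁, ← h₂]
    rw [mul_assoc, mul_assoc, mul_comm (algebraMap L K (algebraMap A L (a : A)) ^ n₂),
      mul_div_mul_right _ _ (mul_ne_zero (pow_ne_zero _ hu) (pow_ne_zero _ hu))]
  refine (isIntegrallyClosed_iff K).2 fun {z} hz => ?_
  obtain ⟨l, rfl⟩ := IsIntegrallyClosed.isIntegral_iff.1 (hz.tower_top (A := L))
  rw [isIntegral_algebraMap_iff (IsFractionRing.injective L K)] at hz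
  obtain ⟨k, y, hl⟩ := IsLocalization.Away.surj (a : A) l
  obtain ⟨n, c, hc, hyc⟩ := exists_mem_pow f hdim hXn hA U₀ hU₀ hE a ha y k l hl hz
  refine ⟨⟨l, ?_⟩, rfl⟩
  have hu : IsUnit (algebraMap A L (a : A)) := IsLocalization.Away.algebraMap_isUnit (a : A)
  have hlc : l = algebraMap A L c * IsLocalization.Away.invSelf (a : A) ^ n := by
    refine (hu.pow (k + n)).mul_left_inj.1 ?_
    rw [pow_add, ← mul_assoc, hl, ← map_pow, ← map_mul, hyc, map_mul, map_pow, map_pow]
    rw [show algebraMap A L c * IsLocalization.Away.invSelf (a : A) ^ n *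
      (algebraMap A L (a : A) ^ k * algebraMap A L (a : A) ^ n) = algebraMap A L (a : A) ^ k * algebraMap A L c *
      (algebraMap A L (a : A) * IsLocalization.Away.invSelf (a : A)) ^ n by rw [mul_pow]; ring,
      IsLocalization.Away.mul_invSelf, one_pow, mul_one]
  exact hlc ▸ BlowUpLib.mul_invSelf_pow_mem (maximalIdeal A) a n c hc

omit [IsIntegrallyClosed A] in
/-- A blowing up in a nonzero closed point is an isomorphism over a nonempty open, and dominated by a normal
modification. -/
theorem exists_normal_over (hN : CAlg.IsNagata A) (hdim : ringKrullDim A = 2) :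
    ∃ (X' : Scheme.{u}) (g : X' ⟶ Spec (CommRingCat.of A)) (_ : IsProper g) (_ : IsIntegral X'),
      Pi1.IsNormalScheme X' ∧
      BlowUp.IsEffCartierIdeal ((Curv2.idealSheaf A (maximalIdeal A)).comap g) ∧
      ∃ V : (Spec (CommRingCat.of A)).Opens, (V : Set (Spec (CommRingCat.of A))).Nonempty ∧ IsIso (g ∣_ V) := by
  set C := Curv2.idealSheaf A (maximalIdeal A)
  have hbot : maximalIdeal A ≠ ⊥ := fun h => by
    have := ringKrullDim_eq_zero_of_isField ((isField_iff_maximalIdeal_eq).2 h)
    rw [hdim] at this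
    exact two_ne_zero this
  have hb : BlowUp.IsBlowUp (BlowUpLib.toBase (maximalIdeal A)) C := BlowUpLib.isBlowUp_local _
  have hgen : genericPoint (Spec (CommRingCat.of A)) ∉ C.support := by
    intro h
    obtain ⟨t, ht, ht0⟩ := Submodule.exists_mem_ne_zero_of_ne_bot hbot
    rw [← SetLike.mem_coe, show C = Scheme.IdealSheafData.ofIdealTop _ from rfl,
      Scheme.IdealSheafData.coe_support_ofIdealTop] at h
    have h2 := (Scheme.mem_zeroLocus_iff _ _ _).1 h _ (Ideal.mem_map_of_mem _ ht)
    refine h2 ?_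
    show genericPoint _ ∈ (Spec (CommRingCat.of A)).basicOpen ((Scheme.ΓSpecIso (CommRingCat.of A)).inv t)
    rw [basicOpen_eq_of_affine]
    show t ∉ (genericPoint (Spec (CommRingCat.of A))).asIdeal
    rw [genericPoint_eq_bot_of_affine (CommRingCat.of A)]
    exact fun h0 => ht0 h0
  haveI : IsIntegral (BlowUpLib.localBlowUp (maximalIdeal A)) := BlowInt.isIntegral hb hgen
  haveI : IsProper (BlowUpLib.toBase (maximalIdeal A)) :=
    BlowUpLib.isProper_toBase _ (IsNoetherian.noetherian _)
  haveI := BlowUpLib.isIso_restrict hb (ModPair.interior C) le_rfl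
  have hne : (ModPair.interior C : Set (Spec (CommRingCat.of A))).Nonempty := ⟨_, hgen⟩
  obtain ⟨X', ν, hν, hX', hn, V, hV, hiso⟩ := exists_normal_modification (nagata_Spec hN)
    (BlowUpLib.toBase (maximalIdeal A)) (ModPair.interior C) hne
  haveI := hν
  haveI := hX'
  haveI := hiso
  refine ⟨X', ν ≫ BlowUpLib.toBase (maximalIdeal A), inferInstance, hX', hn, ?_, V, hV, hiso⟩
  have hbir := isBirat_of_isIso_restrict (ν ≫ BlowUpLib.toBase (maximalIdeal A)) V hV
  intro x
  obtain ⟨W, hxW, r, -, hr⟩ := hb.1 (ν x)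
  obtain ⟨D, hD, hxD, hDW⟩ := exists_isAffineOpen_mem_and_subset (x := x) (U := ν ⁻¹ᵁ W.1) hxW
  haveI : Nonempty (D : Scheme.{u}) := ⟨⟨x, hxD⟩⟩
  haveI : IsDomain Γ(X', D) := IsIntegral.component_integral _
  have hDI : (C.comap (ν ≫ BlowUpLib.toBase (maximalIdeal A))).ideal ⟨D, hD⟩ =
      Ideal.span {(ν.appLE W.1 D hDW).hom r} := by
    rw [Scheme.IdealSheafData.comap_comp, ModPairLib.ideal_comap _ ν W ⟨D, hD⟩ hDW, hr, Ideal.map_span,
      Set.image_singleton]
  refine ⟨⟨D, hD⟩, hxD, _, mem_nonZeroDivisors_iff_ne_zero.2 fun h0 => ?_, hDI⟩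
  rw [h0, Ideal.span_singleton_zero] at hDI
  have hη : genericPoint X' ∈ D := ((genericPoint_spec X').mem_open_set_iff D.isOpen).2 ⟨x, trivial, hxD⟩
  have : genericPoint X' ∈ (C.comap (ν ≫ BlowUpLib.toBase (maximalIdeal A))).support := by
    rw [Scheme.IdealSheafData.mem_support_iff_of_mem (U := ⟨D, hD⟩) hη, hDI, Scheme.mem_zeroLocus_iff]
    intro z hz
    rw [Submodule.bot_coe, Set.mem_singleton_iff] at hz
    rw [hz, Scheme.basicOpen_zero]
    exact not_false
  rw [← SetLike.mem_coe, Scheme.IdealSheafData.support_comap] at this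
  exact hgen (hbir.apply_genericPoint ▸ this)

/-- The blowing up in the closed point of a two dimensional rational singularity is normal. -/
theorem isNormalScheme (hN : CAlg.IsNagata A) (hdim : ringKrullDim A = 2) (hA : Curv2.IsRationalSing A)
    {Y : Scheme.{u}} (b : Y ⟶ Spec (CommRingCat.of A))
    (hb : BlowUp.IsBlowUp b (Curv2.idealSheaf A (maximalIdeal A))) : Pi1.IsNormalScheme Y := by
  obtain ⟨X', g, hg, hX', hn, hE, V, hV, hiso⟩ := exists_normal_over hN hdim
  haveI := hg
  haveI := hX'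
  haveI := hiso
  have hB : Pi1.IsNormalScheme (BlowUpLib.localBlowUp (maximalIdeal A)) := by
    refine isNormalScheme_of_cover fun x => ?_
    obtain ⟨a, hx⟩ := BlowUpLib.chart_covers (maximalIdeal A) x
    have ha : (a : A) ≠ 0 := fun h => by
      obtain ⟨z, -⟩ := hx
      haveI : Subsingleton (Localization.Away (a : A)) :=
        IsLocalization.subsingleton (M := Submonoid.powers (a : A)) ⟨1, show (a : A) ^ 1 = 0 by rw [pow_one, h]⟩
      exact z.2.ne_top (Subsingleton.elim _ _)
    obtain ⟨h1, h2⟩ := isIntegrallyClosed_affineAlgebra g hdim hn hA V hV hE a ha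
    haveI := h1
    haveI := h2
    exact ⟨_, BlowUpLib.chart _ a, inferInstance, hx, FibreIdealPow.isNormalScheme_Spec _⟩
  obtain ⟨e, he⟩ := BlowUpLib.exists_iso hb (BlowUpLib.isBlowUp_local (maximalIdeal A))
  exact isNormalScheme_of_cover fun y =>
    ⟨_, e.inv, inferInstance, ⟨e.hom y, by rw [← Scheme.Hom.comp_apply, e.hom_inv_id]; rfl⟩, hB⟩

end Groth.Agent.ResSurf.RatBlowup
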