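import Groth.Agent.ResSurf.RatLocal
import Groth.Agent.ResSurf.LerayLength
import Mathlib.RingTheory.Trace.Basic

/-!
# Rational singularities and finite coverings: the trace
-/

universe u

open CategoryTheory CategoryTheory.Limits AlgebraicGeometry TopologicalSpace Opposite IsLocalRing

set_option autoImplicit false
set_option backward.isDefEq.respectTransparency false
set_option backward.isDefEq.respectTransparency.types false
set_option linter.style.haveILetI false

namespace Groth.Agent.ResSurf.RatFinite

open Groth.Agent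

/-- A normal Noetherian local domain of dimension at most two and different from two is a valuation ring. -/
theorem valuationRing_of_dim_ne_two {R : Type u} [CommRing R] [IsDomain R] [IsLocalRing R] [IsNoetherianRing R]
    [IsIntegrallyClosed R] (h2 : ringKrullDim R ≤ 2) (hne : ringKrullDim R ≠ 2) : ValuationRing R := by
  have h : ringKrullDim R ≤ 1 := by
    have hlt : ringKrullDim R < 2 := lt_of_le_of_ne h2 hne
    revert hlt
    generalize ringKrullDim R = r
    intro hlt
    induction r using WithBot.recBotCoe with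
    | bot => exact bot_le
    | coe n =>
      refine WithBot.coe_le_coe.2 ?_
      have hn : n < 2 := WithBot.coe_lt_coe.1 hlt
      exact Order.le_of_lt_succ (by rwa [show Order.succ (1 : ℕ∞) = 2 from rfl])
  haveI : Ring.DimensionLEOne R :=
    ⟨fun {p} hp hpp => Ring.krullDimLE_one_iff_of_noZeroDivisors.1
      ((Ring.krullDimLE_iff).2 (by exact_mod_cast h)) p hp hpp⟩
  haveI : IsDedekindDomain R := { }
  haveI : IsPrincipalIdealRing R := by
    refine IsPrincipalIdealRing.of_finite_primes ?_
    exact Set.Finite.subset ((Set.finite_singleton (maximalIdeal _)).insert ⊥) fun P hP => by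
      by_cases h0 : P = ⊥
      · exact Or.inl h0
      · exact Or.inr (eq_maximalIdeal (Ring.DimensionLEOne.maximalOfPrime h0 hP))
  exact ValuationRing.iff_local_bezout_domain.2 ⟨inferInstance, inferInstance⟩

open LocalChange in
/-- Normal modifications of a normal affine surface with rational singularities have no first cohomology. -/
theorem subsingleton_HH_one_of_rational {B : Type u} [CommRing B] [IsDomain B] [IsNoetherianRing B]
    [IsIntegrallyClosed B] (hd : ringKrullDim B ≤ 2)
    (hB : ∀ (n : Ideal B) [n.IsMaximal], ringKrullDim (Localization.AtPrime n) = 2 →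
      Curv2.IsRationalSing (Localization.AtPrime n))
    {W : Scheme.{u}} [IsIntegral W] (g : W ⟶ Spec (CommRingCat.of B)) [IsProper g] (hn : Pi1.IsNormalScheme W)
    (V : (Spec (CommRingCat.of B)).Opens) (hV : (V : Set (Spec (CommRingCat.of B))).Nonempty) [IsIso (g ∣_ V)] :
    Subsingleton (Coh.HH W (Coh.structureModule W) 1) := by
  classical
  let S := Spec (CommRingCat.of B)
  letI : W.Over S := ⟨g⟩
  letI : S.Over S := ⟨𝟙 S⟩
  haveI : IsProper (W ↘ S) := ‹IsProper g›
  haveI : HasInjectiveResolutions W.Modules := KFlatLib.hasInjectiveResolutions_modules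
  haveI : IsNoetherian S := inferInstance
  have hdS : topologicalKrullDim S ≤ 2 := (PrimeSpectrum.topologicalKrullDim_eq_ringKrullDim B).le.trans hd
  have hgb : IsBirat g := isBirat_of_isIso_restrict g V hV
  have hSn : Pi1.IsNormalScheme S := isNormalScheme_Spec B
  obtain ⟨T, hTc, hTf, hTp, hiso⟩ := BadPoints.exists_bad g hgb hSn hdS V hV
  let O : S.Opens := ⟨Tᶜ, hTc.isOpen_compl⟩
  haveI : IsIso (g ∣_ O) := hiso
  let F := (Coh.Rpush g 1).obj (Coh.structureModule W)
  have hstalk : ∀ n : S, Subsingleton (F.presheaf.stalk n) := fun n => by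
    by_cases hnT : n ∈ T
    · have hmax : (n : PrimeSpectrum B).asIdeal.IsMaximal :=
        (PrimeSpectrum.isClosed_singleton_iff_isMaximal _).1 (hTp n hnT).1
      let e := (Spec.stalkIso (CommRingCat.of B) n).commRingCatIsoToRingEquiv
      haveI := (hSn n).1
      haveI := (hSn n).2
      have hdim : ringKrullDim (S.presheaf.stalk n) = 2 := by
        by_contra hne
        refine (hTp n hnT).2 (Set.Subsingleton.finite fun a ha b hb => ?_)
        haveI : IsNoetherianRing (S.presheaf.stalk n) := inferInstance
        have h2 : ringKrullDim (S.presheaf.stalk n) ≤ 2 := by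
          rw [DimFormula.ringKrullDim_stalk]
          exact WithBot.coe_le_coe.2 (by exact_mod_cast codim_le_of_dim_le (d := 2) (by exact_mod_cast hdS) n)
        haveI : ValuationRing (S.presheaf.stalk (g a)) := by
          rw [show g a = n from ha]
          exact valuationRing_of_dim_ne_two h2 hne
        exact hgb.eq_of_valuationRing ((ha : g a = n).trans (hb : g b = n).symm)
      have hrat : Curv2.IsRationalSing (S.presheaf.stalk n) :=
        RatLocal.isRationalSing_of_equiv e.symm (hB (n : PrimeSpectrum B).asIdeal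
          ((ringKrullDim_eq_of_ringEquiv e).symm.trans hdim))
      obtain ⟨hLi, -⟩ := isIntegral_loc g n hgb.apply_genericPoint
      haveI := hLi
      haveI : IsProper (str g n) := MorphismProperty.pullback_snd _ _ inferInstance
      haveI : IsIso (str g n ∣_ ((S.fromSpecStalk n) ⁻¹ᵁ O)) :=
        isIso_restrict_of_isPullback (IsPullback.of_hasPullback g (S.fromSpecStalk n)) O
      have hOne : (((S.fromSpecStalk n) ⁻¹ᵁ O : (Spec (S.presheaf.stalk n)).Opens) :
          Set (Spec (S.presheaf.stalk n))).Nonempty := by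
        obtain ⟨q, hq⟩ : genericPoint S ∈ Set.range (S.fromSpecStalk n) := by
          rw [S.range_fromSpecStalk]; exact genericPoint_specializes n
        refine ⟨q, show S.fromSpecStalk n q ∈ O from hq.symm ▸ fun hT => ?_⟩
        exact (hTp _ hT).2 (Set.Subsingleton.finite fun a ha b hb => by
          rw [hgb.eq_genericPoint (z := a) ha, hgb.eq_genericPoint (z := b) hb])
      have hloc := hrat (loc g n) (str g n) inferInstance hLi (isNormalScheme_loc g n hn) ⟨_, hOne, inferInstance⟩
      letI : (loc g n).Over (Spec (CommRingCat.of (S.presheaf.stalk n))) := ⟨str g n⟩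
      have hsq : IsPullback (incl g n) ((loc g n) ↘ Spec (CommRingCat.of (S.presheaf.stalk n))) g (S.fromSpecStalk n) :=
        IsPullback.of_hasPullback _ _
      obtain ⟨e₃⟩ := QCoh.nonempty_stalk_HH g QCoh.isQCoh_structureModule n 1 (loc g n) (incl g n) hsq
      obtain ⟨i⟩ := PicClLib.nonempty_pullback_structureModule (incl g n)
      haveI := QCoh.subsingleton_HH_of_iso i.symm 1 hloc
      exact e₃.toEquiv.subsingleton
    · refine LerayLength.subsingleton_stalk g _ fun W₀ hnW₀ => ?_
      obtain ⟨D, hD, hnD, hDle⟩ := exists_isAffineOpen_mem_and_subset (x := n) (U := W₀ ⊓ O) ⟨hnW₀, hnT⟩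
      haveI : IsIso (g ∣_ D) := isIso_restrict_mono g (le_trans hDle inf_le_right)
      haveI : IsAffine (D : Scheme.{u}) := hD
      have hDa : IsAffineOpen (g ⁻¹ᵁ D) := IsAffine.of_isIso (g ∣_ D)
      refine ⟨D, le_trans hDle inf_le_left, hnD, ?_⟩
      have h := subsingleton_HU_one_structure (g ⁻¹ᵁ D) (g ⁻¹ᵁ D) hDa hDa fun a =>
        ⟨W.presheaf.map (homOfLE (le_inf le_rfl le_rfl : g ⁻¹ᵁ D ≤ g ⁻¹ᵁ D ⊓ g ⁻¹ᵁ D)).op a, 0, by
          rw [map_zero, add_zero, ← ConcreteCategory.comp_apply, ← Functor.map_comp,
            show (homOfLE (le_inf le_rfl le_rfl : g ⁻¹ᵁ D ≤ g ⁻¹ᵁ D ⊓ g ⁻¹ᵁ D)).op ≫ (homOfLE inf_le_left).op = 𝟙 _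
              from Subsingleton.elim _ _, W.presheaf.map_id]
          rfl⟩
      rw [sup_idem] at h
      exact h
  have hΓ : Subsingleton Γ(F, ⊤) := subsingleton_of_forall_eq 0 fun s =>
    TopCat.Presheaf.section_ext ⟨F.presheaf, F.isSheaf⟩ ⊤ s 0 fun n _ => (hstalk n).elim _ _
  have h0 : Subsingleton (Coh.HH S F 0) :=
    @Equiv.subsingleton _ _ (Sheaf.H.equiv₀ (Coh.toAb F) (isTerminalTop : IsTerminal (⊤ : S.Opens))).toEquiv hΓ
  have hq : Coh.IsQCoh ((Coh.push g).obj (Coh.structureModule W)) :=
    QCoh.isQCoh_pushforward g QCoh.isQCoh_structureModule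
  have h2 := QCoh.subsingleton_HH_of_isAffine (X := S) hq 1
  have h1 := QCoh.subsingleton_HH_of_isAffine (X := S) hq 0
  have hlen := LerayLength.length_HH_one B g (Category.comp_id g) (Coh.structureModule W) h2
  rw [Module.length_eq_zero_iff.2 h1, Module.length_eq_zero_iff.2 h0, add_zero] at hlen
  exact Module.length_eq_zero_iff.1 hlen

/-- The trace of a finite covering annihilates first cohomology up to the degree. -/
theorem natCast_smul_eq_zero {A : Type u} [CommRing A] {Y W : Scheme.{u}} [Y.Over (Spec (CommRingCat.of A))]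
    [IsIntegral Y] [IsIntegral W] (π : W ⟶ Y) [IsFinite π] (hY : Pi1.IsNormalScheme Y)
    (e : π (genericPoint W) = genericPoint Y) (d : ℕ)
    (hd : @Module.finrank Y.functionField W.functionField _ _
      (Y.presheaf.stalkSpecializes (specializes_of_eq e) ≫ π.stalkMap (genericPoint W)).hom.toAlgebra.toModule = d)
    (hW : Subsingleton (Coh.HH W (Coh.structureModule W) 1)) (x : Coh.HH Y (Coh.structureModule Y) 1) :
    (d : A) • x = 0 := by
  classical
  rcases Nat.eq_zero_or_pos d with rfl | hpos
  · rw [Nat.cast_zero]; exact zero_smul A x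
  let ψ : Y.functionField ⟶ W.functionField :=
    Y.presheaf.stalkSpecializes (specializes_of_eq e) ≫ π.stalkMap (genericPoint W)
  letI : Algebra Y.functionField W.functionField := ψ.hom.toAlgebra
  haveI : FiniteDimensional Y.functionField W.functionField := Module.finite_of_finrank_pos (hd.symm ▸ hpos)
  let η := genericPoint Y
  have hπ : ∀ {U : Y.Opens}, η ∈ U → genericPoint W ∈ π ⁻¹ᵁ U := fun {U} h => show π _ ∈ U from e.symm ▸ h
  have hψ : ∀ (U : Y.Opens) (h : η ∈ U) (a : Γ(Y, U)),
      ψ (Y.presheaf.germ U η h a) = W.presheaf.germ (π ⁻¹ᵁ U) (genericPoint W) (hπ h) (π.app U a) := fun U h a => by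
    show (π.stalkMap (genericPoint W)) (Y.presheaf.stalkSpecializes (specializes_of_eq e) (Y.presheaf.germ U η h a)) = _
    rw [TopCat.Presheaf.germ_stalkSpecializes_apply]
    exact π.germ_stalkMap_apply U (genericPoint W) (hπ h) a
  let Tr := Algebra.trace Y.functionField W.functionField
  let P : ∀ U : Y.Opens, Γ(W, π ⁻¹ᵁ U) → Γ(Y, U) → Prop := fun U s t =>
    ∀ h : η ∈ U, Y.presheaf.germ U η h t = Tr (W.presheaf.germ (π ⁻¹ᵁ U) (genericPoint W) (hπ h) s)
  have huniq : ∀ U s t t', P U s t → P U s t' → t = t' := fun U s t t' h h' => by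
    by_cases hη : η ∈ U
    · exact germ_injective_of_isIntegral (X := Y) η hη ((h hη).trans (h' hη).symm)
    · haveI : Subsingleton Γ(Y, U) := by
        rw [show U = ⊥ from eq_bot_iff.2 fun z hz =>
          (hη (((genericPoint_spec Y).mem_open_set_iff U.isOpen).2 ⟨z, trivial, hz⟩)).elim]
        infer_instance
      exact Subsingleton.elim _ _
  have hres : ∀ (U V : Y.Opens) (i : V ≤ U) s t, P U s t →
      P V (W.presheaf.map (homOfLE (π.preimage_mono i)).op s) (Y.presheaf.map (homOfLE i).op t) :=
    fun U V i s t h hη => by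
      rw [TopCat.Presheaf.germ_res_apply, TopCat.Presheaf.germ_res_apply]
      exact h (i hη)
  have haff : ∀ (U : Y.Opens), IsAffineOpen U → η ∈ U → ∀ s, ∃ t, P U s t := fun U hU hη s => by
    haveI : Nonempty (U : Scheme.{u}) := ⟨⟨η, hη⟩⟩
    haveI : IsDomain Γ(Y, U) := IsIntegral.component_integral U
    haveI : IsFractionRing Γ(Y, U) Y.functionField := functionField_isFractionRing_of_isAffineOpen Y U hU
    haveI := isIntegrallyClosed_affine' hY hU
    letI : Algebra Γ(Y, U) W.functionField := (ψ.hom.comp (algebraMap Γ(Y, U) Y.functionField)).toAlgebra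
    haveI : IsScalarTower Γ(Y, U) Y.functionField W.functionField := IsScalarTower.of_algebraMap_eq fun _ => rfl
    have hint : IsIntegral Γ(Y, U) (W.presheaf.germ (π ⁻¹ᵁ U) (genericPoint W) (hπ hη) s) := by
      have h := (IsFinite.finite_app (f := π) U hU).to_isIntegral s
      obtain ⟨p, hp, hp0⟩ := h
      refine ⟨p, hp, ?_⟩
      · have h3 := congrArg (W.presheaf.germ (π ⁻¹ᵁ U) (genericPoint W) (hπ hη)).hom hp0
        rw [map_zero, Polynomial.hom_eval₂] at h3
        rw [show algebraMap Γ(Y, U) W.functionField =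
          (W.presheaf.germ (π ⁻¹ᵁ U) (genericPoint W) (hπ hη)).hom.comp (π.app U).hom from
            RingHom.ext fun a => hψ U hη a]
        exact h3
    obtain ⟨t, ht⟩ := IsIntegrallyClosed.isIntegral_iff.1
      (Algebra.isIntegral_trace (L := Y.functionField) hint)
    exact ⟨t, fun _ => ht⟩
  have hex : ∀ U s, ∃ t, P U s t := fun U s => by
    choose D hD hzD hDU using fun z : U => exists_isAffineOpen_mem_and_subset (x := z.1) (U := U) z.2
    have hηD : ∀ z : U, η ∈ D z := fun z =>
      ((genericPoint_spec Y).mem_open_set_iff (D z).isOpen).2 ⟨z.1, trivial, hzD z⟩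
    choose t ht using fun z : U => haff (D z) (hD z) (hηD z) (W.presheaf.map (homOfLE (π.preimage_mono (hDU z))).op s)
    obtain ⟨a, ha, -⟩ := Y.sheaf.existsUnique_gluing' (fun z : U => D z) U (fun z => homOfLE (hDU z))
      (fun z hz => Opens.mem_iSup.2 ⟨⟨z, hz⟩, hzD ⟨z, hz⟩⟩) t (fun z z' => by
        refine huniq _ (W.presheaf.map (homOfLE (π.preimage_mono (inf_le_left.trans (hDU z) : D z ⊓ D z' ≤ U))).op s)
          _ _ ?_ ?_
        · have h := hres (D z) _ (inf_le_left : D z ⊓ D z' ≤ D z) _ _ (ht z)
          rw [← ConcreteCategory.comp_apply, ← Functor.map_comp] at h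
          exact h
        · have h := hres (D z') _ (inf_le_right : D z ⊓ D z' ≤ D z') _ _ (ht z')
          rw [← ConcreteCategory.comp_apply, ← Functor.map_comp] at h
          exact h)
    refine ⟨a, fun hη => ?_⟩
    have h := ht ⟨η, hη⟩ (hηD ⟨η, hη⟩)
    rw [← ha ⟨η, hη⟩] at h
    erw [TopCat.Presheaf.germ_res_apply, TopCat.Presheaf.germ_res_apply] at h
    exact h
  choose t ht using hex
  let G : CohTop.Ab Y.toPresheafedSpace.carrier := (CohTop.push π.base).obj (Coh.toAb (Coh.structureModule W))
  let F : CohTop.Ab Y.toPresheafedSpace.carrier := Coh.toAb (Coh.structureModule Y)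
  let α : F ⟶ G := ⟨{ app := fun U => AddCommGrpCat.ofHom (π.app U.unop).hom.toAddMonoidHom
                      naturality := fun U V i => by
                        ext s
                        exact congr($(π.naturality i) s) }⟩
  let tr : G ⟶ F := ⟨{ app := fun U => AddCommGrpCat.ofHom (AddMonoidHom.mk' (t U.unop) fun s s' =>
                        huniq U.unop _ _ _ (ht U.unop (s + s')) fun h => by
                          show Y.presheaf.germ U.unop η h (t U.unop s + t U.unop s') = _
                          rw [map_add, ht U.unop s h, ht U.unop s' h, ← map_add Tr, ← map_add])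
                       naturality := fun U V i => by
                        ext s
                        exact huniq V.unop _ _ _ (ht V.unop _) (hres U.unop V.unop i.unop.le s _ (ht U.unop s)) }⟩
  have hcomp : α ≫ tr = Coh.smulAb (Coh.structureModule Y) (Coh.toGlobal (Y ↘ Spec (CommRingCat.of A)) (d : A)) := by
    refine CategoryTheory.Sheaf.hom_ext (NatTrans.ext (funext fun U => ?_))
    ext s
    refine huniq U.unop _ _ _ (ht U.unop (π.app U.unop s)) fun h => ?_
    rw [map_natCast]
    show Y.presheaf.germ U.unop η h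
      ((show Γ(Y, U.unop) from Coh.resTop Y U (d : Coh.Γtop Y)) * (show Γ(Y, U.unop) from s)) = _
    rw [map_natCast, map_mul, map_natCast, ← hψ U.unop h s]
    refine Eq.symm ((Algebra.trace_algebraMap (S := W.functionField) _).trans ?_)
    rw [hd, nsmul_eq_mul]
  haveI : Subsingleton (Sheaf.H G 1) := subsingleton_H_one_of_push π.base (Iso.refl G) hW
  show Sheaf.H.map (Coh.smulAb (Coh.structureModule Y) (Coh.toGlobal (Y ↘ Spec (CommRingCat.of A)) (d : A))) 1 x = 0
  rw [← hcomp, Sheaf.H.map_comp_apply, Subsingleton.elim (Sheaf.H.map α 1 x) 0, map_zero]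

/-- The function field of a scheme birational over a domain is its fraction field. -/
theorem exists_functionField_hom {A : Type u} [CommRing A] [IsDomain A] {X : Scheme.{u}} [IsIntegral X]
    (π : X ⟶ Spec (CommRingCat.of A)) (hπ : IsBirat π) :
    ∃ α : A →+* X.functionField, X.fromSpecStalk (genericPoint X) ≫ π = Spec.map (CommRingCat.ofHom α) ∧
      Function.Injective α ∧ ∀ k : X.functionField, ∃ a a' : A, k = α a / α a' := by
  obtain ⟨ι, hι⟩ := hπ
  let τ : CommRingCat.of A ⟶ (Spec (CommRingCat.of A)).functionField :=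
    StructureSheaf.toStalk A (genericPoint (Spec (CommRingCat.of A)))
  haveI : IsDomain (CommRingCat.of A) := inferInstanceAs (IsDomain A)
  letI : Algebra (CommRingCat.of A) (Spec (CommRingCat.of A)).functionField := τ.hom.toAlgebra
  haveI : IsFractionRing (CommRingCat.of A) (Spec (CommRingCat.of A)).functionField :=
    functionField_isFractionRing_of_affine (CommRingCat.of A)
  refine ⟨(τ ≫ ι.hom).hom, ?_, fun a b h => ?_, fun k => ?_⟩
  · refine hι.symm.trans ?_
    rw [Spec.fromSpecStalk_eq']
    exact (Spec.map_comp τ ι.hom).symm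
  · exact IsFractionRing.injective (CommRingCat.of A) (Spec (CommRingCat.of A)).functionField
      ((ConcreteCategory.bijective_of_isIso ι.hom).1 h)
  · obtain ⟨k', rfl⟩ := (ConcreteCategory.bijective_of_isIso ι.hom).2 k
    obtain ⟨a, a', -, rfl⟩ :=
      IsFractionRing.div_surjective (CommRingCat.of A) (K := (Spec (CommRingCat.of A)).functionField) k'
    exact ⟨a, a', map_div₀ ι.hom.hom _ _⟩

/-- The degree of a finite extension with rational singularities upstairs kills the first cohomology of
normal modifications downstairs. -/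
theorem main {A B : Type u} [CommRing A] [CommRing B] [IsDomain A] [IsDomain B] [IsNoetherianRing B]
    [IsIntegrallyClosed B] (hNB : CAlg.IsNagata B) (hd : ringKrullDim B ≤ 2)
    [Algebra A B] [Module.Finite A B] (hinj : Function.Injective (algebraMap A B))
    (K L : Type u) [Field K] [Field L] [Algebra A K] [IsFractionRing A K] [Algebra B L] [IsFractionRing B L]
    [Algebra K L] [Algebra A L] [IsScalarTower A K L] [IsScalarTower A B L]
    (hB : ∀ (n : Ideal B) [n.IsMaximal], ringKrullDim (Localization.AtPrime n) = 2 →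
      Curv2.IsRationalSing (Localization.AtPrime n))
    (Y : Scheme.{u}) [Y.Over (Spec (CommRingCat.of A))] [IsProper (Y ↘ Spec (CommRingCat.of A))] [IsIntegral Y]
    (hY : Pi1.IsNormalScheme Y) (U : (Spec (CommRingCat.of A)).Opens)
    (hU : (U : Set (Spec (CommRingCat.of A))).Nonempty) [IsIso ((Y ↘ Spec (CommRingCat.of A)) ∣_ U)]
    (x : Coh.HH Y (Coh.structureModule Y) 1) : (Module.finrank K L : A) • x = 0 := by
  let f := Y ↘ Spec (CommRingCat.of A)
  let q : Spec (CommRingCat.of B) ⟶ Spec (CommRingCat.of A) := Spec.map (CommRingCat.ofHom (algebraMap A B))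
  haveI : IsFinite q := (IsFinite.SpecMap_iff _).2 (RingHom.finite_algebraMap.2 inferInstance)
  have hq : q (genericPoint (Spec (CommRingCat.of B))) = genericPoint (Spec (CommRingCat.of A)) := by
    rw [genericPoint_eq_bot_of_affine, genericPoint_eq_bot_of_affine]
    exact PrimeSpectrum.ext (Ideal.comap_bot_of_injective _ hinj)
  have hqU : ((q ⁻¹ᵁ U : (Spec (CommRingCat.of B)).Opens) : Set (Spec (CommRingCat.of B))).Nonempty :=
    ⟨_, show q (genericPoint (Spec (CommRingCat.of B))) ∈ U from
      hq.symm ▸ ((genericPoint_spec (Spec (CommRingCat.of A))).mem_open_set_iff U.isOpen).2 (by simpa using hU)⟩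
  haveI : IsIso (pullback.snd f q ∣_ (q ⁻¹ᵁ U)) :=
    isIso_restrict_of_isPullback (IsPullback.of_hasPullback f q) U
  obtain ⟨X, i, hi, hX, hXiso⟩ := exists_birational_component (pullback.snd f q) (q ⁻¹ᵁ U) hqU
  haveI := hi
  haveI := hX
  haveI := hXiso
  haveI : IsProper (pullback.snd f q) := MorphismProperty.pullback_snd f q inferInstance
  haveI : IsFinite (pullback.fst f q) := MorphismProperty.pullback_fst f q inferInstance
  obtain ⟨W, ν, hν, hW, hWn, V, hV, hViso⟩ :=
    exists_normal_modification (nagata_Spec hNB) (i ≫ pullback.snd f q) (q ⁻¹ᵁ U) hqU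
  haveI := hν
  haveI := hW
  haveI := hViso
  let g := ν ≫ i ≫ pullback.snd f q
  let π := ν ≫ i ≫ pullback.fst f q
  have hw : π ≫ f = g ≫ q := by simp only [π, g, Category.assoc, pullback.condition]
  have hH := subsingleton_HH_one_of_rational hd hB g hWn V hV
  have hgb : IsBirat g := isBirat_of_isIso_restrict g V hV
  have hfb : IsBirat f := isBirat_of_isIso_restrict f U hU
  have he : π (genericPoint W) = genericPoint Y := hfb.eq_genericPoint (by
    rw [← Scheme.Hom.comp_apply, hw, Scheme.Hom.comp_apply, hgb.apply_genericPoint, hq])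
  obtain ⟨αA, hαA, hiA, hsA⟩ := exists_functionField_hom f hfb
  obtain ⟨αB, hαB, hiB, hsB⟩ := exists_functionField_hom g hgb
  let ψ : Y.functionField ⟶ W.functionField :=
    Y.presheaf.stalkSpecializes (specializes_of_eq he) ≫ π.stalkMap (genericPoint W)
  have key : CommRingCat.ofHom αA ≫ ψ = CommRingCat.ofHom (algebraMap A B) ≫ CommRingCat.ofHom αB := by
    apply Spec.map_injective
    rw [Spec.map_comp, Spec.map_comp, ← hαA]
    simp only [ψ, Spec.map_comp, Category.assoc]
    rw [Scheme.SpecMap_stalkSpecializes_fromSpecStalk_assoc, Scheme.SpecMap_stalkMap_fromSpecStalk_assoc, hw,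
      ← Category.assoc, hαB]
  letI : Algebra A Y.functionField := αA.toAlgebra
  letI : Algebra B W.functionField := αB.toAlgebra
  haveI : FaithfulSMul A Y.functionField := (faithfulSMul_iff_algebraMap_injective _ _).2 hiA
  haveI : FaithfulSMul B W.functionField := (faithfulSMul_iff_algebraMap_injective _ _).2 hiB
  haveI : IsFractionRing A Y.functionField := IsFractionRing.of_field A Y.functionField hsA
  haveI : IsFractionRing B W.functionField := IsFractionRing.of_field B W.functionField hsB
  let eA : K ≃ₐ[A] Y.functionField := IsLocalization.algEquiv (nonZeroDivisors A) K Y.functionField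
  let eB : L ≃ₐ[B] W.functionField := IsLocalization.algEquiv (nonZeroDivisors B) L W.functionField
  refine natCast_smul_eq_zero π hY he _ ?_ hH x
  letI : Algebra Y.functionField W.functionField := ψ.hom.toAlgebra
  refine (Algebra.finrank_eq_of_equiv_equiv eA.toRingEquiv eB.toRingEquiv ?_).symm
  refine IsLocalization.ringHom_ext (nonZeroDivisors A) (RingHom.ext fun a => ?_)
  show ψ (eA (algebraMap A K a)) = eB (algebraMap K L (algebraMap A K a))
  rw [eA.commutes, ← IsScalarTower.algebraMap_apply A K L, IsScalarTower.algebraMap_apply A B L, eB.commutes]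
  exact congr($key a)

end Groth.Agent.ResSurf.RatFinite
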