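import Groth.Agent.ResSurf.RatBelow
import Groth.Agent.ResSurf.Dominate
import Groth.Agent.ResSurf.Modif
import Groth.Agent.ResSurf.ModifVanish
import Groth.Agent.ResSurf.BlowInt
import Groth.Agent.ResSurf.AlterNorm

/-!
# Local rings of modifications of rational singularities are rational
-/

universe u

open CategoryTheory CategoryTheory.Limits AlgebraicGeometry TopologicalSpace Opposite IsLocalRing

set_option autoImplicit false
set_option backward.isDefEq.respectTransparency false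
set_option backward.isDefEq.respectTransparency.types false
set_option linter.style.haveILetI false

namespace Groth.Agent.ResSurf.RatLocal

open Groth.Agent

/-- Rationality only depends on the ring up to isomorphism. -/
theorem isRationalSing_of_equiv {A B : Type u} [CommRing A] [CommRing B] (e : A ≃+* B)
    (hA : Curv2.IsRationalSing A) : Curv2.IsRationalSing B := by
  intro X f hf hX hXn hU
  haveI := hf
  obtain ⟨U, hU, hi⟩ := hU
  haveI := hi
  let ε : Spec (CommRingCat.of B) ⟶ Spec (CommRingCat.of A) := Spec.map (CommRingCat.ofHom e.toRingHom)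
  haveI : IsIso ε := by
    haveI : IsIso (CommRingCat.ofHom e.toRingHom) := (ConcreteCategory.isIso_iff_bijective _).2 e.bijective
    infer_instance
  refine hA X (f ≫ ε) inferInstance hX hXn ⟨ε ''ᵁ U, hU.image _, ?_⟩
  rw [morphismRestrict_comp]
  haveI : IsIso (f ∣_ (ε ⁻¹ᵁ (ε ''ᵁ U))) := by
    rw [ε.preimage_image_eq]; infer_instance
  infer_instance

/-- The generic point is off the centre of a nonzero ideal. -/
theorem genericPoint_notMem_support {A : Type u} [CommRing A] [IsDomain A] (J : Ideal A) (hJ : J ≠ ⊥) :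
    genericPoint (Spec (CommRingCat.of A)) ∉ (BlowUpLib.centre J).support := by
  intro h
  obtain ⟨t, ht, ht0⟩ := Submodule.exists_mem_ne_zero_of_ne_bot hJ
  rw [← SetLike.mem_coe, Scheme.IdealSheafData.coe_support_ofIdealTop] at h
  have h2 := (Scheme.mem_zeroLocus_iff _ _ _).1 h _ (Ideal.mem_map_of_mem _ ht)
  refine h2 ?_
  show genericPoint _ ∈ (Spec (CommRingCat.of A)).basicOpen ((Scheme.ΓSpecIso (CommRingCat.of A)).inv t)
  rw [basicOpen_eq_of_affine]
  show t ∉ (genericPoint (Spec (CommRingCat.of A))).asIdeal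
  rw [genericPoint_eq_bot_of_affine (CommRingCat.of A)]
  exact fun h0 => ht0 h0

/-- An effective Cartier ideal stays so on an integral scheme whose generic point is off it. -/
theorem isEffCartierIdeal_comap {X Y : Scheme.{u}} [IsIntegral X] (g : X ⟶ Y) {C : Y.IdealSheafData}
    (hC : BlowUp.IsEffCartierIdeal C) (hg : g (genericPoint X) ∉ C.support) :
    BlowUp.IsEffCartierIdeal (C.comap g) := by
  intro x
  obtain ⟨W, hxW, r, -, hr⟩ := hC (g x)
  obtain ⟨D, hD, hxD, hDW⟩ := exists_isAffineOpen_mem_and_subset (x := x) (U := g ⁻¹ᵁ W.1) hxW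
  haveI : Nonempty (D : Scheme.{u}) := ⟨⟨x, hxD⟩⟩
  haveI : IsDomain Γ(X, D) := IsIntegral.component_integral _
  have hDI : (C.comap g).ideal ⟨D, hD⟩ = Ideal.span {(g.appLE W.1 D hDW).hom r} := by
    rw [ModPairLib.ideal_comap _ g W ⟨D, hD⟩ hDW, hr, Ideal.map_span, Set.image_singleton]
  refine ⟨⟨D, hD⟩, hxD, _, mem_nonZeroDivisors_iff_ne_zero.2 fun h0 => ?_, hDI⟩
  rw [h0, Ideal.span_singleton_zero] at hDI
  have hη : genericPoint X ∈ D := ((genericPoint_spec X).mem_open_set_iff D.isOpen).2 ⟨x, trivial, hxD⟩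
  have h : genericPoint X ∈ (C.comap g).support := by
    rw [Scheme.IdealSheafData.mem_support_iff_of_mem (U := ⟨D, hD⟩) hη, hDI, Scheme.mem_zeroLocus_iff]
    intro z hz
    rw [Submodule.bot_coe, Set.mem_singleton_iff] at hz
    rw [hz, Scheme.basicOpen_zero]
    exact not_false
  rw [← SetLike.mem_coe, Scheme.IdealSheafData.support_comap] at h
  exact hg h

variable {A : Type u} [CommRing A] [IsDomain A] [IsLocalRing A] [IsNoetherianRing A] [IsIntegrallyClosed A]

/-- A rational section of a scheme which is isomorphic to `Spec R` over a nonempty open. -/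
theorem exists_rationalSection {R : Type u} [CommRing R] [IsDomain R] {X : Scheme.{u}}
    (f : X ⟶ Spec (CommRingCat.of R)) (U : (Spec (CommRingCat.of R)).Opens)
    (hU : (U : Set (Spec (CommRingCat.of R))).Nonempty) [IsIso (f ∣_ U)] :
    ∃ e : Spec (CommRingCat.of (FractionRing R)) ⟶ X,
      e ≫ f = Spec.map (CommRingCat.ofHom (algebraMap R (FractionRing R))) := by
  let K := FractionRing R
  let eK : Spec (CommRingCat.of K) ⟶ Spec (CommRingCat.of R) := Spec.map (CommRingCat.ofHom (algebraMap R K))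
  have heK : ∀ v, eK v = genericPoint (Spec (CommRingCat.of R)) := fun v => by
    rw [genericPoint_eq_bot_of_affine]
    refine PrimeSpectrum.ext ?_
    show Ideal.comap (algebraMap R K) (PrimeSpectrum.asIdeal (R := K) v) = ⊥
    rw [(Ideal.eq_bot_or_top _).resolve_right (PrimeSpectrum.isPrime v).ne_top]
    exact Ideal.comap_bot_of_injective _ (IsFractionRing.injective R K)
  have hr : Set.range eK ⊆ Set.range U.ι := by
    rintro _ ⟨v, rfl⟩
    rw [heK, Scheme.Opens.range_ι]
    exact ((genericPoint_spec (Spec (CommRingCat.of R))).mem_open_set_iff U.isOpen).2 (by simpa using hU)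
  refine ⟨IsOpenImmersion.lift U.ι eK hr ≫ inv (f ∣_ U) ≫ (f ⁻¹ᵁ U).ι, ?_⟩
  simp only [Category.assoc]
  rw [← morphismRestrict_ι, IsIso.inv_hom_id_assoc, IsOpenImmersion.lift_fac]

open LocalChange in
/-- The local ring at a closed point of a normal modification below which no further normal modification has
first cohomology near the point is rational. -/
theorem isRationalSing_stalk_of (hN : CAlg.IsNagata A) (hdim : ringKrullDim A = 2)
    {X0 : Scheme.{u}} [IsIntegral X0] (π : X0 ⟶ Spec (CommRingCat.of A)) [IsProper π]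
    (hX0 : Pi1.IsNormalScheme X0) (U₀ : (Spec (CommRingCat.of A)).Opens)
    (hU₀ : (U₀ : Set (Spec (CommRingCat.of A))).Nonempty) [IsIso (π ∣_ U₀)]
    (x : X0)
    (hR : ∀ (Z : Scheme.{u}) (c : Z ⟶ X0), IsProper c → IsIntegral Z → Pi1.IsNormalScheme Z →
      (∃ V : (Spec (CommRingCat.of A)).Opens, (V : Set (Spec (CommRingCat.of A))).Nonempty ∧
        IsIso ((c ≫ π) ∣_ V)) →
      IsZero (TopCat.Presheaf.stalk ((Coh.RpushAb c 1).obj (Coh.toAb (Coh.structureModule Z))).obj x))
    (α : A →+* X0.presheaf.stalk x)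
    (hα : X0.fromSpecStalk x ≫ π = Spec.map (CommRingCat.ofHom α)) (hαinj : Function.Injective α)
    (hfrac : ∀ b : X0.presheaf.stalk x, ∃ a a' : A, a' ≠ 0 ∧ α a' * b = α a) :
    Curv2.IsRationalSing (X0.presheaf.stalk x) := by
  classical
  haveI hdom := (hX0 x).1
  haveI hint := (hX0 x).2
  intro Y fY hfY hY hYn hUY
  haveI := hfY
  haveI := hY
  obtain ⟨UY, hUY, hiY⟩ := hUY
  haveI := hiY
  obtain ⟨eY, heY⟩ := exists_rationalSection fY UY hUY
  obtain ⟨P, hP, hdomn⟩ := exists_pairs_dominating_of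
    (fun q : (X0.presheaf.stalk x) × (X0.presheaf.stalk x) => ∃ a a' : A, a' ≠ 0 ∧ α a = q.1 ∧ α a' = q.2) (fun z => by
      obtain ⟨b₁, b₂, hb₂, rfl⟩ := IsFractionRing.div_surjective (X0.presheaf.stalk x) z
      obtain ⟨a₁, a₁', h₁0, h₁⟩ := hfrac b₁
      obtain ⟨a₂, a₂', h₂0, h₂⟩ := hfrac b₂
      have ha₂ : a₂ ≠ 0 := fun h => by
        rw [h, map_zero] at h₂
        exact (mul_ne_zero ((map_ne_zero_iff α hαinj).2 h₂0) (nonZeroDivisors.ne_zero hb₂)) h₂
      have hne : a₁' * a₂ ≠ 0 := mul_ne_zero h₁0 ha₂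
      refine ⟨α (a₁ * a₂'), α (a₁' * a₂), (map_ne_zero_iff α hαinj).2 hne, ⟨_, _, hne, rfl, rfl⟩, ?_⟩
      have hb₂' : algebraMap (X0.presheaf.stalk x) (FractionRing (X0.presheaf.stalk x)) b₂ ≠ 0 :=
        (map_ne_zero_iff _ (IsFractionRing.injective (X0.presheaf.stalk x) (FractionRing (X0.presheaf.stalk x)))).2 (nonZeroDivisors.ne_zero hb₂)
      rw [div_mul_eq_mul_div, div_eq_iff hb₂', ← map_mul, ← map_mul]
      refine congrArg _ ?_
      rw [map_mul, map_mul, ← h₁, ← h₂]
      ring) fY eY heY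
  choose pa pa' hpa' hpa₁ hpa₂ using fun q : P => (hP q.1 q.2).2
  let J : Ideal A := ∏ q : P, Ideal.span {pa q, pa' q}
  have hJ : J ≠ ⊥ := Finset.prod_ne_zero_iff.2 fun q _ h => hpa' q <| by
    have : pa' q ∈ (⊥ : Ideal A) := by
      rw [← Ideal.zero_eq_bot, ← h]
      exact Ideal.subset_span (Set.mem_insert_of_mem _ rfl)
    simpa using this
  have hgen := genericPoint_notMem_support J hJ
  have hb : BlowUp.IsBlowUp (BlowUpLib.toBase J) (BlowUpLib.centre J) := BlowUpLib.isBlowUp_local _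
  haveI : IsProper (BlowUpLib.toBase J) := BlowUpLib.isProper_toBase _ (IsNoetherian.noetherian _)
  obtain ⟨Z, g, c, π₂, hg, hZi, hZn, ⟨V, hV, hVi⟩, hcg, hπ₂⟩ := exists_normal_dominating (nagata_Spec hN)
    π (BlowUpLib.toBase J) ⟨U₀, hU₀, inferInstance⟩
    ⟨ModPair.interior (BlowUpLib.centre J), ⟨_, hgen⟩, BlowUpLib.isIso_restrict hb _ le_rfl⟩
  haveI := hg
  haveI := hZi
  haveI := hVi
  have hgb : IsBirat g := isBirat_of_isIso_restrict g V hV
  have hπb : IsBirat π := isBirat_of_isIso_restrict π U₀ hU₀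
  have hcart : BlowUp.IsEffCartierIdeal ((BlowUpLib.centre J).comap g) := by
    rw [← hπ₂, Scheme.IdealSheafData.comap_comp]
    refine isEffCartierIdeal_comap π₂ hb.1 ?_
    rw [← SetLike.mem_coe, Scheme.IdealSheafData.support_comap]
    show (BlowUpLib.toBase J) (π₂ (genericPoint Z)) ∉ (BlowUpLib.centre J).support
    rw [← Scheme.Hom.comp_apply, hπ₂, hgb.apply_genericPoint]
    exact hgen
  -- the morphism to the modification
  haveI : IsProper (c ≫ π) := by rw [hcg]; infer_instance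
  haveI : IsProper c := IsProper.of_comp c π
  have hcb : IsBirat c := (hcg.symm ▸ hgb : IsBirat (c ≫ π)).of_comp hπb
  haveI : IsLocallyNoetherian X0 := LocallyOfFiniteType.isLocallyNoetherian π
  haveI : CompactSpace X0 := QuasiCompact.compactSpace_of_compactSpace π
  haveI : IsNoetherian X0 := ⟨⟩
  have hd : topologicalKrullDim X0 ≤ 2 := BadPoints.topologicalKrullDim_le_of_birat π hπb
    ((PrimeSpectrum.topologicalKrullDim_eq_ringKrullDim A).trans hdim).le
  obtain ⟨U, hU, hUi⟩ : ∃ U : X0.Opens, (U : Set X0).Nonempty ∧ IsIso (c ∣_ U) := by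
    refine ⟨π ⁻¹ᵁ (U₀ ⊓ V), ⟨genericPoint X0, ?_⟩, ?_⟩
    · show π (genericPoint X0) ∈ (U₀ ⊓ V : (Spec (CommRingCat.of A)).Opens)
      rw [hπb.apply_genericPoint]
      exact ⟨((genericPoint_spec _).mem_open_set_iff U₀.isOpen).2 (by simpa using hU₀),
        ((genericPoint_spec _).mem_open_set_iff V.isOpen).2 (by simpa using hV)⟩
    · haveI : IsIso (π ∣_ (U₀ ⊓ V)) := isIso_restrict_mono π inf_le_left
      haveI : IsIso ((c ≫ π) ∣_ (U₀ ⊓ V)) := by rw [hcg]; exact isIso_restrict_mono g inf_le_right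
      haveI : IsIso ((c ∣_ (π ⁻¹ᵁ (U₀ ⊓ V))) ≫ (π ∣_ (U₀ ⊓ V))) := by rw [← morphismRestrict_comp]; infer_instance
      exact IsIso.of_isIso_comp_right _ (π ∣_ (U₀ ⊓ V))
  haveI := hUi
  obtain ⟨T, hTc, hTf, hTp, hiso⟩ := BadPoints.exists_bad c hcb hX0 hd U hU
  let O : X0.Opens := ⟨Tᶜ, hTc.isOpen_compl⟩
  haveI : IsIso (c ∣_ O) := hiso
  have hloc : Subsingleton (Coh.HH (loc c x) (Coh.structureModule (loc c x)) 1) :=
    subsingleton_HH_one_loc c x (hR Z c inferInstance hZi hZn ⟨V, hV, by rw [hcg]; exact hVi⟩)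
  obtain ⟨hLi, hLη⟩ := isIntegral_loc c x hcb.apply_genericPoint
  haveI := hLi
  have hLn := isNormalScheme_loc c x hZn
  haveI : IsProper (str c x) := MorphismProperty.pullback_snd _ _ inferInstance
  haveI : IsIso (str c x ∣_ ((X0.fromSpecStalk x) ⁻¹ᵁ O)) :=
    isIso_restrict_of_isPullback (IsPullback.of_hasPullback c (X0.fromSpecStalk x)) O
  have hOne : (((X0.fromSpecStalk x) ⁻¹ᵁ O : (Spec (X0.presheaf.stalk x)).Opens) :
      Set (Spec (X0.presheaf.stalk x))).Nonempty := by
    obtain ⟨q, hq⟩ : genericPoint X0 ∈ Set.range (X0.fromSpecStalk x) := by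
      rw [X0.range_fromSpecStalk]
      exact genericPoint_specializes x
    refine ⟨q, show X0.fromSpecStalk x q ∈ O from hq.symm ▸ fun hT => ?_⟩
    obtain ⟨y, hy⟩ := hU
    exact (hTp _ hT).2 (Set.Subsingleton.finite fun a ha b hb => by
      have e₁ := hcb.eq_genericPoint (z := a) ha
      rw [e₁, hcb.eq_genericPoint (z := b) hb])
  have hsb : IsBirat (str c x) := isBirat_of_isIso_restrict (str c x) _ hOne
  haveI : IsDominant (str c x) := ⟨dense_iff_closure_eq.2 (Set.eq_univ_of_univ_subset (by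
    rw [← (genericPoint_spec (Spec (X0.presheaf.stalk x))).def]
    exact closure_mono (Set.singleton_subset_iff.2 ⟨_, hsb.apply_genericPoint⟩)))⟩
  haveI : Flat (incl c x) := by
    haveI := flat_fromSpecStalk x
    exact MorphismProperty.pullback_fst _ _ inferInstance
  obtain ⟨h, hh⟩ := hdomn (loc c x) (str c x) hLi inferInstance fun q hq => by
    have h1 := isEffCartier_of_prod g Finset.univ (fun q : P => Ideal.span {pa q, pa' q}) hcart ⟨q, hq⟩
      (Finset.mem_univ _)
    have h2 := BlowUpLib.isEffCartier_comap_flat (incl c x) h1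
    rw [← hcg, ← Scheme.IdealSheafData.comap_comp, ← Category.assoc, pullback.condition, Category.assoc, hα,
      Scheme.IdealSheafData.comap_comp, CIntLib.centre_comap_specMap, Ideal.map_span,
      Set.image_pair, hpa₁ ⟨q, hq⟩, hpa₂ ⟨q, hq⟩] at h2
    exact h2
  haveI : IsProper (h ≫ fY) := hh.symm ▸ inferInstance
  haveI : IsProper h := IsProper.of_comp h fY
  have hhb : IsBirat h := (hh.symm ▸ hsb : IsBirat (h ≫ fY)).of_comp (isBirat_of_isIso_restrict fY UY hUY)
  have hbir : Function.Bijective (Y.presheaf.stalkSpecializes (specializes_of_eq hhb.apply_genericPoint) ≫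
      h.stalkMap (genericPoint (loc c x))).hom := by
    haveI : ValuationRing (Y.presheaf.stalk (h (genericPoint (loc c x)))) := by
      rw [hhb.apply_genericPoint]; exact inferInstanceAs (ValuationRing Y.functionField)
    haveI : IsIso (h.stalkMap (genericPoint (loc c x))) :=
      (ConcreteCategory.isIso_iff_bijective _).2 (hhb.bijective_stalkMap _)
    haveI : IsIso (Y.presheaf.stalkSpecializes (specializes_of_eq hhb.apply_genericPoint)) :=
      (TopCat.Presheaf.stalkCongr Y.presheaf (Inseparable.of_eq hhb.apply_genericPoint.symm)).isIso_hom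
    exact ConcreteCategory.bijective_of_isIso _
  obtain ⟨i⟩ := exists_iso_push_structure h (bijective_app_of_birational h hYn hhb.apply_genericPoint hbir)
  exact subsingleton_H_one_of_push h.base i hloc

/-- The local ring at a closed point of a normal modification of a rational singularity is rational. -/
theorem isRationalSing_stalk (hN : CAlg.IsNagata A) (hdim : ringKrullDim A = 2) (hA : Curv2.IsRationalSing A)
    {X0 : Scheme.{u}} [IsIntegral X0] (π : X0 ⟶ Spec (CommRingCat.of A)) [IsProper π]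
    (hX0 : Pi1.IsNormalScheme X0) (U₀ : (Spec (CommRingCat.of A)).Opens)
    (hU₀ : (U₀ : Set (Spec (CommRingCat.of A))).Nonempty) [IsIso (π ∣_ U₀)]
    (x : X0) (hx : IsClosed ({x} : Set X0))
    (α : A →+* X0.presheaf.stalk x)
    (hα : X0.fromSpecStalk x ≫ π = Spec.map (CommRingCat.ofHom α)) (hαinj : Function.Injective α)
    (hfrac : ∀ b : X0.presheaf.stalk x, ∃ a a' : A, a' ≠ 0 ∧ α a' * b = α a) :
    Curv2.IsRationalSing (X0.presheaf.stalk x) := by
  refine isRationalSing_stalk_of hN hdim π hX0 U₀ hU₀ x (fun Z c hc hZi hZn hVex => ?_) α hα hαinj hfrac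
  haveI := hc
  haveI := hZi
  obtain ⟨V, hV, hVi⟩ := hVex
  haveI := hVi
  have hπb : IsBirat π := isBirat_of_isIso_restrict π U₀ hU₀
  have hgb : IsBirat (c ≫ π) := isBirat_of_isIso_restrict (c ≫ π) V hV
  have hcb : IsBirat c := hgb.of_comp hπb
  haveI : IsLocallyNoetherian X0 := LocallyOfFiniteType.isLocallyNoetherian π
  haveI : CompactSpace X0 := QuasiCompact.compactSpace_of_compactSpace π
  haveI : IsNoetherian X0 := ⟨⟩
  have hd : topologicalKrullDim X0 ≤ 2 := BadPoints.topologicalKrullDim_le_of_birat π hπb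
    ((PrimeSpectrum.topologicalKrullDim_eq_ringKrullDim A).trans hdim).le
  haveI : IsIso (c ∣_ (π ⁻¹ᵁ (U₀ ⊓ V))) := by
    haveI : IsIso (π ∣_ (U₀ ⊓ V)) := isIso_restrict_mono π inf_le_left
    haveI : IsIso ((c ≫ π) ∣_ (U₀ ⊓ V)) := isIso_restrict_mono (c ≫ π) inf_le_right
    haveI : IsIso ((c ∣_ (π ⁻¹ᵁ (U₀ ⊓ V))) ≫ (π ∣_ (U₀ ⊓ V))) := by rw [← morphismRestrict_comp]; infer_instance
    exact IsIso.of_isIso_comp_right _ (π ∣_ (U₀ ⊓ V))
  have hU : ((π ⁻¹ᵁ (U₀ ⊓ V) : X0.Opens) : Set X0).Nonempty := by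
    refine ⟨genericPoint X0, ?_⟩
    show π (genericPoint X0) ∈ (U₀ ⊓ V : (Spec (CommRingCat.of A)).Opens)
    rw [hπb.apply_genericPoint]
    exact ⟨((genericPoint_spec _).mem_open_set_iff U₀.isOpen).2 (by simpa using hU₀),
      ((genericPoint_spec _).mem_open_set_iff V.isOpen).2 (by simpa using hV)⟩
  obtain ⟨T, hTc, hTf, hTp, hiso⟩ := BadPoints.exists_bad c hcb hX0 hd _ hU
  let O : X0.Opens := ⟨Tᶜ, hTc.isOpen_compl⟩
  haveI : IsIso (c ∣_ O) := hiso
  have hH1 : Subsingleton (Coh.HH Z (Coh.structureModule Z) 1) := hA Z (c ≫ π) inferInstance hZi hZn ⟨V, hV, hVi⟩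
  have hH2 : Subsingleton (Coh.HH X0 (Coh.structureModule X0) 2) :=
    ModifVanish.subsingleton_HH_two_le π hdim hπb QCoh.isQCoh_structureModule le_rfl
  have hTx : IsClosed (T \ {x}) := by
    rw [← Set.biUnion_of_singleton (T \ {x})]
    exact (hTf.subset Set.sdiff_subset).isClosed_biUnion fun w hw => (hTp w hw.1).1
  exact isZero_stalk_RpushAb_one c hcb hX0 hH1 hH2 x hx O
    ⟨(T \ {x})ᶜ, hTx.isOpen_compl⟩ (fun h => h.2 rfl) fun w hw hwx hwT => hw ⟨hwT, hwx⟩

/-- A normal two-dimensional local ring, birational and essentially of finite type over a rational singularity,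
is a local ring of a normal modification. -/
theorem exists_model (hN : CAlg.IsNagata A) (hdim : ringKrullDim A = 2) (B : Type u) [CommRing B] [IsDomain B]
    [IsLocalRing B] [IsIntegrallyClosed B] [Algebra A B] [IsLocalHom (algebraMap A B)]
    (hinj : Function.Injective (algebraMap A B)) [Algebra.EssFiniteType A B]
    (hfrac : ∀ b : B, ∃ a a' : A, a' ≠ 0 ∧ algebraMap A B a' * b = algebraMap A B a)
    (hdimB : ringKrullDim B = 2) :
    ∃ (X0 : Scheme.{u}) (_ : IsIntegral X0) (π : X0 ⟶ Spec (CommRingCat.of A)) (_ : IsProper π)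
      (U₀ : (Spec (CommRingCat.of A)).Opens) (x : X0) (α : A →+* X0.presheaf.stalk x)
      (e : X0.presheaf.stalk x ≃+* B),
      Pi1.IsNormalScheme X0 ∧ (U₀ : Set (Spec (CommRingCat.of A))).Nonempty ∧ IsIso (π ∣_ U₀) ∧
      IsClosed ({x} : Set X0) ∧ X0.fromSpecStalk x ≫ π = Spec.map (CommRingCat.ofHom α) ∧
      ∀ a, e (α a) = algebraMap A B a := by
  classical
  let φ := algebraMap A B
  obtain ⟨s, hs⟩ := Algebra.EssFiniteType.cond (R := A) (S := B)
  choose num den hden hnd using fun b : s => hfrac b.1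
  let y : A := ∏ b : s, den b
  have hy : y ≠ 0 := Finset.prod_ne_zero_iff.2 fun b _ => hden b
  let I : Ideal A := Ideal.span (insert y (Set.range fun b : s => num b * ∏ b' ∈ Finset.univ.erase b, den b'))
  have hyI : y ∈ I := Ideal.subset_span (Set.mem_insert _ _)
  have hnum : ∀ b : s, φ (num b * ∏ b' ∈ Finset.univ.erase b, den b') = b.1 * φ y := fun b => by
    show φ _ = b.1 * φ (∏ b' : s, den b')
    rw [← Finset.mul_prod_erase Finset.univ den (Finset.mem_univ b), map_mul, map_mul, ← hnd b]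
    ring
  have hI : I.map φ ≤ Ideal.span {φ y} := by
    rw [Ideal.map_span, Ideal.span_le]
    rintro _ ⟨t, ht, rfl⟩
    rcases Set.mem_insert_iff.1 ht with rfl | ⟨b, rfl⟩
    · exact Ideal.mem_span_singleton_self _
    · exact Ideal.mem_span_singleton'.2 ⟨b.1, (hnum b).symm⟩
  have hφy : φ y ≠ 0 := (map_ne_zero_iff φ hinj).2 hy
  obtain ⟨ψ, hψ⟩ := BlowUpLib.exists_hom_affineAlgebra I ⟨y, hyI⟩ φ (mem_nonZeroDivisors_iff_ne_zero.2 hφy) hI
  have hψs : ∀ b : s, b.1 ∈ ψ.range := fun b => by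
    refine ⟨BlowUpLib.frac I ⟨_, Ideal.subset_span (Set.mem_insert_of_mem _ ⟨b, rfl⟩)⟩ ⟨y, hyI⟩,
      mul_right_cancel₀ hφy ?_⟩
    have h := congrArg ψ (BlowUpLib.frac_mul I ⟨_, Ideal.subset_span (Set.mem_insert_of_mem _ ⟨b, rfl⟩)⟩ ⟨y, hyI⟩)
    rw [map_mul, ← RingHom.comp_apply ψ (algebraMap A _), ← RingHom.comp_apply ψ (algebraMap A _), hψ] at h
    exact h.trans (hnum b)
  have hψC : ∀ t ∈ Algebra.adjoin A (s : Set B), t ∈ ψ.range := fun t ht => by
    induction ht using Algebra.adjoin_induction with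
    | mem t ht => exact hψs ⟨t, ht⟩
    | algebraMap r => exact ⟨algebraMap A _ r, RingHom.congr_fun hψ r⟩
    | add p q _ _ hp hq => exact add_mem hp hq
    | mul p q _ _ hp hq => exact mul_mem hp hq
  -- the blow up and its normalization
  have hgen := genericPoint_notMem_support I (fun h => hy (by simpa [h] using hyI))
  have hb : BlowUp.IsBlowUp (BlowUpLib.toBase I) (BlowUpLib.centre I) := BlowUpLib.isBlowUp_local _
  haveI : IsProper (BlowUpLib.toBase I) := BlowUpLib.isProper_toBase _ (IsNoetherian.noetherian _)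
  let X1 := BlowUpLib.localBlowUp I
  haveI : IsIntegral X1 := BlowInt.isIntegral hb hgen
  let k : Spec (CommRingCat.of B) ⟶ X1 := Spec.map (CommRingCat.ofHom ψ) ≫ BlowUpLib.chart I ⟨y, hyI⟩
  have hk : k ≫ BlowUpLib.toBase I = Spec.map (CommRingCat.ofHom φ) := by
    simp only [k, Category.assoc]
    rw [BlowUpLib.chart_toBase, ← Spec.map_comp, ← CommRingCat.ofHom_comp, hψ]
  let η := genericPoint (Spec (CommRingCat.of B))
  let U1 : (Spec (CommRingCat.of A)).Opens := ModPair.interior (BlowUpLib.centre I)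
  haveI : IsIso (BlowUpLib.toBase I ∣_ U1) := BlowUpLib.isIso_restrict hb _ le_rfl
  have hU1 : (U1 : Set (Spec (CommRingCat.of A))).Nonempty := ⟨_, hgen⟩
  have h1b : IsBirat (BlowUpLib.toBase I) := isBirat_of_isIso_restrict _ U1 hU1
  have hkη : k η = genericPoint X1 := by
    refine h1b.eq_genericPoint ?_
    rw [← Scheme.Hom.comp_apply, hk]
    show (Spec.map (CommRingCat.ofHom φ)) η = _
    rw [show η = _ from genericPoint_eq_bot_of_affine (CommRingCat.of B), genericPoint_eq_bot_of_affine]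
    exact PrimeSpectrum.ext (Ideal.comap_bot_of_injective _ hinj)
  haveI : IsDominant k := ⟨dense_iff_closure_eq.2 (Set.eq_univ_of_univ_subset (by
    rw [← (genericPoint_spec X1).def]
    exact closure_mono (Set.singleton_subset_iff.2 ⟨η, hkη⟩)))⟩
  haveI : IsLocallyNoetherian X1 := LocallyOfFiniteType.isLocallyNoetherian (BlowUpLib.toBase I)
  haveI : QuasiCompact (X1.fromSpecStalk (genericPoint X1)) := inferInstance
  haveI : QuasiSeparated (X1.fromSpecStalk (genericPoint X1)) := inferInstance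
  haveI : IsDomain (X1.presheaf.stalk (genericPoint X1)) := inferInstanceAs (IsDomain X1.functionField)
  have hNX := nagata_of_lft (BlowUpLib.toBase I) (nagata_Spec hN)
  let ν := Curv2.normalizationι X1
  haveI : IsFinite ν := NormCurve.isFinite_normalizationι X1 hNX
  haveI : IsIntegral (Curv2.normalization X1) :=
    inferInstanceAs (IsIntegral (X1.fromSpecStalk (genericPoint X1)).normalization)
  have hνn := NormCurve.isNormalScheme_normalization X1
  have hνb := isBirat_normalizationι X1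
  obtain ⟨k', hk'⟩ := AlterNorm.exists_lift (isNormalScheme_Spec B) k
  let π := ν ≫ BlowUpLib.toBase I
  let x := k' (closedPoint B)
  let X0 := Curv2.normalization X1
  let e : X0.presheaf.stalk x ⟶ CommRingCat.of B := Scheme.stalkClosedPointTo k'
  have he : Spec.map e ≫ X0.fromSpecStalk x = k' := Scheme.Spec_stalkClosedPointTo_fromSpecStalk k'
  let α : CommRingCat.of A ⟶ X0.presheaf.stalk x := Spec.preimage (X0.fromSpecStalk x ≫ π)
  have hα : X0.fromSpecStalk x ≫ π = Spec.map α := (Spec.map_preimage _).symm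
  have heα : α ≫ e = CommRingCat.ofHom φ := by
    apply Spec.map_injective
    rw [Spec.map_comp, ← hα, reassoc_of% he, reassoc_of% hk', hk]
  -- injectivity
  haveI := (hνn x).1
  have hinje : Function.Injective e := by
    rw [injective_iff_map_eq_zero]
    have hker : X0.fromSpecStalk x (Spec.map e η) = genericPoint X0 := by
      refine hνb.eq_genericPoint ?_
      rw [← Scheme.Hom.comp_apply, ← Scheme.Hom.comp_apply, reassoc_of% he, hk', hkη]
    obtain ⟨q, hq⟩ : genericPoint X0 ∈ Set.range (X0.fromSpecStalk x) := by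
      rw [X0.range_fromSpecStalk]; exact genericPoint_specializes x
    have h1 : genericPoint (Spec (X0.presheaf.stalk x)) = q := by
      have h2 : X0.fromSpecStalk x (genericPoint (Spec (X0.presheaf.stalk x))) ⤳ genericPoint X0 :=
        hq ▸ (genericPoint_specializes q).map (X0.fromSpecStalk x).continuous
      exact (X0.fromSpecStalk x).isEmbedding.injective (((genericPoint_specializes _).antisymm h2).eq.symm.trans hq.symm)
    have h3 : Spec.map e η = genericPoint (Spec (X0.presheaf.stalk x)) :=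
      (X0.fromSpecStalk x).isEmbedding.injective (hker.trans (h1 ▸ hq).symm)
    intro r hr
    have h4 : r ∈ (Spec.map e η).asIdeal := by
      show e r ∈ η.asIdeal
      rw [hr]
      exact zero_mem _
    rw [h3, genericPoint_eq_bot_of_affine] at h4
    exact h4
  -- surjectivity
  have hrange : Set.range (X0.fromSpecStalk x ≫ ν) ⊆ Set.range (BlowUpLib.chart I ⟨y, hyI⟩) := by
    rintro _ ⟨p, rfl⟩
    refine Specializes.mem_open (y := ν x) ?_ (BlowUpLib.chart I ⟨y, hyI⟩).isOpenEmbedding.isOpen_range ?_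
    · have h0 : X0.fromSpecStalk x p ⤳ x := by
        have : X0.fromSpecStalk x p ∈ Set.range (X0.fromSpecStalk x) := ⟨p, rfl⟩
        rwa [X0.range_fromSpecStalk] at this
      exact h0.map ν.continuous
    · exact ⟨Spec.map (CommRingCat.ofHom ψ) (closedPoint B), by
        show k (closedPoint B) = ν (k' (closedPoint B))
        rw [← Scheme.Hom.comp_apply, hk']⟩
  let θ := Spec.preimage (IsOpenImmersion.lift (BlowUpLib.chart I ⟨y, hyI⟩) _ hrange)
  have hθ : θ ≫ e = CommRingCat.ofHom ψ := by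
    apply Spec.map_injective
    rw [← cancel_mono (BlowUpLib.chart I ⟨y, hyI⟩), Spec.map_comp, Category.assoc, Spec.map_preimage,
      IsOpenImmersion.lift_fac, reassoc_of% he, hk']
  have hθ' : ∀ r, e (θ r) = ψ r := fun r => congr($hθ r)
  have hsurj : Function.Surjective e := fun b => by
    obtain ⟨t, ht, htu, hbt⟩ := (Algebra.essFiniteType_cond_iff A B s).1 hs b
    obtain ⟨r₁, hr₁⟩ := hψC _ ht
    obtain ⟨r₂, hr₂⟩ := hψC _ hbt
    have hu : IsUnit (θ r₁) := isUnit_of_map_unit e.hom _ (by rw [hθ', hr₁]; exact htu)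
    obtain ⟨v, hv⟩ := hu
    refine ⟨θ r₂ * (v⁻¹ : _), mul_right_cancel₀ htu.ne_zero ?_⟩
    rw [map_mul, hθ', hr₂, mul_assoc, ← hr₁, ← hθ', ← hv, ← map_mul, Units.inv_mul, map_one, mul_one]
  -- the open
  haveI : IsProper ν := inferInstance
  obtain ⟨V, hV, hViso⟩ := NormCurve.exists_isIso X1 hNX
  obtain ⟨U₀, hU₀, hU₀i⟩ : ∃ U₀ : (Spec (CommRingCat.of A)).Opens,
      (U₀ : Set (Spec (CommRingCat.of A))).Nonempty ∧ IsIso (π ∣_ U₀) := by
    let g1 := BlowUpLib.toBase I
    haveI : Nonempty (U1 : Scheme.{u}) := hU1.to_subtype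
    haveI : Nonempty (g1 ⁻¹ᵁ U1 : Scheme.{u}) := ⟨inv (g1 ∣_ U1) (Classical.arbitrary (U1 : Scheme.{u}))⟩
    obtain ⟨p, hpU, hpV⟩ := hV.inter_open_nonempty _ (g1 ⁻¹ᵁ U1).isOpen
      ⟨(g1 ⁻¹ᵁ U1).ι (Classical.arbitrary (g1 ⁻¹ᵁ U1 : Scheme.{u})),
        (Classical.arbitrary (g1 ⁻¹ᵁ U1 : Scheme.{u})).2⟩
    let W : (Spec (CommRingCat.of A)).Opens := U1.ι ''ᵁ ((inv (g1 ∣_ U1)) ⁻¹ᵁ ((g1 ⁻¹ᵁ U1).ι ⁻¹ᵁ V))
    have hW : W ≤ U1 := U1.ι_image_le _
    refine ⟨W, ⟨g1 p, (g1 ∣_ U1) ⟨p, hpU⟩, ?_, morphismRestrict_base_coe g1 U1 _⟩, ?_⟩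
    · show inv (g1 ∣_ U1) ((g1 ∣_ U1) ⟨p, hpU⟩) ∈ ((g1 ⁻¹ᵁ U1).ι ⁻¹ᵁ V)
      rw [← Scheme.Hom.comp_apply, IsIso.hom_inv_id]
      exact hpV
    · rw [morphismRestrict_comp]
      haveI : IsIso (g1 ∣_ W) := isIso_restrict_mono g1 hW
      have hle : g1 ⁻¹ᵁ W ≤ V := by
        rintro z ⟨w, hw, hwz⟩
        have hzU : z ∈ g1 ⁻¹ᵁ U1 := by show g1 z ∈ U1; rw [← hwz]; exact w.2
        have hwe : w = (g1 ∣_ U1) ⟨z, hzU⟩ :=
          Subtype.ext (hwz.trans (morphismRestrict_base_coe g1 U1 ⟨z, hzU⟩).symm)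
        have h1 : inv (g1 ∣_ U1) w = (⟨z, hzU⟩ : (g1 ⁻¹ᵁ U1 : Scheme.{u})) := by
          rw [hwe, ← Scheme.Hom.comp_apply, IsIso.hom_inv_id]
          rfl
        have h2 : inv (g1 ∣_ U1) w ∈ (g1 ⁻¹ᵁ U1).ι ⁻¹ᵁ V := hw
        rw [h1] at h2
        exact h2
      haveI := hViso
      exact IsIso.comp_isIso' (isIso_restrict_mono ν hle) inferInstance
  haveI := hU₀i
  have hπb : IsBirat π := isBirat_of_isIso_restrict π U₀ hU₀
  have hd : topologicalKrullDim X0 ≤ 2 := BadPoints.topologicalKrullDim_le_of_birat π hπb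
    ((PrimeSpectrum.topologicalKrullDim_eq_ringKrullDim A).trans hdim).le
  refine ⟨X0, inferInstance, π, inferInstance, U₀, x, α.hom, RingEquiv.ofBijective e.hom ⟨hinje, hsurj⟩,
    hνn, hU₀, hU₀i, ?_, hα, fun a => congr($heα a)⟩
  haveI : IsLocallyNoetherian X0 := LocallyOfFiniteType.isLocallyNoetherian π
  refine closure_subset_iff_isClosed.1 fun z hz => ?_
  have hsp : x ⤳ z := specializes_iff_mem_closure.2 hz
  by_contra hne
  have h2 : ringKrullDim (X0.presheaf.stalk x) = 2 :=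
    (ringKrullDim_eq_of_ringEquiv (RingEquiv.ofBijective e.hom ⟨hinje, hsurj⟩)).trans hdimB
  rw [DimFormula.ringKrullDim_stalk] at h2
  have h2' : DimFormula.codim x = 2 := by exact_mod_cast h2
  have h3 := DimFormula.cd_add_cd_le hsp (genericPoint_specializes x)
  rw [DimFormula.cd_eq_codim_of_irreducible, DimFormula.cd_eq_codim_of_irreducible] at h3
  have h4 : 1 ≤ DimFormula.cd x z :=
    Nat.one_le_iff_ne_zero.2 fun h0 => hne ((DimFormula.cd_eq_zero_iff hsp).1 h0).symm
  have h5 := codim_le_of_dim_le (d := 2) (by exact_mod_cast hd) z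
  omega

end Groth.Agent.ResSurf.RatLocal
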