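import Groth.Agent.ResSurf.RatLocal
import Groth.Agent.ResSurf.ModifPush
import Groth.Agent.RelProj34.ChowFull
import Groth.Agent.AmpleX.Comp

/-!
# A modification with rational singularities
-/

universe u

open CategoryTheory CategoryTheory.Limits AlgebraicGeometry TopologicalSpace Opposite IsLocalRing

set_option autoImplicit false
set_option backward.isDefEq.respectTransparency false
set_option backward.isDefEq.respectTransparency.types false
set_option linter.style.haveILetI false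

namespace Groth.Agent.ResSurf.RatModif

open Groth.Agent

/-- The local rings of a scheme birational over a domain lie in its fraction field. -/
theorem exists_stalk_hom {A : Type u} [CommRing A] [IsDomain A] {X : Scheme.{u}} [IsIntegral X]
    (π : X ⟶ Spec (CommRingCat.of A)) (hπ : IsBirat π) (x : X) :
    ∃ α : A →+* X.presheaf.stalk x, X.fromSpecStalk x ≫ π = Spec.map (CommRingCat.ofHom α) ∧
      Function.Injective α ∧ ∀ b : X.presheaf.stalk x, ∃ a a' : A, a' ≠ 0 ∧ α a' * b = α a := by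
  obtain ⟨ι, hι⟩ := hπ
  let α : CommRingCat.of A ⟶ X.presheaf.stalk x := Spec.preimage (X.fromSpecStalk x ≫ π)
  let s : X.presheaf.stalk x ⟶ X.functionField := X.presheaf.stalkSpecializes (genericPoint_specializes x)
  let τ : CommRingCat.of A ⟶ (Spec (CommRingCat.of A)).functionField :=
    StructureSheaf.toStalk A (genericPoint (Spec (CommRingCat.of A)))
  have hs : Function.Injective s := IsFractionRing.injective (X.presheaf.stalk x) X.functionField
  have key : α ≫ s = τ ≫ ι.hom := by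
    apply Spec.map_injective
    rw [Spec.map_comp, Spec.map_comp, Spec.map_preimage, ← Category.assoc,
      Scheme.SpecMap_stalkSpecializes_fromSpecStalk]
    refine hι.symm.trans ?_
    rw [Spec.fromSpecStalk_eq']
  haveI : IsDomain (CommRingCat.of A) := inferInstanceAs (IsDomain A)
  letI : Algebra (CommRingCat.of A) (Spec (CommRingCat.of A)).functionField := τ.hom.toAlgebra
  haveI : IsFractionRing (CommRingCat.of A) (Spec (CommRingCat.of A)).functionField :=
    functionField_isFractionRing_of_affine (CommRingCat.of A)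
  have hτ : Function.Injective τ := IsFractionRing.injective (CommRingCat.of A) (Spec (CommRingCat.of A)).functionField
  have hι' : Function.Injective ι.hom := (ConcreteCategory.bijective_of_isIso ι.hom).1
  have key' : ∀ a, s (α a) = ι.hom (τ a) := fun a => congr($key a)
  refine ⟨α.hom, (Spec.map_preimage _).symm, fun a b h => hτ (hι' ?_), fun b => ?_⟩
  · rw [← key', ← key']
    exact congrArg s h
  · obtain ⟨k, hk⟩ := (ConcreteCategory.bijective_of_isIso ι.hom).2 (s b)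
    obtain ⟨a, a', ha', rfl⟩ := IsFractionRing.div_surjective (CommRingCat.of A) (K := (Spec (CommRingCat.of A)).functionField) k
    refine ⟨a, a', nonZeroDivisors.ne_zero ha', hs ?_⟩
    show s (α a' * b) = s (α a)
    rw [map_mul, key', key', ← hk, ← map_mul, mul_comm]
    refine congrArg _ ?_
    exact div_mul_cancel₀ (τ a) fun h => nonZeroDivisors.ne_zero ha' (hτ (h.trans (map_zero _).symm))

/-- The composite of two morphisms which are isomorphisms over nonempty opens. -/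
theorem exists_open_iso {X' X Y : Scheme.{u}} [IsIntegral X] (φ : X' ⟶ X) (r : X ⟶ Y) (O : X.Opens)
    (hO : (O : Set X).Nonempty) [IsIso (φ ∣_ O)] (U : Y.Opens) (hU : (U : Set Y).Nonempty) [IsIso (r ∣_ U)] :
    ∃ W : Y.Opens, (W : Set Y).Nonempty ∧ IsIso ((φ ≫ r) ∣_ W) := by
  haveI : Nonempty (U : Scheme.{u}) := hU.to_subtype
  let y : (r ⁻¹ᵁ U : Scheme.{u}) := inv (r ∣_ U) (Classical.arbitrary (U : Scheme.{u}))
  obtain ⟨p, hpU, hpO⟩ := nonempty_preirreducible_inter (r ⁻¹ᵁ U).isOpen O.isOpen ⟨y.1, y.2⟩ hO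
  let W : Y.Opens := U.ι ''ᵁ ((inv (r ∣_ U)) ⁻¹ᵁ ((r ⁻¹ᵁ U).ι ⁻¹ᵁ O))
  have hW : W ≤ U := U.ι_image_le _
  refine ⟨W, ⟨r p, (r ∣_ U) ⟨p, hpU⟩, ?_, morphismRestrict_base_coe r U _⟩, ?_⟩
  · show inv (r ∣_ U) ((r ∣_ U) ⟨p, hpU⟩) ∈ ((r ⁻¹ᵁ U).ι ⁻¹ᵁ O)
    rw [← Scheme.Hom.comp_apply, IsIso.hom_inv_id]
    exact hpO
  · rw [morphismRestrict_comp]
    haveI : IsIso (r ∣_ W) := isIso_restrict_mono r hW
    have hle : r ⁻¹ᵁ W ≤ O := by
      rintro z ⟨w, hw, hwz⟩
      have hzU : z ∈ r ⁻¹ᵁ U := by show r z ∈ U; rw [← hwz]; exact w.2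
      have hwe : w = (r ∣_ U) ⟨z, hzU⟩ :=
        Subtype.ext (hwz.trans (morphismRestrict_base_coe r U ⟨z, hzU⟩).symm)
      have h1 : inv (r ∣_ U) w = (⟨z, hzU⟩ : (r ⁻¹ᵁ U : Scheme.{u})) := by
        rw [hwe, ← Scheme.Hom.comp_apply, IsIso.hom_inv_id]
        rfl
      have h2 : inv (r ∣_ U) w ∈ (r ⁻¹ᵁ U).ι ⁻¹ᵁ O := hw
      rw [h1] at h2
      exact h2
    exact IsIso.comp_isIso' (isIso_restrict_mono φ hle) inferInstance

/-- Global sections as cohomology in degree zero. -/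
theorem subsingleton_sections {X : Scheme.{u}} (M : X.Modules) (h : Subsingleton (Coh.HH X M 0)) :
    Subsingleton Γ(M, ⊤) :=
  ((Sheaf.H.equiv₀ (Coh.toAb M) (isTerminalTop : IsTerminal (⊤ : X.Opens))).toEquiv.symm).subsingleton

variable {A : Type u} [CommRing A] [IsDomain A] [IsLocalRing A] [IsNoetherianRing A] [IsIntegrallyClosed A]

/-- A projective normal modification of maximal first cohomology. -/
theorem exists_maximal (hN : CAlg.IsNagata A) (hdim : ringKrullDim A = 2)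
    (hA : ∃ N : ℕ, ∀ (X : Scheme.{u}) [X.Over (Spec (CommRingCat.of A))], IsProper (X ↘ Spec (CommRingCat.of A)) →
        IsIntegral X → Pi1.IsNormalScheme X →
        (∃ U : (Spec (CommRingCat.of A)).Opens, (U : Set (Spec (CommRingCat.of A))).Nonempty ∧
          IsIso ((X ↘ Spec (CommRingCat.of A)) ∣_ U)) →
        Module.length A (Coh.HH X (Coh.structureModule X) 1) ≤ (N : ℕ∞)) :
    ∃ (X : Scheme.{u}) (_ : X.Over (Spec (CommRingCat.of A))) (_ : IsProper (X ↘ Spec (CommRingCat.of A)))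
      (_ : IsIntegral X) (M : ℕ), Pi1.IsNormalScheme X ∧
      (∃ U : (Spec (CommRingCat.of A)).Opens, (U : Set (Spec (CommRingCat.of A))).Nonempty ∧
        IsIso ((X ↘ Spec (CommRingCat.of A)) ∣_ U)) ∧
      RelProj.IsProjective (X ↘ Spec (CommRingCat.of A)) ∧
      (M : ℕ∞) = Module.length A (Coh.HH X (Coh.structureModule X) 1) ∧
      ∀ (Z : Scheme.{u}) [Z.Over (Spec (CommRingCat.of A))], IsProper (Z ↘ Spec (CommRingCat.of A)) →
        IsIntegral Z → Pi1.IsNormalScheme Z →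
        (∃ U : (Spec (CommRingCat.of A)).Opens, (U : Set (Spec (CommRingCat.of A))).Nonempty ∧
          IsIso ((Z ↘ Spec (CommRingCat.of A)) ∣_ U)) →
        Module.length A (Coh.HH Z (Coh.structureModule Z) 1) ≤ (M : ℕ∞) := by
  classical
  obtain ⟨N, hN'⟩ := hA
  let S := Spec (CommRingCat.of A)
  let P : ℕ → Prop := fun n => ∃ (X : Scheme.{u}) (_ : X.Over S), IsProper (X ↘ S) ∧ IsIntegral X ∧
    Pi1.IsNormalScheme X ∧ (∃ U : S.Opens, (U : Set S).Nonempty ∧ IsIso ((X ↘ S) ∣_ U)) ∧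
    (n : ℕ∞) = Module.length A (Coh.HH X (Coh.structureModule X) 1)
  have hP : ∀ (Z : Scheme.{u}) [Z.Over S], IsProper (Z ↘ S) → IsIntegral Z → Pi1.IsNormalScheme Z →
      (∃ U : S.Opens, (U : Set S).Nonempty ∧ IsIso ((Z ↘ S) ∣_ U)) →
      ∃ n : ℕ, n ≤ N ∧ (n : ℕ∞) = Module.length A (Coh.HH Z (Coh.structureModule Z) 1) ∧ P n := by
    intro Z _ h1 h2 h3 h4
    obtain ⟨n, hn⟩ := WithTop.ne_top_iff_exists.1 (ne_top_of_le_ne_top (ENat.natCast_ne_top N) (hN' Z h1 h2 h3 h4))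
    have hn' : (n : ℕ∞) = Module.length A (Coh.HH Z (Coh.structureModule Z) 1) := hn
    exact ⟨n, by exact_mod_cast hn'.le.trans (hN' Z h1 h2 h3 h4), hn', Z, inferInstance, h1, h2, h3, h4, hn'⟩
  obtain ⟨n₀, hn₀N, -, hn₀⟩ : ∃ n : ℕ, n ≤ N ∧ True ∧ P n := by
    letI : S.Over S := ⟨𝟙 S⟩
    obtain ⟨n, h1, -, h2⟩ := hP S (inferInstanceAs (IsProper (𝟙 S))) inferInstance (isNormalScheme_Spec A)
      ⟨⊤, ⟨genericPoint S, trivial⟩, inferInstanceAs (IsIso ((𝟙 S) ∣_ ⊤))⟩
    exact ⟨n, h1, trivial, h2⟩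
  let M := Nat.findGreatest P N
  obtain ⟨X, _, hX, hXi, hXn, ⟨U, hU, hUi⟩, hlen⟩ : P M := Nat.findGreatest_spec hn₀N hn₀
  haveI := hX
  haveI := hXi
  haveI := hUi
  let r := X ↘ S
  obtain ⟨X', φ, hqp, hφ, hsurj, ⟨O, hOd, hOd', hOi⟩, hred, hirr⟩ :=
    RelProj34.exists_chow_dense r (by
      rw [irreducibleComponents_eq_singleton]; exact Set.finite_singleton _)
  haveI := RelProj34.isProper_of_isProjective hφ
  haveI : IsReduced X' := hred inferInstance
  haveI : IrreducibleSpace X' := hirr inferInstance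
  haveI : IsIntegral X' := isIntegral_of_irreducibleSpace_of_isReduced _
  haveI := hOi
  haveI : IsIso (φ ∣_ O) := hOi
  obtain ⟨U', hU', hU'i⟩ : ∃ U' : S.Opens, (U' : Set S).Nonempty ∧ IsIso ((φ ≫ r) ∣_ U') := by
    have hb : IsBirat (φ ≫ r) :=
      (isBirat_of_isIso_restrict φ O hOd.nonempty).comp (isBirat_of_isIso_restrict r U hU)
    exact exists_open_iso φ r O hOd.nonempty U hU
  obtain ⟨X₃, ν, hν, hX₃, hn₃, V, hV, hVi⟩ :=
    exists_normal_modification (nagata_Spec hN) (φ ≫ r) U' hU'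
  haveI := hν
  haveI := hX₃
  haveI := hVi
  let p := ν ≫ φ ≫ r
  letI : X₃.Over S := ⟨p⟩
  haveI : IsProper (X₃ ↘ S) := inferInstanceAs (IsProper p)
  haveI : IsIso ((X₃ ↘ S) ∣_ V) := hVi
  haveI : HasInjectiveResolutions X₃.Modules := KFlatLib.hasInjectiveResolutions_modules
  obtain ⟨-, -, -, hadd⟩ := ModifPush.main A hdim X X₃ U hU V hV hXn (ν ≫ φ) (Category.assoc _ _ _)
  obtain ⟨n, hn, hn', hPn⟩ := hP X₃ inferInstance hX₃ hn₃ ⟨V, hV, hVi⟩
  have hnM : n ≤ M := Nat.le_findGreatest hn hPn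
  have hMn : (M : ℕ∞) ≤ n := by
    rw [hn', hlen, hadd]
    exact le_self_add
  refine ⟨X₃, inferInstance, inferInstance, hX₃, M, hn₃, ⟨V, hV, hVi⟩, ?_, ?_, fun Z _ h1 h2 h3 h4 => ?_⟩
  · obtain ⟨-, -, L, hL⟩ := hqp
    haveI : IsAffineHom ν := inferInstance
    have hqa : Mor2.IsQuasiAffine ν := ⟨inferInstance, fun W hW => by
      haveI : IsAffine (ν ⁻¹ᵁ W : Scheme.{u}) := hW.preimage ν
      infer_instance⟩
    exact RelProj34.isProjective_of_isProper_of_isQuasiProjective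
      ⟨inferInstance, inferInstance, _, AmpleX.isRelAmple_pullback_quasiAffine (φ ≫ r) ν hqa hL⟩
  · rw [le_antisymm hMn (by exact_mod_cast hnM), hn']
  · obtain ⟨m, hm, hm', hPm⟩ := hP Z h1 h2 h3 h4
    rw [← hm']
    exact_mod_cast Nat.le_findGreatest hm hPm

/-- A projective normal modification with rational singularities. -/
theorem exists_rational (hN : CAlg.IsNagata A) (hdim : ringKrullDim A = 2)
    (hA : ∃ N : ℕ, ∀ (X : Scheme.{u}) [X.Over (Spec (CommRingCat.of A))], IsProper (X ↘ Spec (CommRingCat.of A)) →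
        IsIntegral X → Pi1.IsNormalScheme X →
        (∃ U : (Spec (CommRingCat.of A)).Opens, (U : Set (Spec (CommRingCat.of A))).Nonempty ∧
          IsIso ((X ↘ Spec (CommRingCat.of A)) ∣_ U)) →
        Module.length A (Coh.HH X (Coh.structureModule X) 1) ≤ (N : ℕ∞)) :
    ∃ (X : Scheme.{u}) (f : X ⟶ Spec (CommRingCat.of A)), IsProper f ∧ IsIntegral X ∧ Pi1.IsNormalScheme X ∧
      (∃ U : (Spec (CommRingCat.of A)).Opens, (U : Set (Spec (CommRingCat.of A))).Nonempty ∧ IsIso (f ∣_ U)) ∧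
      RelProj.IsProjective f ∧
      ∀ x : X, IsClosed ({x} : Set X) → Curv2.IsRationalSing (X.presheaf.stalk x) := by
  obtain ⟨X, _, hX, hXi, M, hXn, ⟨U, hU, hUi⟩, hproj, hM, hmax⟩ := exists_maximal hN hdim hA
  haveI := hX
  haveI := hXi
  haveI := hUi
  refine ⟨X, X ↘ Spec (CommRingCat.of A), hX, hXi, hXn, ⟨U, hU, hUi⟩, hproj, fun x hx => ?_⟩
  obtain ⟨α, hα, hαinj, hfrac⟩ :=
    exists_stalk_hom (X ↘ Spec (CommRingCat.of A)) (isBirat_of_isIso_restrict _ U hU) x
  refine RatLocal.isRationalSing_stalk_of hN hdim (X ↘ Spec (CommRingCat.of A)) hXn U hU x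
    (fun Z c hc hZ hZn hVex => ?_) α hα hαinj hfrac
  obtain ⟨V, hV, hVi⟩ := hVex
  haveI := hc
  haveI := hZ
  letI : Z.Over (Spec (CommRingCat.of A)) := ⟨c ≫ (X ↘ Spec (CommRingCat.of A))⟩
  haveI : IsProper (Z ↘ Spec (CommRingCat.of A)) :=
    inferInstanceAs (IsProper (c ≫ (X ↘ Spec (CommRingCat.of A))))
  haveI : IsIso ((Z ↘ Spec (CommRingCat.of A)) ∣_ V) := hVi
  haveI : HasInjectiveResolutions Z.Modules := KFlatLib.hasInjectiveResolutions_modules
  obtain ⟨-, hTf, hTc, hadd⟩ := ModifPush.main A hdim X Z U hU V hV hXn c rfl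
  let F := (Coh.Rpush c 1).obj (Coh.structureModule Z)
  let T : Set X := {x | Nontrivial (F.presheaf.stalk x)}
  have h0 : Module.length A (Coh.HH X F 0) = 0 := by
    have h := hmax Z inferInstance hZ hZn ⟨V, hV, hVi⟩
    rw [hadd, ← hM] at h
    have h' : (M : ℕ∞) + Module.length A (Coh.HH X F 0) ≤ (M : ℕ∞) + 0 := by rw [add_zero]; exact h
    exact nonpos_iff_eq_zero.1 ((ENat.add_le_add_iff_left (ENat.natCast_ne_top M)).1 h')
  haveI := subsingleton_sections F (Module.length_eq_zero_iff.1 h0)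
  have hsub : Subsingleton (F.presheaf.stalk x) := by
    by_contra hne
    rw [not_subsingleton_iff_nontrivial] at hne
    refine not_subsingleton_iff_nontrivial.2 hne (subsingleton_of_forall_eq 0 fun t => ?_)
    obtain ⟨W, hxW, s, rfl⟩ := TopCat.Presheaf.exists_germ_eq F.presheaf t
    obtain ⟨g, hg⟩ := SkyGG.exists_section F T hTf hTc (fun y hy => not_nontrivial_iff_subsingleton.1 hy)
      x hne W hxW s
    rw [← hg, Subsingleton.elim g 0, map_zero]
  haveI := KFlatLib.hasInjectiveResolutions_modules (X := Z)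
  obtain ⟨e₁⟩ := QCoh.nonempty_RpushAb_iso c (Coh.structureModule Z) 0
  obtain ⟨e₂⟩ := QCoh.nonempty_Rpush_iso c (Coh.structureModule Z) 0
  let eF : (Coh.RpushAb c 1).obj (Coh.toAb (Coh.structureModule Z)) ≅
      Coh.toAb ((Coh.Rpush c 1).obj (Coh.structureModule Z)) :=
    e₁ ≪≫ (QCoh.toAbFunctor X).mapIso e₂.symm
  refine IsZero.of_iso ?_ ((TopCat.Presheaf.stalkFunctor AddCommGrpCat x).mapIso
    ((sheafToPresheaf _ _).mapIso eF))
  exact @AddCommGrpCat.isZero_of_subsingleton _ hsub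

end Groth.Agent.ResSurf.RatModif
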