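import Groth.Agent.ResSurf.RatBelow
import Groth.Agent.ResSurf.CentrePts
import Groth.Agent.ResSurf.PointFrame

/-!
# On a regular modification of a normal surface dominating a regular surface the fibre ideals are invertible
-/

universe u

open CategoryTheory CategoryTheory.Limits AlgebraicGeometry TopologicalSpace Opposite IsLocalRing

set_option backward.isDefEq.respectTransparency false
set_option backward.isDefEq.respectTransparency.types false
set_option linter.style.haveILetI false
set_option maxHeartbeats 400000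

namespace Groth.Agent.ResSurf

open Groth.Agent LocalChange

theorem map_maximalIdeal_of_bijective {R S : Type u} [CommRing R] [CommRing S] [IsLocalRing R] [IsLocalRing S]
    (φ : R →+* S) (h : Function.Bijective φ) : (maximalIdeal R).map φ = maximalIdeal S := by
  ext s
  obtain ⟨r, rfl⟩ := h.2 s
  rw [Ideal.mem_map_iff_of_surjective _ h.2]
  constructor
  · rintro ⟨r', hr', e⟩
    obtain rfl := h.1 e
    rw [mem_maximalIdeal] at hr' ⊢
    exact fun hu => hr' ((isUnit_map_iff (RingEquiv.ofBijective φ h) r').1 hu)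
  · intro hr
    refine ⟨r, ?_, rfl⟩
    rw [mem_maximalIdeal] at hr ⊢
    exact fun hu => hr (hu.map φ)

/-- Extensions of maximal ideals along a commutative square. -/
theorem map_maximalIdeal_square {P X Y Z : Scheme.{u}} (fst : P ⟶ X) (snd : P ⟶ Y) (f : X ⟶ Z) (g : Y ⟶ Z)
    (w : fst ≫ f = snd ≫ g) (p : P) (hg : Function.Bijective (g.stalkMap (snd p)).hom) :
    ((maximalIdeal (Z.presheaf.stalk (f (fst p)))).map (f.stalkMap (fst p)).hom).map (fst.stalkMap p).hom =
      (maximalIdeal (Y.presheaf.stalk (snd p))).map (snd.stalkMap p).hom := by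
  rw [Ideal.map_map, ← map_maximalIdeal_of_bijective (g.stalkMap (snd p)).hom hg, Ideal.map_map]
  have h1 : f.stalkMap (fst p) ≫ fst.stalkMap p = (fst ≫ f).stalkMap p := (Scheme.Hom.stalkMap_comp fst f p).symm
  have h2 : g.stalkMap (snd p) ≫ snd.stalkMap p = (snd ≫ g).stalkMap p := (Scheme.Hom.stalkMap_comp snd g p).symm
  have h3 := Scheme.Hom.stalkMap_congr_hom (fst ≫ f) (snd ≫ g) w p
  show (maximalIdeal _).map (f.stalkMap (fst p) ≫ fst.stalkMap p).hom =
    (maximalIdeal _).map (g.stalkMap (snd p) ≫ snd.stalkMap p).hom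
  rw [h1, h2, h3]
  refine (Ideal.map_map _ _).symm.trans (congrArg (Ideal.map _) ?_)
  exact map_maximalIdeal_of_bijective _ (ConcreteCategory.bijective_of_isIso (C := CommRingCat) _)

/-- The germs at the closed point of the functions on a local scheme. -/
theorem map_maximalIdeal_closedPoint {P : Scheme.{u}} {B : Type u} [CommRing B] [IsLocalRing B]
    (π : P ⟶ Spec (CommRingCat.of B)) (p : P) (hp : π p = closedPoint B) :
    ((maximalIdeal B).map (Coh.toGlobal π : B →+* Γ(P, ⊤))).map (P.presheaf.germ ⊤ p trivial).hom =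
      (maximalIdeal ((Spec (CommRingCat.of B)).presheaf.stalk (π p))).map (π.stalkMap p).hom := by
  let S : Scheme.{u} := Spec (CommRingCat.of B)
  let ι : B →+* Γ(S, ⊤) := (Scheme.ΓSpecIso (CommRingCat.of B)).inv.hom
  have hq : ((maximalIdeal B).map ι).map (S.presheaf.germ ⊤ (π p) trivial).hom =
      maximalIdeal (S.presheaf.stalk (π p)) := by
    rw [← map_primeIdealOf (isAffineOpen_top S) (p := π p) trivial]
    refine congrArg (Ideal.map _) (le_antisymm ?_ fun s hs => ?_)
    · rw [Ideal.map_le_iff_le_comap]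
      intro a ha
      rw [primeIdealOf_eq_comap, Ideal.mem_comap, Ideal.mem_comap, mem_maximalIdeal]
      intro hu
      have h2 : π p ∈ S.basicOpen (ι a) := (S.mem_basicOpen (U := ⊤) (ι a) (π p) trivial).2 hu
      have h3 : π p ∈ PrimeSpectrum.basicOpen a := (basicOpen_eq_of_affine (R := CommRingCat.of B) a) ▸ h2
      rw [hp] at h3
      exact h3 ha
    · obtain ⟨a, rfl⟩ : ∃ a, ι a = s := ⟨(Scheme.ΓSpecIso (CommRingCat.of B)).hom s, Iso.hom_inv_id_apply _ _⟩
      refine Ideal.mem_map_of_mem _ ?_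
      by_contra ha
      rw [primeIdealOf_eq_comap, Ideal.mem_comap, mem_maximalIdeal] at hs
      exact hs (((not_not.1 fun h => ha ((mem_maximalIdeal _).2 h) : IsUnit a).map ι).map _)
  rw [← hq, Ideal.map_map, Ideal.map_map, Ideal.map_map]
  refine congrArg (Ideal.map · (maximalIdeal B)) (RingHom.ext fun a => ?_)
  exact (π.germ_stalkMap_apply ⊤ p trivial (ι a)).symm

/-- A ring isomorphism reflects principality. -/
theorem isPrincipal_of_map {R S : Type u} [CommRing R] [CommRing S] (φ : R →+* S) (h : Function.Bijective φ)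
    (I : Ideal R) (hI : (I.map φ).IsPrincipal) : I.IsPrincipal := by
  obtain ⟨⟨s, hs⟩⟩ := hI
  rw [Ideal.submodule_span_eq] at hs
  obtain ⟨r, rfl⟩ := h.2 s
  refine ⟨r, ?_⟩
  rw [Ideal.submodule_span_eq]
  rw [← Ideal.comap_map_of_bijective φ h (I := I), ← Ideal.comap_map_of_bijective φ h (I := Ideal.span {r}),
    hs, Ideal.map_span, Set.image_singleton]

/-- **Invertibility of the fibre ideal.** -/
theorem isPrincipal_fibreIdeal {X Z X₀ : Scheme.{u}} [IsIntegral X] [IsIntegral Z] [IsIntegral X₀]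
    [IsLocallyNoetherian X₀] (c : X ⟶ Z) [IsProper c] (h : Z ⟶ X₀) [IsProper h]
    (hX : ∀ x : X, IsRegularLocalRing (X.presheaf.stalk x)) (hZ : Pi1.IsNormalScheme Z)
    (hX₀ : ∀ x : X₀, IsRegularLocalRing (X₀.presheaf.stalk x)) (hd : topologicalKrullDim X₀ ≤ 2)
    (hc : IsBirat c) (hh : IsBirat h) (U : X₀.Opens) (hU : (U : Set X₀).Nonempty) [IsIso ((c ≫ h) ∣_ U)]
    (O : Z.Opens) [IsIso (c ∣_ O)] (z : Z) (hz : IsClosed ({z} : Set Z))
    (hz2 : ringKrullDim (Z.presheaf.stalk z) = 2)
    (W₀ : Z.Opens) (hzW : z ∈ W₀) (hW₀ : ∀ w ∈ W₀, w ≠ z → w ∈ O)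
    (x y : X) (hx : c x = z) (hy : c y = z) (hxy : y ≠ x) :
    ((maximalIdeal (Z.presheaf.stalk (c x))).map (c.stalkMap x).hom).IsPrincipal := by
  haveI : IsLocallyNoetherian Z := LocallyOfFiniteType.isLocallyNoetherian h
  haveI : IsLocallyNoetherian X := LocallyOfFiniteType.isLocallyNoetherian c
  have hd' : ∀ w : X₀, DimFormula.codim w ≤ 2 := fun w => codim_le_of_dim_le (d := 2) (by exact_mod_cast hd) w
  have hdimZ : ∀ w : Z, ringKrullDim (Z.presheaf.stalk w) ≤ 2 := fun w => by
    rw [DimFormula.ringKrullDim_stalk]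
    have := codim_add_rd_le h hh w
    have := hd' (h w)
    exact_mod_cast (show DimFormula.codim w ≤ 2 by omega)
  have hdimX : ∀ w : X, ringKrullDim (X.presheaf.stalk w) ≤ 2 := fun w => by
    rw [DimFormula.ringKrullDim_stalk]
    have := codim_add_rd_le (c ≫ h) (hc.comp hh) w
    have := hd' ((c ≫ h) w)
    exact_mod_cast (show DimFormula.codim w ≤ 2 by omega)
  let x₀ := h z
  haveI := hX₀ x₀
  have hA : ringKrullDim (X₀.presheaf.stalk x₀) = 2 := by
    rw [DimFormula.ringKrullDim_stalk] at hz2 ⊢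
    have h2 : DimFormula.codim z = 2 := by exact_mod_cast hz2
    have := codim_add_rd_le h hh z
    have := hd' (h z)
    exact_mod_cast (show DimFormula.codim (h z) = 2 by omega)
  have hne : x₀ ≠ genericPoint X₀ := fun e => by
    rw [e] at hA
    have h0 : ringKrullDim X₀.functionField = 0 := ringKrullDim_eq_zero_of_field _
    rw [h0] at hA
    exact absurd hA (by norm_num)
  have hzne : z ≠ genericPoint Z := fun e => hne (by rw [show x₀ = h z from rfl, e, hh.apply_genericPoint])
  have hηO : genericPoint Z ∈ O :=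
    hW₀ _ ((genericPoint_specializes z).mem_open W₀.isOpen hzW) hzne.symm
  -- the localisation of `Z`
  haveI := flat_fromSpecStalk x₀
  obtain ⟨_, hηA⟩ := isIntegral_loc h x₀ hh.apply_genericPoint
  let ZA := loc h x₀
  let i : ZA ⟶ Z := incl h x₀
  let π : ZA ⟶ Spec (CommRingCat.of (X₀.presheaf.stalk x₀)) := str h x₀
  haveI : IsProper π := MorphismProperty.pullback_snd _ _ inferInstance
  haveI : IsLocallyNoetherian ZA := LocallyOfFiniteType.isLocallyNoetherian π
  have hZA : Pi1.IsNormalScheme ZA := isNormalScheme_loc h x₀ hZ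
  obtain ⟨z', hiz, hπz⟩ := exists_point h x₀ (rfl : h z = x₀)
  -- the localisation of `X`
  let XA : Scheme.{u} := pullback c i
  let j : XA ⟶ X := pullback.fst c i
  let cA : XA ⟶ ZA := pullback.snd c i
  haveI : Flat i := inferInstance
  haveI : Flat j := inferInstance
  haveI : IsPreimmersion j := inferInstance
  haveI : IsProper cA := MorphismProperty.pullback_snd _ _ inferInstance
  haveI : IsLocallyNoetherian XA := LocallyOfFiniteType.isLocallyNoetherian cA
  have hsq : IsPullback j cA c i := IsPullback.of_hasPullback _ _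
  obtain ⟨η₁, hη₁, -⟩ := Scheme.Pullback.exists_preimage_pullback (f := c) (g := i) (genericPoint X)
    (genericPoint ZA) (hc.apply_genericPoint.trans hηA.symm)
  obtain ⟨_, hηXA⟩ := isIntegral_of_preimmersion j η₁ hη₁
  have hXA : ∀ w : XA, IsRegularLocalRing (XA.presheaf.stalk w) := fun w => by
    haveI := hX (j w)
    exact IsRegularLocalRing.of_ringEquiv (RingEquiv.ofBijective _ (bijective_stalkMap j w))
  have hXAn : Pi1.IsNormalScheme XA := fun w => by
    haveI := hXA w
    exact ⟨RegLoc6.isDomain_of_isRegularLocalRing _, RegLoc6.isIntegrallyClosed_of_isRegularLocalRing _⟩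
  have hdimXA : ∀ w : XA, ringKrullDim (XA.presheaf.stalk w) ≤ 2 := fun w =>
    (ringKrullDim_eq_of_ringEquiv (RingEquiv.ofBijective _ (bijective_stalkMap j w))).symm.le.trans (hdimX _)
  haveI : IsIso (cA ∣_ (i ⁻¹ᵁ O)) := isIso_restrict_of_isPullback hsq O
  have hcA : IsBirat cA := isBirat_of_isIso_restrict cA (i ⁻¹ᵁ O) ⟨genericPoint ZA, show i _ ∈ O from hηA ▸ hηO⟩
  have hH1A : Subsingleton (Coh.HH XA (Coh.structureModule XA) 1) := by
    have hbig : IsPullback j (cA ≫ π) (c ≫ h) (X₀.fromSpecStalk x₀) :=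
      hsq.paste_vert (IsPullback.of_hasPullback _ _)
    haveI := isIso_restrict_of_isPullback hbig U
    refine isRationalSing_of_regular (X₀.presheaf.stalk x₀) hA XA (cA ≫ π) inferInstance inferInstance hXAn
      ⟨X₀.fromSpecStalk x₀ ⁻¹ᵁ U, ?_, inferInstance⟩
    obtain ⟨q, hq⟩ : genericPoint X₀ ∈ Set.range (X₀.fromSpecStalk x₀) := by
      rw [X₀.range_fromSpecStalk]; exact genericPoint_specializes x₀
    refine ⟨q, ?_⟩
    show X₀.fromSpecStalk x₀ q ∈ U
    rw [hq]
    exact ((genericPoint_spec X₀).mem_open_set_iff U.isOpen).2 (by simpa using hU)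
  have hH2A : Subsingleton (Coh.HH ZA (Coh.structureModule ZA) 2) := by
    letI : ZA.Over (Spec (CommRingCat.of (X₀.presheaf.stalk x₀))) := ⟨π⟩
    haveI : IsProper (ZA ↘ Spec (CommRingCat.of (X₀.presheaf.stalk x₀))) := inferInstanceAs (IsProper π)
    refine QGorRing.subsingleton_HH_of_closedFibre (A := X₀.presheaf.stalk x₀) QCoh.isCoh_structureModule'
      (d := 1) ?_ one_lt_two
    refine topologicalKrullDim_closed_le_one (fun w => ?_) _
      ((isClosed_singleton_closedPoint _).preimage π.continuous) fun e => hne ?_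
    · exact (ringKrullDim_loc h x₀ w).le.trans (hdimZ _)
    · have h1 : X₀.fromSpecStalk x₀ (π (genericPoint ZA)) = x₀ := by
        rw [show π (genericPoint ZA) = closedPoint _ from e, X₀.fromSpecStalk_closedPoint]
      rw [← h1]
      show (π ≫ X₀.fromSpecStalk x₀) (genericPoint ZA) = _
      rw [show π ≫ X₀.fromSpecStalk x₀ = i ≫ h from pullback.condition.symm,
        Scheme.Hom.comp_apply, hηA, hh.apply_genericPoint]
  have hz'c : IsClosed ({z'} : Set ZA) := by
    have h1 : ({z'} : Set ZA) = i ⁻¹' {z} := by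
      ext w
      exact ⟨fun hw => by rw [show w = z' from hw]; exact hiz, fun hw => i.isEmbedding.injective (hw.trans hiz.symm)⟩
    rw [h1]
    exact hz.preimage i.continuous
  have hR1 := isZero_stalk_RpushAb_one cA hcA hZA hH1A hH2A z' hz'c (i ⁻¹ᵁ O) (i ⁻¹ᵁ W₀)
    (show i z' ∈ W₀ from hiz.symm ▸ hzW)
    fun w hw hwz => hW₀ (i w) hw fun e => hwz (i.isEmbedding.injective (e.trans hiz.symm))
  -- the local model over the singular point
  obtain ⟨_, hηP⟩ := isIntegral_loc cA z' hcA.apply_genericPoint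
  let P := loc cA z'
  let k : P ⟶ XA := incl cA z'
  let π' : P ⟶ Spec (CommRingCat.of (ZA.presheaf.stalk z')) := str cA z'
  haveI : IsProper π' := MorphismProperty.pullback_snd _ _ inferInstance
  haveI : IsLocallyNoetherian P := LocallyOfFiniteType.isLocallyNoetherian π'
  have hdimP : ∀ w : P, ringKrullDim (P.presheaf.stalk w) ≤ 2 := fun w =>
    (ringKrullDim_loc cA z' w).le.trans (hdimXA _)
  have hz'ne : z' ≠ genericPoint ZA := fun e => hzne (by rw [← hiz, e, hηA])
  have hH2P : ∀ M : P.Modules, Coh.IsCoh M → Subsingleton (Coh.HH P M 2) := by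
    intro M hM
    letI : P.Over (Spec (CommRingCat.of (ZA.presheaf.stalk z'))) := ⟨π'⟩
    haveI : IsProper (P ↘ Spec (CommRingCat.of (ZA.presheaf.stalk z'))) := inferInstanceAs (IsProper π')
    refine QGorRing.subsingleton_HH_of_closedFibre (A := ZA.presheaf.stalk z') hM (d := 1) ?_ one_lt_two
    refine topologicalKrullDim_closed_le_one hdimP _
      ((isClosed_singleton_closedPoint _).preimage π'.continuous) fun e => hz'ne ?_
    have h1 : ZA.fromSpecStalk z' (π' (genericPoint P)) = z' := by
      rw [show π' (genericPoint P) = closedPoint _ from e, ZA.fromSpecStalk_closedPoint]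
    rw [← h1]
    show (π' ≫ ZA.fromSpecStalk z') (genericPoint P) = _
    rw [show π' ≫ ZA.fromSpecStalk z' = k ≫ cA from pullback.condition.symm,
      Scheme.Hom.comp_apply, hηP, hcA.apply_genericPoint]
  have hlift : ∀ w : X, c w = z → ∃ p : P, j (k p) = w ∧ π' p = closedPoint _ := by
    intro w hw
    obtain ⟨w₁, hw₁, hw₂⟩ := Scheme.Pullback.exists_preimage_pullback (f := c) (g := i) w z' (hw.trans hiz.symm)
    obtain ⟨p, hp, hp'⟩ := exists_point cA z' hw₂
    exact ⟨p, by rw [show k p = w₁ from hp]; exact hw₁, hp'⟩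
  obtain ⟨px, hpx, hπx⟩ := hlift x hx
  obtain ⟨py, hpy, hπy⟩ := hlift y hy
  have key := isPrincipal_map_maximalIdeal (fun w => isRegularLocalRing_loc cA z' hXA w) hdimP
    (Coh.toGlobal π') (surjective_toGlobal cA z' hcA hZA) (subsingleton_HH_one_loc cA z' hR1) hH2P
    px py (fun a ha hu => ?_) (fun e => hxy (by rw [← hpy, ← hpx, e]))
  · rw [map_maximalIdeal_closedPoint π' px hπx,
      ← map_maximalIdeal_square k π' cA (ZA.fromSpecStalk z') pullback.condition px
        (haveI := flat_fromSpecStalk z'; bijective_stalkMap _ _)] at key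
    have key2 := isPrincipal_of_map _ (bijective_incl_stalkMap cA z' px) _ key
    rw [← map_maximalIdeal_square j cA c i pullback.condition (k px) (bijective_stalkMap i _)] at key2
    subst hpx
    exact isPrincipal_of_map _ (bijective_stalkMap j (k px)) _ key2
  · have h2 : py ∈ P.basicOpen (U := ⊤) (Coh.toGlobal π' a : Γ(P, ⊤)) :=
      (P.mem_basicOpen (U := ⊤) (Coh.toGlobal π' a : Γ(P, ⊤)) py trivial).2 hu
    rw [show (Coh.toGlobal π' a : Γ(P, ⊤)) = π'.appTop ((Scheme.ΓSpecIso _).inv a) from rfl,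
      ← Scheme.preimage_basicOpen_top] at h2
    have h3 : π' py ∈ PrimeSpectrum.basicOpen a := by
      have := basicOpen_eq_of_affine (R := CommRingCat.of (ZA.presheaf.stalk z')) a
      exact this ▸ h2
    rw [hπy] at h3
    exact h3 ha

end Groth.Agent.ResSurf
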