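import Groth.Agent.ResSurf.RegularFactorAlg
import Groth.Agent.ResSurf.Dominance
import Groth.Agent.ResSurf.PointExc
import Groth.Agent.ResSurf.PointChart
import Groth.Agent.ResSurf.ChartRing
import Groth.Agent.ResSurf.BlowInt
import Groth.Agent.RegLoc6.Open
import Groth.Agent.RegLoc6.Normal

/-!
# Proper birational morphisms of regular surfaces are sequences of point blow-ups
-/

universe u

open CategoryTheory CategoryTheory.Limits AlgebraicGeometry IsLocalRing TopologicalSpace

set_option backward.isDefEq.respectTransparency false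
set_option backward.isDefEq.respectTransparency.types false
set_option linter.style.haveILetI false
set_option maxHeartbeats 400000

namespace Groth.Agent.ResSurf.RegularFactor

open Groth.Agent

theorem isNormalScheme_of_regular {X : Scheme.{u}} (h : ∀ x : X, IsRegularLocalRing (X.presheaf.stalk x)) :
    Pi1.IsNormalScheme X := fun x => by
  haveI := h x
  exact ⟨RegLoc6.isDomain_of_isRegularLocalRing _, RegLoc6.isIntegrallyClosed_of_isRegularLocalRing _⟩

theorem topologicalKrullDim_le_of_birat {Z X : Scheme.{u}} [IsIntegral Z] [IsIntegral X] [IsLocallyNoetherian X]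
    (c : Z ⟶ X) [LocallyOfFiniteType c] [IsSeparated c] (hc : IsBirat c) (hd : topologicalKrullDim X ≤ 2) :
    topologicalKrullDim Z ≤ 2 := by
  haveI := LocallyOfFiniteType.isLocallyNoetherian c
  have h1 : topologicalKrullDim Z = Order.krullDim Z := Order.krullDim_eq_of_orderIso irreducibleSetEquivPoints
  rw [h1, Order.krullDim_eq_iSup_coheight]
  refine iSup_le fun z => ?_
  rw [← DimFormula.coe_codim]
  have := codim_add_rd_le c hc z
  have := codim_le_of_dim_le (d := 2) (by exact_mod_cast hd) (c z)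
  exact WithBot.coe_le_coe.2 (by exact_mod_cast (show DimFormula.codim z ≤ 2 by omega))

/-- What is needed about a divisorial point over the centre of a point blow-up. -/
theorem exists_chart_facts {Y Y' : Scheme.{u}} [IsIntegral Y] [IsIntegral Y'] [IsLocallyNoetherian Y]
    (hd : topologicalKrullDim Y ≤ 2) {y : Y} (F : PointFrame Y y) {C : Y.IdealSheafData} {b : Y' ⟶ Y}
    (hb : BlowUp.IsBlowUp b C) (hC : C.ideal ⟨F.V, F.isAffine⟩ = Ideal.span (Set.range F.r)) [IsProper b]
    (hbb : IsBirat b) {ξ : Y'} (hξy : b ξ = y) (hξ : ¬ IsClosed ({ξ} : Set Y')) :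
    ∃ (hyV : b ξ ∈ F.V) (x x' : Γ(Y, F.V)) (T : Y'.presheaf.stalk ξ),
      (b.stalkMap ξ).hom (Y.presheaf.germ F.V (b ξ) hyV x) ≠ 0 ∧
      maximalIdeal (Y'.presheaf.stalk ξ) = Ideal.span {(b.stalkMap ξ).hom (Y.presheaf.germ F.V (b ξ) hyV x)} ∧
      (b.stalkMap ξ).hom (Y.presheaf.germ F.V (b ξ) hyV x') =
        T * (b.stalkMap ξ).hom (Y.presheaf.germ F.V (b ξ) hyV x) ∧
      Ideal.span (Set.range F.r) = Ideal.span {x, x'} ∧
      ∀ Q : Polynomial Γ(Y, F.V), Q.Monic →
        Q.eval₂ ((b.stalkMap ξ).hom.comp (Y.presheaf.germ F.V (b ξ) hyV).hom) T ∉ maximalIdeal _ := by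
  have hyV : b ξ ∈ F.V := hξy ▸ F.mem
  haveI : Nonempty (F.V : Scheme.{u}) := ⟨⟨_, F.mem⟩⟩
  haveI : IsDomain Γ(Y, F.V) := IsIntegral.component_integral _
  haveI : IsNoetherianRing Γ(Y, F.V) := IsLocallyNoetherian.component_noetherian ⟨F.V, F.isAffine⟩
  haveI := F.isMaximal
  obtain ⟨U, hU, hUb, x, x', t, hξU, hch, -⟩ := exists_chart F hb hC ξ hyV
  set φ := (b.appLE F.V U hUb).hom with hφdef
  letI := φ.toAlgebra
  obtain ⟨hgen, hxt, hx0, hm, hmx, hq⟩ := hch
  haveI : Nonempty (U : Scheme.{u}) := ⟨⟨_, hξU⟩⟩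
  haveI : IsDomain Γ(Y', U) := IsIntegral.component_integral _
  let q := hU.primeIdealOf ⟨ξ, hξU⟩
  have hcomp : ∀ r, (b.stalkMap ξ).hom (Y.presheaf.germ F.V (b ξ) hyV r) = Y'.presheaf.germ U ξ hξU (φ r) := by
    intro r
    show (b.stalkMap ξ) _ = _
    rw [b.germ_stalkMap_apply F.V ξ hyV r]
    exact (Y'.presheaf.germ_res_apply (homOfLE hUb) ξ hξU (b.app F.V r)).symm
  -- `q` lies over the maximal ideal of the point
  have hqm : q.asIdeal.comap φ = Ideal.span (Set.range F.r) := by
    refine (F.point (PrimeSpectrum.comap φ q)).1 ?_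
    have h1 := congrArg (fun k : Spec Γ(Y', U) ⟶ Y => k q) (IsAffineOpen.SpecMap_appLE_fromSpec b F.isAffine hU hUb)
    simp only [Scheme.Hom.comp_apply] at h1
    rw [hU.fromSpec_primeIdealOf] at h1
    exact h1.trans hξy
  have hxq : φ x ∈ q.asIdeal := by
    have : x ∈ Ideal.span (Set.range F.r) := hm ▸ Ideal.subset_span (Set.mem_insert _ _)
    rw [← hqm] at this
    exact this
  have hmx' : ∀ r ∈ Ideal.span (Set.range F.r), φ r ∈ Ideal.span {φ x} := hmx
  -- `q` is not maximal
  have hqnot : ¬ q.asIdeal.IsMaximal := fun hmax => by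
    haveI := hmax
    obtain ⟨-, hdim2⟩ := isRegular_chart (S := Γ(Y', U)) (m := Ideal.span (Set.range F.r)) hgen hmx' hq hx0 q.asIdeal hxq
    letI := Y'.presheaf.algebra_section_stalk (⟨ξ, hξU⟩ : U)
    haveI := hU.isLocalization_stalk ⟨ξ, hξU⟩
    have e := (IsLocalization.algEquiv q.asIdeal.primeCompl (Y'.presheaf.stalk ξ)
      (Localization.AtPrime q.asIdeal)).toRingEquiv
    have h2 := ringKrullDim_eq_of_ringEquiv e
    rw [hdim2] at h2
    haveI := LocallyOfFiniteType.isLocallyNoetherian b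
    rw [DimFormula.ringKrullDim_stalk] at h2
    have h3 := codim_le_one b hbb hd hξ
    have h4 : DimFormula.codim ξ = 2 := by exact_mod_cast h2
    omega
  -- hence `q = (x)`
  have hqx : q.asIdeal = Ideal.span {φ x} := by
    obtain ⟨e⟩ := exists_equiv_exceptional (S := Γ(Y', U)) (m := Ideal.span (Set.range F.r)) hgen hmx' hq
    letI : Field (Γ(Y, F.V) ⧸ Ideal.span (Set.range F.r)) := Ideal.Quotient.field _
    set J : Ideal Γ(Y', U) := Ideal.span {φ x}
    have hJq : J ≤ q.asIdeal := (Ideal.span_singleton_le_iff_mem _).2 hxq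
    let π : Γ(Y', U) →+* Polynomial (Γ(Y, F.V) ⧸ Ideal.span (Set.range F.r)) :=
      e.symm.toRingHom.comp (Ideal.Quotient.mk J)
    have hπ : Function.Surjective π := e.symm.surjective.comp Ideal.Quotient.mk_surjective
    have hker : RingHom.ker π = J := by
      ext a
      rw [RingHom.mem_ker]
      show e.symm (Ideal.Quotient.mk J a) = 0 ↔ _
      rw [map_eq_zero_iff _ e.symm.injective, Ideal.Quotient.eq_zero_iff_mem]
    haveI := q.isPrime
    haveI hp : (q.asIdeal.map π).IsPrime := Ideal.map_isPrime_of_surjective hπ (hker.le.trans hJq)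
    have hc : (q.asIdeal.map π).comap π = q.asIdeal := by
      rw [Ideal.comap_map_of_surjective _ hπ, ← RingHom.ker_eq_comap_bot, hker, sup_eq_left.2 hJq]
    by_cases h0 : q.asIdeal.map π = ⊥
    · rw [← hc, h0, ← RingHom.ker_eq_comap_bot, hker]
    · haveI := hp.isMaximal h0
      exact absurd (hc ▸ Ideal.comap_isMaximal_of_surjective π hπ) hqnot
  refine ⟨hyV, x, x', Y'.presheaf.germ U ξ hξU t, ?_, ?_, ?_, hm, fun Q hQ hmem => ?_⟩
  · rw [hcomp]
    intro h0
    exact nonZeroDivisors.ne_zero hx0 (germ_injective_of_isIntegral (X := Y') ξ hξU (h0.trans (map_zero _).symm))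
  · rw [hcomp, ← map_primeIdealOf hU hξU, show (hU.primeIdealOf ⟨ξ, hξU⟩).asIdeal = Ideal.span {φ x} from hqx,
      Ideal.map_span, Set.image_singleton]
  · rw [hcomp, hcomp, ← map_mul, mul_comm t]
    exact congrArg _ hxt.symm
  · have h1 : (b.stalkMap ξ).hom.comp (Y.presheaf.germ F.V (b ξ) hyV).hom = (Y'.presheaf.germ U ξ hξU).hom.comp φ :=
      RingHom.ext hcomp
    rw [h1, ← Polynomial.hom_eval₂] at hmem
    have h2 : Polynomial.eval₂ φ t Q ∈ Ideal.span {φ x} := by
      rw [← hqx]
      show _ ∈ (hU.primeIdealOf ⟨ξ, hξU⟩).asIdeal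
      rw [primeIdealOf_eq_comap hU hξU]
      exact hmem
    have h3 := hq Q h2 Q.natDegree
    rw [hQ.coeff_natDegree] at h3
    exact F.isMaximal.ne_top ((Ideal.eq_top_iff_one _).2 h3)

/-- The ratio of the parameters is not congruent to a function regular at a closed centre. -/
theorem not_sub_mem {X Y Y' : Scheme.{u}} (f : X ⟶ Y) [LocallyOfFiniteType f] {b : Y' ⟶ Y} {y : Y}
    (F : PointFrame Y y) {ξ : Y'} {w : X} (hyV : b ξ ∈ F.V) (hwV : f w ∈ F.V) (hfwy : f w = y)
    (φ : X.presheaf.stalk w ⟶ Y'.presheaf.stalk ξ) [IsLocalHom φ.hom]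
    (hψ : φ.hom.comp ((f.stalkMap w).hom.comp (Y.presheaf.germ F.V (f w) hwV).hom) =
      (b.stalkMap ξ).hom.comp (Y.presheaf.germ F.V (b ξ) hyV).hom)
    {T : Y'.presheaf.stalk ξ}
    (htr : ∀ Q : Polynomial Γ(Y, F.V), Q.Monic →
      Q.eval₂ ((b.stalkMap ξ).hom.comp (Y.presheaf.germ F.V (b ξ) hyV).hom) T ∉ maximalIdeal _)
    (hw : IsClosed ({w} : Set X)) (a : X.presheaf.stalk w) : T - φ.hom a ∉ maximalIdeal _ := by
  intro ha
  set ψ := (f.stalkMap w).hom.comp (Y.presheaf.germ F.V (f w) hwV).hom with hψ₀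
  obtain ⟨P, hP, hPe⟩ := exists_monic_eval_mem f hw a
  -- lift the coefficients to the affine open
  let ρ₀ : Γ(Y, F.V) →+* ResidueField (Y.presheaf.stalk (f w)) :=
    (residue _).comp (Y.presheaf.germ F.V (f w) hwV).hom
  have hρ : Function.Surjective ρ₀ := by
    intro c
    obtain ⟨c, rfl⟩ := residue_surjective c
    letI := Y.presheaf.algebra_section_stalk (⟨f w, hwV⟩ : F.V)
    haveI := F.isAffine.isLocalization_stalk ⟨f w, hwV⟩
    let p := (F.isAffine.primeIdealOf ⟨f w, hwV⟩).asIdeal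
    have hp : p = Ideal.span (Set.range F.r) :=
      (F.point _).1 (by rw [F.isAffine.fromSpec_primeIdealOf]; exact hfwy)
    haveI : p.IsMaximal := hp ▸ F.isMaximal
    obtain ⟨⟨r, s⟩, hrs⟩ := IsLocalization.surj p.primeCompl c
    obtain ⟨s', hs'⟩ := Ideal.IsMaximal.exists_inv ‹p.IsMaximal› s.2
    obtain ⟨e, he, hse⟩ := hs'
    refine ⟨s' * r, ?_⟩
    have h1 : residue _ (Y.presheaf.germ F.V (f w) hwV e) = 0 := by
      rw [residue_eq_zero_iff, ← map_primeIdealOf F.isAffine hwV]
      exact Ideal.mem_map_of_mem _ he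
    show residue _ (algebraMap Γ(Y, F.V) (Y.presheaf.stalk (f w)) (s' * r)) = _
    rw [map_mul, ← hrs, ← sub_eq_zero, ← map_sub]
    have h2 : algebraMap Γ(Y, F.V) (Y.presheaf.stalk (f w)) s' * (c * algebraMap _ _ (s : Γ(Y, F.V))) - c =
        -(c * algebraMap Γ(Y, F.V) (Y.presheaf.stalk (f w)) e) := by
      have h := congrArg (algebraMap Γ(Y, F.V) (Y.presheaf.stalk (f w))) hse
      simp only [map_add, map_mul, map_one] at h
      linear_combination c * h
    rw [h2, map_neg, map_mul, show residue _ (algebraMap Γ(Y, F.V) (Y.presheaf.stalk (f w)) e) = 0 from h1,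
      mul_zero, neg_zero]
  obtain ⟨Q, hQ, -, hQm⟩ := Polynomial.lifts_and_degree_eq_and_monic
    (Polynomial.map_surjective ρ₀ hρ (P.map (residue _))) (hP.map _)
  have hker : ∀ c ∈ maximalIdeal (Y.presheaf.stalk (f w)), (f.stalkMap w).hom c ∈ maximalIdeal _ :=
    fun c hc => Ideal.map_le_iff_le_comap.1 (Ideal.map_le_iff_le_comap.2 (maximalIdeal_comap _).ge) hc
  have hQe : Q.eval₂ ψ a ∈ maximalIdeal (X.presheaf.stalk w) := by
    rw [← residue_eq_zero_iff] at hPe ⊢
    have hfac : (residue _).comp (f.stalkMap w).hom =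
        (ResidueField.map (f.stalkMap w).hom).comp (residue _) := (ResidueField.map_comp_residue _).symm
    rw [Polynomial.hom_eval₂, hfac, ← Polynomial.eval₂_map] at hPe
    rw [Polynomial.hom_eval₂, hψ₀, ← RingHom.comp_assoc, hfac, RingHom.comp_assoc, ← Polynomial.eval₂_map, hQ]
    exact hPe
  refine htr Q hQm ?_
  rw [← hψ]
  have h1 : (Q.map (φ.hom.comp ψ)).eval T - (Q.map (φ.hom.comp ψ)).eval (φ.hom a) ∈ maximalIdeal _ := by
    obtain ⟨c, hc⟩ := (Q.map (φ.hom.comp ψ)).sub_dvd_eval_sub T (φ.hom a)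
    rw [hc]
    exact Ideal.mul_mem_right _ _ ha
  rw [Polynomial.eval_map, Polynomial.eval_map, ← Polynomial.hom_eval₂ _ _ φ.hom] at h1
  have h2 : φ.hom (Q.eval₂ ψ a) ∈ maximalIdeal (Y'.presheaf.stalk ξ) :=
    (mem_maximalIdeal _).2 fun h => (mem_maximalIdeal _).1 hQe (isUnit_of_map_unit φ.hom _ h)
  have := add_mem h1 h2
  rwa [sub_add_cancel] at this



/-- If the centre in a regular `X` of a divisor over `y` is a closed point, the fibre over `y` is that point. -/
theorem fibre_subsingleton {X Y Y' : Scheme.{u}} [IsIntegral X] [IsIntegral Y] [IsIntegral Y']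
    [IsLocallyNoetherian Y] (hd : topologicalKrullDim Y ≤ 2) (f : X ⟶ Y) [IsProper f] (hf : IsBirat f)
    (hXreg : ∀ x : X, IsRegularLocalRing (X.presheaf.stalk x))
    {y : Y} (hyreg : IsRegularLocalRing (Y.presheaf.stalk y)) (hydim : ringKrullDim (Y.presheaf.stalk y) = 2)
    (F : PointFrame Y y) {C : Y.IdealSheafData} {b : Y' ⟶ Y} (hb : BlowUp.IsBlowUp b C)
    (hC : C.ideal ⟨F.V, F.isAffine⟩ = Ideal.span (Set.range F.r)) [IsProper b] (hbb : IsBirat b)
    {ξ : Y'} (hξy : b ξ = y) (hξ : ¬ IsClosed ({ξ} : Set Y'))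
    (ρ : Spec (Y'.presheaf.stalk ξ) ⟶ X) (hρ : ρ ≫ f = Y'.fromSpecStalk ξ ≫ b)
    (hw : IsClosed ({ρ (closedPoint _)} : Set X)) :
    ∀ w', f w' = y → w' = ρ (closedPoint _) := by
  classical
  haveI := LocallyOfFiniteType.isLocallyNoetherian f
  obtain ⟨hyV, x, x', T, hπ0, hπ, hT, hm, htr⟩ := exists_chart_facts hd F hb hC hbb hξy hξ
  let D := Y'.presheaf.stalk ξ
  obtain ⟨w, hwdef⟩ : ∃ w, ρ (closedPoint D) = w := ⟨_, rfl⟩
  obtain ⟨φ, hφl, hφ⟩ := exists_factor_fromSpecStalk ρ hwdef
  rw [hwdef] at hw ⊢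
  have hfw : f w = b ξ := by
    have h1 := congrArg (fun k : Spec D ⟶ Y => k (closedPoint D)) hρ
    simp only [Scheme.Hom.comp_apply] at h1
    rw [hwdef, Y'.fromSpecStalk_closedPoint] at h1
    exact h1
  haveI hfwreg : IsRegularLocalRing (Y.presheaf.stalk (f w)) := by rw [hfw, hξy]; exact hyreg
  have hfwdim : ringKrullDim (Y.presheaf.stalk (f w)) = 2 := by rw [hfw, hξy]; exact hydim
  have hwV : f w ∈ F.V := hfw ▸ hyV
  -- compatibility with the chart
  let cg := Y.presheaf.stalkCongr (Inseparable.of_eq hfw)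
  have hcg : f.stalkMap w ≫ φ = cg.hom ≫ b.stalkMap ξ := by
    refine fromSpecStalk_hom_ext ?_
    rw [Spec.map_comp, Category.assoc, Scheme.SpecMap_stalkMap_fromSpecStalk, reassoc_of% hφ, hρ, Spec.map_comp,
      Category.assoc]
    have hcongr : ∀ {a a' : Y} (h : a = a'),
        Spec.map (Y.presheaf.stalkCongr (Inseparable.of_eq h)).hom ≫ Y.fromSpecStalk a = Y.fromSpecStalk a' := by
      intro a a' h; subst h; simp
    rw [hcongr hfw, Scheme.SpecMap_stalkMap_fromSpecStalk]
  let ψ : Γ(Y, F.V) →+* X.presheaf.stalk w := (f.stalkMap w).hom.comp (Y.presheaf.germ F.V (f w) hwV).hom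
  have hψ : φ.hom.comp ψ = (b.stalkMap ξ).hom.comp (Y.presheaf.germ F.V (b ξ) hyV).hom := by
    have h1 : Y.presheaf.germ F.V (f w) hwV ≫ cg.hom = Y.presheaf.germ F.V (b ξ) hyV :=
      Y.presheaf.germ_stalkSpecializes hwV (specializes_of_eq hfw.symm)
    rw [← h1]
    show (Y.presheaf.germ F.V (f w) hwV ≫ f.stalkMap w ≫ φ).hom = (Y.presheaf.germ F.V (f w) hwV ≫ cg.hom ≫ b.stalkMap ξ).hom
    rw [hcg]
  haveI := hXreg w
  have hwdim : ringKrullDim (X.presheaf.stalk w) = 2 := by
    rw [DimFormula.ringKrullDim_stalk]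
    have h1 := codim_add_rd_le f hf w
    have h2 := codim_le_of_dim_le (d := 2) (by exact_mod_cast hd) (f w)
    -- the centre of a divisor with transcendental residue is not of codimension at most one
    have h3 : ¬ DimFormula.codim w ≤ 1 := fun hle => by
      haveI : IsPrincipalIdealRing (X.presheaf.stalk w) :=
        haveI := RegLoc6.isDomain_of_isRegularLocalRing (X.presheaf.stalk w)
        PointExtend.isPrincipalIdealRing_of_dim_le_one _ (by
          rw [DimFormula.ringKrullDim_stalk]; exact_mod_cast hle)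
      haveI : ValuationRing (X.presheaf.stalk w) := ValuationRing.iff_local_bezout_domain.2 ⟨inferInstance, inferInstance⟩
      obtain ⟨κ, hκ⟩ := exists_functionField_iso hbb hf
      have hcomp := SpecMap_comp_lift hbb hf κ hκ ρ hρ
      have hfac : φ ≫ CommRingCat.ofHom (algebraMap D Y'.functionField) =
          CommRingCat.ofHom (algebraMap (X.presheaf.stalk w) X.functionField) ≫ κ.hom := by
        refine fromSpecStalk_hom_ext ?_
        rw [Spec.map_comp, Category.assoc, hφ, hcomp, Spec.map_comp, Category.assoc,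
          SpecMap_algebraMap_fromSpecStalk]
      have h1 : ∀ c, algebraMap D Y'.functionField (φ.hom c) =
          κ.hom.hom (algebraMap (X.presheaf.stalk w) X.functionField c) := fun c =>
        RingHom.congr_fun (congrArg CommRingCat.Hom.hom hfac) c
      have hTu : IsUnit T := by
        by_contra hTu
        refine htr Polynomial.X Polynomial.monic_X ?_
        rw [Polynomial.eval₂_X]
        exact (mem_maximalIdeal _).2 hTu
      obtain ⟨a, ha⟩ : ∃ a, φ.hom a = T := by
        rcases ValuationRing.isInteger_or_isInteger (X.presheaf.stalk w) (κ.inv.hom (algebraMap D _ T)) with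
          ⟨a, ha⟩ | ⟨a, ha⟩
        · refine ⟨a, IsFractionRing.injective D Y'.functionField ?_⟩
          rw [h1, ha]
          exact RingHom.congr_fun (congrArg CommRingCat.Hom.hom κ.inv_hom_id) _
        · have h4 : φ.hom a * T = 1 := by
            refine IsFractionRing.injective D Y'.functionField ?_
            have h5 := congrArg κ.hom.hom ha
            rw [map_inv₀] at h5
            rw [map_mul, h1, h5, map_one,
              show κ.hom.hom (κ.inv.hom (algebraMap D _ T)) = algebraMap D _ T from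
                RingHom.congr_fun (congrArg CommRingCat.Hom.hom κ.inv_hom_id) _]
            exact inv_mul_cancel₀ ((map_ne_zero_iff _ (IsFractionRing.injective D Y'.functionField)).2 hTu.ne_zero)
          have hau : IsUnit a := isUnit_of_map_unit φ.hom _ (IsUnit.of_mul_eq_one _ h4)
          obtain ⟨v, rfl⟩ := hau
          refine ⟨((v⁻¹ : (X.presheaf.stalk w)ˣ) : X.presheaf.stalk w), ?_⟩
          calc φ.hom _ = φ.hom ((v⁻¹ : (X.presheaf.stalk w)ˣ) : X.presheaf.stalk w) * (φ.hom v * T) := by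
                rw [h4, mul_one]
            _ = T := by rw [← mul_assoc, ← map_mul, Units.inv_mul, map_one, one_mul]
      exact not_sub_mem f F hyV hwV (hfw.trans hξy) φ hψ htr hw a (by rw [ha, sub_self]; exact zero_mem _)
    exact_mod_cast (show DimFormula.codim w = 2 by omega)
  -- the maximal ideal upstairs is generated by the parameters below
  have hpe : ∀ r, φ.hom (ψ r) = (b.stalkMap ξ).hom (Y.presheaf.germ F.V (b ξ) hyV r) := fun r =>
    RingHom.congr_fun hψ r
  have hmw : maximalIdeal (X.presheaf.stalk w) = Ideal.span {ψ x, ψ x'} := by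
    refine maximalIdeal_eq_span hwdim φ.hom hπ0 hπ (T := T) (hpe x) (by rw [hpe, hT]) fun a ha => ?_
    exact not_sub_mem f F hyV hwV (hfw.trans hξy) φ hψ htr hw a ha
  -- so the stalk map is bijective
  have hbij : Function.Bijective (f.stalkMap w).hom := by
    obtain ⟨ι, hι⟩ := hf.exists_stalkMap_comp
    letI : Algebra (Y.presheaf.stalk (f w)) X.functionField :=
      (ι.hom.hom.comp (algebraMap (Y.presheaf.stalk (f w)) Y.functionField)).toAlgebra
    haveI : IsFractionRing (Y.presheaf.stalk (f w)) X.functionField :=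
      IsLocalization.isLocalization_of_algEquiv _
        (AlgEquiv.ofRingEquiv (f := ι.commRingCatIsoToRingEquiv) (fun _ => rfl) :
          Y.functionField ≃ₐ[Y.presheaf.stalk (f w)] X.functionField)
    refine bijective_of_map_maximalIdeal (L := X.functionField) hfwdim hwdim _
      (algebraMap (X.presheaf.stalk w) X.functionField) (IsFractionRing.injective _ _)
      (fun a => RingHom.congr_fun (congrArg CommRingCat.Hom.hom (hι w)) a) ?_
    refine le_antisymm (Ideal.map_le_iff_le_comap.2 (maximalIdeal_comap (f.stalkMap w).hom).ge) ?_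
    rw [hmw, Ideal.span_le]
    have hxm : ∀ r ∈ Ideal.span (Set.range F.r), ψ r ∈ (maximalIdeal (Y.presheaf.stalk (f w))).map (f.stalkMap w).hom := by
      intro r hr
      refine Ideal.mem_map_of_mem (f.stalkMap w).hom (x := Y.presheaf.germ F.V (f w) hwV r) ?_
      rw [← map_primeIdealOf F.isAffine hwV]
      refine Ideal.mem_map_of_mem _ ?_
      have h1 : (F.isAffine.primeIdealOf ⟨f w, hwV⟩).asIdeal = Ideal.span (Set.range F.r) :=
        (F.point _).1 (by rw [F.isAffine.fromSpec_primeIdealOf]; exact hfw.trans hξy)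
      rw [h1]
      exact hr
    exact Set.insert_subset (hxm x (hm ▸ Ideal.subset_span (Set.mem_insert _ _)))
      (Set.singleton_subset_iff.2 (hxm x' (hm ▸ Ideal.subset_span (Set.mem_insert_of_mem _ rfl))))
  -- uniqueness
  intro w' hw'
  obtain ⟨ι, hι⟩ := hf.exists_stalkMap_comp
  haveI : IsIso (f.stalkMap w) := (ConcreteCategory.isIso_iff_bijective _).2 hbij
  have hw'w : f w' = f w := hw'.trans (hfw.trans hξy).symm
  let cg' := Y.presheaf.stalkCongr (Inseparable.of_eq hw'w)
  let i : X.presheaf.stalk w' →+* X.functionField := algebraMap _ _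
  obtain ⟨V, hV, hVl⟩ := IsLocalRing.exists_factor_valuationRing i
  let iV : X.presheaf.stalk w' ⟶ CommRingCat.of V := CommRingCat.ofHom (i.codRestrict V.toSubring hV)
  haveI : IsLocalHom iV.hom := hVl
  let χ : X.presheaf.stalk w ⟶ CommRingCat.of V := inv (f.stalkMap w) ≫ cg'.inv ≫ f.stalkMap w' ≫ iV
  haveI : IsLocalHom χ.hom := by
    haveI : IsLocalHom (inv (f.stalkMap w)).hom := isLocalHom_of_isIso _
    haveI : IsLocalHom cg'.inv.hom := isLocalHom_of_isIso _
    simp only [χ, CommRingCat.hom_comp]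
    exact RingHom.isLocalHom_comp _ _
  let incl : CommRingCat.of V ⟶ X.functionField := CommRingCat.ofHom V.subtype
  have hincl : iV ≫ incl = CommRingCat.ofHom i := rfl
  have hχ : χ ≫ incl = CommRingCat.ofHom (algebraMap (X.presheaf.stalk w) X.functionField) := by
    simp only [χ, Category.assoc, hincl]
    rw [IsIso.inv_comp_eq, hι w, hι w']
    have hcongr : ∀ {a a' : Y} (h : a = a'),
        (Y.presheaf.stalkCongr (Inseparable.of_eq h)).inv ≫ CommRingCat.ofHom (algebraMap (Y.presheaf.stalk a) Y.functionField) =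
          CommRingCat.ofHom (algebraMap (Y.presheaf.stalk a') Y.functionField) := by
      intro a a' h; subst h; simp
    rw [← Category.assoc, hcongr hw'w]
  haveI : IsDominant (Spec.map incl) :=
    ⟨(PrimeSpectrum.denseRange_comap_iff_ker_le_nilRadical _).2 (by
      rw [CommRingCat.hom_ofHom, (RingHom.injective_iff_ker_eq_bot _).1 Subtype.val_injective]
      exact bot_le)⟩
  have hcongr2 : ∀ {a a' : Y} (h : a = a'),
      Spec.map (Y.presheaf.stalkCongr (Inseparable.of_eq h)).inv ≫ Y.fromSpecStalk a' = Y.fromSpecStalk a := by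
    intro a a' h; subst h; simp
  have h12 : Spec.map iV ≫ X.fromSpecStalk w' = Spec.map χ ≫ X.fromSpecStalk w := by
    refine ext_of_isDominant_of_isSeparated f ?_ (Spec.map incl) ?_
    · simp only [χ, Spec.map_comp, Category.assoc]
      conv_rhs => rw [← Scheme.SpecMap_stalkMap_fromSpecStalk, ← Spec.map_comp_assoc (f.stalkMap w),
        IsIso.hom_inv_id, Spec.map_id, Category.id_comp, hcongr2 hw'w, Scheme.SpecMap_stalkMap_fromSpecStalk]
    · rw [← Spec.map_comp_assoc, ← Spec.map_comp_assoc, hincl, hχ, SpecMap_algebraMap_fromSpecStalk]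
      exact (SpecMap_algebraMap_fromSpecStalk w).symm
  have h3 := congrArg (fun k : Spec (CommRingCat.of V) ⟶ X => k (closedPoint V)) h12
  simp only [Scheme.Hom.comp_apply] at h3
  rw [Spec_closedPoint, Spec_closedPoint, X.fromSpecStalk_closedPoint, X.fromSpecStalk_closedPoint] at h3
  exact h3
end Groth.Agent.ResSurf.RegularFactor
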