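import Groth.Agent.RegDimTwo.Basic
import Groth.Agent.ResSurf.PointExtend
import Mathlib.RingTheory.RegularLocalRing.Defs
import Mathlib.RingTheory.Ideal.KrullsHeightTheorem

/-!
# Two algebraic lemmas on two-dimensional regular local rings
-/

universe u

open IsLocalRing

namespace Groth.Agent.ResSurf.RegularFactor

open Groth.Agent

/-- Two elements with transcendental ratio of order one generate the maximal ideal. -/
theorem maximalIdeal_eq_span {O D : Type u} [CommRing O] [IsRegularLocalRing O] [CommRing D] [IsDomain D]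
    [IsLocalRing D] (hO : ringKrullDim O = 2) (φ : O →+* D) [IsLocalHom φ] {π T : D} (hπ0 : π ≠ 0)
    (hπ : maximalIdeal D = Ideal.span {π}) {u v : O} (hu : φ u = π) (hv : φ v = T * π)
    (htr : ∀ a : O, T - φ a ∉ maximalIdeal D) : maximalIdeal O = Ideal.span {u, v} := by
  have hπu : ¬ IsUnit π := (mem_maximalIdeal _).1 (hπ ▸ Ideal.mem_span_singleton_self π)
  have hum : u ∈ maximalIdeal O := (mem_maximalIdeal _).2 fun h => hπu (hu ▸ h.map φ)
  have hvm : v ∈ maximalIdeal O := (mem_maximalIdeal _).2 fun h =>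
    hπu (isUnit_of_mul_isUnit_right (hv ▸ h.map φ))
  have hsq : ∀ r ∈ maximalIdeal O ^ 2, π ^ 2 ∣ φ r := fun r hr => by
    have h1 : (maximalIdeal O ^ 2).map φ ≤ Ideal.span {π ^ 2} := by
      rw [Ideal.map_pow, ← Ideal.span_singleton_pow, ← hπ]
      exact Ideal.pow_right_mono (Ideal.map_le_iff_le_comap.2 (maximalIdeal_comap φ).ge) 2
    exact Ideal.mem_span_singleton.1 (h1 (Ideal.mem_map_of_mem φ hr))
  have hu2 : u ∉ maximalIdeal O ^ 2 := fun h => by
    obtain ⟨c, hc⟩ := hsq u h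
    rw [hu, pow_two, mul_assoc] at hc
    exact hπu (IsUnit.of_mul_eq_one c (mul_left_cancel₀ hπ0 (by rw [mul_one]; exact hc.symm)))
  have hvu : ∀ a, v - a * u ∉ maximalIdeal O ^ 2 := fun a h => by
    obtain ⟨c, hc⟩ := hsq _ h
    rw [map_sub, map_mul, hu, hv] at hc
    refine htr a (hπ ▸ Ideal.mem_span_singleton.2 ⟨c, mul_right_cancel₀ hπ0 ?_⟩)
    linear_combination hc
  have hfr : (maximalIdeal O).spanFinrank = 2 := by
    have h := (isRegularLocalRing_iff O).1 inferInstance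
    rw [hO] at h
    exact_mod_cast h
  obtain ⟨s₁, s₂, hs⟩ : ∃ s₁ s₂ : O, maximalIdeal O = Ideal.span {s₁, s₂} := by
    have hfg : (maximalIdeal O : Submodule O O).FG := IsNoetherian.noetherian _
    obtain ⟨t, htc, hts⟩ : ∃ t : Set O, t.ncard = 2 ∧ Ideal.span t = maximalIdeal O :=
      ⟨_, (Submodule.FG.generators_ncard hfg).trans hfr, Submodule.span_generators _⟩
    obtain ⟨s₁, s₂, -, rfl⟩ := Set.ncard_eq_two.1 htc
    exact ⟨s₁, s₂, hts.symm⟩
  obtain ⟨a₁, a₂, hau⟩ := Ideal.mem_span_pair.1 (hs ▸ hum)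
  obtain ⟨b₁, b₂, hbv⟩ := Ideal.mem_span_pair.1 (hs ▸ hvm)
  have hs₁ : s₁ ∈ maximalIdeal O := hs ▸ Ideal.subset_span (Set.mem_insert _ _)
  have hs₂ : s₂ ∈ maximalIdeal O := hs ▸ Ideal.subset_span (Set.mem_insert_of_mem _ rfl)
  have hdet : IsUnit (a₁ * b₂ - a₂ * b₁) := by
    by_contra hd
    have hdm : a₁ * b₂ - a₂ * b₁ ∈ maximalIdeal O := (mem_maximalIdeal _).2 hd
    by_cases ha₁ : IsUnit a₁
    · obtain ⟨e, he⟩ := ha₁.exists_left_inv
      refine hvu (b₁ * e) ?_
      rw [show v - b₁ * e * u = e * (a₁ * b₂ - a₂ * b₁) * s₂ by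
        linear_combination -hbv + (b₁ * e) * hau - (b₁ * s₁ + b₂ * s₂) * he, pow_two, mul_assoc]
      exact Ideal.mul_mem_left _ _ (Ideal.mul_mem_mul hdm hs₂)
    by_cases ha₂ : IsUnit a₂
    · obtain ⟨e, he⟩ := ha₂.exists_left_inv
      refine hvu (b₂ * e) ?_
      rw [show v - b₂ * e * u = -(e * (a₁ * b₂ - a₂ * b₁)) * s₁ by
        linear_combination -hbv + (b₂ * e) * hau - (b₁ * s₁ + b₂ * s₂) * he, pow_two, neg_mul, mul_assoc]
      exact neg_mem (Ideal.mul_mem_left _ _ (Ideal.mul_mem_mul hdm hs₁))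
    refine hu2 (hau ▸ ?_)
    rw [pow_two]
    exact add_mem (Ideal.mul_mem_mul ((mem_maximalIdeal _).2 ha₁) hs₁) (Ideal.mul_mem_mul ((mem_maximalIdeal _).2 ha₂) hs₂)
  refine le_antisymm ?_ (Ideal.span_le.2 (Set.insert_subset hum (Set.singleton_subset_iff.2 hvm)))
  rw [hs, Ideal.span_le]
  obtain ⟨e, he⟩ := hdet.exists_left_inv
  refine Set.insert_subset ?_ (Set.singleton_subset_iff.2 ?_)
  · exact Ideal.mem_span_pair.2 ⟨e * b₂, -(e * a₂), by linear_combination (-(e * b₂)) * hau + (e * a₂) * hbv + s₁ * he⟩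
  · exact Ideal.mem_span_pair.2 ⟨-(e * b₁), e * a₁, by linear_combination (e * b₁) * hau - (e * a₁) * hbv + s₂ * he⟩

/-- A birational unramified map of two-dimensional regular local rings is bijective. -/
theorem bijective_of_map_maximalIdeal {A O L : Type u} [CommRing A] [IsRegularLocalRing A] [CommRing O]
    [IsRegularLocalRing O] [Field L] [Algebra A L] [IsFractionRing A L] (hA : ringKrullDim A = 2)
    (hO : ringKrullDim O = 2) (g : A →+* O) (j : O →+* L) (hj : Function.Injective j)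
    (hjg : ∀ a, j (g a) = algebraMap A L a) (hm : (maximalIdeal A).map g = maximalIdeal O) :
    Function.Bijective g := by
  obtain ⟨_, _⟩ := RegDimTwo.ufd A hA
  refine ⟨fun a b h => IsFractionRing.injective A L (by rw [← hjg, ← hjg, h]), fun e => ?_⟩
  obtain ⟨a, b, hab, he⟩ := IsFractionRing.exists_reduced_fraction A (j e)
  have hb0 : (b : A) ≠ 0 := nonZeroDivisors.coe_ne_zero b
  have he' : e * g b = g a := hj (by
    rw [map_mul, hjg, hjg, ← he]
    exact IsLocalization.mk'_spec _ _ _)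
  by_cases hbu : IsUnit (b : A)
  · obtain ⟨c, hc⟩ := hbu.exists_right_inv
    exact ⟨a * c, by rw [map_mul, ← he', mul_assoc, ← map_mul, hc, map_one, mul_one]⟩
  exfalso
  have hbm : g b ∈ maximalIdeal O := hm ▸ Ideal.mem_map_of_mem g ((mem_maximalIdeal _).2 hbu)
  obtain ⟨n, hn⟩ := PointExtend.exists_pow_le A hA (Ideal.span {a, (b : A)})
    (fun h => hb0 (by simpa [h] using (Ideal.subset_span (Set.mem_insert_of_mem a rfl) : (b : A) ∈ Ideal.span {a, (b : A)})))
    fun p hp => by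
      by_contra hall
      push Not at hall
      exact hp.not_isUnit (hab (hall a (Ideal.subset_span (Set.mem_insert _ _)))
        (hall b (Ideal.subset_span (Set.mem_insert_of_mem _ rfl))))
  have hle : maximalIdeal O ^ n ≤ Ideal.span {g b} := by
    rw [← hm, ← Ideal.map_pow]
    refine (Ideal.map_mono hn).trans ?_
    rw [Ideal.map_span, Ideal.span_le, Set.image_pair]
    refine Set.insert_subset ?_ (Set.singleton_subset_iff.2 (Ideal.mem_span_singleton_self _))
    exact Ideal.mem_span_singleton'.2 ⟨e, he'⟩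
  have hmin : maximalIdeal O ∈ (Ideal.span {g b}).minimalPrimes :=
    ⟨⟨(maximalIdeal.isMaximal O).isPrime, (Ideal.span_singleton_le_iff_mem _).2 hbm⟩,
      fun P hP _ x hx => hP.1.mem_of_pow_mem n (hP.2 (hle (Ideal.pow_mem_pow hx n)))⟩
  haveI : (Ideal.span {g b}).IsPrincipal := ⟨⟨g b, rfl⟩⟩
  have h1 := Ideal.height_le_one_of_isPrincipal_of_mem_minimalPrimes (Ideal.span {g b}) _ hmin
  have h2 := IsLocalRing.maximalIdeal_height_eq_ringKrullDim (R := O)
  rw [hO] at h2
  have h3 : (maximalIdeal O).height = 2 := WithBot.coe_injective h2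
  rw [h3] at h1
  exact absurd h1 (by norm_num)

end Groth.Agent.ResSurf.RegularFactor
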